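import Groth.Agent.EtPBC.FieldExt
import Mathlib

/-!
# The proper base change theorem
-/

set_option autoImplicit false
set_option backward.isDefEq.respectTransparency false
set_option backward.isDefEq.respectTransparency.types false
set_option linter.auxLemma false
set_option linter.style.haveILetI false
set_option linter.unusedSectionVars false
set_option maxHeartbeats 1000000

universe u

open CategoryTheory CategoryTheory.Limits CategoryTheory.Abelian AlgebraicGeometry Opposite IsLocalRing

noncomputable section

namespace Groth.Agent.EtPBC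

attribute [local instance 100000] EtCoh.H._proof_1 EtMV.hext
attribute [local instance 200000] EtMV.hextAb

/-- torsion sheaves are torsion for the set of all primes -/
theorem isLTorsion_univ_of_isTorsion {X : Scheme.{u}} {F : EtCoh.Ab X} (hF : EtCoh.IsTorsion F) :
    EtAcyc.IsLTorsion Set.univ F := by
  intro U s x
  obtain ⟨V, g, hx, h⟩ := hF U s x
  obtain ⟨m, hm, h0⟩ := isOfFinAddOrder_iff_nsmul_eq_zero.1 h
  exact ⟨V, g, m, hx, ⟨hm, fun _ _ _ => Set.mem_univ _⟩, h0⟩

/-- **proper base change** -/
theorem isIso_bcQ_proper {X S X' S' : Scheme.{u}} (f : X ⟶ S) [IsProper f] (g : S' ⟶ S) (f' : X' ⟶ S') (g' : X' ⟶ X)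
    (sq : IsPullback g' f' f g) [PreservesFiniteLimits (EtCoh.pull g')] (F : EtCoh.Ab X)
    (hF : EtAcyc.IsLTorsion Set.univ F) (q : ℕ) : IsIso (EtBC.bcQ f g f' g' sq.w q F) := by
  refine (EtBCQ.isIso_bcQ_iff_restr g f f' g' sq F q).1 ?_
  intro x RS _ _ _ _ hS RX _ _ _ _ hX ψ _ hψ PS PX aS bS HS aX bX HX m w wb _
  haveI := hS.henselian
  haveI := hX.henselian
  haveI : IsSepClosed (ResidueField RS) := hS.isSepClosure.1
  haveI : IsSepClosed (ResidueField RX) := hX.isSepClosure.1
  haveI : IsProper bS := MorphismProperty.of_isPullback (P := @IsProper) HS ‹_›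
  let iS := pullback.fst bS (Spec.map (CommRingCat.ofHom (residue RS)))
  let iX := pullback.fst bX (Spec.map (CommRingCat.ofHom (residue RX)))
  let u := Spec.map (CommRingCat.ofHom (ResidueField.map ψ))
  have hu : Spec.map (CommRingCat.ofHom (residue RX)) ≫ Spec.map (CommRingCat.ofHom ψ) =
      u ≫ Spec.map (CommRingCat.ofHom (residue RS)) := by
    rw [← Spec.map_comp, ← Spec.map_comp]
    rfl
  let e : pullback bX (Spec.map (CommRingCat.ofHom (residue RX))) ⟶ pullback bS (Spec.map (CommRingCat.ofHom (residue RS))) :=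
    pullback.map _ _ _ _ m u (Spec.map (CommRingCat.ofHom ψ)) wb.symm hu
  have he : IsPullback e (pullback.snd _ _) (pullback.snd bS _) u := by
    have hm : IsPullback m bX bS (Spec.map (CommRingCat.ofHom ψ)) := by
      refine IsPullback.of_right ?_ wb HS
      rw [w, ← EtBCQ.specOf_comp g x RS RX ψ hψ]
      exact HX
    have hbig := ((IsPullback.of_hasPullback bX (Spec.map (CommRingCat.ofHom (residue RX)))).paste_horiz hm)
    rw [hu] at hbig
    refine IsPullback.of_right ?_ (pullback.lift_snd _ _ _) (IsPullback.of_hasPullback _ _)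
    rw [pullback.lift_fst]
    exact hbig
  haveI := EtCohDesc.pull_preservesFiniteLimits e
  exact bijective_HpullVia_of_fibres m aS aX w iS iX e (pullback.lift_fst _ _ _)
    (pb_proper f RS _ aS bS HS iS _ (IsPullback.of_hasPullback _ _) q)
    (pb_proper f RX _ aX bX HX iX _ (IsPullback.of_hasPullback _ _) q)
    (fun G hG => bijective_Hpull_sepClosed (ResidueField.map ψ) (pullback.snd bS _) e _ he G hG q) F hF

end Groth.Agent.EtPBC
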