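import Groth.Agent.EtPBC.AllBC
import Groth.Agent.EtBCBridge.Main
import Groth.Agent.WayOut.Basic
import Mathlib

/-!
# Proper base change in the derived category
-/

set_option autoImplicit false
set_option backward.isDefEq.respectTransparency false
set_option backward.isDefEq.respectTransparency.types false
set_option linter.style.haveILetI false
set_option linter.unusedSectionVars false
set_option linter.overlappingInstances false
set_option linter.auxLemma false
set_option maxHeartbeats 2000000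

universe u

open CategoryTheory CategoryTheory.Limits CategoryTheory.Pretriangulated AlgebraicGeometry Opposite

attribute [local instance] HasDerivedCategory.standard

noncomputable section

namespace Groth.Agent.EtPBC

open DerivedCategory (Q Qh homologyFunctor)
open EtBCBridge (qh uR fac bcCx)

variable {X S X' S' : Scheme.{u}} (f : X ⟶ S) (g : S' ⟶ S) (f' : X' ⟶ S') (g' : X' ⟶ X)
  (w : g' ≫ f = f' ≫ g) [PreservesFiniteLimits (EtCoh.pull g)] [PreservesFiniteLimits (EtCoh.pull g')]
  [DCoh.HasRpushEt X f] [DCoh.HasRpushEt X' f'] [DCoh.HasRpushEt S' g]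
  (adj : EtBC.pullD g ⊣ DCoh.RpushEt S' g)

/-- the derived base change map on K-injective representatives -/
theorem isIso_bcMap_iff_quasiIso {I : CochainComplex (EtCoh.Ab X) ℤ} {J : CochainComplex (EtCoh.Ab X') ℤ}
    [hI : I.IsKInjective] [hJ : J.IsKInjective]
    (s : ((EtCoh.pull g').mapHomologicalComplex (ComplexShape.up ℤ)).obj I ⟶ J) [QuasiIso s] :
    IsIso (EtBC.bcMap f g f' g' w adj (Qh.obj ((qh X).obj I))) ↔ QuasiIso (bcCx f g f' g' w s) := by
  obtain ⟨adj₀, h₀⟩ := EtBCBridge.exists_adj g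
  let K := (qh X).obj I
  haveI := RPlusComp.isIso_totalRightDerivedUnit f K hI
  haveI := RPlusComp.isIso_totalRightDerivedUnit f' ((qh X').obj J) hJ
  haveI : IsIso (Qh.map ((qh X').map s)) :=
    (NatIso.isIso_map_iff (DerivedCategory.quotientCompQhIso (EtCoh.Ab X')) s).2 inferInstance
  have h := EtBCBridge.bcMap_rep f g f' g' w adj₀ h₀ s
  haveI : IsIso ((fac g').hom.app K ≫ Qh.map ((qh X').map s)) := IsIso.comp_isIso' inferInstance ‹_›
  let e : Arrow.mk (EtBC.bcMap f g f' g' w adj₀ (Qh.obj K)) ≅ Arrow.mk (Qh.map ((qh S').map (bcCx f g f' g' w s))) := by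
    refine Arrow.isoMk ((asIso ((EtBC.pullD g).map ((uR f).app K))).symm ≪≫ (fac g).app _)
      (asIso ((DCoh.RpushEt X' f').map ((fac g').hom.app K ≫ Qh.map ((qh X').map s))) ≪≫
        (asIso ((uR f').app ((qh X').obj J))).symm) ?_
    simp only [Arrow.mk_left, Arrow.mk_right, Arrow.mk_hom, Iso.trans_hom, Iso.symm_hom, asIso_inv, asIso_hom,
      Iso.app_hom, Category.assoc, IsIso.inv_comp_eq]
    refine (cancel_mono ((uR f').app ((qh X').obj J))).1 ?_
    simp only [Category.assoc, IsIso.inv_hom_id, Category.comp_id]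
    exact h.symm
  have h1 : IsIso (EtBC.bcMap f g f' g' w adj (Qh.obj K)) ↔ IsIso (EtBC.bcMap f g f' g' w adj₀ (Qh.obj K)) := by
    rw [EtBCBridge.bcMap_change f g f' g' w adj adj₀]
    exact isIso_comp_left_iff _ _
  refine (h1.trans (((MorphismProperty.isomorphisms _).arrow_mk_iso_iff e))).trans ?_
  exact (NatIso.isIso_map_iff (DerivedCategory.quotientCompQhIso (EtCoh.Ab S')) _).trans
    (DerivedCategory.isIso_Q_map_iff_quasiIso _ _)

theorem isIso_bcMap_congr {K K' : DCoh.DEt X} (e : K ≅ K') :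
    IsIso (EtBC.bcMap f g f' g' w adj K) ↔ IsIso (EtBC.bcMap f g f' g' w adj K') :=
  (MorphismProperty.isomorphisms _).arrow_mk_iso_iff
    (Arrow.isoMk ((EtBC.pullD g).mapIso ((DCoh.RpushEt X f).mapIso e))
      ((DCoh.RpushEt X' f').mapIso ((EtBC.pullD g').mapIso e)) (EtBCBridge.bcMap_natural f g f' g' w adj e.hom))

/-- shifted sheaves -/
theorem isIso_bcMap_single_shift (F : EtCoh.Ab X) (hF : ∀ q, IsIso (EtBC.bcQ f g f' g' w q F)) (n : ℤ) :
    IsIso (EtBC.bcMap f g f' g' w adj ((EtBC.single X F)⟦n⟧)) := by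
  let R := InjectiveResolution.of F
  let R' := InjectiveResolution.of ((EtCoh.pull g').obj F)
  haveI : R.cochainComplex.IsKInjective := CochainComplex.isKInjective_of_injective _ 0
  haveI : R'.cochainComplex.IsKInjective := CochainComplex.isKInjective_of_injective _ 0
  obtain ⟨s₀, hs₀, -⟩ := EtBCBridge.bcQ_eq f g f' g' w F 0
  have hsingle : IsIso (EtBC.bcMap f g f' g' w adj (EtBC.single X F)) := by
    rw [DerivedCategory.isIso_iff]
    intro i
    exact (EtBCBridge.isIso_homology_bcMap_le_iff f g f' g' w adj F i).2 (fun q _ => hF q) i le_rfl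
  let ι := R.ι'
  obtain ⟨J, s, hJ, hs, -⟩ := KInj.exists_kInjective
    (((EtCoh.pull g').mapHomologicalComplex (ComplexShape.up ℤ)).obj R.cochainComplex)
  haveI := hJ
  haveI := hs
  let e : EtBC.single X F ≅ Qh.obj ((qh X).obj R.cochainComplex) :=
    (DerivedCategory.singleFunctorIsoCompQ (EtCoh.Ab X) 0).app F ≪≫ asIso (Q.map R.ι') ≪≫
      ((DerivedCategory.quotientCompQhIso (EtCoh.Ab X)).app R.cochainComplex).symm
  have hq : QuasiIso (bcCx f g f' g' w s) :=
    (isIso_bcMap_iff_quasiIso f g f' g' w adj s).1 ((isIso_bcMap_congr f g f' g' w adj e).1 hsingle)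
  let σ : (((EtCoh.pull g').mapHomologicalComplex (ComplexShape.up ℤ)).obj (R.cochainComplex⟦n⟧)) ≅
      (((EtCoh.pull g').mapHomologicalComplex (ComplexShape.up ℤ)).obj R.cochainComplex)⟦n⟧ :=
    (((EtCoh.pull g').mapHomologicalComplex (ComplexShape.up ℤ)).commShiftIso n).app _
  let sn := σ.hom ≫ s⟦n⟧'
  haveI : QuasiIso sn := inferInstanceAs (QuasiIso (σ.hom ≫ s⟦n⟧'))
  let τf := (((EtCoh.push f').mapHomologicalComplex (ComplexShape.up ℤ)).commShiftIso n).app J
  let τg : (((EtCoh.pull g).mapHomologicalComplex (ComplexShape.up ℤ)).obj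
      (((EtCoh.push f).mapHomologicalComplex (ComplexShape.up ℤ)).obj (R.cochainComplex⟦n⟧))) ≅
      (((EtCoh.pull g).mapHomologicalComplex (ComplexShape.up ℤ)).obj
        (((EtCoh.push f).mapHomologicalComplex (ComplexShape.up ℤ)).obj R.cochainComplex))⟦n⟧ :=
    ((EtCoh.pull g).mapHomologicalComplex (ComplexShape.up ℤ)).mapIso
        ((((EtCoh.push f).mapHomologicalComplex (ComplexShape.up ℤ)).commShiftIso n).app _) ≪≫
      (((EtCoh.pull g).mapHomologicalComplex (ComplexShape.up ℤ)).commShiftIso n).app _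
  have heq : τg.hom ≫ (bcCx f g f' g' w s)⟦n⟧' ≫ τf.inv = bcCx f g f' g' w sn := by
    refine HomologicalComplex.hom_ext _ _ fun k => ?_
    simp [τg, τf, sn, σ, bcCx]
    exact Category.id_comp _
  have hqn : QuasiIso (bcCx f g f' g' w sn) := by
    rw [← heq]
    infer_instance
  refine (isIso_bcMap_congr f g f' g' w adj (?_ : (EtBC.single X F)⟦n⟧ ≅ Qh.obj ((qh X).obj (R.cochainComplex⟦n⟧)))).2
    ((isIso_bcMap_iff_quasiIso f g f' g' w adj sn).2 hqn)
  exact (shiftFunctor _ n).mapIso e ≪≫ ((qh X ⋙ Qh).commShiftIso n).symm.app R.cochainComplex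

section Devissage

variable (K : DCoh.DEt X)

/-- five lemma for a natural transformation and homological functors -/
theorem isIso_H_app_of_triangle {A B : Type*} [Category* A] [Category* B] [Abelian A] [Abelian B]
    [HasDerivedCategory A] [HasDerivedCategory B] {Φ Ψ : DerivedCategory A ⥤ DerivedCategory B}
    [Φ.CommShift ℤ] [Ψ.CommShift ℤ] [Φ.IsTriangulated] [Ψ.IsTriangulated] (η : Φ ⟶ Ψ)
    (T : Triangle (DerivedCategory A)) (hT : T ∈ distTriang (DerivedCategory A)) (i : ℤ)
    (h0 : IsIso ((homologyFunctor B i).map (η.app (T.obj₃⟦(-1 : ℤ)⟧))))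
    (h1 : IsIso ((homologyFunctor B i).map (η.app T.obj₁)))
    (h3 : IsIso ((homologyFunctor B i).map (η.app T.obj₃)))
    (h4 : IsIso ((homologyFunctor B i).map (η.app (T.obj₁⟦(1 : ℤ)⟧)))) :
    IsIso ((homologyFunctor B i).map (η.app T.obj₂)) := by
  let H := homologyFunctor B i
  let seq : ∀ (G : DerivedCategory A ⥤ DerivedCategory B) [G.CommShift ℤ] [G.IsTriangulated],
      ComposableArrows B 4 := fun G _ _ => ComposableArrows.mk₄ (H.map (G.map T.invRotate.mor₁))
        (H.map (G.map T.mor₁)) (H.map (G.map T.mor₂)) (H.map (G.map T.mor₃))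
  have hex : ∀ (G : DerivedCategory A ⥤ DerivedCategory B) [G.CommShift ℤ] [G.IsTriangulated], (seq G).Exact :=
    fun G _ _ => ComposableArrows.exact_of_δ₀
      (DerivedCategory.HomologySequence.exact₂ _ (G.map_distinguished _ (inv_rot_of_distTriang _ hT)) i).exact_toComposableArrows
      (ComposableArrows.exact_of_δ₀
        (DerivedCategory.HomologySequence.exact₂ _ (G.map_distinguished _ hT) i).exact_toComposableArrows
        (DerivedCategory.HomologySequence.exact₂ _
          (G.map_distinguished _ (rot_of_distTriang _ hT)) i).exact_toComposableArrows)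
  let φ : seq Φ ⟶ seq Ψ := ComposableArrows.homMk₄ (H.map (η.app _)) (H.map (η.app _)) (H.map (η.app _))
    (H.map (η.app _)) (H.map (η.app _))
    (show H.map (Φ.map T.invRotate.mor₁) ≫ H.map (η.app _) = H.map (η.app _) ≫ H.map (Ψ.map T.invRotate.mor₁) by
      rw [← H.map_comp, ← H.map_comp, η.naturality])
    (show H.map (Φ.map T.mor₁) ≫ H.map (η.app _) = H.map (η.app _) ≫ H.map (Ψ.map T.mor₁) by
      rw [← H.map_comp, ← H.map_comp, η.naturality])
    (show H.map (Φ.map T.mor₂) ≫ H.map (η.app _) = H.map (η.app _) ≫ H.map (Ψ.map T.mor₂) by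
      rw [← H.map_comp, ← H.map_comp, η.naturality])
    (show H.map (Φ.map T.mor₃) ≫ H.map (η.app _) = H.map (η.app _) ≫ H.map (Ψ.map T.mor₃) by
      rw [← H.map_comp, ← H.map_comp, η.naturality])
  exact Abelian.isIso_of_epi_of_isIso_of_isIso_of_mono (hex Φ) (hex Ψ) φ
    (haveI := h0; inferInstanceAs (Epi (H.map (η.app (T.obj₃⟦(-1 : ℤ)⟧))))) h1 h3
    (haveI := h4; inferInstanceAs (Mono (H.map (η.app (T.obj₁⟦(1 : ℤ)⟧)))))

/-- bounded below objects with cohomology sheaves satisfying the degreewise statement -/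
theorem isIso_bcMap_of_isGE (n : ℤ) [K.IsGE n]
    (hK : ∀ (i : ℤ) (q : ℕ), IsIso (EtBC.bcQ f g f' g' w q (DCoh.HDEt K i))) :
    IsIso (EtBC.bcMap f g f' g' w adj K) := by
  haveI := EtPullExact.pull_preservesFiniteLimits f
  obtain ⟨adjf, -⟩ := EtBCBridge.exists_adj f
  obtain ⟨adjf', -⟩ := @EtBCBridge.exists_adj _ _ f' (EtPullExact.pull_preservesFiniteLimits f') _
  haveI := EtPullExact.pull_preservesFiniteLimits f'
  letI := adjf.rightAdjointCommShift ℤ
  haveI := adjf.commShift_of_leftAdjoint ℤ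
  haveI := adjf.isTriangulated_rightAdjoint
  letI := adjf'.rightAdjointCommShift ℤ
  haveI := adjf'.commShift_of_leftAdjoint ℤ
  haveI := adjf'.isTriangulated_rightAdjoint
  let Φ := DCoh.RpushEt X f ⋙ EtBC.pullD g
  let Ψ := EtBC.pullD g' ⋙ DCoh.RpushEt X' f'
  let η : Φ ⟶ Ψ := { app := EtBC.bcMap f g f' g' w adj
                     naturality := fun _ _ φ => EtBCBridge.bcMap_natural f g f' g' w adj φ }
  have hΦ : WayOut.PreservesGE Φ := fun M m h =>
    WayOut.preservesGE_mapDerived (EtCoh.pull g) _ m (WayOut.preservesGE_right adjf M m h)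
  have hΨ : WayOut.PreservesGE Ψ := fun M m h =>
    WayOut.preservesGE_right adjf' _ m (WayOut.preservesGE_mapDerived (EtCoh.pull g') M m h)
  let P : DCoh.DEt X → Prop := fun M => ∀ m : ℤ, IsIso (η.app (M⟦m⟧))
  have hP : WayOut.Stable P :=
    { iso := fun e h m => (NatTrans.isIso_app_iff_of_iso η ((shiftFunctor _ m).mapIso e)).1 (h m)
      shift := fun {M} a h m => (NatTrans.isIso_app_iff_of_iso η ((shiftFunctorAdd' _ a m (a + m) rfl).app M)).1 (h (a + m))
      zero := fun hM m => ⟨0, (Φ.map_isZero ((shiftFunctor _ m).map_isZero hM)).eq_of_src _ _,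
        (Ψ.map_isZero ((shiftFunctor _ m).map_isZero hM)).eq_of_src _ _⟩
      ext := fun T hT h1 h3 m => by
        rw [DerivedCategory.isIso_iff]
        intro i
        have hTm := Triangle.shift_distinguished T hT m
        haveI : IsIso (η.app (T.obj₁⟦m⟧⟦(1 : ℤ)⟧)) :=
          (NatTrans.isIso_app_iff_of_iso η ((shiftFunctorAdd' _ m 1 (m + 1) rfl).app T.obj₁)).1 (h1 (m + 1))
        haveI : IsIso (η.app (T.obj₃⟦m⟧⟦(-1 : ℤ)⟧)) :=
          (NatTrans.isIso_app_iff_of_iso η ((shiftFunctorAdd' _ m (-1) (m + -1) rfl).app T.obj₃)).1 (h3 (m + -1))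
        haveI : IsIso (η.app (T.obj₁⟦m⟧)) := h1 m
        haveI : IsIso (η.app (T.obj₃⟦m⟧)) := h3 m
        exact isIso_H_app_of_triangle η _ hTm i
          (inferInstanceAs (IsIso ((homologyFunctor _ i).map (η.app (T.obj₃⟦m⟧⟦(-1 : ℤ)⟧)))))
          (inferInstanceAs (IsIso ((homologyFunctor _ i).map (η.app (T.obj₁⟦m⟧)))))
          (inferInstanceAs (IsIso ((homologyFunctor _ i).map (η.app (T.obj₃⟦m⟧)))))
          (inferInstanceAs (IsIso ((homologyFunctor _ i).map (η.app (T.obj₁⟦m⟧⟦(1 : ℤ)⟧))))) }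
  change IsIso (η.app K)
  rw [DerivedCategory.isIso_iff]
  intro q
  obtain ⟨T, hT, rfl, ha', ⟨b, hb⟩, hV, hH⟩ := WayOut.exists_bounded_approx
    (P := fun M => P (WayOut.sgl M))
    (fun hM => hP.zero ((DerivedCategory.singleFunctor _ 0).map_isZero hM))
    (fun e hM => hP.iso ((DerivedCategory.singleFunctor _ 0).mapIso e) hM)
    K n ‹_› q (fun i m => isIso_bcMap_single_shift f g f' g' w adj _ (hK i) m)
  have hU : P T.obj₁ := WayOut.stable_of_bounded hP (b + 1 - n).toNat T.obj₁ n b (by lia) ha' hb hH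
  haveI : IsIso (η.app T.obj₁) := (NatTrans.isIso_app_iff_of_iso η ((shiftFunctorZero _ ℤ).app T.obj₁)).1 (hU 0)
  have := WayOut.isIso_H_map_of_isGE Φ hΦ T hT (q + 1) q hV (by lia)
  have := WayOut.isIso_H_map_of_isGE Ψ hΨ T hT (q + 1) q hV (by lia)
  have heq := congrArg (homologyFunctor (EtCoh.Ab S') q).map (η.naturality T.mor₁)
  rw [Functor.map_comp, Functor.map_comp] at heq
  have : IsIso ((homologyFunctor (EtCoh.Ab S') q).map (Φ.map T.mor₁) ≫
      (homologyFunctor (EtCoh.Ab S') q).map (η.app T.obj₂)) := heq ▸ inferInstance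
  exact IsIso.of_isIso_comp_left ((homologyFunctor (EtCoh.Ab S') q).map (Φ.map T.mor₁)) _

end Devissage

end Groth.Agent.EtPBC
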