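import Groth.Agent.Recoll.Etale
import Groth.Agent.EtPushStalk.OpenImm
import Groth.Agent.EtCons.ExtZeroConst
import Groth.Agent.ShriekLQF.Etale
import Groth.Agent.ShriekLQF.Compact
import Groth.Agent.EtIntegral.Push
import Groth.Agent.EtMV.Etale
import Mathlib

/-!
# The kernel of restriction to a closed subscheme
-/

set_option autoImplicit false
set_option backward.isDefEq.respectTransparency false
set_option linter.style.haveILetI false
set_option linter.unusedSectionVars false

universe u

open CategoryTheory CategoryTheory.Limits AlgebraicGeometry Opposite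

noncomputable section

namespace Groth.Agent.EtPBC

open Groth.Agent.EtPushStalk Groth.Agent.EtStalk

variable {X Z : Scheme.{u}} (i : Z ⟶ X) [IsClosedImmersion i] (M : Type) [AddCommGroup M]

/-- restriction of constants to a closed subscheme -/
abbrev resConst : EtCoh.const X M ⟶ (EtCoh.push i).obj ((EtCoh.pull i).obj (EtCoh.const X M)) :=
  (EtCoh.pullPushAdj i).unit.app _

/-- the kernel of the restriction of constants -/
def Kc : EtCoh.Ab X := kernel (resConst i M)

/-- its inclusion -/
def Kc.ι : Kc i M ⟶ EtCoh.const X M := kernel.ι _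

theorem Kc.ι_comp : Kc.ι i M ≫ resConst i M = 0 := kernel.condition _

instance : Mono (Kc.ι i M) := inferInstanceAs (Mono (kernel.ι _))

theorem isIso_pull_unit (F : EtCoh.Ab X) : IsIso ((EtCoh.pull i).map ((EtCoh.pullPushAdj i).unit.app F)) := by
  have hc := isIso_counit i (liftProp_of_closedImmersion i) ((EtCoh.pull i).obj F)
  have : IsIso ((EtCoh.pull i).map ((EtCoh.pullPushAdj i).unit.app F) ≫
      (EtCoh.pullPushAdj i).counit.app ((EtCoh.pull i).obj F)) := by
    rw [(EtCoh.pullPushAdj i).left_triangle_components F]; exact IsIso.id _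
  exact IsIso.of_isIso_comp_right _ ((EtCoh.pullPushAdj i).counit.app ((EtCoh.pull i).obj F))

theorem epi_resConst : Epi (resConst i M) := by
  refine Abelian.epi_of_cokernel_π_eq_zero _ ?_
  refine IsZero.eq_of_tgt (Recoll.isZero_of_stalks _ fun Ω _ _ ξ => ?_) _ _
  haveI : PreservesColimitsOfShape WalkingParallelPair (EtCoh.stalk ξ) := inferInstance
  refine IsZero.of_iso ?_ (PreservesCokernel.iso (EtCoh.stalk ξ) (resConst i M))
  haveI : Epi ((EtCoh.stalk ξ).map (resConst i M)) := by
    by_cases h : ξ (default : Spec (CommRingCat.of Ω)) ∈ Set.range i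
    · obtain ⟨ζ, rfl⟩ := exists_lift_point i ξ h
      haveI := isIso_pull_unit i (EtCoh.const X M)
      haveI h1 : IsIso ((EtCoh.stalk ζ).map ((EtCoh.pull i).map (resConst i M))) :=
        @Functor.map_isIso _ _ _ _ _ _ (EtCoh.stalk ζ) _ (isIso_pull_unit i (EtCoh.const X M))
      haveI : IsIso ((EtCoh.stalk (ζ ≫ i)).map (resConst i M)) :=
        (NatIso.isIso_map_iff (stalkPullIso i ζ) _).mpr h1
      infer_instance
    · exact ⟨fun a b _ => (Groth.Agent.EtStalk.isZero_stalk_push i _ ξ (disjoint_of_not_mem i ξ h)).eq_of_src a b⟩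
  exact isZero_cokernel_of_epi _

/-- the sequence `0 → Kc → M → i_* i^* M → 0` -/
theorem Kc.shortExact : (ShortComplex.mk (Kc.ι i M) (resConst i M) (Kc.ι_comp i M)).ShortExact := by
  haveI := epi_resConst i M
  exact { exact := ShortComplex.exact_of_f_is_kernel _ (kernelIsKernel (resConst i M)) }

/-- **the kernel is the extension by zero from the open complement** -/
theorem nonempty_extZero_iso_Kc {U : Scheme.{u}} (j : U ⟶ X) [IsOpenImmersion j]
    (hUZ : Set.range j.base = (Set.range i.base)ᶜ) :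
    Nonempty ((EtShriek.extZero j).obj (EtCoh.const U M) ≅ Kc i M) := by
  haveI : Etale j := inferInstance
  haveI : (EtCoh.pull i).IsLeftAdjoint := (EtCoh.pullPushAdj i).isLeftAdjoint
  haveI : (EtCoh.pull j).IsLeftAdjoint := (EtCoh.pullPushAdj j).isLeftAdjoint
  haveI := Groth.Agent.EtPullExact.pull_preservesFiniteLimits i
  haveI := Groth.Agent.EtPullExact.pull_preservesFiniteLimits j
  let R := EtShriek.restrAlong j
  let Q := EtCoh.const X M
  have hz : IsZero (R.obj ((EtCoh.push i).obj ((EtCoh.pull i).obj Q))) :=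
    (Recoll.isZero_pull_push i j (hUZ ▸ disjoint_compl_left) _).of_iso ((restrPullIso j).app _)
  let e : R.obj Q ≅ EtCoh.const U M := (restrPullIso j).app Q ≪≫ EtCons.pullConstM j M
  let c : (EtShriek.extZero j).obj (R.obj Q) ⟶ Q := (EtShriek.extZeroAdj j).counit.app Q
  have hcQ : c ≫ resConst i M = 0 :=
    ((EtShriek.extZeroAdj j).homEquiv _ _).injective (hz.eq_of_tgt _ _)
  let κ : (EtShriek.extZero j).obj (R.obj Q) ⟶ Kc i M := kernel.lift _ c hcQ
  have hκ : κ ≫ Kc.ι i M = c := kernel.lift_ι _ c hcQ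
  have hj : IsIso ((EtCoh.pull j).map κ) := by
    refine (NatIso.isIso_map_iff (restrPullIso j).symm κ).2 ?_
    haveI : IsIso (R.map c) := by
      haveI := isIso_unit_extZero j (R.obj Q)
      have h1 := (EtShriek.extZeroAdj j).right_triangle_components Q
      haveI : IsIso ((EtShriek.extZeroAdj j).unit.app (R.obj Q) ≫ R.map c) := by
        rw [h1]; exact IsIso.id _
      exact IsIso.of_isIso_comp_left ((EtShriek.extZeroAdj j).unit.app (R.obj Q)) _
    haveI : Mono (R.map (Kc.ι i M)) := by
      haveI : R.PreservesMonomorphisms := R.preservesMonomorphisms_of_adjunction (EtShriek.extZeroAdj j)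
      infer_instance
    haveI : Epi (R.map (Kc.ι i M)) := by
      haveI : Epi (R.map κ ≫ R.map (Kc.ι i M)) := by rw [← R.map_comp, hκ]; infer_instance
      exact epi_of_epi (R.map κ) _
    haveI : IsIso (R.map (Kc.ι i M)) := isIso_of_mono_of_epi _
    haveI : IsIso (R.map κ ≫ R.map (Kc.ι i M)) := by rw [← R.map_comp, hκ]; infer_instance
    exact IsIso.of_isIso_comp_right (R.map κ) (R.map (Kc.ι i M))
  have hi : IsIso ((EtCoh.pull i).map κ) := by
    refine IsZero.isIso ?_ ?_ _
    · refine (IsZero.iff_id_eq_zero _).2 ((((EtShriek.extZeroAdj j).comp (EtCoh.pullPushAdj i)).homEquiv _ _).injective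
        (IsZero.eq_of_tgt ?_ _ _))
      exact (Recoll.isZero_pull_push i j (hUZ ▸ disjoint_compl_left) _).of_iso ((restrPullIso j).app _)
    · refine (IsZero.iff_id_eq_zero _).2 ?_
      haveI : IsIso ((EtCoh.pull i).map (resConst i M)) := isIso_pull_unit i Q
      haveI : Mono ((EtCoh.pull i).map (Kc.ι i M)) := inferInstance
      have h0 : (EtCoh.pull i).map (Kc.ι i M) = 0 := by
        rw [← cancel_mono ((EtCoh.pull i).map (resConst i M)), ← Functor.map_comp, Kc.ι_comp,
          zero_comp]
        haveI : (EtCoh.pull i).Additive := (EtCoh.pullPushAdj i).left_adjoint_additive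
        exact Functor.map_zero _ _ _
      rw [← cancel_mono ((EtCoh.pull i).map (Kc.ι i M)), h0]
      simp
  haveI : IsIso κ := Recoll.isIso_of_pull i j (hUZ.ge) κ hi hj
  exact ⟨(EtShriek.extZero j).mapIso e.symm ≪≫ asIso κ⟩

/-- **extensions by zero of constants are direct images of kernels** -/
theorem exists_extZeroConst_iso {X : Scheme.{u}} (U : X.Etale) [IsSeparated U.hom] [LocallyQuasiFinite U.hom]
    {V : Scheme.{u}} (j : U.left ⟶ V) [IsOpenImmersion j] (π : V ⟶ X) [IsFinite π] (w : j ≫ π = U.hom)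
    {Z : Scheme.{u}} (i : Z ⟶ V) [IsClosedImmersion i] (hUZ : Set.range j.base = (Set.range i.base)ᶜ) :
    Nonempty (EtPBC.extZeroConst U M ≅ (EtCoh.push π).obj (Kc i M)) := by
  haveI : Etale U.hom := U.prop
  haveI := EtMV.jcont_etale U.hom
  haveI : Etale j := inferInstance
  obtain ⟨e1⟩ := ShriekLQF.nonempty_extZero_iso_lowerShriek U.hom
  obtain ⟨e2⟩ := ShriekLQF.nonempty_extZero_iso_lowerShriek j
  obtain ⟨e3⟩ := ShriekLQF.nonempty_lowerShriek_comp (j := j) (fb := π)
  obtain ⟨e4⟩ := nonempty_extZero_iso_Kc i M j hUZ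
  refine ⟨(EtCons.extZeroConstIso U M).symm ≪≫ e1.app _ ≪≫ ?_⟩
  refine eqToIso ?_ ≪≫ e3.app (EtCoh.const U.left M) ≪≫ (EtCoh.push π).mapIso ((e2.app _).symm ≪≫ e4)
  rw [w]; rfl

end Groth.Agent.EtPBC
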