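import Groth.Agent.EtPBC.FieldDescent
import Mathlib

/-!
# Cohomology of a direct image from the higher direct images
-/

set_option autoImplicit false
set_option backward.isDefEq.respectTransparency false
set_option backward.isDefEq.respectTransparency.types false
set_option linter.auxLemma false
set_option linter.style.haveILetI false
set_option linter.unusedSectionVars false
set_option maxHeartbeats 1000000

universe u

open CategoryTheory CategoryTheory.Limits CategoryTheory.Abelian AlgebraicGeometry Opposite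

noncomputable section

namespace Groth.Agent.EtPBC

attribute [local instance 100000] EtCoh.H._proof_1 EtMV.hext
attribute [local instance 200000] EtMV.hextAb

variable {X Y : Scheme.{u}}

/-- vanishing in the middle of a short exact sequence -/
theorem subsingleton_H_X₂ {S : ShortComplex (EtCoh.Ab X)} (hS : S.ShortExact) (q : ℕ)
    (h₁ : Subsingleton (EtCoh.H X S.X₁ q)) (h₃ : Subsingleton (EtCoh.H X S.X₃ q)) :
    Subsingleton (EtCoh.H X S.X₂ q) := by
  refine subsingleton_of_forall_eq 0 fun x => ?_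
  obtain ⟨y, hy⟩ := Ext.covariant_sequence_exact₂ (EtCoh.const X ℤ) hS x
    (@Subsingleton.elim (EtCoh.H X S.X₃ q) h₃ _ _)
  rw [← hy, show y = 0 from @Subsingleton.elim (EtCoh.H X S.X₁ q) h₁ _ _, Ext.zero_comp]

/-- vanishing on the left of a short exact sequence -/
theorem subsingleton_H_X₁ {S : ShortComplex (EtCoh.Ab X)} (hS : S.ShortExact) (q : ℕ)
    (h₃ : Subsingleton (EtCoh.H X S.X₃ q)) (h₂ : Subsingleton (EtCoh.H X S.X₂ (q + 1))) :
    Subsingleton (EtCoh.H X S.X₁ (q + 1)) := by
  refine subsingleton_of_forall_eq 0 fun x => ?_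
  obtain ⟨y, hy⟩ := Ext.covariant_sequence_exact₁ (EtCoh.const X ℤ) hS x
    (@Subsingleton.elim (EtCoh.H X S.X₂ (q + 1)) h₂ _ _) rfl
  rw [← hy, show y = 0 from @Subsingleton.elim (EtCoh.H X S.X₃ q) h₃ _ _, Ext.zero_comp]

/-- vanishing on the right of a short exact sequence -/
theorem subsingleton_H_X₃ {S : ShortComplex (EtCoh.Ab X)} (hS : S.ShortExact) (q : ℕ)
    (h₂ : Subsingleton (EtCoh.H X S.X₂ q)) (h₁ : Subsingleton (EtCoh.H X S.X₁ (q + 1))) :
    Subsingleton (EtCoh.H X S.X₃ q) := by
  refine subsingleton_of_forall_eq 0 fun x => ?_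
  obtain ⟨y, hy⟩ := Ext.covariant_sequence_exact₃ (EtCoh.const X ℤ) hS x rfl
    (@Subsingleton.elim (EtCoh.H X S.X₁ (q + 1)) h₁ _ _)
  rw [← hy, show y = 0 from @Subsingleton.elim (EtCoh.H X S.X₂ q) h₂ _ _, Ext.zero_comp]

theorem killed_Rpush (f : X ⟶ Y) (q : ℕ) {m : ℕ} {F : EtCoh.Ab X} (hF : Killed m F) :
    Killed m ((EtCoh.Rpush f q).obj F) :=
  (killed_iff m _).2 (EtAcycX.Kd.map (EtCoh.Rpush f q) ((killed_iff m F).1 hF))

/-- edge of the Leray spectral sequence -/
theorem subsingleton_H_push_of_Rpush (f : X ⟶ Y) {m : ℕ} (hm : 0 < m) : ∀ (a : ℕ) (F : EtCoh.Ab X), Killed m F →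
    (∀ q : ℕ, a < q → IsZero ((EtCoh.Rpush f q).obj F)) → ∀ n : ℕ, a < n → Subsingleton (EtCoh.H X F n) →
    (∀ p q : ℕ, 0 < q → q ≤ a → p + q + 1 = n → Subsingleton (EtCoh.H Y ((EtCoh.Rpush f q).obj F) p)) →
    Subsingleton (EtCoh.H Y ((EtCoh.push f).obj F) n) := by
  intro a
  induction a with
  | zero => exact fun F hF hR n _ h _ => (subsingleton_H_iff_push f F (fun q => hR (q + 1) q.succ_pos) n).2 h
  | succ a ih =>
    intro F hF hR n hn h hRH
    obtain ⟨J, hJ, i, hi⟩ := EtAcycX.exists_hullKd (m := m) ((killed_iff m F).1 hF)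
    let S := ShortComplex.mk i (cokernel.π i) (cokernel.condition i)
    have hS : S.ShortExact := { exact := ShortComplex.exact_of_g_is_cokernel _ (cokernelIsCokernel i) }
    have hC : Killed m (cokernel i) := killed_of_epi (cokernel.π i) ((killed_iff m _).2 (EtAcycX.kd_tor J m))
    obtain ⟨k, rfl⟩ : ∃ k, n = k + 2 := ⟨n - 2, by omega⟩
    let Rd := RDerLib.derivedLES (EtCoh.push f)
    have hiso : ∀ q : ℕ, IsIso (Rd.δ S hS (q + 1) (q + 2) rfl) := fun q => by
      haveI := (Rd.exact₃ S hS (q + 1) (q + 2) rfl).mono_g ((EtAcycX.isZero_rpush_tor f J hm q).eq_of_src _ _)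
      haveI := (Rd.exact₁ S hS (q + 1) (q + 2) rfl).epi_f
        ((EtAcycX.isZero_rpush_tor f J hm (q + 1)).eq_of_tgt _ _)
      exact isIso_of_mono_of_epi _
    have hR' : ∀ q : ℕ, a < q → IsZero ((EtCoh.Rpush f q).obj (cokernel i)) := by
      intro q hq
      obtain ⟨q, rfl⟩ : ∃ j, q = j + 1 := ⟨q - 1, by omega⟩
      haveI := hiso q
      exact (hR (q + 2) (by omega)).of_iso (asIso (Rd.δ S hS (q + 1) (q + 2) rfl))
    have hCn : Subsingleton (EtCoh.H X (cokernel i) (k + 1)) :=
      subsingleton_H_X₃ hS (k + 1) (EtAcycX.subsingleton_H_tor J hm k) h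
    have hpC := ih (cokernel i) hC hR' (k + 1) (by omega) hCn (fun p q hq hqa hpq => by
      obtain ⟨q, rfl⟩ : ∃ j, q = j + 1 := ⟨q - 1, by omega⟩
      haveI := hiso q
      exact subsingleton_H_of_iso (asIso (Rd.δ S hS (q + 1) (q + 2) rfl)).symm p
        (hRH p (q + 2) (by omega) (by omega) (by omega)))
    have hI : Subsingleton (EtCoh.H Y ((EtCoh.push f).obj (EtColimH.tor J m)) (k + 2)) :=
      (subsingleton_H_iff_push f _ (EtAcycX.isZero_rpush_tor f J hm) (k + 2)).2
        (EtAcycX.subsingleton_H_tor J hm (k + 1))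
    haveI : PreservesFiniteLimits (EtCoh.push f) :=
      haveI : (EtCoh.push f).IsRightAdjoint := (EtCoh.pullPushAdj f).isRightAdjoint
      inferInstance
    haveI : Mono ((EtCoh.push f).map i) := inferInstance
    let v : cokernel ((EtCoh.push f).map i) ⟶ (EtCoh.push f).obj (cokernel i) :=
      cokernel.desc _ ((EtCoh.push f).map (cokernel.π i))
        (by rw [← Functor.map_comp, cokernel.condition, Functor.map_zero])
    haveI : Mono v := mono_desc_map (EtCoh.push f) hS _
    let S₁ := ShortComplex.mk ((EtCoh.push f).map i) (cokernel.π _) (cokernel.condition _)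
    have hS₁ : S₁.ShortExact := { exact := ShortComplex.exact_of_g_is_cokernel _ (cokernelIsCokernel _) }
    let S₂ := ShortComplex.mk v (cokernel.π v) (cokernel.condition v)
    have hS₂ : S₂.ShortExact := { exact := ShortComplex.exact_of_g_is_cokernel _ (cokernelIsCokernel v) }
    let η := fun (G : EtCoh.Ab X) => pushZeroIso f G
    have hnat : (EtCoh.Rpush f 0).map (cokernel.π i) ≫ (η _).hom = (η _).hom ≫ (EtCoh.push f).map (cokernel.π i) :=
      (EtCoh.push f).rightDerivedZeroIsoSelf.hom.naturality _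
    let d : (EtCoh.push f).obj (cokernel i) ⟶ (EtCoh.Rpush f 1).obj F := (η _).inv ≫ Rd.δ S hS 0 1 rfl
    haveI : Epi d := by
      haveI := (Rd.exact₁ S hS 0 1 rfl).epi_f ((EtAcycX.isZero_rpush_tor f J hm 0).eq_of_tgt _ _)
      exact epi_comp _ _
    have hd0 : (EtCoh.push f).map (cokernel.π i) ≫ d = 0 := by
      rw [← cancel_epi (η (EtColimH.tor J m)).hom, ← Category.assoc, ← hnat, Category.assoc, Iso.hom_inv_id_assoc,
          Rd.comp_δ S hS 0 1 rfl, comp_zero]
    have hd : (ShortComplex.mk ((EtCoh.push f).map (cokernel.π i)) d hd0).Exact := by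
      refine (ShortComplex.exact_iff_of_iso ?_).1 (Rd.exact₃ S hS 0 1 rfl)
      exact ShortComplex.isoMk (η _) (η _) (Iso.refl _) hnat.symm
        ((Category.comp_id _).trans (Iso.hom_inv_id_assoc (η _) _).symm).symm
    have hvd : v ≫ d = 0 := by
      rw [← cancel_epi (cokernel.π ((EtCoh.push f).map i)), cokernel.π_desc_assoc, comp_zero]
      exact hd0
    have hcok : IsIso (cokernel.desc v d hvd) := by
      let w : cokernel v ⟶ (EtCoh.Rpush f 1).obj F := cokernel.desc v d hvd
      haveI : Epi w := epi_of_epi_fac (cokernel.π_desc v d hvd)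
      let g' := hd.gIsCokernel
      let w' : (EtCoh.Rpush f 1).obj F ⟶ cokernel v := g'.desc (CokernelCofork.ofπ (cokernel.π v) (by
        show (EtCoh.push f).map (cokernel.π i) ≫ cokernel.π v = 0
        rw [← cokernel.π_desc ((EtCoh.push f).map i) ((EtCoh.push f).map (cokernel.π i))
          (by rw [← Functor.map_comp, cokernel.condition, Functor.map_zero]), Category.assoc]
        exact (congrArg (cokernel.π _ ≫ ·) (cokernel.condition v)).trans comp_zero))
      have h1 : d ≫ w' = cokernel.π v := g'.fac _ WalkingParallelPair.one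
      refine ⟨w', ?_, ?_⟩
      · rw [← cancel_epi (cokernel.π v), ← Category.assoc, cokernel.π_desc, h1, Category.comp_id]
      · rw [← cancel_epi d, ← Category.assoc, h1, cokernel.π_desc, Category.comp_id]
    have hB : Subsingleton (EtCoh.H Y (cokernel ((EtCoh.push f).map i)) (k + 1)) :=
      subsingleton_H_X₁ hS₂ k
        (subsingleton_H_of_iso (@asIso _ _ _ _ _ hcok).symm k (hRH k 1 one_pos (by omega) (by omega))) hpC
    exact subsingleton_H_X₁ hS₁ (k + 1) hB hI

end Groth.Agent.EtPBC
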