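import Groth.Agent.EtPBC.CdDev
import Groth.Prelude.Def_W4c5etcohweilstudentAS
import Groth.Agent.S18415
import Groth.Agent.S0109

/-!
# The Artin–Schreier sequence `0 → ℤ/p → 𝔾ₐ → 𝔾ₐ → 0`
-/

set_option autoImplicit false
set_option backward.isDefEq.respectTransparency false
set_option backward.isDefEq.respectTransparency.types false
set_option linter.auxLemma false
set_option linter.style.haveILetI false

universe u

open CategoryTheory CategoryTheory.Limits CategoryTheory.Abelian AlgebraicGeometry Opposite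
open Groth.Agent.EtFLC (res res_res res_id)

noncomputable section

namespace Groth.Agent.EtPBC

attribute [local instance 100000] EtCoh.H._proof_1 EtMV.hext
attribute [local instance 200000] EtMV.hextAb

variable {X : Scheme.{u}} (p : ℕ) [hpp : Fact p.Prime] (h0 : (p : Γ(X, ⊤)) = 0)

/-- a global function as a section of `𝔾ₐ` -/
def gaSect {U : X.Etale} (x : Γ(U.left, ⊤)) : EtCoh.sect (EtCoh.Ga X) U := ULift.up x

/-- the underlying function of a section of `𝔾ₐ` -/
def gaVal {U : X.Etale} (s : EtCoh.sect (EtCoh.Ga X) U) : Γ(U.left, ⊤) :=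
  (s : ULift.{u + 1} Γ(U.left, ⊤)).down

theorem gaVal_res {U V : X.Etale} (g : V ⟶ U) (s : EtCoh.sect (EtCoh.Ga X) U) :
    gaVal (res (EtCoh.Ga X) g s) = g.left.appTop (gaVal s) := rfl

include h0 in
theorem natCast_gaVal (U : X.Etale) : (p : Γ(U.left, ⊤)) = 0 :=
  W4c5etcohweilstudent.natCast_eq_zero_etale p h0 U

/-- the integers mod `p` as functions -/
def asConst : ZMod p →+ EtCoh.sect (EtCoh.Ga X) (EtCoh.top X) :=
  ZMod.lift p ⟨zmultiplesHom _ (gaSect (U := EtCoh.top X) 1), by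
    show (p : ℤ) • gaSect (U := EtCoh.top X) (1 : Γ(X, ⊤)) = 0
    rw [natCast_zsmul]
    refine congrArg ULift.up ?_
    show p • (1 : Γ(X, ⊤)) = 0
    rw [nsmul_eq_mul, mul_one, h0]⟩

theorem gaVal_asConst (U : X.Etale) (m : ℤ) :
    gaVal (res (EtCoh.Ga X) (EtMV.toTop U) (asConst p h0 (m : ZMod p))) = (m : Γ(U.left, ⊤)) := by
  rw [asConst, ZMod.lift_coe, gaVal_res]
  show (EtMV.toTop U).left.appTop (m • (1 : Γ(X, ⊤))) = _
  rw [map_zsmul, map_one, zsmul_one]

/-- the inclusion of the constants -/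
def asι : EtCoh.const X (ZMod p) ⟶ EtCoh.Ga X := constHom (ZMod p) (EtCoh.Ga X) (asConst p h0)

theorem asι_comp : asι p h0 ≫ W4c5etcohweilstudent.artinSchreierEndo X p hpp.out h0 = 0 := by
  refine ObjectProperty.hom_ext _ ?_
  apply sheafify_hom_ext _ _ _ (EtCoh.Ga X).property
  ext U m
  obtain ⟨i, hi⟩ := ZMod.intCast_surjective (m : ULift.{u + 1} (ZMod p)).down
  have hm : (m : ULift.{u + 1} (ZMod p)) = ULift.up ((i : ZMod p)) := congrArg ULift.up hi.symm
  subst hm
  show (W4c5etcohweilstudent.artinSchreierEndo X p hpp.out h0).hom.app U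
      (((toSheafify X.smallEtaleTopology (EtMV.cPre0 X (ZMod p))) ≫
        sheafifyLift X.smallEtaleTopology (constPre (ZMod p) (EtCoh.Ga X) (asConst p h0))
          (EtCoh.Ga X).property).app U (ULift.up (i : ZMod p))) = _
  rw [toSheafify_sheafifyLift]
  refine congrArg ULift.up ?_
  show gaVal (res (EtCoh.Ga X) (EtMV.toTop U.unop) (asConst p h0 (i : ZMod p))) ^ p -
      gaVal (res (EtCoh.Ga X) (EtMV.toTop U.unop) (asConst p h0 (i : ZMod p))) = 0
  rw [gaVal_asConst]
  have h := natCast_gaVal p h0 U.unop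
  have hfer : ((i : ZMod p)) ^ p = (i : ZMod p) := ZMod.pow_card _
  let f : ZMod p →+* Γ(U.unop.left, ⊤) := ZMod.castHom (n := p) (m := ringChar Γ(U.unop.left, ⊤))
    ((ringChar.spec Γ(U.unop.left, ⊤) p).1 h) Γ(U.unop.left, ⊤)
  have := congrArg f hfer
  rw [map_pow, map_intCast] at this
  rw [this, sub_self]

/-- a root of `x^p - x` is locally an integer -/
theorem exists_local_int {U : X.Etale} (s : Γ(U.left, ⊤)) (hs : s ^ p = s) (h : (p : Γ(U.left, ⊤)) = 0) (u : U.left) :
    ∃ (V : U.left.Opens), u ∈ V ∧ ∃ m : ℤ, U.left.presheaf.map (homOfLE (le_top (a := V))).op s = (m : Γ(U.left, V)) := by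
  let κ := U.left.residueField u
  let ev : Γ(U.left, ⊤) →+* κ := (U.left.Γevaluation u).hom
  haveI : CharP κ p := (CharP.charP_iff_prime_eq_zero hpp.out).2 (by rw [← map_natCast ev, h, map_zero])
  letI : Algebra (ZMod p) κ := ZMod.algebra κ p
  have hroot : ev s ^ p = ev s := by rw [← map_pow, hs]
  obtain ⟨m0, hm0⟩ : ∃ a : ZMod p, algebraMap (ZMod p) κ a = ev s := by
    have hr : ev s ∈ (Polynomial.X ^ p - Polynomial.X : Polynomial κ).roots := by
      rw [Polynomial.mem_roots (FiniteField.X_pow_card_sub_X_ne_zero κ hpp.out.one_lt)]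
      simp [hroot]
    have hsp : (Polynomial.X ^ p - Polynomial.X : Polynomial κ).roots =
        Finset.univ.val.map (algebraMap (ZMod p) κ) := by
      have h1 := FiniteField.roots_X_pow_card_sub_X (ZMod p)
      rw [ZMod.card p] at h1
      have h3 : Polynomial.Splits ((Polynomial.X ^ p - Polynomial.X : Polynomial (ZMod p))) := by
        rw [Polynomial.splits_iff_card_roots, h1, Finset.card_val, Finset.card_univ, ZMod.card,
          FiniteField.X_pow_card_sub_X_natDegree_eq (ZMod p) hpp.out.one_lt]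
      have h2 := h3.roots_map (algebraMap (ZMod p) κ)
      rw [h1, Polynomial.map_sub, Polynomial.map_pow, Polynomial.map_X] at h2
      exact h2
    rw [hsp] at hr
    obtain ⟨a, -, ha⟩ := Multiset.mem_map.1 hr
    exact ⟨a, ha⟩
  obtain ⟨m, rfl⟩ := ZMod.intCast_surjective m0
  rw [map_intCast] at hm0
  let t : Γ(U.left, ⊤) := s - (m : Γ(U.left, ⊤))
  have ht : t * (t ^ (p - 1) - 1) = 0 := by
    have hsplit : t ^ p = t := by
      rw [show t ^ p = t ^ p from rfl]
      have hadd := W4c5etcohweilstudent.add_pow_prime_of_natCast_eq_zero p hpp.out h t (m : Γ(U.left, ⊤))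
      rw [show t + (m : Γ(U.left, ⊤)) = s from sub_add_cancel _ _, hs] at hadd
      have hm : ((m : Γ(U.left, ⊤))) ^ p = (m : Γ(U.left, ⊤)) := by
        let f : ZMod p →+* Γ(U.left, ⊤) :=
          ZMod.castHom (n := p) ((ringChar.spec Γ(U.left, ⊤) p).1 h) Γ(U.left, ⊤)
        have := congrArg f (ZMod.pow_card ((m : ZMod p)))
        rwa [map_pow, map_intCast] at this
      rw [hm] at hadd
      exact eq_sub_of_add_eq hadd.symm
    rw [mul_sub, mul_one, ← pow_succ', Nat.sub_add_cancel hpp.out.pos, hsplit, sub_self]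
  refine ⟨U.left.basicOpen (t ^ (p - 1) - 1), ?_, m, ?_⟩
  · rw [Scheme.mem_basicOpen_top]
    refine (IsLocalRing.residue_ne_zero_iff_isUnit _).1 ?_
    show ev (t ^ (p - 1) - 1) ≠ 0
    rw [map_sub, map_pow, map_sub, map_intCast, hm0, sub_self, zero_pow (by have := hpp.out.two_le; omega),
      map_one, zero_sub]
    exact neg_ne_zero.2 one_ne_zero
  · let r := (U.left.presheaf.map (homOfLE (le_top (a := U.left.basicOpen (t ^ (p - 1) - 1)))).op).hom
    have hu : IsUnit (r (t ^ (p - 1) - 1)) := RingedSpace.isUnit_res_basicOpen _ _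
    have h2 : r t = 0 := hu.mul_left_eq_zero.1 (by rw [← map_mul, ht, map_zero])
    have h3 : r s - r (m : Γ(U.left, ⊤)) = 0 := by rw [← map_sub]; exact h2
    rw [map_intCast] at h3
    exact sub_eq_zero.1 h3

theorem mono_asι : Mono (asι p h0) := by
  refine (EtStalk.mono_iff _).2 fun Ω _ _ ξ => ?_
  rw [injective_iff_map_eq_zero]
  intro a ha
  obtain ⟨a, rfl⟩ := (EtCons.constGerm_bijective (ZMod p) ξ).2 a
  obtain ⟨m, rfl⟩ := ZMod.intCast_surjective a
  have h1 : (Scheme.pointSmallEtale ξ).toPresheafFiber (EtCoh.top X) (EtCons.ptTop ξ) (EtCoh.Ga X).obj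
      (asConst p h0 (m : ZMod p)) = 0 := by
    refine Eq.trans ?_ ha
    refine (congrArg _ (constHom_cst (ZMod p) (EtCoh.Ga X) (asConst p h0) _).symm).trans ?_
    exact (GrothendieckTopology.Point.toPresheafFiber_naturality_apply (Scheme.pointSmallEtale ξ)
      (asι p h0).hom (EtCoh.top X) (EtCons.ptTop ξ) _).symm
  obtain ⟨W, g, y, hy, h2⟩ := (GrothendieckTopology.Point.toPresheafFiber_eq_iff'
    (P := (EtCoh.Ga X).obj) (Scheme.pointSmallEtale ξ) (EtCoh.top X) (EtCons.ptTop ξ) _ 0).mp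
    (h1.trans (map_zero _).symm)
  have hz : (m : Γ(W.left, ⊤)) = 0 := by
    rw [← gaVal_asConst p h0 W m]
    refine congrArg (gaVal (U := W)) (a₂ := 0) ?_
    rw [EtMV.hom_top_ext (EtMV.toTop W) g]
    exact h2.trans (map_zero _)
  let y' : Over.mk ξ ⟶ (Scheme.Etale.forget X).obj W := y
  let w : W.left := y'.left (default : ↥(Spec (CommRingCat.of Ω)))
  have h3 := congrArg (W.left.Γevaluation w).hom hz
  rw [map_intCast, map_zero] at h3
  haveI : CharP (W.left.residueField w) p := (CharP.charP_iff_prime_eq_zero hpp.out).2 (by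
    rw [← map_natCast (W.left.Γevaluation w).hom, natCast_gaVal p h0 W, map_zero])
  rw [(ZMod.intCast_zmod_eq_zero_iff_dvd m p).2 ((CharP.intCast_eq_zero_iff _ p m).1 h3), map_zero]

/-- **the Artin–Schreier sequence** -/
theorem as_shortExact : (ShortComplex.mk (asι p h0) (W4c5etcohweilstudent.artinSchreierEndo X p hpp.out h0)
    (asι_comp p h0)).ShortExact := by
  haveI := mono_asι p h0
  haveI := Groth.Agent.S18415.result p hpp.out h0
  refine { exact := ?_ }
  refine (EtStalk.exact_iff _).2 fun Ω _ _ ξ => ?_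
  rw [ShortComplex.ab_exact_iff]
  intro z hz
  obtain ⟨W, v, s, rfl⟩ := GrothendieckTopology.Point.toPresheafFiber_jointly_surjective
    (Φ := Scheme.pointSmallEtale ξ) (P := (EtCoh.Ga X).obj) z
  have hz' : (Scheme.pointSmallEtale ξ).toPresheafFiber W v (EtCoh.Ga X).obj
      ((W4c5etcohweilstudent.artinSchreierEndo X p hpp.out h0).hom.app (op W) s) = 0 :=
    (GrothendieckTopology.Point.toPresheafFiber_naturality_apply (Scheme.pointSmallEtale ξ)
      (W4c5etcohweilstudent.artinSchreierEndo X p hpp.out h0).hom W v s).symm.trans hz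
  obtain ⟨W', g, y, hy, h2⟩ := (GrothendieckTopology.Point.toPresheafFiber_eq_iff'
    (P := (EtCoh.Ga X).obj) (Scheme.pointSmallEtale ξ) W v _ 0).mp (hz'.trans (map_zero _).symm)
  let s' := gaVal (res (EtCoh.Ga X) g s)
  have hs' : s' ^ p = s' := by
    rw [← sub_eq_zero]
    have h3 := congrArg (gaVal (U := W')) h2
    rw [map_zero] at h3
    refine Eq.trans ?_ h3
    show _ = g.left.appTop ((gaVal s) ^ p - gaVal s)
    rw [map_sub, map_pow]
    rfl
  let y' : Over.mk ξ ⟶ (Scheme.Etale.forget X).obj W' := y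
  let u : W'.left := y'.left (default : ↥(Spec (CommRingCat.of Ω)))
  obtain ⟨V, huV, m, hm⟩ := exists_local_int p s' hs' (natCast_gaVal p h0 W') u
  let W'' : X.Etale := MorphismProperty.Over.mk ⊤ (V.ι ≫ W'.hom)
    (haveI : Etale W'.hom := W'.prop; (inferInstance : Etale (V.ι ≫ W'.hom)))
  let j : W'' ⟶ W' := MorphismProperty.Over.homMk V.ι rfl
  have hV : ∀ t : ↥(Spec (CommRingCat.of Ω)), y'.left t ∈ V := fun t => by
    rw [Subsingleton.elim t (default : ↥(Spec (CommRingCat.of Ω)))]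
    exact huV
  let y'' : (Scheme.pointSmallEtale ξ).fiber.obj W'' :=
    (Over.homMk (IsOpenImmersion.lift V.ι y'.left (by
      rintro _ ⟨t, rfl⟩
      exact ⟨⟨_, hV t⟩, rfl⟩)) (by
      show _ ≫ V.ι ≫ W'.hom = ξ
      rw [IsOpenImmersion.lift_fac_assoc]
      exact Over.w y') : Over.mk ξ ⟶ (Scheme.Etale.forget X).obj W'')
  have hj : (Scheme.pointSmallEtale ξ).fiber.map j y'' = y :=
    Over.OverMorphism.ext (IsOpenImmersion.lift_fac _ _ _)
  refine ⟨EtCons.constGerm (ZMod p) ξ (m : ZMod p), ?_⟩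
  refine ((GrothendieckTopology.Point.toPresheafFiber_naturality_apply (Scheme.pointSmallEtale ξ)
    (asι p h0).hom (EtCoh.top X) (EtCons.ptTop ξ) _).trans
      (congrArg _ (constHom_cst (ZMod p) (EtCoh.Ga X) (asConst p h0) _))).trans ?_
  have e1 : (Scheme.pointSmallEtale ξ).fiber.map (EtMV.toTop W'') y'' = EtCons.ptTop ξ := by
    refine Over.OverMorphism.ext ?_
    show (y'' : Over.mk ξ ⟶ (Scheme.Etale.forget X).obj W'').left ≫ W''.hom = ξ
    exact Over.w (y'' : Over.mk ξ ⟶ (Scheme.Etale.forget X).obj W'')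
  rw [← hy, ← hj, ← e1]
  refine (GrothendieckTopology.Point.toPresheafFiber_w_apply _ _ _ _ _).symm.trans ?_
  refine Eq.trans ?_ ((GrothendieckTopology.Point.toPresheafFiber_w_apply _ _ _ _ _).trans
    (GrothendieckTopology.Point.toPresheafFiber_w_apply _ _ _ _ _))
  refine congrArg _ ?_
  show res (EtCoh.Ga X) (EtMV.toTop W'') (asConst p h0 (m : ZMod p)) = res (EtCoh.Ga X) j (res (EtCoh.Ga X) g s)
  refine congrArg ULift.up ?_
  show gaVal (res (EtCoh.Ga X) (EtMV.toTop W'') (asConst p h0 (m : ZMod p))) = V.ι.appTop s'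
  rw [gaVal_asConst]
  have e2 : V.topIso.hom (V.ι.appTop s') = W'.left.presheaf.map (homOfLE (le_top (a := V))).op s' := by
    rw [← ConcreteCategory.comp_apply]
    congr 2
    simp only [Scheme.Opens.ι_appTop, Scheme.Opens.topIso_hom, ← Functor.map_comp]
    rfl
  apply (ConcreteCategory.bijective_of_isIso V.topIso.hom).1
  rw [e2, hm, map_intCast]

/-- positive degree cohomology of `ℤ/p` vanishes from degree two on an affine scheme of characteristic `p` -/
theorem subsingleton_H_zmod_of_isAffine [IsAffine X] (h0 : (p : Γ(X, ⊤)) = 0) (q : ℕ) (hq : 2 ≤ q) :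
    Subsingleton (EtCoh.H X (EtCoh.const X (ZMod p)) q) := by
  obtain ⟨n, rfl⟩ : ∃ n, q = n + 1 := ⟨q - 1, by omega⟩
  refine subsingleton_of_forall_eq 0 fun x => ?_
  obtain ⟨y, hy⟩ := Ext.covariant_sequence_exact₁ (EtCoh.const X ℤ) (as_shortExact p h0) x
    (@Subsingleton.elim (EtCoh.H X (EtCoh.Ga X) (n + 1)) (Groth.Agent.S0109.result X (n + 1) (by omega)) _ _)
    (n₀ := n) rfl
  rw [← hy, show y = 0 from
    @Subsingleton.elim (EtCoh.H X (EtCoh.Ga X) n) (Groth.Agent.S0109.result X n (by omega)) _ _, Ext.zero_comp]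

end Groth.Agent.EtPBC
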