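import Groth.Agent.EtPBC.FieldMu
import Groth.Agent.EtPBC.ArtinSchreier
import Groth.Agent.EtAcycX.KilledColim
import Groth.Agent.CiField.Basic
import Groth.Agent.S7736
import Mathlib.FieldTheory.Minpoly.Field

/-!
# Fields of cohomological `p`-dimension at most one
-/

set_option autoImplicit false
set_option backward.isDefEq.respectTransparency false
set_option backward.isDefEq.respectTransparency.types false
set_option linter.auxLemma false
set_option linter.style.haveILetI false

universe u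

open CategoryTheory CategoryTheory.Limits CategoryTheory.Abelian AlgebraicGeometry Opposite
open Groth.Agent.EtFLC (res res_res res_id)
open Groth.Agent.GalCohLib (pt ptMap)

noncomputable section

namespace Groth.Agent.EtPBC

attribute [local instance 100000] EtCoh.H._proof_1 EtMV.hext
attribute [local instance 200000] EtMV.hextAb

variable (p : ℕ) [hpp : Fact p.Prime]

/-- the `p`-torsion part vanishes in degree at least two -/
def CdOne (k : Type u) [Field k] : Prop :=
  ∀ (F : EtCoh.Ab (Spec (CommRingCat.of k))), EtCoh.IsTorsion F → ∀ q : ℕ, 1 < q →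
    ∀ x : EtCoh.H (Spec (CommRingCat.of k)) F q, (∃ m : ℕ, p ^ m • x = 0) → x = 0

theorem zmodAcyclic_of_normSurj (k : Type u) [Field k] (hp : (p : k) ≠ 0) (hN : NormSurj p k) (ζ : k)
    (hζ : IsPrimitiveRoot ζ p) : ZModAcyclic p k := by
  intro L _ _ _ _ q hq
  obtain ⟨m, rfl⟩ : ∃ m, q = m + 2 := ⟨q - 2, by omega⟩
  let X := Spec (CommRingCat.of L)
  have hpL : (p : L) ≠ 0 := by
    rw [← map_natCast (algebraMap k L)]
    exact (map_ne_zero (algebraMap k L)).2 hp
  let φ : k →+* Γ(X, ⊤) := (Scheme.ΓSpecIso (CommRingCat.of L)).inv.hom.comp (algebraMap k L)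
  have hunit : IsUnit (p : Γ(X, ⊤)) := by
    rw [← map_natCast φ]
    exact (IsUnit.mk0 _ hp).map φ
  have hcyc : Polynomial.aeval (φ ζ) (Polynomial.cyclotomic p ℤ) = 0 := by
    have h := hζ.isRoot_cyclotomic hpp.out.pos
    rw [Polynomial.IsRoot, ← Polynomial.map_cyclotomic_int, Polynomial.eval_map, ← algebraMap_int_eq,
      ← Polynomial.aeval_def] at h
    rw [show φ ζ = φ.toIntAlgHom ζ from rfl, Polynomial.aeval_algHom_apply, h, map_zero]
  obtain ⟨e⟩ := KummerLib.nonempty_mu_iso_const (X := X) (n := p) hpp.out.one_le hunit (φ ζ) hcyc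
  exact subsingleton_H_congr e.symm _ (subsingleton_H_mu p m L hpL (hN.ext L))

/-- **norm surjectivity gives `cd_p ≤ 1`** -/
theorem cdOne_of_normSurj (k : Type u) [Field k] (hp : (p : k) ≠ 0) (hN : NormSurj p k) : CdOne p k := by
  classical
  let Ω := SeparableClosure k
  haveI : NeZero ((p : Ω)) := ⟨by rw [← map_natCast (algebraMap k Ω)]; exact (map_ne_zero (algebraMap k Ω)).2 hp⟩
  have hsep : (Polynomial.cyclotomic p Ω).Separable := Polynomial.separable_cyclotomic p Ω
  obtain ⟨ζ, hζ⟩ := IsSepClosed.exists_root (Polynomial.cyclotomic p Ω)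
    (Polynomial.degree_cyclotomic_pos p Ω hpp.out.pos).ne' hsep
  let k₁ := IntermediateField.adjoin k ({ζ} : Set Ω)
  have hint : IsIntegral k ζ := Algebra.IsIntegral.isIntegral ζ
  haveI : FiniteDimensional k k₁ := IntermediateField.adjoin.finiteDimensional hint
  haveI : Algebra.IsSeparable k k₁ := Algebra.isSeparable_tower_bot_of_isSeparable k k₁ Ω
  have hdeg : ¬ p ∣ Module.finrank k k₁ := by
    have hne : (Polynomial.cyclotomic p k) ≠ 0 := Polynomial.cyclotomic_ne_zero p k
    have hr : Polynomial.aeval ζ (Polynomial.cyclotomic p k) = 0 := by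
      rw [Polynomial.aeval_def, ← Polynomial.eval_map, Polynomial.map_cyclotomic]
      exact hζ
    have h1 : Module.finrank k k₁ ≤ p - 1 := by
      rw [IntermediateField.adjoin.finrank hint]
      refine (Polynomial.natDegree_le_of_dvd (minpoly.dvd k ζ hr) hne).trans ?_
      rw [Polynomial.natDegree_cyclotomic, Nat.totient_prime hpp.out]
    intro hd
    have := Nat.le_of_dvd Module.finrank_pos hd
    have := hpp.out.two_le
    omega
  have hprim : IsPrimitiveRoot (⟨ζ, IntermediateField.mem_adjoin_simple_self k ζ⟩ : k₁) p := by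
    refine IsPrimitiveRoot.of_map_of_injective (f := algebraMap k₁ Ω) ?_ (algebraMap k₁ Ω).injective
    exact Polynomial.isRoot_cyclotomic_iff.1 hζ
  have hp₁ : (p : k₁) ≠ 0 := by
    rw [← map_natCast (algebraMap k k₁)]
    exact (map_ne_zero (algebraMap k k₁)).2 hp
  refine Groth.Agent.S7736.result k k₁ p hdeg 1 fun F hF q hq x hx => ?_
  exact eq_zero_of_zmodAcyclic p k₁ (zmodAcyclic_of_normSurj p k₁ hp₁ (hN.ext k₁) _ hprim) F hF q hq x hx

/-- **characteristic `p` fields have `cd_p ≤ 1`** -/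
theorem cdOne_of_charP (k : Type u) [Field k] [CharP k p] : CdOne p k := by
  intro F hF q hq x hx
  refine eq_zero_of_zmodAcyclic p k ?_ F hF q hq x hx
  intro L _ _ _ _ r hr
  refine subsingleton_H_zmod_of_isAffine p ?_ r hr
  have h : (p : L) = 0 := by rw [← map_natCast (algebraMap k L), CharP.cast_eq_zero, map_zero]
  rw [← map_natCast (Scheme.ΓSpecIso (CommRingCat.of L)).inv.hom, h, map_zero]

theorem isLTorsion_of_isPrimaryTorsion {X : Scheme.{u}} (F : EtCoh.Ab X) (hF : Dix.IsPrimaryTorsion p F) :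
    EtAcyc.IsLTorsion {p} F := by
  intro U s x
  obtain ⟨V, g, hv, m, hm⟩ := hF U s x
  exact ⟨V, g, p ^ m, hv, ⟨pow_pos hpp.out.pos m, fun r hr hd =>
    Set.mem_singleton_iff.2 ((Nat.prime_dvd_prime_iff_eq hr hpp.out).1 (hr.dvd_of_dvd_pow hd))⟩, hm⟩

/-- cohomology classes of primary torsion sheaves are primary torsion -/
theorem exists_pow_nsmul_eq_zero {X : Scheme.{u}} [CompactSpace X] [QuasiSeparatedSpace X] (F : EtCoh.Ab X)
    (hF : Dix.IsPrimaryTorsion p F) (q : ℕ) (x : EtCoh.H X F q) : ∃ m : ℕ, p ^ m • x = 0 := by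
  obtain ⟨hc⟩ := EtAcycX.nonempty_isColimit_kdCocone {p} F (isLTorsion_of_isPrimaryTorsion p F hF)
  haveI := EtColimH.preservesColimitsOfShape_HF (X := X) q (EtColimH.Expo.{u} (EtAcyc.PrimesIn {p}))
  obtain ⟨a, xa, rfl⟩ := Concrete.isColimit_exists_rep _ (isColimitOfPreserves (EtCoh.HF X q) hc) x
  obtain ⟨hpos, hprimes⟩ := a.down.down.2
  refine ⟨a.down.down.1.primeFactorsList.length, ?_⟩
  have hpow : a.down.down.1 = p ^ a.down.down.1.primeFactorsList.length :=
    Nat.eq_prime_pow_of_unique_prime_dvd hpos.ne' (fun {r} hr hd => hprimes r hr hd)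
  have h0 : a.down.down.1 • xa = 0 :=
    nsmul_eq_zero_of_killed _ _ (fun W s => EtAcycX.injective_app (kernel.ι (a.down.down.1 • 𝟙 F)) W
      ((map_nsmul _ _ _).trans ((EtColimH.nsmul_tor s).trans (map_zero _).symm))) q xa
  rw [← hpow]
  exact (map_nsmul _ _ xa).symm.trans ((congrArg _ h0).trans (map_zero _))

theorem cohDimLEAt_of_cdOne (k : Type u) [Field k] (h : CdOne p k) :
    Dix.CohDimLEAt (Spec (CommRingCat.of k)) p 1 := by
  intro F hF q hq
  refine subsingleton_of_forall_eq 0 fun x => h F ?_ q hq x (exists_pow_nsmul_eq_zero p F hF q x)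
  intro U s y
  obtain ⟨V, g, hv, m, hm⟩ := hF U s y
  exact ⟨V, g, hv, isOfFinAddOrder_iff_nsmul_eq_zero.2 ⟨p ^ m, pow_pos hpp.out.pos m, hm⟩⟩

omit hpp in
/-- a field of type `C₁` has surjective norms -/
theorem normSurj_of_isCi_one (k : Type u) [Field k] (hk : Curves.IsCi k 1) : NormSurj p k := by
  classical
  intro K _ _ _ _ L _ _ _ _ hdeg x hx
  have hK : Curves.IsCi K 1 := CiField.isCi_finite hk
  let b := Module.finBasisOfFinrankEq K L hdeg
  let A : Matrix (Fin p) (Fin p) (MvPolynomial (Fin (p + 1)) K) := Matrix.of fun i j =>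
    ∑ e : Fin p, MvPolynomial.C (Algebra.leftMulMatrix b (b e) i j) * MvPolynomial.X e.succ
  let f : MvPolynomial (Fin (p + 1)) K := A.det - MvPolynomial.C x * MvPolynomial.X 0 ^ p
  have hA : A.det.IsHomogeneous p := by
    rw [Matrix.det_apply']
    refine MvPolynomial.IsHomogeneous.sum _ _ _ fun σ _ => ?_
    have h1 : (∏ e, A (σ e) e).IsHomogeneous (∑ _e : Fin p, 1) :=
      MvPolynomial.IsHomogeneous.prod _ _ _ fun e _ => by
        show (∑ i : Fin p, MvPolynomial.C (Algebra.leftMulMatrix b (b i) (σ e) e) *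
          MvPolynomial.X (R := K) i.succ).IsHomogeneous 1
        exact MvPolynomial.IsHomogeneous.sum _ _ _ fun i _ => (MvPolynomial.isHomogeneous_X K i.succ).C_mul _
    simp only [Finset.sum_const, Finset.card_univ, Fintype.card_fin, smul_eq_mul, mul_one] at h1
    rw [← map_intCast (MvPolynomial.C : K →+* MvPolynomial (Fin (p + 1)) K)]
    exact h1.C_mul _
  have hf : f.IsHomogeneous p := hA.sub (((MvPolynomial.isHomogeneous_X K (0 : Fin (p + 1))).pow p).C_mul x |>
    fun h => by simpa using h)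
  have hp0 : 0 < p := hdeg ▸ Module.finrank_pos
  obtain ⟨a, ha, hfa⟩ := hK 1 (p + 1) (fun _ => f) (fun _ => p) (fun _ => hf) (fun _ => hp0) (by simp)
  let y : L := ∑ e : Fin p, a e.succ • b e
  have hy : Algebra.norm K y = x * a 0 ^ p := by
    have h0 := hfa 0
    simp only [f, map_sub, map_mul, map_pow, MvPolynomial.eval_C, MvPolynomial.eval_X, sub_eq_zero] at h0
    rw [← h0, Algebra.norm_eq_matrix_det b, RingHom.map_det]
    congr 1
    ext i j
    simp [A, y, map_sum, Matrix.sum_apply, mul_comm]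
  by_cases h0 : a 0 = 0
  · exfalso
    rw [h0, zero_pow hp0.ne', mul_zero, Algebra.norm_eq_zero_iff] at hy
    refine ha (funext fun i => Fin.cases h0 (fun e => ?_) i)
    exact Fintype.linearIndependent_iff.1 b.linearIndependent (fun e => a e.succ) hy e
  · refine ⟨algebraMap K L (a 0)⁻¹ * y, ?_⟩
    rw [map_mul, Algebra.norm_algebraMap, hy, hdeg, inv_pow]
    field_simp

/-- **fields of type `C₁` have `cd_p ≤ 1`** -/
theorem cohDimLEAt_of_isCi_one (k : Type u) [Field k] (hk : Curves.IsCi k 1) :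
    Dix.CohDimLEAt (Spec (CommRingCat.of k)) p 1 := by
  refine cohDimLEAt_of_cdOne p k ?_
  by_cases hp : (p : k) = 0
  · haveI : CharP k p := (CharP.charP_iff_prime_eq_zero hpp.out).2 hp
    exact cdOne_of_charP p k
  · exact cdOne_of_normSurj p k hp (normSurj_of_isCi_one p k hk)

/-- triviality of the `p`-part of `H²(·, 𝔾ₘ)` gives surjective norms -/
theorem exists_norm_eq_of_H2 {K : Type u} [Field K]
    (hB : ∀ x : EtCoh.H (Spec (CommRingCat.of K)) (EtCoh.Gm _) 2, (∃ m : ℕ, p ^ m • x = 0) → x = 0)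
    (L : Type u) [Field L] [Algebra K L] [FiniteDimensional K L] [IsGalois K L]
    (hdeg : Module.finrank K L = p) (x : K) (hx : x ≠ 0) : ∃ y : L, Algebra.norm K y = x := by
  classical
  obtain ⟨g, hg⟩ := exists_generator p K L hdeg
  let X := Spec (CommRingCat.of K)
  let C := cycCover K K L g hg
  let π' := (EtMV.P X).map C.π
  let d : (EtMV.P X).obj (pt K L) ⟶ kernel π' := kernel.lift π' C.dif C.dif_π
  haveI : Epi d := C.exact_middle.epi_kernelLift
  haveI := C.epi_π
  haveI := C.mono_tr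
  have wd : C.tr ≫ d = 0 := by
    rw [← cancel_mono (kernel.ι π'), Category.assoc, kernel.lift_ι, zero_comp, C.tr_dif]
  have hS2ex : (ShortComplex.mk C.tr d wd).Exact := by
    refine CycCover.exact_of_injective_test _ _ _ fun I _ φ hφ => ?_
    exact ⟨kernel.ι π' ≫ C.exact_left.descToInjective φ hφ,
      by rw [kernel.lift_ι_assoc]; exact C.exact_left.comp_descToInjective φ hφ⟩
  have hS2 : (ShortComplex.mk C.tr d wd).ShortExact := { exact := hS2ex }
  have hS1 : (ShortComplex.mk (kernel.ι π') π' (kernel.condition π')).ShortExact :=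
    { exact := ShortComplex.exact_of_f_is_kernel _ (kernelIsKernel π') }
  let u' : (EtMV.P X).obj (pt K K) ⟶ EtCoh.Gm X :=
    EtMV.σ.symm (uSect (k := K) K (Additive.ofMul (Units.mk0 x hx)))
  let b := hS2.extClass.comp (Ext.mk₀ u') (rfl : 1 + 0 = 1)
  let c := hS1.extClass.comp b (rfl : 1 + 1 = 2)
  have hc : c = 0 := by
    have h1 : (Ext.mk₀ π').comp c (zero_add 2) = 0 := hS1.comp_extClass_assoc _ _
    have h2 := GalCohLib.rel_card_nsmul_eq_zero K K L (EtCoh.Gm X) 2 c h1
    rw [Fintype.card_eq_nat_card, IsGalois.card_aut_eq_finrank, hdeg] at h2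
    haveI := GalCohLib.etale_spec K K
    haveI := EtMV.jcont_etale (Spec.map (CommRingCat.ofHom (algebraMap K K)))
    haveI := Groth.Agent.EtPullExact.pull_preservesFiniteLimits (Spec.map (CommRingCat.ofHom (algebraMap K K)))
    let Φ := EtMV.Φe (Spec.map (CommRingCat.ofHom (algebraMap K K))) (EtCoh.Gm X) 2
    let e := gmPullIso (Spec.map (CommRingCat.ofHom (algebraMap K K)))
    refine Φ.map_eq_zero_iff.mp ?_
    have h4 : Ext.comp (Φ c) (Ext.mk₀ e.hom) (add_zero 2) = 0 := by
      refine hB _ ⟨1, ?_⟩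
      rw [pow_one]
      show p • (Ext.mk₀ e.hom).postcomp _ (add_zero 2) (Φ c) = 0
      rw [← map_nsmul, ← map_nsmul, h2, map_zero, map_zero]
    have e1 : Ext.comp (Ext.comp (Φ c) (Ext.mk₀ e.hom) (add_zero 2)) (Ext.mk₀ e.inv) (add_zero 2) = Φ c := by
      rw [Ext.comp_assoc_of_second_deg_zero, Ext.mk₀_comp_mk₀, e.hom_inv_id, Ext.comp_mk₀_id]
    rw [← e1, h4, Ext.zero_comp]
  obtain ⟨b', hb'⟩ := Ext.contravariant_sequence_exact₁ hS1 (EtCoh.Gm X) b (n₁ := 2) rfl hc
  haveI := subsingleton_ext_Gm_one (k := K) L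
  have hb0 : b = 0 := by
    rw [← hb', show b' = 0 from @Subsingleton.elim _ (subsingleton_ext_Gm_one (k := K) L) b' 0]
    simp
  obtain ⟨z, hz⟩ := Ext.contravariant_sequence_exact₁ hS2 (EtCoh.Gm X) (Ext.mk₀ u') (n₁ := 1) rfl hb0
  obtain ⟨ψ, rfl⟩ := (Ext.mk₀_bijective _ _).2 z
  rw [Ext.mk₀_comp_mk₀] at hz
  have hψ : C.tr ≫ ψ = u' := (Ext.mk₀_bijective _ _).1 hz
  obtain ⟨a, ha⟩ := uSect_surjective (k := K) L (EtMV.σ ψ)
  refine ⟨((Additive.toMul a : Lˣ) : L), (algebraMap K L).injective ?_⟩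
  have h := congrArg (fun φ => res (EtCoh.Gm X) C.π (EtMV.σ φ)) hψ
  simp only [u', Equiv.apply_symm_apply] at h
  erw [C.res_π_σ_tr, ← ha] at h
  change _ = res (EtCoh.Gm X) (ptMap K K L) _ at h
  rw [res_uSect (algebraMap K L) (ptMap K K L) rfl] at h
  unfold CycCover.nsum at h
  have h1 : ∀ i, res (EtCoh.Gm _) (spow C.σ i) (uSect L a) =
      uSect L (Additive.ofMul (Units.map (g ^ i).toAlgHom.toRingHom.toMonoidHom (Additive.toMul a))) := by
    intro i
    rw [show spow C.σ i = galMap K K L (g ^ i) from spow_galMap K K L g i]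
    exact res_uSect _ _ rfl _
  erw [Finset.sum_congr rfl (fun i _ => h1 i)] at h
  rw [← map_sum, ← ofMul_prod] at h
  have h5 := congrArg (fun s => (Scheme.ΓSpecIso (CommRingCat.of L)).hom
    (((s : ULift.{u + 1} (Additive (Γ(Spec (CommRingCat.of L), ⊤))ˣ)).down).toMul : Γ(Spec (CommRingCat.of L), ⊤))) h
  change (Scheme.ΓSpecIso (CommRingCat.of L)).hom ((Scheme.ΓSpecIso (CommRingCat.of L)).inv
      ((∏ i ∈ Finset.range C.n, Units.map (g ^ i).toAlgHom.toRingHom.toMonoidHom (Additive.toMul a) : Lˣ) : L)) =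
    (Scheme.ΓSpecIso (CommRingCat.of L)).hom ((Scheme.ΓSpecIso (CommRingCat.of L)).inv (algebraMap K L x)) at h5
  rw [CategoryTheory.Iso.inv_hom_id_apply, CategoryTheory.Iso.inv_hom_id_apply] at h5
  rw [← h5, Units.coe_prod, Algebra.norm_eq_prod_automorphisms]
  symm
  refine Finset.prod_bij (fun i _ => g ^ i) (fun i _ => Finset.mem_univ _) ?_ ?_ (fun i _ => rfl)
  · exact fun i hi j hj e => pow_injOn_Iio_orderOf (Finset.mem_range.1 hi) (Finset.mem_range.1 hj) e
  · intro y _
    obtain ⟨i, rfl⟩ := mem_powers_iff_mem_zpowers.mpr (hg y)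
    exact ⟨i % orderOf g, Finset.mem_range.2 (Nat.mod_lt _ (orderOf_pos g)), pow_mod_orderOf g i⟩

end Groth.Agent.EtPBC
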