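import Groth.Agent.EtPBC.Curve
import Groth.Agent.EtPBC.FieldCd
import Groth.Agent.EtAcycX.GeomFib
import Groth.Agent.CiField.Basic
import Groth.Agent.S2680
import Groth.Agent.Unibranch.FibreDim
import Groth.Agent.AmpleDimOne.Top
import Mathlib

/-!
# Residue fields of curves over separably closed fields
-/

set_option autoImplicit false
set_option backward.isDefEq.respectTransparency false
set_option backward.isDefEq.respectTransparency.types false
set_option linter.auxLemma false
set_option linter.style.haveILetI false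

universe u

open CategoryTheory CategoryTheory.Limits AlgebraicGeometry Opposite TopologicalSpace IsLocalRing

noncomputable section

namespace Groth.Agent.EtPBC

attribute [local instance 100000] EtCoh.H._proof_1 EtMV.hext
attribute [local instance 200000] EtMV.hextAb

/-- pullback keeps primary torsion -/
theorem isPrimaryTorsion_pull {X Y : Scheme.{u}} (f : Y ⟶ X) {ℓ : ℕ} [hℓ : Fact ℓ.Prime] {F : EtCoh.Ab X}
    (hF : Dix.IsPrimaryTorsion ℓ F) : Dix.IsPrimaryTorsion ℓ ((EtCoh.pull f).obj F) := by
  intro U s x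
  obtain ⟨V, g, m, hx, hm, h0⟩ := EtAcycX.isLTorsion_pull f (isLTorsion_of_isPrimaryTorsion ℓ F hF) U s x
  refine ⟨V, g, hx, m.primeFactorsList.length, ?_⟩
  have h : m = ℓ ^ m.primeFactorsList.length := Nat.eq_prime_pow_of_unique_prime_dvd hm.1.ne'
    fun hp hd => Set.mem_singleton_iff.1 (hm.2 _ hp hd)
  rw [← h]
  exact h0

/-- `cd ≤ d` may be checked after a purely inseparable extension -/
theorem cohDimLEAt_of_isPurelyInseparable (K K' : Type u) [Field K] [Field K'] [Algebra K K']
    [IsPurelyInseparable K K'] {ℓ d : ℕ} [Fact ℓ.Prime]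
    (h : Dix.CohDimLEAt (Spec (CommRingCat.of K')) ℓ d) : Dix.CohDimLEAt (Spec (CommRingCat.of K)) ℓ d := by
  intro F hF q hq
  let i := Spec.map (CommRingCat.ofHom (algebraMap K K'))
  haveI := EtAcycX.universallyInjective_specMap K K'
  haveI : IsIntegralHom i := IsIntegralHom.SpecMap_iff.2 (algebraMap_isIntegral_iff.2 inferInstance)
  haveI : Surjective i := ⟨fun z => ⟨default, @Subsingleton.elim (Spec (CommRingCat.of K)) _ _ z⟩⟩
  exact subsingleton_H_of_univHomeo i F q (h _ (isPrimaryTorsion_pull i hF) q hq)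

/-- **fields of transcendence degree at most one over a separably closed field have `cd ≤ 1`** -/
theorem cohDimLEAt_of_trdeg_le_one (k K : Type u) [Field k] [IsSepClosed k] [Field K] [Algebra k K]
    {n : ℕ} (hn : Algebra.trdeg k K = n) (hn1 : n ≤ 1) (ℓ : ℕ) [Fact ℓ.Prime] :
    Dix.CohDimLEAt (Spec (CommRingCat.of K)) ℓ 1 := by
  let C := AlgebraicClosure K
  let k' : IntermediateField k C := algebraicClosure k C
  haveI : IsAlgClosed k' := by
    haveI : IsAlgClosure k k' := algebraicClosure.isAlgClosure k C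
    exact IsAlgClosure.isAlgClosed k
  let K' : IntermediateField K C := IntermediateField.adjoin K (k' : Set C)
  haveI : IsPurelyInseparable K K' := by
    rw [IntermediateField.isPurelyInseparable_adjoin_iff_pow_mem K C (ringExpChar K)]
    intro x hx
    haveI : IsPurelyInseparable k k' := by
      haveI : Algebra.IsAlgebraic k k' := algebraicClosure.isAlgebraic k C
      infer_instance
    obtain ⟨m, r, hr⟩ := IsPurelyInseparable.pow_mem k (ringExpChar k) (⟨x, hx⟩ : k')
    haveI : ExpChar K (ringExpChar k) := expChar_of_injective_algebraMap (algebraMap k K).injective _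
    refine ⟨m, algebraMap k K r, ?_⟩
    rw [ringExpChar.eq K (ringExpChar k), ← IsScalarTower.algebraMap_apply]
    exact congrArg Subtype.val hr
  refine cohDimLEAt_of_isPurelyInseparable K K' ?_
  letI : Algebra k' K' :=
    ((algebraMap k' C).codRestrict K'.toSubalgebra.toSubring
      fun x => IntermediateField.subset_adjoin K (k' : Set C) x.2).toAlgebra
  haveI : IsScalarTower k k' K' := IsScalarTower.of_algebraMap_eq fun x => Subtype.ext rfl
  haveI : FaithfulSMul k k' := (faithfulSMul_iff_algebraMap_injective _ _).2 (algebraMap k k').injective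
  haveI : FaithfulSMul k' K' := (faithfulSMul_iff_algebraMap_injective _ _).2 (algebraMap k' K').injective
  have e1 := trdeg_add_eq k k' (A := K')
  have e2 := trdeg_add_eq k K (A := K')
  haveI : Algebra.IsAlgebraic k k' := algebraicClosure.isAlgebraic k C
  haveI : Algebra.IsAlgebraic K K' := IsPurelyInseparable.isAlgebraic K K'
  rw [trdeg_eq_zero (R := k) (A := k'), zero_add, ← e2, hn, trdeg_eq_zero (R := K) (A := K'), add_zero] at e1
  exact cohDimLEAt_of_isCi_one (p := ℓ) K' (CiField.isCi_mono hn1 (CiField.isCi_of_trdeg e1))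

/-- the residue field at a point of an affine scheme of finite type of dimension at most one -/
theorem cohDimLEAt_residueField_Spec {k : Type u} [Field k] [IsSepClosed k] (A : Type u) [CommRing A] [Algebra k A]
    [Algebra.FiniteType k A] (hA : ringKrullDim A ≤ 1) (z : Spec (CommRingCat.of A)) (ℓ : ℕ) [Fact ℓ.Prime] :
    Dix.CohDimLEAt (Spec (CommRingCat.of z.asIdeal.ResidueField)) ℓ 1 := by
  obtain ⟨n, htr, hdim, -⟩ := Groth.Agent.S2680.result k (A ⧸ z.asIdeal)
  have hn1 : n ≤ 1 := by
    have h := hdim ▸ (ringKrullDim_quotient_le z.asIdeal).trans hA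
    exact_mod_cast h
  let e : FractionRing (A ⧸ z.asIdeal) ≃ₐ[A ⧸ z.asIdeal] z.asIdeal.ResidueField :=
    FractionRing.algEquiv (A ⧸ z.asIdeal) z.asIdeal.ResidueField
  have e' : FractionRing (A ⧸ z.asIdeal) ≃ₐ[k] z.asIdeal.ResidueField := e.restrictScalars k
  exact cohDimLEAt_of_trdeg_le_one k z.asIdeal.ResidueField (e'.trdeg_eq.symm.trans htr) hn1 ℓ

variable {k : Type u} [Field k] [IsSepClosed k] {X : Scheme.{u}} (c : X ⟶ Spec (CommRingCat.of k))
  [LocallyOfFiniteType c]

include c in
/-- a point has an affine neighbourhood of finite type over the field -/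
theorem exists_chart (x : X) : ∃ (A : Type u) (_ : CommRing A) (_ : Algebra k A) (_ : Algebra.FiniteType k A)
    (j : Spec (CommRingCat.of A) ⟶ X), IsOpenImmersion j ∧ x ∈ Set.range j := by
  obtain ⟨U, hU, hxU, -⟩ := exists_isAffineOpen_mem_and_subset (x := x) (U := (⊤ : X.Opens)) trivial
  let φ : CommRingCat.of k ⟶ Γ(X, U) := Spec.preimage (hU.fromSpec ≫ c)
  have hφ : LocallyOfFiniteType (Spec.map φ) := by rw [Spec.map_preimage]; infer_instance
  rw [HasRingHomProperty.Spec_iff (P := @LocallyOfFiniteType)] at hφ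
  letI := φ.hom.toAlgebra
  exact ⟨Γ(X, U), inferInstance, inferInstance, hφ, hU.fromSpec, inferInstance, by erw [hU.range_fromSpec]; exact hxU⟩

include c in
/-- closed points have separably closed residue fields -/
theorem isSepClosed_of_isClosed (x : X) (hx : IsClosed ({x} : Set X)) : IsSepClosed (X.residueField x) := by
  obtain ⟨A, _, _, _, j, hj, z, rfl⟩ := exists_chart c x
  have hz : IsClosed ({z} : Set (Spec (CommRingCat.of A))) := by
    have := hx.preimage j.continuous
    rwa [← Set.image_singleton, Set.preimage_image_eq _ j.isOpenEmbedding.injective] at this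
  haveI : z.asIdeal.IsMaximal := (PrimeSpectrum.isClosed_singleton_iff_isMaximal z).1 hz
  letI : Field (A ⧸ z.asIdeal) := Ideal.Quotient.field _
  haveI : Module.Finite k (A ⧸ z.asIdeal) := finite_of_finite_type_of_isJacobsonRing _ _
  haveI : Algebra.IsAlgebraic k (A ⧸ z.asIdeal) := inferInstance
  haveI : IsSepClosed (A ⧸ z.asIdeal) := Algebra.IsAlgebraic.isSepClosed (F := k)
  haveI : IsSepClosed z.asIdeal.ResidueField := Hensel.isSepClosed_of_ringEquiv
    (RingEquiv.ofBijective (algebraMap (A ⧸ z.asIdeal) z.asIdeal.ResidueField)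
      z.asIdeal.bijective_algebraMap_quotient_residueField)
  exact Hensel.isSepClosed_of_ringEquiv ((Scheme.Spec.residueFieldIso (CommRingCat.of A) z).symm ≪≫
    (asIso (j.residueFieldMap z)).symm).commRingCatIsoToRingEquiv

variable (hdim : topologicalKrullDim X ≤ 1)

include c hdim in
/-- residue fields have `cd ≤ 1` -/
theorem cohDimLEAt_residueField (x : X) (ℓ : ℕ) [Fact ℓ.Prime] :
    Dix.CohDimLEAt (Spec (X.residueField x)) ℓ 1 := by
  obtain ⟨A, _, _, _, j, hj, z, rfl⟩ := exists_chart c x
  have hA : ringKrullDim A ≤ 1 := by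
    rw [← PrimeSpectrum.topologicalKrullDim_eq_ringKrullDim]
    exact j.isOpenEmbedding.isInducing.topologicalKrullDim_le.trans hdim
  let e : CommRingCat.of z.asIdeal.ResidueField ≅ X.residueField (j z) :=
    (Scheme.Spec.residueFieldIso (CommRingCat.of A) z).symm ≪≫ (asIso (j.residueFieldMap z)).symm
  letI := e.inv.hom.toAlgebra
  haveI : IsPurelyInseparable (X.residueField (j z)) z.asIdeal.ResidueField :=
    isPurelyInseparable_iff_pow_mem _ (ringExpChar (X.residueField (j z))) |>.2 fun y =>
      ⟨0, e.hom y, (e.hom_inv_id_apply y).trans (by rw [pow_zero, pow_one])⟩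
  exact cohDimLEAt_of_isPurelyInseparable (X.residueField (j z)) z.asIdeal.ResidueField
    (cohDimLEAt_residueField_Spec (k := k) A hA z ℓ)

omit k

theorem topologicalKrullDim_le_of_finite {Y : Scheme.{u}} (b : X ⟶ Y) [IsFinite b]
    (hY : topologicalKrullDim Y ≤ 1) : topologicalKrullDim X ≤ 1 := by
  refine Unibranch.topologicalKrullDim_le_natCast (e := 1) fun n s hs => ?_
  by_contra hn
  push Not at hn
  have hne : ∀ a a' : X, a ⤳ a' → a ≠ a' → b a ≠ b a' := fun a a' h hne he => hne (by
    have hd := b.isDiscrete_preimage_singleton (b a)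
    haveI := hd.to_subtype
    have h' : (⟨a, rfl⟩ : b ⁻¹' {b a}) ⤳ ⟨a', he.symm⟩ := (subtype_specializes_iff _ _).2 h
    exact congrArg Subtype.val h'.eq)
  obtain ⟨h1, h1'⟩ := hs ⟨0, by omega⟩
  obtain ⟨h2, h2'⟩ := hs ⟨1, by omega⟩
  rcases AmpleDimOne.eq_or_eq_of_specializes hY (h1.map b.continuous) (h2.map b.continuous) with e | e
  · exact hne _ _ h1 h1' e
  · exact hne _ _ h2 h2' e

end Groth.Agent.EtPBC
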