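import Groth.Agent.EtPBC.LocSheaf
import Mathlib

/-!
# Killed sheaves on one-dimensional schemes have no cohomology above degree two
-/

set_option autoImplicit false
set_option backward.isDefEq.respectTransparency false
set_option backward.isDefEq.respectTransparency.types false
set_option linter.auxLemma false
set_option linter.style.haveILetI false

universe u

open CategoryTheory CategoryTheory.Limits CategoryTheory.Abelian AlgebraicGeometry Opposite TopologicalSpace

noncomputable section

namespace Groth.Agent.EtPBC

attribute [local instance 100000] EtCoh.H._proof_1 EtMV.hext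
attribute [local instance 200000] EtMV.hextAb

/-- on a space of dimension at most one, points which are not closed have no generalisations -/
theorem isMaxPt_of_not_closed {X : Scheme.{u}} (hdim : topologicalKrullDim X ≤ 1) {z : X}
    (hz : ¬ IsClosed ({z} : Set X)) : IsMaxPt z := by
  intro y hy
  by_contra hne
  obtain ⟨w, hw, hwz⟩ : ∃ w ∈ closure ({z} : Set X), w ≠ z := by
    by_contra h
    push_neg at h
    exact hz (closure_subset_iff_isClosed.1 fun w hw => h w hw)
  have hzw : z ⤳ w := specializes_iff_mem_closure.2 hw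
  let C : X → IrreducibleCloseds X := fun t => ⟨closure {t}, isIrreducible_singleton.closure, isClosed_closure⟩
  have hlt : ∀ a b : X, b ⤳ a → a ≠ b → C a < C b := fun a b hab hne => by
    refine lt_iff_le_not_ge.2 ⟨?_, fun h => hne ?_⟩
    · exact (specializes_iff_closure_subset.1 hab)
    · exact (hab.antisymm (specializes_iff_closure_subset.2 h)).symm.eq
  have h1 : C w < C z := hlt w z hzw hwz
  have h2 : C z < C y := hlt z y hy (Ne.symm hne)
  let p : LTSeries (IrreducibleCloseds X) :=
    ((RelSeries.singleton _ (C w)).snoc (C z) h1).snoc (C y) (by simpa using h2)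
  have hlen : p.length = 2 := rfl
  have hle : (p.length : WithBot ℕ∞) ≤ 1 := (Order.LTSeries.length_le_krullDim p).trans hdim
  rw [hlen] at hle
  exact absurd hle (by decide)

/-- points without generalisations give irreducible components -/
theorem closure_mem_irreducibleComponents {X : Scheme.{u}} {x : X} (hx : IsMaxPt x) :
    closure ({x} : Set X) ∈ irreducibleComponents (X : Type u) := by
  refine ⟨isIrreducible_singleton.closure, fun Z hZ hle => ?_⟩
  obtain ⟨η, hη⟩ := QuasiSober.sober hZ.closure isClosed_closure
  have hxη : η ⤳ x := by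
    rw [specializes_iff_mem_closure, hη.def]
    exact subset_closure (hle (subset_closure rfl))
  have he : η = x := hx η hxη
  intro z hz
  rw [← he, hη.def]
  exact subset_closure hz

variable (X : Scheme.{u}) [IsNoetherian X]

theorem finite_isMaxPt : {x : X | IsMaxPt x}.Finite := by
  refine Set.Finite.of_injOn (f := fun x => closure ({x} : Set X))
    (fun x hx => closure_mem_irreducibleComponents hx) (fun a ha b hb hab => ?_)
    TopologicalSpace.NoetherianSpace.finite_irreducibleComponents
  exact (hb a (specializes_iff_mem_closure.2 ((show closure ({a} : Set X) = closure {b} from hab) ▸ subset_closure rfl)))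

variable {X}
variable (hdim : topologicalKrullDim X ≤ 1)
  (hsep : ∀ x : X, IsClosed ({x} : Set X) → IsSepClosed (X.residueField x))
include hdim hsep

/-- one step at a maximal point: pushed forward sheaves -/
theorem subsingleton_H_push_loc {N : ℕ} {x : X} (hx : IsMaxPt x) (hk : KilledVan N (X.residueField x))
    (G : EtCoh.Ab (locScheme x)) (hG : Killed N G) (q : ℕ) (hq : 3 ≤ q) :
    Subsingleton (EtCoh.H X ((EtCoh.push (locι x)).obj G) q) := by
  haveI := Groth.Agent.EtPullExact.pull_preservesFiniteLimits (locι x)
  obtain ⟨n, rfl⟩ := Nat.exists_eq_add_of_le hq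
  rw [add_comm 3 n]
  refine subsingleton_H_push (locι x) G (isZero_rpush_killed hx hk G hG) (fun Q j hj p hp => ?_) n
    (fun p hp => subsingleton_H_locScheme hx hk G hG p hp)
  haveI := hj
  exact subsingleton_H_of_suppClosed hsep Q
    (fun z hz => zeroAt_of_mono j (zeroAt_rpush hx G 0 z (isMaxPt_of_not_closed hdim hz))) p hp

/-- dévissage along the finitely many maximal points -/
theorem subsingleton_H_of_killed_aux {N : ℕ} (hk : ∀ x : X, IsMaxPt x → KilledVan N (X.residueField x))
    (S : Finset X) : ∀ G : EtCoh.Ab X, Killed N G → (∀ z : X, ¬ IsClosed ({z} : Set X) → z ∉ S → ZeroAt G z) →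
    ∀ q : ℕ, 3 ≤ q → Subsingleton (EtCoh.H X G q) := by
  classical
  induction S using Finset.induction with
  | empty => exact fun G _ hG q hq => subsingleton_H_of_suppClosed hsep G (fun z hz => hG z hz (Finset.notMem_empty z)) q (by omega)
  | @insert x S hxS ih =>
    intro G hGN hG q hq
    by_cases hxc : IsClosed ({x} : Set X)
    · exact ih G hGN (fun z hz hzS => hG z hz (by
        simp only [Finset.mem_insert, not_or]
        exact ⟨fun h => hz (h ▸ hxc), hzS⟩)) q hq
    have hx : IsMaxPt x := isMaxPt_of_not_closed hdim hxc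
    let j : locScheme x ⟶ X := locι x
    let u : G ⟶ (EtCoh.push j).obj ((EtCoh.pull j).obj G) := (EtCoh.pullPushAdj j).unit.app G
    obtain ⟨Ω, _, _, ξ, hξ, hb⟩ := bijective_stalk_unit_loc hx G
    have hPk : Killed N ((EtCoh.push j).obj ((EtCoh.pull j).obj G)) := killed_push j (killed_pull j hGN)
    haveI hK : Subsingleton (EtCoh.H X (kernel u) q) := by
      refine ih _ (killed_of_mono (kernel.ι u) hGN) (fun z hz hzS => ?_) q hq
      by_cases hzx : z = x
      · subst hzx
        exact zeroAt_kernel hξ u hb.1
      · exact zeroAt_of_mono (kernel.ι u) (hG z hz (by simp [hzx, hzS]))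
    have hC : SuppClosed (cokernel u) := fun z hz => by
      by_cases hzx : z = x
      · subst hzx
        exact zeroAt_cokernel hξ u hb.2
      · exact zeroAt_of_epi (cokernel.π u) (zeroAt_push hx _ z (isMaxPt_of_not_closed hdim hz) hzx)
    let I := cokernel (kernel.ι u)
    let p : G ⟶ I := cokernel.π (kernel.ι u)
    let v : I ⟶ (EtCoh.push j).obj ((EtCoh.pull j).obj G) := cokernel.desc _ u (kernel.condition u)
    haveI : Mono v := (ShortComplex.exact_iff_mono_cokernel_desc
      (ShortComplex.mk (kernel.ι u) u (kernel.condition u))).1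
      (ShortComplex.exact_of_f_is_kernel _ (kernelIsKernel u))
    have hA : (ShortComplex.mk (kernel.ι u) p (cokernel.condition _)).ShortExact :=
      { exact := ShortComplex.exact_of_g_is_cokernel _ (cokernelIsCokernel _) }
    have hB : (ShortComplex.mk v (cokernel.π v) (cokernel.condition v)).ShortExact :=
      { exact := ShortComplex.exact_of_g_is_cokernel _ (cokernelIsCokernel _) }
    have hCv : SuppClosed (cokernel v) := fun z hz => by
      have hw : u ≫ cokernel.π v = 0 := by
        rw [← cokernel.π_desc (kernel.ι u) u (kernel.condition u), Category.assoc]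
        exact (congrArg (p ≫ ·) (cokernel.condition v)).trans comp_zero
      haveI : Epi (cokernel.desc u (cokernel.π v) hw) :=
        epi_of_epi_fac (cokernel.π_desc u (cokernel.π v) hw)
      exact zeroAt_of_epi (cokernel.desc u (cokernel.π v) hw) (hC z hz)
    haveI hP := subsingleton_H_push_loc hdim hsep hx (hk x hx) _ (killed_pull j hGN) q hq
    have hI : ∀ c : EtCoh.H X I q, c = 0 := fun c => by
      obtain ⟨d, hd⟩ := Ext.covariant_sequence_exact₁ (EtCoh.const X ℤ) hB c
        (@Subsingleton.elim (EtCoh.H X ((EtCoh.push j).obj ((EtCoh.pull j).obj G)) q) hP _ _)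
        (n₀ := q - 1) (by omega)
      haveI := subsingleton_H_of_suppClosed hsep (cokernel v) hCv (q - 1) (by omega)
      rw [← hd, show d = 0 from @Subsingleton.elim (EtCoh.H X (cokernel v) (q - 1)) _ d 0, Ext.zero_comp]
    refine subsingleton_of_forall_eq 0 fun c => ?_
    obtain ⟨d, hd⟩ := Ext.covariant_sequence_exact₂ (EtCoh.const X ℤ) hA c (hI _)
    rw [← hd, show d = 0 from @Subsingleton.elim (EtCoh.H X (kernel u) q) hK d 0, Ext.zero_comp]

/-- **killed sheaves on curves have no cohomology above degree two** -/
theorem subsingleton_H_of_killed {N : ℕ} (hk : ∀ x : X, IsMaxPt x → KilledVan N (X.residueField x))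
    (G : EtCoh.Ab X) (hG : Killed N G) (q : ℕ) (hq : 3 ≤ q) : Subsingleton (EtCoh.H X G q) :=
  subsingleton_H_of_killed_aux hdim hsep hk (finite_isMaxPt X).toFinset G hG
    (fun z hz hzS => absurd ((finite_isMaxPt X).mem_toFinset.2 (isMaxPt_of_not_closed hdim hz)) hzS) q hq

/-- the same for composite exponents -/
theorem subsingleton_H_of_killed_of_cd : ∀ N : ℕ, 0 < N →
    (∀ x : X, IsMaxPt x → ∀ ℓ : ℕ, ℓ.Prime → ℓ ∣ N → Dix.CohDimLEAt (Spec (X.residueField x)) ℓ 1) →
    ∀ G : EtCoh.Ab X, Killed N G → ∀ q : ℕ, 3 ≤ q → Subsingleton (EtCoh.H X G q) := by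
  intro N
  induction N using Nat.strong_induction_on with
  | _ N ih =>
    intro hN hcd G hG q hq
    rcases Nat.lt_or_ge N 2 with h1 | h2
    · refine subsingleton_H_of_isZero (IsZero.iff_id_eq_zero _ |>.2 ?_) q
      obtain rfl : N = 1 := by omega
      simpa using (killed_iff 1 G).1 hG
    obtain ⟨ℓ, hℓ, hℓN⟩ := Nat.exists_prime_and_dvd (show N ≠ 1 by omega)
    obtain ⟨M, rfl⟩ := hℓN
    have hM : 0 < M := Nat.pos_of_mul_pos_left hN
    let m : G ⟶ G := ℓ • 𝟙 G
    have hA : (ShortComplex.mk (kernel.ι m) (cokernel.π (kernel.ι m)) (cokernel.condition _)).ShortExact :=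
      { exact := ShortComplex.exact_of_g_is_cokernel _ (cokernelIsCokernel _) }
    have hK : Killed ℓ (kernel m) := (killed_iff _ _).2 (by
      rw [← cancel_mono (kernel.ι m), zero_comp, Preadditive.nsmul_comp, Category.id_comp,
        ← Category.comp_id (kernel.ι m), ← Preadditive.comp_nsmul]
      exact kernel.condition m)
    have hI : Killed M (cokernel (kernel.ι m)) := by
      let v : cokernel (kernel.ι m) ⟶ G := cokernel.desc _ m (kernel.condition m)
      haveI : Mono v := (ShortComplex.exact_iff_mono_cokernel_desc
        (ShortComplex.mk (kernel.ι m) m (kernel.condition m))).1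
        (ShortComplex.exact_of_f_is_kernel _ (kernelIsKernel m))
      refine (killed_iff _ _).2 ?_
      rw [← cancel_mono v, zero_comp, Preadditive.nsmul_comp, Category.id_comp,
        ← cancel_epi (cokernel.π (kernel.ι m)), comp_zero, Preadditive.comp_nsmul, cokernel.π_desc]
      show M • ℓ • 𝟙 G = 0
      rw [← mul_nsmul']
      rw [mul_comm]
      exact (killed_iff _ _).1 hG
    have hS : Subsingleton (EtCoh.H X (kernel m) q) := by
      refine subsingleton_H_of_killed hdim hsep (N := ℓ) (fun x hx => ?_) _ hK q hq
      have := killedVan_of_cohDimLEAt (X.residueField x) (hcd x hx ℓ hℓ (dvd_mul_right ℓ M)) 1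
      rwa [pow_one] at this
    have hQ : Subsingleton (EtCoh.H X (cokernel (kernel.ι m)) q) :=
      ih M (by nlinarith [hℓ.two_le]) hM (fun x hx r hr hd => hcd x hx r hr (hd.mul_left ℓ)) _ hI q hq
    refine subsingleton_of_forall_eq 0 fun c => ?_
    obtain ⟨d, hd⟩ := Ext.covariant_sequence_exact₂ (EtCoh.const X ℤ) hA c
      (@Subsingleton.elim (EtCoh.H X (cokernel (kernel.ι m)) q) hQ _ _)
    rw [← hd, show d = 0 from @Subsingleton.elim (EtCoh.H X (kernel m) q) hS d 0, Ext.zero_comp]

end Groth.Agent.EtPBC
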