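import Groth.Agent.EtPBC.CdPush
import Groth.Agent.EtPBC.CdFibre
import Groth.Agent.EtPBC.Curve
import Groth.Agent.P1FinClopen
import Groth.Agent.HQProj.Basic
import Groth.Agent.ProjOverIso.Basic
import Groth.Agent.S10829
import Mathlib

/-!
# Products of projective lines as models of affine spaces
-/

set_option autoImplicit false
set_option backward.isDefEq.respectTransparency false
set_option backward.isDefEq.respectTransparency.types false
set_option linter.auxLemma false
set_option linter.style.haveILetI false
set_option linter.unusedSectionVars false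
set_option maxHeartbeats 1000000

universe u

open CategoryTheory CategoryTheory.Limits CategoryTheory.Abelian AlgebraicGeometry Opposite

noncomputable section

namespace Groth.Agent.EtPBC

attribute [local instance 100000] EtCoh.H._proof_1 EtMV.hext
attribute [local instance 200000] EtMV.hextAb
attribute [local instance] HQProj.isProper_toBase

variable {k : Type u} [Field k] [IsSepClosed k] {X : Scheme.{u}}

theorem isNoetherian_of_field (c : X ⟶ Spec (CommRingCat.of k)) [LocallyOfFiniteType c] [QuasiCompact c] :
    IsNoetherian X := by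
  haveI := LocallyOfFiniteType.isLocallyNoetherian c
  haveI : CompactSpace X := QuasiCompact.compactSpace_of_compactSpace c
  exact ⟨⟩

/-- curves over separably closed fields have cohomological dimension at most two -/
theorem kVan_curve (c : X ⟶ Spec (CommRingCat.of k)) [LocallyOfFiniteType c] [QuasiCompact c]
    (hdim : topologicalKrullDim X ≤ 1) : KVan X 2 := by
  haveI := isNoetherian_of_field c
  intro m hm F hF q hq
  exact subsingleton_H_of_killed_of_cd hdim (isSepClosed_of_isClosed c) m hm
    (fun x _ ℓ hℓ _ => haveI := Fact.mk hℓ; cohDimLEAt_residueField c hdim x ℓ) F hF q hq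

/-- on the spectrum of a separably closed field -/
theorem kVan_point : KVan (Spec (CommRingCat.of k)) 0 := fun _ _ F _ q hq =>
  subsingleton_H_of_suppClosed (isSepClosed_of_isClosed (𝟙 (Spec (CommRingCat.of k)))) F
    (fun x hx => absurd (isClosed_discrete _) hx) q hq

/-- the projective line over a separably closed field -/
theorem kVan_line {Ω : Type u} [Field Ω] [IsSepClosed Ω] :
    KVan (CohB1.ProjSpaceOver 1 (Spec (CommRingCat.of Ω))) 2 := by
  refine kVan_curve (CohB1.ProjSpaceOver.toBase 1 _) ?_
  obtain ⟨e, -⟩ := ProjOverIso.exists_iso 1 Ω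
  exact e.hom.isOpenEmbedding.isInducing.topologicalKrullDim_le.trans (Groth.Agent.S10829.result Ω 1).le

/-- the projective line over a base raises the bound by two -/
theorem KVan.line {Q : Scheme.{u}} {d : ℕ} (h : KVan Q d) : KVan (CohB1.ProjSpaceOver 1 Q) (d + 2) := by
  intro m hm F hF n hn
  refine subsingleton_H_of_Rpush (CohB1.ProjSpaceOver.toBase 1 Q) hm (h m hm) 2 F hF (fun q hq => ?_) n (by omega)
  refine isZero_of_isZero_stalks _ fun Ω _ _ ξ => ?_
  refine isZero_stalk_Rpush _ F (isLTorsion_univ_of_killed hm hF) ξ q ?_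
  let e := (P1FinClopen.toP1_pullbackSquare ξ).isoPullback
  haveI := EtPullExact.pull_preservesFiniteLimits e.hom
  have hb := bijective_Hpull_of_isIso e.hom
    ((EtCoh.pull (pullback.fst (CohB1.ProjSpaceOver.toBase 1 Q) ξ)).obj F) q
  haveI := kVan_line (Ω := Ω) m hm _ (killed_pull e.hom (killed_pull (pullback.fst _ ξ) hF)) q hq
  exact hb.1.subsingleton

open Groth.Agent.REqP1 in
theorem chartOverEquiv_includeRight (A : Type u) [CommRing A] [Algebra P1.R0.{u} A] (a : A) :
    chartOverEquiv A ((Algebra.TensorProduct.includeRight : A →ₐ[P1.R0.{u}] ChartOver A) a) = Polynomial.C a := by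
  simp [chartOverEquiv, Polynomial.smul_eq_C_mul]

open Groth.Agent.REqP1 in
/-- affine spaces map quasi-finitely to proper schemes of small cohomological dimension -/
theorem exists_model : ∀ d : ℕ, ∃ (Q : Scheme.{u}) (b : Q ⟶ Spec (CommRingCat.of k)) (_ : IsProper b)
    (J : Spec (CommRingCat.of (MvPolynomial (Fin d) k)) ⟶ Q) (_ : LocallyQuasiFinite J),
    J ≫ b = Spec.map (CommRingCat.ofHom (algebraMap k (MvPolynomial (Fin d) k))) ∧ KVan Q (2 * d)
  | 0 => by
    haveI : IsFinite (Spec.map (CommRingCat.ofHom (algebraMap k (MvPolynomial (Fin 0) k)))) := by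
      refine (IsFinite.SpecMap_iff _).2 (RingHom.finite_algebraMap.2 ?_)
      exact Module.Finite.equiv (MvPolynomial.isEmptyAlgEquiv k (Fin 0)).symm.toLinearEquiv
    exact ⟨Spec (CommRingCat.of k), 𝟙 _, inferInstance, Spec.map (CommRingCat.ofHom (algebraMap k _)), inferInstance,
      Category.comp_id _, kVan_point⟩
  | d + 1 => by
    obtain ⟨Q, b, hb, J, hJ, hJb, hQ⟩ := exists_model d
    let B := MvPolynomial (Fin d) k
    letI : Algebra P1.R0.{u} B := ((Int.castRingHom B).comp ULift.ringEquiv.toRingHom).toAlgebra
    let e : ChartOver B ≃+* MvPolynomial (Fin (d + 1)) k :=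
      (chartOverEquiv B).trans (MvPolynomial.finSuccEquiv k d).symm.toRingEquiv
    let φ : CommRingCat.of (ChartOver B) ⟶ CommRingCat.of (MvPolynomial (Fin (d + 1)) k) := e.toCommRingCatIso.hom
    haveI : LocallyQuasiFinite (P1.toP1 J) :=
      MorphismProperty.of_isPullback (P := @LocallyQuasiFinite) (P1FinClopen.toP1_pullbackSquare J).flip hJ
    refine ⟨CohB1.ProjSpaceOver 1 Q, CohB1.ProjSpaceOver.toBase 1 Q ≫ b, inferInstance,
      Spec.map φ ≫ chartOver B 0 ≫ P1.toP1 J, inferInstance, ?_, ?_⟩
    · rw [Category.assoc, Category.assoc, reassoc_of% (P1FinClopen.toP1_pullbackSquare J).w, hJb,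
        reassoc_of% (chartOver_toBase B 0), ← Spec.map_comp, ← Spec.map_comp]
      congr 1
      refine CommRingCat.hom_ext (RingHom.ext fun c => ?_)
      show e (Algebra.TensorProduct.includeRight (R := P1.R0.{u}) (algebraMap k B c)) = _
      show (MvPolynomial.finSuccEquiv k d).symm (chartOverEquiv B _) = _
      rw [chartOverEquiv_includeRight]
      exact (MvPolynomial.finSuccEquiv k d).symm.commutes c
    · exact (show 2 * d + 2 = 2 * (d + 1) by ring) ▸ hQ.line

end Groth.Agent.EtPBC
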