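import Groth.Agent.EtPBC.StalkZero
import Groth.Agent.EtPushStalk.Basic
import Groth.Agent.EtPushStalk.Lift
import Groth.Agent.EtMV.HofPush
import Groth.Agent.EtMV.StrictZero
import Groth.Agent.EtMV.NormalIrr
import Groth.Agent.EtIntegral.Push
import Groth.Agent.EtColimH.Main
import Groth.Agent.EtCons.IndCons
import Groth.Agent.EtPullExact.Basic
import Groth.Agent.Hensel.Henselization
import Mathlib

/-!
# Sheaves supported at closed points with separably closed residue fields are acyclic
-/

set_option autoImplicit false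
set_option backward.isDefEq.respectTransparency false
set_option backward.isDefEq.respectTransparency.types false
set_option linter.auxLemma false
set_option linter.style.haveILetI false

universe u

open CategoryTheory CategoryTheory.Limits CategoryTheory.Abelian AlgebraicGeometry Opposite TopologicalSpace
open Groth.Agent.EtFLC (res res_res res_id)

noncomputable section

namespace Groth.Agent.EtPBC

attribute [local instance 100000] EtCoh.H._proof_1 EtMV.hext
attribute [local instance 200000] EtMV.hextAb

variable {X Y : Scheme.{u}}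

/-- the stalk of the unit is bijective as soon as the stalk of the direct image injects -/
theorem bijective_stalk_unit (f : Y ⟶ X) (F : EtCoh.Ab X) {Ω : Type u} [Field Ω] [IsSepClosed Ω]
    (ζ : Spec (CommRingCat.of Ω) ⟶ Y)
    (h : Function.Injective (EtPushStalk.stalkPushHom f ζ ((EtCoh.pull f).obj F))) :
    Function.Bijective ((EtCoh.stalk (ζ ≫ f)).map ((EtCoh.pullPushAdj f).unit.app F)) := by
  have e := EtPushStalk.stalkPullIso_hom_eq f ζ F
  have hb : Function.Bijective (EtPushStalk.stalkPushHom f ζ ((EtCoh.pull f).obj F) ∘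
      (EtCoh.stalk (ζ ≫ f)).map ((EtCoh.pullPushAdj f).unit.app F)) := by
    have h1 : Function.Bijective ((EtCoh.stalk (ζ ≫ f)).map ((EtCoh.pullPushAdj f).unit.app F) ≫
        EtPushStalk.stalkPushHom f ζ ((EtCoh.pull f).obj F)) := by
      rw [← e]
      exact (ConcreteCategory.isIso_iff_bijective _).1 inferInstance
    exact h1
  refine ⟨hb.1.of_comp, fun y => ?_⟩
  obtain ⟨z, hz⟩ := hb.2 (EtPushStalk.stalkPushHom f ζ ((EtCoh.pull f).obj F) y)
  exact ⟨z, h hz⟩

theorem bijective_stalk_unit_at (f : Y ⟶ X) (hf : EtPushStalk.LiftProp f) [IsImmersion f] (F : EtCoh.Ab X) (y : Y)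
    {x : X} (hx : f y = x) :
    ∃ (Ω : Type u) (_ : Field Ω) (_ : IsSepClosed Ω) (ξ : Spec (CommRingCat.of Ω) ⟶ X),
      ξ (default : ↥(Spec (CommRingCat.of Ω))) = x ∧
      Function.Bijective ((EtCoh.stalk ξ).map ((EtCoh.pullPushAdj f).unit.app F)) := by
  obtain ⟨Ω, _, _, ζ, hζ⟩ := exists_geomPt y
  refine ⟨Ω, inferInstance, inferInstance, ζ ≫ f, ?_, bijective_stalk_unit f F ζ
    (EtPushStalk.bijective_stalkPushHom ζ _ hf).1⟩
  subst hζ hx
  rfl

theorem zeroAt_pull (f : Y ⟶ X) (F : EtCoh.Ab X) (y : Y) (h : ZeroAt F (f y)) :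
    ZeroAt ((EtCoh.pull f).obj F) y := by
  obtain ⟨Ω, _, _, ζ, hζ⟩ := exists_geomPt y
  rw [← isZero_stalk_iff_zeroAt hζ]
  refine IsZero.of_iso ?_ ((EtStalk.stalkPullIso f ζ).app F).symm
  refine (isZero_stalk_iff_zeroAt ?_ F).2 h
  subst hζ
  rfl

theorem subsingleton_H_of_isZero {G : EtCoh.Ab X} (h : IsZero G) (n : ℕ) : Subsingleton (EtCoh.H X G n) := by
  refine subsingleton_of_forall_eq 0 fun x => ?_
  rw [← Ext.comp_mk₀_id x, h.eq_of_src (𝟙 G) 0, Ext.mk₀_zero, Ext.comp_zero]

theorem etale_eq_of_specializes {V : X.Etale} {a b : V.left} (h : a ⤳ b) (he : V.hom a = V.hom b) : a = b := by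
  haveI : Etale V.hom := V.prop
  haveI := EtMV.lqf_of_etale V.hom
  have hd := V.hom.isDiscrete_preimage_singleton (V.hom b)
  rw [isDiscrete_iff_discreteTopology] at hd
  have hab : (⟨a, he⟩ : ↥(V.hom ⁻¹' {V.hom b})) ⤳ ⟨b, rfl⟩ :=
    Topology.IsInducing.subtypeVal.specializes_iff.1 h
  exact congrArg Subtype.val hab.eq

/-- sheaves supported on finitely many closed points -/
theorem subsingleton_H_of_finite_supp (q : ℕ) (hq : 0 < q) (S : Finset X) (hS : ∀ x ∈ S, IsClosed ({x} : Set X))
    (hsep : ∀ x ∈ S, IsSepClosed (X.residueField x)) :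
    ∀ G : EtCoh.Ab X, (∀ x, x ∉ S → ZeroAt G x) → Subsingleton (EtCoh.H X G q) := by
  classical
  induction S using Finset.induction with
  | empty => exact fun G hG => subsingleton_H_of_isZero (isZero_of_zeroAt G fun x => hG x (Finset.notMem_empty x)) q
  | @insert x S hxS ih =>
    intro G hG
    let i : Spec (X.residueField x) ⟶ X := X.fromSpecResidueField x
    haveI : IsClosedImmersion i := (isClosed_singleton_iff_isClosedImmersion).1 (hS x (Finset.mem_insert_self x S))
    haveI := hsep x (Finset.mem_insert_self x S)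
    haveI := Groth.Agent.EtPullExact.pull_preservesFiniteLimits i
    let u := (EtCoh.pullPushAdj i).unit.app G
    have hrange : ∀ y, i y = x := fun y => Scheme.fromSpecResidueField_apply x y
    have hx : ∀ y, y ≠ x → ZeroAt ((EtCoh.push i).obj ((EtCoh.pull i).obj G)) y := by
      intro y hy V s v hv
      refine (EtSect.mem_iff _ s v).2 ?_
      haveI : Etale V.hom := V.prop
      let W₀ : V.left.Opens := ⟨V.hom ⁻¹' {x}ᶜ, ((hS x (Finset.mem_insert_self x S)).isOpen_compl).preimage V.hom.continuous⟩
      let W : X.Etale := MorphismProperty.Over.mk ⊤ (W₀.ι ≫ V.hom) (inferInstance : Etale (W₀.ι ≫ V.hom))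
      let g : W ⟶ V := MorphismProperty.Over.homMk W₀.ι rfl
      refine ⟨W, g, ⟨⟨v, fun h => hy (hv.symm.trans h)⟩, rfl⟩, ?_⟩
      refine EtFLC.sect_ext ((EtCoh.pull i).obj G) (V := (EtCoh.bc i).obj W) fun z => ?_
      exfalso
      let w : W₀ := pullback.fst W.hom i z
      have hc := congrArg (fun m : pullback W.hom i ⟶ X => m z) (pullback.condition (f := W.hom) (g := i))
      exact w.2 (hc.trans (hrange _))
    have hbij : ∀ y, y = x → ∃ (Ω : Type u) (_ : Field Ω) (_ : IsSepClosed Ω) (ξ : Spec (CommRingCat.of Ω) ⟶ X),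
        ξ (default : ↥(Spec (CommRingCat.of Ω))) = y ∧ Function.Bijective ((EtCoh.stalk ξ).map u) := fun y hy =>
      bijective_stalk_unit_at i (EtPushStalk.liftProp_of_closedImmersion i) G default ((hrange _).trans hy.symm)
    haveI : Epi u := by
      refine Preadditive.epi_of_isZero_cokernel u (isZero_of_zeroAt _ fun y => ?_)
      by_cases hy : y = x
      · obtain ⟨Ω, _, _, ξ, hξ, hb⟩ := hbij y hy
        exact zeroAt_cokernel hξ u hb.2
      · exact zeroAt_of_epi (cokernel.π u) (hx y hy)
    haveI hK : Subsingleton (EtCoh.H X (kernel u) q) := by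
      refine ih (fun y hy => hS y (Finset.mem_insert_of_mem hy)) (fun y hy => hsep y (Finset.mem_insert_of_mem hy)) _
        fun y hy => ?_
      by_cases hyx : y = x
      · obtain ⟨Ω, _, _, ξ, hξ, hb⟩ := hbij y hyx
        exact zeroAt_kernel hξ u hb.1
      · exact zeroAt_of_mono (kernel.ι u) (hG y (by simp [hyx, hy]))
    haveI hP : Subsingleton (EtCoh.H X ((EtCoh.push i).obj ((EtCoh.pull i).obj G)) q) := by
      have hb := EtMV.HofPush_bijective i ((EtCoh.pull i).obj G)
        (fun n => EtIntegral.Rpush_succ_isZero i ((EtCoh.pull i).obj G) n) q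
      haveI := EtMV.subsingleton_H_of_closedPoints (S := Spec (X.residueField x))
        (fun s => by
          rw [show ({s} : Set (Spec (X.residueField x))) = Set.univ from
            Set.eq_univ_of_forall fun t => @Subsingleton.elim ↥(Spec (X.residueField x)) _ t s]
          exact isClosed_univ)
        (fun s => by
          haveI : s.asIdeal.IsMaximal := by
            rw [(Ideal.eq_bot_or_top s.asIdeal).resolve_right s.isPrime.ne_top]
            exact Ring.isField_iff_maximal_bot.1 (Field.toIsField _)
          exact Hensel.isSepClosed_of_ringEquiv ((RingEquiv.ofBijective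
            (algebraMap (X.residueField x) s.asIdeal.ResidueField)
            ⟨RingHom.injective _, s.asIdeal.algebraMap_residueField_surjective⟩).trans
            (Scheme.Spec.residueFieldIso (X.residueField x) s).symm.commRingCatIsoToRingEquiv)) ((EtCoh.pull i).obj G) q hq
      exact hb.1.subsingleton
    have hS' : (ShortComplex.mk (kernel.ι u) u (kernel.condition u)).ShortExact :=
      { exact := ShortComplex.exact_of_f_is_kernel _ (kernelIsKernel u) }
    refine subsingleton_of_forall_eq 0 fun c => ?_
    obtain ⟨d, hd⟩ := Ext.covariant_sequence_exact₂ (EtCoh.const X ℤ) hS' c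
      (@Subsingleton.elim (EtCoh.H X ((EtCoh.push i).obj ((EtCoh.pull i).obj G)) q) hP _ _)
    rw [← hd, show d = 0 from @Subsingleton.elim (EtCoh.H X (kernel u) q) hK d 0, Ext.zero_comp]


/-! ### the colimit over finite sets of closed points -/

section Colim

variable (X) in
/-- finite sets of closed points -/
def FinClosed : Type u := {S : Finset X // ∀ x ∈ S, IsClosed ({x} : Set X)}

/-- index of the colimit -/
def Supps (X : Scheme.{u}) : Type (u + 1) := ULift.{u + 1} (FinClosed X)

instance : Preorder (Supps X) where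
  le a b := a.down.1 ⊆ b.down.1
  le_refl a := Finset.Subset.refl _
  le_trans a b c := Finset.Subset.trans

instance : Nonempty (Supps X) := ⟨⟨⟨∅, fun _ h => absurd h (Finset.notMem_empty _)⟩⟩⟩

instance : IsDirectedOrder (Supps X) :=
  haveI := Classical.decEq X
  ⟨fun a b => ⟨⟨⟨a.down.1 ∪ b.down.1, fun x hx => (Finset.mem_union.1 hx).elim (a.down.2 x) (b.down.2 x)⟩⟩,
    Finset.subset_union_left, Finset.subset_union_right⟩⟩

/-- the complement of a finite set of closed points -/
def compl (a : Supps X) : X.Opens :=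
  ⟨(↑a.down.1 : Set X)ᶜ, by
    refine IsClosed.isOpen_compl (self := ?_)
    rw [← Set.biUnion_of_singleton (↑a.down.1 : Set X)]
    exact Set.Finite.isClosed_biUnion a.down.1.finite_toSet fun x hx => a.down.2 x hx⟩

variable (G : EtCoh.Ab X)

/-- restriction to the complement -/
def suppUnit (a : Supps X) : G ⟶ (EtCoh.push (compl a).ι).obj ((EtCoh.pull (compl a).ι).obj G) :=
  (EtCoh.pullPushAdj (compl a).ι).unit.app G

theorem zeroAt_suppKernel (a : Supps X) (x : X) (hx : x ∉ a.down.1) : ZeroAt (kernel (suppUnit G a)) x := by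
  obtain ⟨Ω, _, _, ξ, hξ, hb⟩ := bijective_stalk_unit_at (compl a).ι
    (EtPushStalk.liftProp_of_openImmersion (compl a).ι) G
    ⟨x, show x ∈ (compl a : Set X) from hx⟩ (x := x) rfl
  exact zeroAt_kernel hξ _ hb.1

theorem suppKernel_comp {a b : Supps X} (h : a ≤ b) : kernel.ι (suppUnit G a) ≫ suppUnit G b = 0 := by
  apply ((EtCoh.pullPushAdj (compl b).ι).homEquiv _ _).symm.injective
  have h0 : IsZero ((EtCoh.pull (compl b).ι).obj (kernel (suppUnit G a))) :=
    isZero_of_zeroAt _ fun y => zeroAt_pull _ _ y (zeroAt_suppKernel G a _ fun hy => y.2 (h hy))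
  exact h0.eq_of_src _ _

/-- sections supported on finite sets of closed points -/
def suppDiag : Supps X ⥤ EtCoh.Ab X where
  obj a := kernel (suppUnit G a)
  map {a b} h := kernel.lift _ (kernel.ι (suppUnit G a)) (suppKernel_comp G h.le)
  map_id a := equalizer.hom_ext (by simp)
  map_comp h h' := equalizer.hom_ext (by simp)

/-- the inclusions -/
def suppCocone : Cocone (suppDiag G) where
  pt := G
  ι := { app := fun a => kernel.ι (suppUnit G a)
         naturality := fun a b h => by simp [suppDiag] }

theorem finite_of_all_closed {T : Type*} [TopologicalSpace T] [NoetherianSpace T] [QuasiSober T]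
    (C : Set T) (hC : IsClosed C) (h : ∀ c ∈ C, ∀ d ∈ C, c ⤳ d → c = d) : C.Finite := by
  haveI : NoetherianSpace C := NoetherianSpace.set C
  haveI : QuasiSober C := hC.isClosedEmbedding_subtypeVal.quasiSober
  have hfin : (irreducibleComponents C).Finite := NoetherianSpace.finite_irreducibleComponents
  have hsub : ∀ K ∈ irreducibleComponents C, K.Subsingleton := by
    intro K hK c hc d hd
    obtain ⟨g, hg⟩ := QuasiSober.sober hK.1 (isClosed_of_mem_irreducibleComponents K hK)
    have hs : ∀ e ∈ K, g = e := fun e he => Subtype.ext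
      (h g.1 g.2 e.1 e.2 ((hg.specializes he).map continuous_subtype_val))
    exact (hs c hc).symm.trans (hs d hd)
  have : Finite C := Set.finite_univ_iff.1 (by
    rw [← sUnion_irreducibleComponents]
    exact Set.Finite.sUnion hfin fun K hK => (hsub K hK).finite)
  exact Set.toFinite C

theorem nonempty_isColimit_suppCocone [IsNoetherian X] (hG : SuppClosed G) :
    Nonempty (IsColimit (suppCocone G)) := by
  classical
  refine EtCons.nonempty_isColimit_of_sections _ (fun V t v => ?_) (fun V a s hs v => ?_)
  · haveI : Etale V.hom := V.prop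
    obtain ⟨W₀, hW₀, hv, -⟩ := exists_isAffineOpen_mem_and_subset (U := (⊤ : V.left.Opens)) (x := v) trivial
    let W : X.Etale := MorphismProperty.Over.mk ⊤ (W₀.ι ≫ V.hom) (inferInstance : Etale (W₀.ι ≫ V.hom))
    let g : W ⟶ V := MorphismProperty.Over.homMk W₀.ι rfl
    haveI : Etale W.hom := W.prop
    haveI : IsAffine W.left := hW₀
    haveI : IsLocallyNoetherian W.left :=
      @LocallyOfFiniteType.isLocallyNoetherian W.left X W.hom inferInstance inferInstance
    haveI : IsNoetherian W.left := {}
    let t' := res G g t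
    let C := EtShriek.sectSupp G W t'
    have hcl : ∀ c ∈ C, IsClosed ({W.hom c} : Set X) := fun c hc => by
      by_contra h
      exact hG _ h W t' c rfl hc
    have hfin : C.Finite := finite_of_all_closed C (EtSect.isClosed_sectSupp _ _) fun c hc d hd hcd =>
      etale_eq_of_specializes hcd
        ((hcl c hc).stableUnderSpecialization (hcd.map W.hom.continuous) rfl).symm
    let a : Supps X := ⟨⟨hfin.toFinset.image (fun c => W.hom c), fun x hx => by
      obtain ⟨c, hc, rfl⟩ := Finset.mem_image.1 hx
      exact hcl c (hfin.mem_toFinset.1 hc)⟩⟩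
    have h0 : (suppUnit G a).hom.app (op W) t' = 0 := by
      refine (EtPushStalk.unit_eq_zero_iff (compl a).ι G W t').2 ?_
      rintro _ ⟨z, rfl⟩ hz
      have h1 : W.hom (pullback.fst W.hom (compl a).ι z) ∈ (compl a : Set X) := by
        have hc := congrArg (fun m : pullback W.hom (compl a).ι ⟶ X => m z)
          (pullback.condition (f := W.hom) (g := (compl a).ι))
        rw [show W.hom (pullback.fst W.hom (compl a).ι z) =
          (compl a).ι (pullback.snd W.hom (compl a).ι z) from hc]
        exact (pullback.snd W.hom (compl a).ι z).2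
      exact h1 (Finset.mem_image.2 ⟨_, hfin.mem_toFinset.2 hz, rfl⟩)
    obtain ⟨r, hr⟩ := EtFLC.exists_kernel_sect (suppUnit G a) t' h0
    exact ⟨W, g, ⟨⟨v, hv⟩, rfl⟩, a, r, hr⟩
  · refine ⟨V, 𝟙 V, ⟨v, rfl⟩, a, 𝟙 a, ?_⟩
    haveI : Mono (kernel.ι (suppUnit G a)).hom := (sheafToPresheaf _ _).map_mono (kernel.ι (suppUnit G a))
    have h0 : s = 0 := (AddCommGrpCat.mono_iff_injective _).1
      (inferInstance : Mono ((kernel.ι (suppUnit G a)).hom.app (op V))) (hs.trans (map_zero _).symm)
    subst h0
    simp

/-- **skyscraper sheaves are acyclic** -/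
theorem subsingleton_H_of_suppClosed [IsNoetherian X]
    (hsep : ∀ x : X, IsClosed ({x} : Set X) → IsSepClosed (X.residueField x))
    (G : EtCoh.Ab X) (hG : SuppClosed G) (q : ℕ) (hq : 0 < q) : Subsingleton (EtCoh.H X G q) := by
  classical
  obtain ⟨hc⟩ := nonempty_isColimit_suppCocone G hG
  haveI := EtColimH.preservesColimitsOfShape_HF (X := X) q (Supps X)
  refine subsingleton_of_forall_eq 0 fun c => ?_
  obtain ⟨a, ca, rfl⟩ := Concrete.isColimit_exists_rep _ (isColimitOfPreserves (EtCoh.HF X q) hc) c
  haveI := subsingleton_H_of_finite_supp q hq a.down.1 a.down.2 (fun x hx => hsep x (a.down.2 x hx))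
    ((suppDiag G).obj a) (fun x hx => zeroAt_suppKernel G a x hx)
  rw [show ca = 0 from @Subsingleton.elim (EtCoh.H X ((suppDiag G).obj a) q) _ _ _]
  exact map_zero _

end Colim

end Groth.Agent.EtPBC
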