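import Groth.Agent.EtPBC.CdPush
import Groth.Agent.EtPBC.Skyscraper
import Mathlib

/-!
# Sheaves supported in a specialisation closed set, and in a closed subscheme
-/

set_option autoImplicit false
set_option backward.isDefEq.respectTransparency false
set_option backward.isDefEq.respectTransparency.types false
set_option linter.auxLemma false
set_option linter.style.haveILetI false
set_option linter.unusedSectionVars false
set_option maxHeartbeats 1000000

universe u

open CategoryTheory CategoryTheory.Limits CategoryTheory.Abelian AlgebraicGeometry Opposite TopologicalSpace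
open Groth.Agent.EtFLC (res res_res res_id)

noncomputable section

namespace Groth.Agent.EtPBC

attribute [local instance 100000] EtCoh.H._proof_1 EtMV.hext
attribute [local instance 200000] EtMV.hextAb

variable {X : Scheme.{u}}

/-- closed sets with all points satisfying a predicate -/
def ClosedSupps (P : X → Prop) : Type (u + 1) := ULift.{u + 1} {C : Closeds X // ∀ x ∈ C, P x}

variable (P : X → Prop)

instance : Preorder (ClosedSupps P) where
  le a b := (a.down.1 : Set X) ⊆ b.down.1
  le_refl a := Set.Subset.refl _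
  le_trans a b c := Set.Subset.trans

instance : Nonempty (ClosedSupps P) := ⟨⟨⟨⊥, fun x h => h.elim⟩⟩⟩

instance : IsDirectedOrder (ClosedSupps P) :=
  ⟨fun a b => ⟨⟨⟨a.down.1 ⊔ b.down.1, fun x hx => by
    rcases (show x ∈ (a.down.1 : Set X) ∪ b.down.1 from hx) with h | h
    exacts [a.down.2 x h, b.down.2 x h]⟩⟩, Set.subset_union_left, Set.subset_union_right⟩⟩

variable (G : EtCoh.Ab X)

/-- the complement -/
def ccompl (a : ClosedSupps P) : X.Opens := a.down.1.compl

/-- restriction to the complement -/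
def csuppUnit (a : ClosedSupps P) : G ⟶ (EtCoh.push (ccompl P a).ι).obj ((EtCoh.pull (ccompl P a).ι).obj G) :=
  (EtCoh.pullPushAdj (ccompl P a).ι).unit.app G

theorem zeroAt_csuppKernel (a : ClosedSupps P) (x : X) (hx : x ∉ a.down.1) : ZeroAt (kernel (csuppUnit P G a)) x := by
  obtain ⟨Ω, _, _, ξ, hξ, hb⟩ := bijective_stalk_unit_at (ccompl P a).ι
    (EtPushStalk.liftProp_of_openImmersion (ccompl P a).ι) G
    ⟨x, show x ∈ (ccompl P a : Set X) from hx⟩ (x := x) rfl
  exact zeroAt_kernel hξ _ hb.1

theorem csuppKernel_comp {a b : ClosedSupps P} (h : a ≤ b) :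
    kernel.ι (csuppUnit P G a) ≫ csuppUnit P G b = 0 := by
  apply ((EtCoh.pullPushAdj (ccompl P b).ι).homEquiv _ _).symm.injective
  have h0 : IsZero ((EtCoh.pull (ccompl P b).ι).obj (kernel (csuppUnit P G a))) :=
    isZero_of_zeroAt _ fun y => zeroAt_pull _ _ y (zeroAt_csuppKernel P G a _ fun hy => y.2 (h hy))
  exact h0.eq_of_src _ _

/-- sections supported in the closed sets -/
def csuppDiag : ClosedSupps P ⥤ EtCoh.Ab X where
  obj a := kernel (csuppUnit P G a)
  map {a b} h := kernel.lift _ (kernel.ι (csuppUnit P G a)) (csuppKernel_comp P G h.le)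
  map_id a := equalizer.hom_ext (by simp)
  map_comp h h' := equalizer.hom_ext (by simp)

/-- the inclusions -/
def csuppCocone : Cocone (csuppDiag P G) where
  pt := G
  ι := { app := fun a => kernel.ι (csuppUnit P G a)
         naturality := fun a b h => by simp [csuppDiag] }

variable {P}

theorem nonempty_isColimit_csuppCocone [IsNoetherian X] (hP : ∀ x y, x ⤳ y → P x → P y)
    (hG : ∀ x, ¬ P x → ZeroAt G x) : Nonempty (IsColimit (csuppCocone P G)) := by
  classical
  refine EtCons.nonempty_isColimit_of_sections _ (fun V t v => ?_) (fun V a s hs v => ?_)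
  · haveI : Etale V.hom := V.prop
    obtain ⟨W₀, hW₀, hv, -⟩ := exists_isAffineOpen_mem_and_subset (U := (⊤ : V.left.Opens)) (x := v) trivial
    let W : X.Etale := MorphismProperty.Over.mk ⊤ (W₀.ι ≫ V.hom) (inferInstance : Etale (W₀.ι ≫ V.hom))
    let g : W ⟶ V := MorphismProperty.Over.homMk W₀.ι rfl
    haveI : Etale W.hom := W.prop
    haveI : IsAffine W.left := hW₀
    haveI : IsLocallyNoetherian W.left :=
      @LocallyOfFiniteType.isLocallyNoetherian W.left X W.hom inferInstance inferInstance
    haveI : IsNoetherian W.left := {}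
    let t' := res G g t
    let C := EtShriek.sectSupp G W t'
    have hCc : IsClosed C := EtSect.isClosed_sectSupp _ _
    obtain ⟨S, hSf, hS1, hS2, hCe⟩ := NoetherianSpace.exists_finite_set_isClosed_irreducible hCc
    have hSc : ∀ K ∈ S, IsClosed K ∧ IsIrreducible K := fun K hK => ⟨hS1 K hK, hS2 K hK⟩
    let T : Set X := ⋃ K : {K // K ∈ S}, closure {W.hom (hSc K.1 K.2).2.genericPoint}
    haveI := hSf.to_subtype
    let a : ClosedSupps P := ⟨⟨⟨T, isClosed_iUnion_of_finite fun _ => isClosed_closure⟩, fun x hx => by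
      obtain ⟨K, hK⟩ := Set.mem_iUnion.1 hx
      refine hP _ _ (specializes_iff_mem_closure.2 hK) ?_
      by_contra hne
      have hη : (hSc K.1 K.2).2.genericPoint ∈ C := by
        rw [hCe]
        refine ⟨K.1, K.2, ?_⟩
        have := (hSc K.1 K.2).2.isGenericPoint_genericPoint_closure.mem
        rwa [(hSc K.1 K.2).1.closure_eq] at this
      exact hG _ hne W t' _ rfl hη⟩⟩
    have hmem : ∀ z ∈ C, W.hom z ∈ T := by
      intro z hz
      rw [hCe] at hz
      obtain ⟨K, hK, hzK⟩ := hz
      refine Set.mem_iUnion.2 ⟨⟨K, hK⟩, specializes_iff_mem_closure.1 ?_⟩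
      exact ((hSc K hK).2.isGenericPoint_genericPoint_closure.specializes (subset_closure hzK)).map W.hom.continuous
    have h0 : (csuppUnit P G a).hom.app (op W) t' = 0 := by
      refine (EtPushStalk.unit_eq_zero_iff (ccompl P a).ι G W t').2 ?_
      rintro _ ⟨z, rfl⟩ hz
      have h1 : W.hom (pullback.fst W.hom (ccompl P a).ι z) ∈ (ccompl P a : Set X) := by
        have hc := congrArg (fun m : pullback W.hom (ccompl P a).ι ⟶ X => m z)
          (pullback.condition (f := W.hom) (g := (ccompl P a).ι))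
        rw [show W.hom (pullback.fst W.hom (ccompl P a).ι z) =
          (ccompl P a).ι (pullback.snd W.hom (ccompl P a).ι z) from hc]
        exact (pullback.snd W.hom (ccompl P a).ι z).2
      exact h1 (hmem _ hz)
    obtain ⟨r, hr⟩ := EtFLC.exists_kernel_sect (csuppUnit P G a) t' h0
    exact ⟨W, g, ⟨⟨v, hv⟩, rfl⟩, a, r, hr⟩
  · refine ⟨V, 𝟙 V, ⟨v, rfl⟩, a, 𝟙 a, ?_⟩
    haveI : Mono (kernel.ι (csuppUnit P G a)).hom := (sheafToPresheaf _ _).map_mono (kernel.ι (csuppUnit P G a))
    have h0 : s = 0 := (AddCommGrpCat.mono_iff_injective _).1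
      (inferInstance : Mono ((kernel.ι (csuppUnit P G a)).hom.app (op V))) (hs.trans (map_zero _).symm)
    subst h0
    simp

/-- **reduction to closed supports** -/
theorem subsingleton_H_of_suppPred [IsNoetherian X] (hP : ∀ x y, x ⤳ y → P x → P y)
    (hG : ∀ x, ¬ P x → ZeroAt G x) (q : ℕ)
    (h : ∀ C : Closeds X, (∀ x ∈ C, P x) → ∀ (K : EtCoh.Ab X) (i : K ⟶ G), Mono i → (∀ x, x ∉ C → ZeroAt K x) →
      Subsingleton (EtCoh.H X K q)) : Subsingleton (EtCoh.H X G q) := by
  obtain ⟨hc⟩ := nonempty_isColimit_csuppCocone G hP hG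
  haveI := EtColimH.preservesColimitsOfShape_HF (X := X) q (ClosedSupps P)
  refine subsingleton_of_forall_eq 0 fun c => ?_
  obtain ⟨a, ca, rfl⟩ := Concrete.isColimit_exists_rep _ (isColimitOfPreserves (EtCoh.HF X q) hc) c
  haveI := h a.down.1 a.down.2 ((csuppDiag P G).obj a) (kernel.ι (csuppUnit P G a))
    (inferInstanceAs (Mono (kernel.ι (csuppUnit P G a)))) (fun x hx => zeroAt_csuppKernel P G a x hx)
  rw [show ca = 0 from @Subsingleton.elim (EtCoh.H X ((csuppDiag P G).obj a) q) _ _ _]
  exact map_zero _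

/-- a sheaf supported on the image of a closed immersion comes from it -/
theorem subsingleton_H_of_closedImmersion {Z : Scheme.{u}} (i : Z ⟶ X) [IsClosedImmersion i] (K : EtCoh.Ab X)
    {m : ℕ} (hm : 0 < m) (hK : Killed m K) (h0 : ∀ x, x ∉ Set.range i → ZeroAt K x) (q : ℕ)
    (h : Subsingleton (EtCoh.H Z ((EtCoh.pull i).obj K) q)) : Subsingleton (EtCoh.H X K q) := by
  let u : K ⟶ (EtCoh.push i).obj ((EtCoh.pull i).obj K) := (EtCoh.pullPushAdj i).unit.app K
  have hz : ∀ x, ZeroAt (kernel u) x ∧ ZeroAt (cokernel u) x := by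
    intro x
    by_cases hx : x ∈ Set.range i
    · obtain ⟨z, hz⟩ := hx
      obtain ⟨Ω, _, _, ξ, hξ, hb⟩ := bijective_stalk_unit_at i (EtPushStalk.liftProp_of_closedImmersion i) K z hz
      exact ⟨zeroAt_kernel hξ u hb.1, zeroAt_cokernel hξ u hb.2⟩
    · exact ⟨zeroAt_of_mono (kernel.ι u) (h0 x hx), zeroAt_of_epi (cokernel.π u)
        (zeroAt_push_of_zeroAt i _ (isLTorsion_univ_of_killed hm (killed_pull i hK)) x
          fun z hzx => absurd ⟨z, hzx⟩ hx)⟩
  haveI : Mono u := Preadditive.mono_of_isZero_kernel u (isZero_of_zeroAt _ fun z => (hz z).1)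
  haveI : Epi u := Preadditive.epi_of_isZero_cokernel u (isZero_of_zeroAt _ fun z => (hz z).2)
  haveI : IsIso u := isIso_of_mono_of_epi u
  exact subsingleton_H_of_iso (asIso u).symm q
    ((subsingleton_H_iff_push i _ (fun n => EtIntegral.Rpush_succ_isZero i _ n) q).2 h)

end Groth.Agent.EtPBC
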