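import Groth.Agent.EtPBC.FieldDescent
import Mathlib

/-!
# Cohomological dimension of extension fields (Tate)
-/

set_option autoImplicit false
set_option backward.isDefEq.respectTransparency false
set_option backward.isDefEq.respectTransparency.types false
set_option linter.auxLemma false
set_option linter.style.haveILetI false
set_option linter.unusedSectionVars false
set_option maxHeartbeats 1000000

universe u

open CategoryTheory CategoryTheory.Limits CategoryTheory.Abelian AlgebraicGeometry Opposite TensorProduct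

noncomputable section

namespace Groth.Agent.EtPBC

attribute [local instance 100000] EtCoh.H._proof_1 EtMV.hext
attribute [local instance 200000] EtMV.hextAb

variable {X : Scheme.{u}} {L : Set ℕ}

/-- composite exponents are handled prime by prime -/
theorem kVanOn_of_primes {d : ℕ} (h : ∀ ℓ ∈ L, ℓ.Prime → KVanOn {ℓ} X d) : KVanOn L X d := by
  intro N
  induction N using Nat.strong_induction_on with
  | _ N ih =>
    intro hN G hG q hq
    rcases Nat.lt_or_ge N 2 with h1 | h2
    · refine subsingleton_H_of_isZero (IsZero.iff_id_eq_zero _ |>.2 ?_) q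
      obtain rfl : N = 1 := by have := hN.1; omega
      simpa using (killed_iff 1 G).1 hG
    obtain ⟨ℓ, hℓ, hℓN⟩ := Nat.exists_prime_and_dvd (show N ≠ 1 by omega)
    have hℓL : ℓ ∈ L := hN.2 ℓ hℓ hℓN
    obtain ⟨M, rfl⟩ := hℓN
    have hM : 0 < M := Nat.pos_of_mul_pos_left hN.1
    have hM' : EtAcyc.PrimesIn L M := ⟨hM, fun p hp hd => hN.2 p hp (hd.mul_left ℓ)⟩
    let m : G ⟶ G := ℓ • 𝟙 G
    have hA : (ShortComplex.mk (kernel.ι m) (cokernel.π (kernel.ι m)) (cokernel.condition _)).ShortExact :=
      { exact := ShortComplex.exact_of_g_is_cokernel _ (cokernelIsCokernel _) }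
    have hK : Killed ℓ (kernel m) := (killed_iff _ _).2 (by
      rw [← cancel_mono (kernel.ι m), zero_comp, Preadditive.nsmul_comp, Category.id_comp,
        ← Category.comp_id (kernel.ι m), ← Preadditive.comp_nsmul]
      exact kernel.condition m)
    have hI : Killed M (cokernel (kernel.ι m)) := by
      let v : cokernel (kernel.ι m) ⟶ G := cokernel.desc _ m (kernel.condition m)
      haveI : Mono v := (ShortComplex.exact_iff_mono_cokernel_desc
        (ShortComplex.mk (kernel.ι m) m (kernel.condition m))).1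
        (ShortComplex.exact_of_f_is_kernel _ (kernelIsKernel m))
      refine (killed_iff _ _).2 ?_
      rw [← cancel_mono v, zero_comp, Preadditive.nsmul_comp, Category.id_comp,
        ← cancel_epi (cokernel.π (kernel.ι m)), comp_zero, Preadditive.comp_nsmul, cokernel.π_desc]
      show M • ℓ • 𝟙 G = 0
      rw [← mul_nsmul', mul_comm]
      exact (killed_iff _ _).1 hG
    have hS : Subsingleton (EtCoh.H X (kernel m) q) :=
      h ℓ hℓL hℓ ℓ ⟨hℓ.pos, fun p hp hd => (Nat.prime_dvd_prime_iff_eq hp hℓ).1 hd⟩ _ hK q hq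
    have hQ : Subsingleton (EtCoh.H X (cokernel (kernel.ι m)) q) :=
      ih M (by nlinarith [hℓ.two_le]) hM' _ hI q hq
    refine subsingleton_of_forall_eq 0 fun c => ?_
    obtain ⟨x, hx⟩ := Ext.covariant_sequence_exact₂ (EtCoh.const X ℤ) hA c
      (@Subsingleton.elim (EtCoh.H X (cokernel (kernel.ι m)) q) hQ _ _)
    rw [← hx, show x = 0 from @Subsingleton.elim (EtCoh.H X (kernel m) q) hS x 0, Ext.zero_comp]

variable {K : Type u} [Field K]

/-- the tensor product of the rational function field with a field is a domain -/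
theorem isDomain_fractionRing_tensor (Ω : Type u) [Field Ω] [Algebra K Ω] :
    IsDomain (FractionRing (Polynomial K) ⊗[K] Ω) := by
  let A := Polynomial K
  let L₀ := FractionRing A
  let B := FractionRing (Polynomial Ω)
  let f₁ : L₀ →ₐ[K] B := IsFractionRing.liftAlgHom (g :=
      (IsScalarTower.toAlgHom K (Polynomial Ω) B).comp (Polynomial.mapAlgHom (Algebra.ofId K Ω)))
    ((IsFractionRing.injective (Polynomial Ω) B).comp (Polynomial.map_injective _ (algebraMap K Ω).injective))
  let f₂ : Ω →ₐ[K] B := IsScalarTower.toAlgHom K Ω B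
  let ψ : L₀ ⊗[K] Ω →ₐ[K] B := Algebra.TensorProduct.productMap f₁ f₂
  have key : ∀ z : L₀ ⊗[K] Ω, ∃ (c : A) (p : A ⊗[K] Ω), c ≠ 0 ∧
      (algebraMap A L₀ c ⊗ₜ[K] (1 : Ω)) * z =
        Algebra.TensorProduct.map (IsScalarTower.toAlgHom K A L₀) (AlgHom.id K Ω) p := by
    intro z
    induction z with
    | zero => exact ⟨1, 0, one_ne_zero, by simp⟩
    | tmul l ω =>
      obtain ⟨⟨a, c⟩, h⟩ := IsLocalization.surj (nonZeroDivisors A) l
      refine ⟨c, a ⊗ₜ[K] ω, nonZeroDivisors.ne_zero c.2, ?_⟩
      simp [mul_comm (algebraMap A L₀ c) l, h]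
    | add z w hz hw =>
      obtain ⟨c, p, hc, hp⟩ := hz
      obtain ⟨c', p', hc', hp'⟩ := hw
      refine ⟨c * c', (c' ⊗ₜ[K] (1 : Ω)) * p + (c ⊗ₜ[K] (1 : Ω)) * p', mul_ne_zero hc hc', ?_⟩
      rw [map_add, map_mul (Algebra.TensorProduct.map _ _) _ p, map_mul (Algebra.TensorProduct.map _ _) _ p',
        ← hp, ← hp', Algebra.TensorProduct.map_tmul, Algebra.TensorProduct.map_tmul, ← mul_assoc, ← mul_assoc,
        Algebra.TensorProduct.tmul_mul_tmul, Algebra.TensorProduct.tmul_mul_tmul, mul_add]
      simp [mul_comm]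
  have hψ : Function.Injective ψ := by
    refine (injective_iff_map_eq_zero _).2 fun z hz => ?_
    obtain ⟨c, p, hc, hp⟩ := key z
    have h0 : ψ (Algebra.TensorProduct.map (IsScalarTower.toAlgHom K A L₀) (AlgHom.id K Ω) p) = 0 := by
      rw [← hp, map_mul, hz, mul_zero]
    have hcomp : ∀ p : A ⊗[K] Ω, ψ (Algebra.TensorProduct.map (IsScalarTower.toAlgHom K A L₀) (AlgHom.id K Ω) p) =
        algebraMap (Polynomial Ω) B ((polyEquivTensor K Ω).symm (Algebra.TensorProduct.comm K A Ω p)) := by
      intro p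
      induction p with
      | zero => simp
      | add p q hp hq => simp only [map_add, hp, hq]
      | tmul a ω =>
        simp [ψ, f₁, f₂, A, IsScalarTower.algebraMap_apply Ω (Polynomial Ω) B, Algebra.smul_def, mul_comm]
    rw [hcomp] at h0
    have hp0 : p = 0 := by
      have h1 := IsFractionRing.injective (Polynomial Ω) B (h0.trans (map_zero _).symm)
      exact (Algebra.TensorProduct.comm K A Ω).injective (((polyEquivTensor K Ω).symm.injective
        (h1.trans (map_zero _).symm)).trans (map_zero _).symm)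
    rw [hp0, map_zero] at hp
    have hu : IsUnit (algebraMap A L₀ c ⊗ₜ[K] (1 : Ω)) :=
      (isUnit_iff_ne_zero.2 (IsFractionRing.to_map_ne_zero_of_mem_nonZeroDivisors
        (mem_nonZeroDivisors_of_ne_zero hc))).map (Algebra.TensorProduct.includeLeft (R := K) (S := K) (B := Ω))
    exact hu.mul_right_eq_zero.1 hp
  exact hψ.isDomain ψ.toRingHom

/-- the field of rational functions -/
theorem kVanOn_fractionRing {e : ℕ} (hK : KVanOn L (Spec (CommRingCat.of K)) e) :
    KVanOn L (Spec (CommRingCat.of (FractionRing (Polynomial K)))) (1 + e) := by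
  let L₀ := FractionRing (Polynomial K)
  refine kVanOn_of_sepClosure (Spec.map (CommRingCat.ofHom (algebraMap K L₀))) hK fun Ω _ _ φ hφ => ?_
  letI : Algebra K Ω := φ.toAlgebra
  haveI : Algebra.IsIntegral K Ω := algebraMap_isIntegral_iff.1 hφ
  haveI := isDomain_fractionRing_tensor (K := K) Ω
  have hF : IsField (L₀ ⊗[K] Ω) :=
    isField_of_isIntegral_of_isField' (R := L₀) (Field.toIsField L₀)
  letI : Field (L₀ ⊗[K] Ω) := hF.toField
  refine KVanOn.of_isIntegralHom (Y := Spec (CommRingCat.of (L₀ ⊗[K] Ω))) (kVanOn_of_primes fun ℓ _ hℓ => ?_)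
    (pullbackSpecIso K L₀ Ω).hom
  haveI := Fact.mk hℓ
  refine kVanOn_of_cohDimLEAt ?_
  letI : Algebra Ω (L₀ ⊗[K] Ω) :=
    (Algebra.TensorProduct.includeRight (R := K) (A := L₀) (B := Ω)).toRingHom.toAlgebra
  haveI : IsScalarTower K Ω (L₀ ⊗[K] Ω) :=
    IsScalarTower.of_algebraMap_eq' (Algebra.TensorProduct.includeRight (R := K) (A := L₀) (B := Ω)).comp_algebraMap.symm
  haveI : FaithfulSMul K L₀ := (faithfulSMul_iff_algebraMap_injective _ _).2 (algebraMap K L₀).injective
  haveI : FaithfulSMul K Ω := (faithfulSMul_iff_algebraMap_injective _ _).2 (algebraMap K Ω).injective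
  haveI : FaithfulSMul L₀ (L₀ ⊗[K] Ω) :=
    (faithfulSMul_iff_algebraMap_injective _ _).2 (algebraMap L₀ (L₀ ⊗[K] Ω)).injective
  haveI : FaithfulSMul Ω (L₀ ⊗[K] Ω) :=
    (faithfulSMul_iff_algebraMap_injective _ _).2 (algebraMap Ω (L₀ ⊗[K] Ω)).injective
  haveI : Algebra.IsIntegral L₀ (L₀ ⊗[K] Ω) := inferInstance
  haveI : Algebra.IsAlgebraic L₀ (L₀ ⊗[K] Ω) := inferInstance
  haveI : Algebra.IsAlgebraic K Ω := inferInstance
  haveI : Algebra.IsAlgebraic (Polynomial K) L₀ := IsLocalization.isAlgebraic L₀ (nonZeroDivisors (Polynomial K))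
  haveI : FaithfulSMul K (Polynomial K) :=
    (faithfulSMul_iff_algebraMap_injective _ _).2 Polynomial.C_injective
  have e0 := trdeg_add_eq K (Polynomial K) (A := L₀)
  rw [Polynomial.trdeg_of_isDomain, trdeg_eq_zero (R := Polynomial K) (A := L₀), add_zero] at e0
  have e1 := trdeg_add_eq K L₀ (A := L₀ ⊗[K] Ω)
  have e2 := trdeg_add_eq K Ω (A := L₀ ⊗[K] Ω)
  rw [← e0, trdeg_eq_zero (R := L₀) (A := L₀ ⊗[K] Ω), add_zero] at e1
  rw [← e1, trdeg_eq_zero (R := K) (A := Ω), zero_add] at e2
  exact cohDimLEAt_of_trdeg_le_one Ω (L₀ ⊗[K] Ω) (n := 1) (by rw [e2, Nat.cast_one]) le_rfl ℓ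

/-- an algebraic extension does not raise the cohomological dimension -/
theorem kVanOn_of_isAlgebraic {e : ℕ} (hK : KVanOn L (Spec (CommRingCat.of K)) e) (F : Type u) [Field F] [Algebra K F]
    [Algebra.IsAlgebraic K F] : KVanOn L (Spec (CommRingCat.of F)) e := by
  haveI : IsIntegralHom (Spec.map (CommRingCat.ofHom (algebraMap K F))) :=
    IsIntegralHom.SpecMap_iff.2 (algebraMap_isIntegral_iff.2 (Algebra.isAlgebraic_iff_isIntegral.1 ‹_›))
  exact hK.of_isIntegralHom (Spec.map (CommRingCat.ofHom (algebraMap K F)))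

/-- **extensions of transcendence degree at most `n` raise it by at most `n`** -/
theorem kVanOn_of_trdeg_le : ∀ (n : ℕ) {K : Type u} [Field K] {e : ℕ}, KVanOn L (Spec (CommRingCat.of K)) e →
    ∀ (F : Type u) [Field F] [Algebra K F], Algebra.trdeg K F ≤ n → KVanOn L (Spec (CommRingCat.of F)) (e + n) := by
  intro n
  induction n with
  | zero =>
    intro K _ e hK F _ _ hn
    haveI : FaithfulSMul K F := (faithfulSMul_iff_algebraMap_injective _ _).2 (algebraMap K F).injective
    haveI : Algebra.IsAlgebraic K F := trdeg_eq_zero_iff.1 (nonpos_iff_eq_zero.1 (by simpa using hn))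
    exact kVanOn_of_isAlgebraic hK F
  | succ n ih =>
    intro K _ e hK F _ _ hn
    by_cases halg : Algebra.IsAlgebraic K F
    · exact (kVanOn_of_isAlgebraic hK F).mono (by omega)
    obtain ⟨t, ht⟩ : ∃ t : F, Transcendental K t := by
      simpa [Algebra.isAlgebraic_def, Transcendental] using halg
    have hinj : Function.Injective (Polynomial.aeval (R := K) t) := transcendental_iff_injective.1 ht
    let L₀ := FractionRing (Polynomial K)
    let g : L₀ →ₐ[K] F := IsFractionRing.liftAlgHom hinj
    letI : Algebra L₀ F := g.toRingHom.toAlgebra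
    haveI : IsScalarTower K L₀ F := IsScalarTower.of_algebraMap_eq fun x => (g.commutes x).symm
    haveI : FaithfulSMul K L₀ := (faithfulSMul_iff_algebraMap_injective _ _).2 (algebraMap K L₀).injective
    haveI : FaithfulSMul L₀ F := (faithfulSMul_iff_algebraMap_injective _ _).2 (algebraMap L₀ F).injective
    haveI : Algebra.IsAlgebraic (Polynomial K) L₀ := IsLocalization.isAlgebraic L₀ (nonZeroDivisors (Polynomial K))
    haveI : FaithfulSMul K (Polynomial K) :=
      (faithfulSMul_iff_algebraMap_injective _ _).2 Polynomial.C_injective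
    have e0 := trdeg_add_eq K (Polynomial K) (A := L₀)
    rw [Polynomial.trdeg_of_isDomain, trdeg_eq_zero (R := Polynomial K) (A := L₀), add_zero] at e0
    have e1 := trdeg_add_eq K L₀ (A := F)
    rw [← e0] at e1
    have hn' : Algebra.trdeg L₀ F ≤ n := by
      have h2 : Algebra.trdeg L₀ F + 1 ≤ (n : Cardinal) + 1 := by
        rw [add_comm (Algebra.trdeg L₀ F) 1, e1]
        exact_mod_cast hn
      exact Cardinal.add_le_add_iff_of_lt_aleph0 Cardinal.one_lt_aleph0 |>.1 h2
    exact (ih (kVanOn_fractionRing hK) F hn').mono (by omega)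

end Groth.Agent.EtPBC
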