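import Groth.Agent.EtPBC.CdTrdeg
import Groth.Agent.EtPBC.CdSupport
import Groth.Agent.EtPBC.CdLeray
import Groth.Agent.EtPBC.CdModel
import Groth.Agent.EtPBC.FieldTrdeg
import Mathlib

/-!
# Finite type schemes of dimension `n` over separably closed fields have cohomological dimension at most `2n`
-/

set_option autoImplicit false
set_option backward.isDefEq.respectTransparency false
set_option backward.isDefEq.respectTransparency.types false
set_option linter.auxLemma false
set_option linter.style.haveILetI false
set_option linter.unusedSectionVars false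
set_option maxHeartbeats 1000000

universe u

open CategoryTheory CategoryTheory.Limits CategoryTheory.Abelian AlgebraicGeometry Opposite TopologicalSpace

noncomputable section

namespace Groth.Agent.EtPBC

attribute [local instance 100000] EtCoh.H._proof_1 EtMV.hext
attribute [local instance 200000] EtMV.hextAb

variable {k : Type u} [Field k] [IsSepClosed k]

/-- residue fields -/
theorem kVan_residueField {X : Scheme.{u}} (c : X ⟶ Spec (CommRingCat.of k)) (x : X) {n : ℕ} (h : ResDim c x n) :
    KVan (Spec (X.residueField x)) n := by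
  letI : Algebra k (X.residueField x) := (kStr c x).toAlgebra
  exact ((kVanOn_of_trdeg_le (L := Set.univ) n ((kVan_point (k := k)).on Set.univ) (X.residueField x) h).mono
    (by omega)).univ

/-- all points closed -/
theorem kVan_resDim_zero {X : Scheme.{u}} (c : X ⟶ Spec (CommRingCat.of k)) [LocallyOfFiniteType c] [QuasiCompact c]
    (h : ∀ x, ResDim c x 0) : KVan X 0 := by
  haveI := isNoetherian_of_field c
  have hcl : ∀ x : X, IsClosed ({x} : Set X) := fun x => closure_subset_iff_isClosed.1 fun y hy => by
    by_contra hne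
    have h1 := trdg_lt_of_specializes c (specializes_iff_mem_closure.2 hy) (Ne.symm hne)
    exact (lt_irrefl (0 : Cardinal.{u})) (lt_of_le_of_lt zero_le (h1.trans_le (by simpa [ResDim] using h x)))
  exact fun m hm F hF q hq =>
    subsingleton_H_of_suppClosed (fun x hx => isSepClosed_of_isClosed c x hx) F (fun x hx => absurd (hcl x) hx) q hq

/-- the induction hypothesis -/
def BoundUpTo (k : Type u) [Field k] (m : ℕ) : Prop :=
  ∀ (X : Scheme.{u}) (c : X ⟶ Spec (CommRingCat.of k)), LocallyOfFiniteType c → QuasiCompact c →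
    ∀ j : ℕ, j ≤ m → (∀ x, ResDim c x j) → KVan X (2 * j)

/-- sheaves supported in small dimension -/
theorem subsingleton_H_of_resDim {m : ℕ} (hA : BoundUpTo k m) {X : Scheme.{u}} (c : X ⟶ Spec (CommRingCat.of k))
    [LocallyOfFiniteType c] [QuasiCompact c] {j : ℕ} (hj : j ≤ m) (G : EtCoh.Ab X) {N : ℕ} (hN : 0 < N)
    (hG : Killed N G) (h0 : ∀ x, ¬ ResDim c x j → ZeroAt G x) (q : ℕ) (hq : 2 * j < q) :
    Subsingleton (EtCoh.H X G q) := by
  haveI := isNoetherian_of_field c
  refine subsingleton_H_of_suppPred G (fun x y hxy hx => hx.of_specializes c hxy) h0 q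
    fun C hC K i hi hK => ?_
  haveI := hi
  let ι := (Scheme.IdealSheafData.vanishingIdeal C).subschemeι
  have hr : Set.range ι = C := by
    rw [Scheme.IdealSheafData.range_subschemeι, Scheme.IdealSheafData.coe_support_vanishingIdeal]
  refine subsingleton_H_of_closedImmersion ι K hN (killed_of_mono i hG) (fun x hx => hK x fun hxC => hx (hr.ge hxC)) q ?_
  exact hA _ (ι ≫ c) inferInstance inferInstance j hj
    (fun z => (resDim_closedImmersion c ι z j).2 (hC _ (hr.le ⟨z, rfl⟩))) N hN _
    (killed_pull ι (killed_of_mono i hG)) q hq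

variable {X : Scheme.{u}} (c : X ⟶ Spec (CommRingCat.of k)) [LocallyOfFiniteType c] [QuasiCompact c]

theorem not_resDim_iff {x : X} {m : ℕ} : ¬ ResDim c x m ↔ ((m + 1 : ℕ) : Cardinal.{u}) ≤ trdg (kStr c x) := by
  obtain ⟨d, hd, -⟩ := exists_trdg_eq c x
  unfold ResDim
  rw [hd, Nat.cast_le, Nat.cast_le]
  omega

theorem isMaxPt_of_not_resDim {m : ℕ} (hall : ∀ x, ResDim c x (m + 1)) {x : X} (hx : ¬ ResDim c x m) :
    IsMaxPt x := by
  intro y hy
  by_contra hne
  exact (not_lt.2 (hall y)) (((not_resDim_iff c).1 hx).trans_lt (trdg_lt_of_specializes c hy hne))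

/-- direct images from a point of transcendence degree `m + 1` -/
theorem subsingleton_H_push_locι {m : ℕ} (hA : BoundUpTo k m) (hall : ∀ x, ResDim c x (m + 1)) {x : X}
    (hx : ¬ ResDim c x m) (G : EtCoh.Ab (locScheme x)) {N : ℕ} (hN : 0 < N) (hG : Killed N G) (q : ℕ)
    (hq : 2 * (m + 1) < q) : Subsingleton (EtCoh.H X ((EtCoh.push (locι x)).obj G) q) := by
  haveI := isNoetherian_of_field c
  have hmax := isMaxPt_of_not_resDim c hall hx
  obtain ⟨dx, hdx, -⟩ := exists_trdg_eq c x
  have hdx' : dx ≤ m + 1 := Nat.cast_le.1 (hdx ▸ hall x : ((dx : ℕ) : Cardinal.{u}) ≤ ((m + 1 : ℕ) : Cardinal.{u}))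
  have hR : ∀ (r : ℕ) (y : X), 0 < r → ¬ ResDim c y (m + 1 - r) →
      ZeroAt ((EtCoh.Rpush (locι x) r).obj G) y := by
    intro r y hr0 hy
    obtain ⟨dy, hdy, -⟩ := exists_trdg_eq c y
    have hy' : m + 1 - r + 1 ≤ dy := Nat.cast_le.1 ((not_resDim_iff c).1 hy |>.trans hdy.le)
    refine zeroAt_rpush_loc hmax G hN hG y (n := r - 1) (fun h => pointBound c h ?_) r (by omega)
    rw [hdx, hdy, ← Nat.cast_add, Nat.cast_le]
    omega
  refine subsingleton_H_push_of_Rpush (locι x) hN (m + 1) G hG (fun r hr => ?_) q (by omega) ?_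
    (fun p r hr hrm hpr => ?_)
  · refine isZero_of_zeroAt _ fun y => ?_
    obtain ⟨dy, hdy, -⟩ := exists_trdg_eq c y
    refine zeroAt_rpush_loc hmax G hN hG y (n := m + 1) (fun h => pointBound c h ?_) r hr
    rw [hdx, hdy, ← Nat.cast_add, Nat.cast_le]
    omega
  · let i : Spec (X.residueField x) ⟶ locScheme x := Spec.map (X.residue x)
    haveI := subsingleton_locScheme hmax
    haveI : IsClosedImmersion i := IsClosedImmersion.spec_of_surjective _ (Scheme.residue_surjective X x)
    haveI : Surjective i := ⟨fun t => ⟨default, Subsingleton.elim _ _⟩⟩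
    exact subsingleton_H_of_univHomeo i _ q
      (kVan_residueField c x (hall x) N hN _ (killed_pull i hG) q (by omega))
  · exact subsingleton_H_of_resDim hA c (j := m + 1 - r) (by omega) _ hN (killed_Rpush _ _ hG) (fun y hy => hR r y hr hy) p
      (by omega)

/-- dévissage along the points of largest transcendence degree -/
theorem subsingleton_H_aux {m : ℕ} (hA : BoundUpTo k m) (hall : ∀ x, ResDim c x (m + 1)) (S : Finset X)
    {N : ℕ} (hN : 0 < N) :
    ∀ G : EtCoh.Ab X, Killed N G → (∀ z : X, ¬ ResDim c z m → z ∉ S → ZeroAt G z) →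
    ∀ q : ℕ, 2 * (m + 1) < q → Subsingleton (EtCoh.H X G q) := by
  classical
  haveI := isNoetherian_of_field c
  induction S using Finset.induction with
  | empty =>
    exact fun G hG h0 q hq => subsingleton_H_of_resDim hA c le_rfl G hN hG
      (fun z hz => h0 z hz (Finset.notMem_empty z)) q (by omega)
  | @insert x S hxS ih =>
    intro G hGN hG q hq
    by_cases hxc : ResDim c x m
    · exact ih G hGN (fun z hz hzS => hG z hz (by
        simp only [Finset.mem_insert, not_or]
        exact ⟨fun h => hz (h ▸ hxc), hzS⟩)) q hq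
    have hx : IsMaxPt x := isMaxPt_of_not_resDim c hall hxc
    let j : locScheme x ⟶ X := locι x
    let u : G ⟶ (EtCoh.push j).obj ((EtCoh.pull j).obj G) := (EtCoh.pullPushAdj j).unit.app G
    obtain ⟨Ω, _, _, ξ, hξ, hb⟩ := bijective_stalk_unit_loc hx G
    haveI hK : Subsingleton (EtCoh.H X (kernel u) q) := by
      refine ih _ (killed_of_mono (kernel.ι u) hGN) (fun z hz hzS => ?_) q hq
      by_cases hzx : z = x
      · subst hzx
        exact zeroAt_kernel hξ u hb.1
      · exact zeroAt_of_mono (kernel.ι u) (hG z hz (by simp [hzx, hzS]))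
    have hC : ∀ z, ¬ ResDim c z m → ZeroAt (cokernel u) z := fun z hz => by
      by_cases hzx : z = x
      · subst hzx
        exact zeroAt_cokernel hξ u hb.2
      · exact zeroAt_of_epi (cokernel.π u) (zeroAt_push hx _ z (isMaxPt_of_not_resDim c hall hz) hzx)
    let I := cokernel (kernel.ι u)
    let p : G ⟶ I := cokernel.π (kernel.ι u)
    let v : I ⟶ (EtCoh.push j).obj ((EtCoh.pull j).obj G) := cokernel.desc _ u (kernel.condition u)
    haveI : Mono v := (ShortComplex.exact_iff_mono_cokernel_desc
      (ShortComplex.mk (kernel.ι u) u (kernel.condition u))).1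
      (ShortComplex.exact_of_f_is_kernel _ (kernelIsKernel u))
    have hA' : (ShortComplex.mk (kernel.ι u) p (cokernel.condition _)).ShortExact :=
      { exact := ShortComplex.exact_of_g_is_cokernel _ (cokernelIsCokernel _) }
    have hB : (ShortComplex.mk v (cokernel.π v) (cokernel.condition v)).ShortExact :=
      { exact := ShortComplex.exact_of_g_is_cokernel _ (cokernelIsCokernel _) }
    have hCk : Killed N (cokernel v) := killed_of_epi (cokernel.π v) (killed_push j (killed_pull j hGN))
    have hCv : ∀ z, ¬ ResDim c z m → ZeroAt (cokernel v) z := fun z hz => by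
      have hw : u ≫ cokernel.π v = 0 := by
        rw [← cokernel.π_desc (kernel.ι u) u (kernel.condition u), Category.assoc]
        exact (congrArg (p ≫ ·) (cokernel.condition v)).trans comp_zero
      haveI : Epi (cokernel.desc u (cokernel.π v) hw) :=
        epi_of_epi_fac (cokernel.π_desc u (cokernel.π v) hw)
      exact zeroAt_of_epi (cokernel.desc u (cokernel.π v) hw) (hC z hz)
    have hI : Subsingleton (EtCoh.H X I q) := by
      obtain ⟨q', rfl⟩ : ∃ j, q = j + 1 := ⟨q - 1, by omega⟩
      refine subsingleton_of_forall_eq 0 fun c' => ?_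
      obtain ⟨d, hd⟩ := Ext.covariant_sequence_exact₁ (EtCoh.const X ℤ) hB c'
        (@Subsingleton.elim _ (subsingleton_H_push_locι c hA hall hxc _ hN (killed_pull j hGN) _ hq) _ _)
        (n₀ := q') rfl
      haveI := subsingleton_H_of_resDim hA c le_rfl (cokernel v) hN hCk hCv q' (by omega)
      rw [← hd, show d = 0 from @Subsingleton.elim (EtCoh.H X (cokernel v) q') _ d 0, Ext.zero_comp]
    exact subsingleton_H_X₂ hA' q hK hI

theorem boundUpTo : ∀ m : ℕ, BoundUpTo k m := by
  intro m
  induction m with
  | zero =>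
    intro X c hc hc' j hj h
    obtain rfl : j = 0 := by omega
    exact kVan_resDim_zero c h
  | succ m ih =>
    intro X c hc hc' j hj h
    rcases Nat.lt_or_ge j (m + 1) with hlt | hge
    · exact ih X c hc hc' j (by omega) h
    obtain rfl : j = m + 1 := by omega
    haveI := isNoetherian_of_field c
    intro N hN F hF q hq
    have hfin : {x : X | ¬ ResDim c x m}.Finite :=
      (finite_isMaxPt X).subset fun x hx => isMaxPt_of_not_resDim c h hx
    exact subsingleton_H_aux c ih h hfin.toFinset hN F hF
      (fun z hz hzS => absurd (hfin.mem_toFinset.2 hz) hzS) q hq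

/-- **schemes of finite type with points of transcendence degree at most `n` have `cd ≤ 2n`** -/
theorem kVan_of_resDim {n : ℕ} (h : ∀ x, ResDim c x n) : KVan X (2 * n) :=
  boundUpTo n X c inferInstance inferInstance n le_rfl h

include c in
/-- **schemes of finite type of dimension at most `n` over separably closed fields have `cd ≤ 2n`** -/
theorem kVan_finiteType {n : ℕ} (h : topologicalKrullDim X ≤ n) : KVan X (2 * n) :=
  kVan_of_resDim c (resDim_of_dim_le c h)

end Groth.Agent.EtPBC
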