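import Groth.Agent.EtPBC.Curve
import Mathlib

/-!
# Finite cyclic constant sheaves
-/

set_option autoImplicit false
set_option backward.isDefEq.respectTransparency false
set_option backward.isDefEq.respectTransparency.types false
set_option linter.auxLemma false
set_option linter.style.haveILetI false

universe u

open CategoryTheory CategoryTheory.Limits CategoryTheory.Abelian AlgebraicGeometry Opposite

noncomputable section

namespace Groth.Agent.EtPBC

attribute [local instance 100000] EtCoh.H._proof_1 EtMV.hext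
attribute [local instance 200000] EtMV.hextAb

/-- an exact functor maps short exact sequences to short exact sequences -/
theorem shortExact_map {C : Type*} [Category C] [Abelian C] {D : Type*} [Category D] [Abelian D] (Φ : C ⥤ D)
    [PreservesFiniteLimits Φ] [PreservesFiniteColimits Φ] [Φ.PreservesZeroMorphisms] {S : ShortComplex C}
    (h : S.ShortExact) : (S.map Φ).ShortExact := h.map_of_exact Φ

variable (X : Scheme.{u})

/-- constant sheaves as a functor -/
abbrev cstF : AddCommGrpCat.{u + 1} ⥤ EtCoh.Ab X := constantSheaf X.smallEtaleTopology AddCommGrpCat.{u + 1}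

instance : PreservesFiniteLimits (cstF X) :=
  inferInstanceAs (PreservesFiniteLimits (Functor.const X.Etaleᵒᵖ ⋙ presheafToSheaf _ AddCommGrpCat.{u + 1}))

instance : PreservesFiniteColimits (cstF X) :=
  haveI := (constantSheafAdj X.smallEtaleTopology AddCommGrpCat.{u + 1}
    (EtCore.topIsTerminal X)).leftAdjoint_preservesColimits
  inferInstance

instance : (cstF X).Additive :=
  (constantSheafAdj X.smallEtaleTopology AddCommGrpCat.{u + 1} (EtCore.topIsTerminal X)).left_adjoint_additive

theorem killed_const (n : ℕ) : Killed n (EtCoh.const X (ZMod n)) := by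
  refine (killed_iff _ _).2 ?_
  have hA : n • 𝟙 (AddCommGrpCat.of (ULift.{u + 1} (ZMod n))) = 0 := by
    ext ⟨a⟩
    simp
  have := congrArg (fun m => (cstF X).map m) hA
  simpa [Functor.map_nsmul] using this

variable (p : ℕ) [hp : Fact p.Prime] (ν : ℕ)

/-- multiplication by `p ^ ν` -/
def mulPow : ZMod p →+ ZMod (p ^ (ν + 1)) :=
  ZMod.lift p ⟨zmultiplesHom _ ((p ^ ν : ℕ) : ZMod (p ^ (ν + 1))), by
    simp only [zmultiplesHom_apply]
    rw [natCast_zsmul, nsmul_eq_mul, ← Nat.cast_mul, ← pow_succ', ZMod.natCast_self]⟩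

theorem mulPow_intCast (m : ℤ) : mulPow p ν (m : ZMod p) = ((m * (p ^ ν : ℕ) : ℤ) : ZMod (p ^ (ν + 1))) := by
  rw [mulPow, ZMod.lift_coe]
  show m • ((p ^ ν : ℕ) : ZMod (p ^ (ν + 1))) = _
  rw [zsmul_eq_mul, Int.cast_mul, Int.cast_natCast]

/-- reduction -/
def redPow : ZMod (p ^ (ν + 1)) →+ ZMod (p ^ ν) :=
  (ZMod.castHom (pow_dvd_pow p (Nat.le_succ ν)) (ZMod (p ^ ν))).toAddMonoidHom

/-- `0 → ℤ/p → ℤ/p^(ν+1) → ℤ/p^ν → 0` -/
def powSeq : ShortComplex AddCommGrpCat.{u + 1} :=
  ShortComplex.mk (X₁ := AddCommGrpCat.of (ULift.{u + 1} (ZMod p)))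
    (X₂ := AddCommGrpCat.of (ULift.{u + 1} (ZMod (p ^ (ν + 1)))))
    (X₃ := AddCommGrpCat.of (ULift.{u + 1} (ZMod (p ^ ν))))
    (AddCommGrpCat.ofHom (AddEquiv.ulift.symm.toAddMonoidHom.comp ((mulPow p ν).comp AddEquiv.ulift.toAddMonoidHom)))
    (AddCommGrpCat.ofHom (AddEquiv.ulift.symm.toAddMonoidHom.comp ((redPow p ν).comp AddEquiv.ulift.toAddMonoidHom)))
    (by
      ext ⟨a⟩
      obtain ⟨m, rfl⟩ := ZMod.intCast_surjective a
      show redPow p ν (mulPow p ν (m : ZMod p)) = 0
      rw [mulPow_intCast, redPow, RingHom.toAddMonoidHom_eq_coe, AddMonoidHom.coe_coe, map_intCast, Int.cast_mul,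
        Int.cast_natCast, ZMod.natCast_self, mul_zero])

theorem powSeq_shortExact : (powSeq.{u} p ν).ShortExact := by
  have hm : Function.Injective (mulPow p ν) := by
    refine (injective_iff_map_eq_zero _).2 fun a ha => ?_
    obtain ⟨m, rfl⟩ := ZMod.intCast_surjective a
    rw [mulPow_intCast, ZMod.intCast_zmod_eq_zero_iff_dvd] at ha
    rw [ZMod.intCast_zmod_eq_zero_iff_dvd]
    push_cast [pow_succ'] at ha
    exact Int.dvd_of_mul_dvd_mul_right (pow_ne_zero _ (by exact_mod_cast hp.out.ne_zero)) ha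
  have hs : Function.Surjective (redPow p ν) := ZMod.castHom_surjective (pow_dvd_pow p (Nat.le_succ ν))
  refine
    { exact := (ShortComplex.ab_exact_iff _).2 fun x hx => ?_
      mono_f := (AddCommGrpCat.mono_iff_injective _).2 fun a b h => ULift.down_injective (hm (congrArg ULift.down h))
      epi_g := (AddCommGrpCat.epi_iff_surjective _).2 fun y => by
        obtain ⟨z, hz⟩ := hs y.down
        exact ⟨ULift.up z, ULift.down_injective hz⟩ }
  obtain ⟨m, hm'⟩ := ZMod.intCast_surjective (x : ULift.{u + 1} (ZMod (p ^ (ν + 1)))).down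
  have h0 : redPow p ν (m : ZMod (p ^ (ν + 1))) = 0 := hm' ▸ congrArg ULift.down hx
  rw [redPow, RingHom.toAddMonoidHom_eq_coe, AddMonoidHom.coe_coe, map_intCast,
    ZMod.intCast_zmod_eq_zero_iff_dvd] at h0
  obtain ⟨r, rfl⟩ := h0
  refine ⟨ULift.up (r : ZMod p), ULift.down_injective ?_⟩
  show mulPow p ν (r : ZMod p) = _
  rw [mulPow_intCast, ← hm', mul_comm]

theorem subsingleton_H_const_pow (q : ℕ) (h : Subsingleton (EtCoh.H X (EtCoh.const X (ZMod p)) q)) :
    ∀ ν, Subsingleton (EtCoh.H X (EtCoh.const X (ZMod (p ^ ν))) q)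
  | 0 => by
    refine subsingleton_H_of_isZero (IsZero.iff_id_eq_zero _ |>.2 ?_) q
    simpa using (killed_iff 1 _).1 (killed_const X (p ^ 0))
  | ν + 1 => by
    have hS := shortExact_map (cstF X) (powSeq_shortExact.{u} p ν)
    haveI := subsingleton_H_const_pow q h ν
    refine subsingleton_of_forall_eq 0 fun c => ?_
    obtain ⟨d, hd⟩ := Ext.covariant_sequence_exact₂ (EtCoh.const X ℤ) hS c
      (@Subsingleton.elim (EtCoh.H X (EtCoh.const X (ZMod (p ^ ν))) q) _ _ _)
    rw [← hd, show d = 0 from @Subsingleton.elim (EtCoh.H X (EtCoh.const X (ZMod p)) q) h d 0, Ext.zero_comp]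

end Groth.Agent.EtPBC
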