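import Groth.Agent.EtPBC.IsoAt
import Groth.Agent.EtPBC.CdFiniteType
import Groth.Agent.EtPBC.ConstKilled
import Groth.Agent.EtCons.IndCons
import Groth.Agent.EtCons.ExtZeroConst
import Groth.Agent.ShriekLQF.Compact
import Groth.Agent.LocImmFT.Finite
import Groth.Agent.CurveCompl.Basic
import Groth.Agent.DvrDom.ClosedProper
import Groth.Agent.EtMV.Etale
import Groth.Agent.S0134
import Groth.Agent.S9683
import Mathlib

/-!
# Affine curves: reduction to constant sheaves on integral curves
-/

set_option autoImplicit false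
set_option backward.isDefEq.respectTransparency false
set_option backward.isDefEq.respectTransparency.types false
set_option linter.auxLemma false
set_option linter.style.haveILetI false
set_option linter.unusedSectionVars false
set_option maxHeartbeats 1000000

universe u

open CategoryTheory CategoryTheory.Limits CategoryTheory.Abelian AlgebraicGeometry Opposite TopologicalSpace

noncomputable section

namespace Groth.Agent.EtPBC

attribute [local instance 100000] EtCoh.H._proof_1 EtMV.hext
attribute [local instance 200000] EtMV.hextAb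

variable {X Y : Scheme.{u}}

section Mul

variable (a b : ℕ)

/-- `ℤ/a → ℤ/ab`, multiplication by `b` -/
def zmodMul : ZMod a →+ ZMod (a * b) :=
  ZMod.lift a ⟨zmultiplesHom _ ((b : ℕ) : ZMod (a * b)), by
    simp only [zmultiplesHom_apply]
    rw [natCast_zsmul, nsmul_eq_mul, ← Nat.cast_mul, ZMod.natCast_self]⟩

theorem zmodMul_intCast (m : ℤ) : zmodMul a b (m : ZMod a) = ((m * (b : ℕ) : ℤ) : ZMod (a * b)) := by
  rw [zmodMul, ZMod.lift_coe]
  show m • ((b : ℕ) : ZMod (a * b)) = _
  rw [zsmul_eq_mul, Int.cast_mul, Int.cast_natCast]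

/-- `0 → ℤ/a → ℤ/ab → ℤ/b → 0` -/
def zmodSeq : ShortComplex AddCommGrpCat.{u + 1} :=
  ShortComplex.mk (X₁ := AddCommGrpCat.of (ULift.{u + 1} (ZMod a)))
    (X₂ := AddCommGrpCat.of (ULift.{u + 1} (ZMod (a * b))))
    (X₃ := AddCommGrpCat.of (ULift.{u + 1} (ZMod b)))
    (AddCommGrpCat.ofHom (AddEquiv.ulift.symm.toAddMonoidHom.comp ((zmodMul a b).comp AddEquiv.ulift.toAddMonoidHom)))
    (AddCommGrpCat.ofHom (AddEquiv.ulift.symm.toAddMonoidHom.comp
      ((ZMod.castHom (dvd_mul_left b a) (ZMod b)).toAddMonoidHom.comp AddEquiv.ulift.toAddMonoidHom)))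
    (by
      ext ⟨x⟩
      obtain ⟨m, rfl⟩ := ZMod.intCast_surjective x
      show ZMod.castHom (dvd_mul_left b a) (ZMod b) (zmodMul a b (m : ZMod a)) = 0
      rw [zmodMul_intCast, map_intCast, Int.cast_mul, Int.cast_natCast, ZMod.natCast_self, mul_zero])

theorem zmodSeq_shortExact (hb : b ≠ 0) : (zmodSeq.{u} a b).ShortExact := by
  have hm : Function.Injective (zmodMul a b) := by
    refine (injective_iff_map_eq_zero _).2 fun x hx => ?_
    obtain ⟨m, rfl⟩ := ZMod.intCast_surjective x
    rw [zmodMul_intCast, ZMod.intCast_zmod_eq_zero_iff_dvd] at hx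
    rw [ZMod.intCast_zmod_eq_zero_iff_dvd]
    push_cast at hx
    exact Int.dvd_of_mul_dvd_mul_right (by exact_mod_cast hb) hx
  refine
    { exact := (ShortComplex.ab_exact_iff _).2 fun x hx => ?_
      mono_f := (AddCommGrpCat.mono_iff_injective _).2 fun p q h => ULift.down_injective (hm (congrArg ULift.down h))
      epi_g := (AddCommGrpCat.epi_iff_surjective _).2 fun y => by
        obtain ⟨z, hz⟩ := ZMod.castHom_surjective (dvd_mul_left b a) y.down
        exact ⟨ULift.up z, ULift.down_injective hz⟩ }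
  obtain ⟨m, hm'⟩ := ZMod.intCast_surjective (x : ULift.{u + 1} (ZMod (a * b))).down
  have h0 : ZMod.castHom (dvd_mul_left b a) (ZMod b) (m : ZMod (a * b)) = 0 := hm' ▸ congrArg ULift.down hx
  rw [map_intCast, ZMod.intCast_zmod_eq_zero_iff_dvd] at h0
  obtain ⟨r, rfl⟩ := h0
  refine ⟨ULift.up (r : ZMod a), ULift.down_injective ?_⟩
  show zmodMul a b (r : ZMod a) = _
  rw [zmodMul_intCast, ← hm']
  exact congrArg _ (mul_comm _ _)

/-- constant coefficients: composite orders -/
theorem subsingleton_H_const_of_prime (q : ℕ)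
    (h : ∀ ℓ : ℕ, ℓ.Prime → Subsingleton (EtCoh.H X (EtCoh.const X (ZMod ℓ)) q)) :
    ∀ n : ℕ, 0 < n → Subsingleton (EtCoh.H X (EtCoh.const X (ZMod n)) q) := by
  intro n
  induction n using Nat.strong_induction_on with
  | _ n ih =>
    intro hn
    rcases Nat.lt_or_ge n 2 with h1 | h2
    · obtain rfl : n = 1 := by omega
      exact subsingleton_H_of_isZero (IsZero.iff_id_eq_zero _ |>.2
        (by simpa using (killed_iff 1 _).1 (killed_const X 1))) q
    obtain ⟨m, hm⟩ := Nat.minFac_dvd n
    have hp : n.minFac.Prime := Nat.minFac_prime (by omega)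
    have hm0 : 0 < m := Nat.pos_of_ne_zero (by rintro rfl; omega)
    have hlt : m < n := by
      rw [hm]
      exact (lt_mul_iff_one_lt_left hm0).2 hp.one_lt
    have hS := subsingleton_H_X₂ (shortExact_map (cstF X) (zmodSeq_shortExact.{u} n.minFac m hm0.ne')) q
      (h _ hp) (ih m hlt hm0)
    have hS' : Subsingleton (EtCoh.H X (EtCoh.const X (ZMod (n.minFac * m))) q) := hS
    rwa [← hm] at hS'

end Mul

section Biproduct

variable {ι : Type} [Fintype ι] (A : ι → EtCoh.Ab X)

theorem killed_biproduct {N : ℕ} (h : ∀ i, Killed N (A i)) : Killed N (⨁ A) := by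
  rw [killed_iff]
  refine biproduct.hom_ext _ _ fun i => ?_
  rw [Preadditive.nsmul_comp, Category.id_comp, zero_comp, ← Category.comp_id (biproduct.π A i),
    ← Preadditive.comp_nsmul, (killed_iff N (A i)).1 (h i), comp_zero]

theorem subsingleton_H_biproduct (q : ℕ) (h : ∀ i, Subsingleton (EtCoh.H X (A i) q)) :
    Subsingleton (EtCoh.H X (⨁ A) q) := by
  classical
  refine subsingleton_of_forall_eq 0 fun c => ?_
  have hmap : ∀ (S : Finset ι), c.comp (Ext.mk₀ (∑ i ∈ S, biproduct.π A i ≫ biproduct.ι A i)) (add_zero q) = 0 := by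
    intro S
    induction S using Finset.induction with
    | empty => rw [Finset.sum_empty, Ext.mk₀_zero, Ext.comp_zero]
    | @insert i S hi ih =>
      rw [Finset.sum_insert hi, Ext.mk₀_add, Ext.comp_add, ih, add_zero, ← Ext.mk₀_comp_mk₀,
        ← Ext.comp_assoc_of_second_deg_zero,
        show c.comp (Ext.mk₀ (biproduct.π A i)) (add_zero q) = 0 from
          @Subsingleton.elim (EtCoh.H X (A i) q) (h i) _ _, Ext.zero_comp]
  have := hmap Finset.univ
  rwa [biproduct.total, Ext.comp_mk₀_id] at this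

theorem stalk_biproduct_π_bijective (i : ι) {x : X} (h : ∀ a, a ≠ i → ZeroAt (A a) x) {Ω : Type u} [Field Ω]
    [IsSepClosed Ω] {ξ : Spec (CommRingCat.of Ω) ⟶ X} (hξ : ξ (default : ↥(Spec (CommRingCat.of Ω))) = x) :
    Function.Bijective ((EtCoh.stalk ξ).map (biproduct.π A i)) := by
  classical
  haveI : (EtCoh.stalk ξ).Additive := Functor.additive_of_preserves_binary_products _
  have hid : (EtCoh.stalk ξ).map (biproduct.π A i ≫ biproduct.ι A i) = 𝟙 _ := by
    rw [← (EtCoh.stalk ξ).map_id, ← biproduct.total (f := A), Functor.map_sum]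
    refine (Finset.sum_eq_single (f := fun a => (EtCoh.stalk ξ).map (biproduct.π A a ≫ biproduct.ι A a)) i
      (fun a _ ha => ?_) (fun h' => absurd (Finset.mem_univ i) h')).symm
    rw [Functor.map_comp, ((isZero_stalk_iff_zeroAt hξ (A a)).2 (h a ha)).eq_of_tgt
      ((EtCoh.stalk ξ).map (biproduct.π A a)) 0, zero_comp]
  haveI : IsIso ((EtCoh.stalk ξ).map (biproduct.π A i)) :=
    ⟨(EtCoh.stalk ξ).map (biproduct.ι A i), by rw [← Functor.map_comp]; exact hid,
      by rw [← Functor.map_comp, biproduct.ι_π_self, CategoryTheory.Functor.map_id]⟩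
  exact ConcreteCategory.bijective_of_isIso _

end Biproduct

section Shriek

variable {U T : Scheme.{u}} (j : U ⟶ T) [IsOpenImmersion j]

theorem isoAt_toPush (G : EtCoh.Ab U) [QuasiCompact j] {x : T} (hx : x ∈ Set.range j) :
    IsoAt (EtShriek.lowerShriekToPush j G) x := by
  haveI : Mono (EtShriek.lowerShriekToPush j G) := ShriekLQF.mono_toPush j G
  obtain ⟨Ω, _, _, ξ, hξ⟩ := exists_geomPt x
  haveI : (EtCoh.stalk ξ).Additive := Functor.additive_of_preserves_binary_products _
  refine ⟨(isZero_stalk_iff_zeroAt hξ _).1 (Functor.map_isZero _ (isZero_kernel_of_mono _)), zeroAt_cokernel hξ _ ?_⟩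
  intro z
  obtain ⟨V, y, s, rfl⟩ := GrothendieckTopology.Point.toPresheafFiber_jointly_surjective
    (Φ := Scheme.pointSmallEtale ξ) (P := ((EtCoh.push j).obj G).obj) z
  let O : V.left.Opens := V.hom ⁻¹ᵁ j.opensRange
  have hy : y.left (default : ↥(Spec (CommRingCat.of Ω))) ∈ O := by
    show V.hom (y.left (default : ↥(Spec (CommRingCat.of Ω)))) ∈ Set.range j
    rw [show V.hom (y.left (default : ↥(Spec (CommRingCat.of Ω)))) = x from by
      rw [← hξ]
      exact congrArg (fun f : Spec (CommRingCat.of Ω) ⟶ T => f (default : ↥(Spec (CommRingCat.of Ω)))) (Over.w y)]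
    exact hx
  haveI : Etale V.hom := V.prop
  let V' : T.Etale := Scheme.Etale.mk (O.ι ≫ V.hom) 
  let i : V' ⟶ V := MorphismProperty.Over.homMk O.ι
  have hly : Set.range y.left ⊆ Set.range O.ι := by
    rw [Scheme.Opens.range_ι]
    rintro _ ⟨t, rfl⟩
    rwa [Subsingleton.elim (α := Spec (CommRingCat.of Ω)) t default]
  let y' : Over.mk ξ ⟶ (Scheme.Etale.forget T).obj V' :=
    Over.homMk (IsOpenImmersion.lift O.ι y.left hly) (by
      show IsOpenImmersion.lift O.ι y.left hly ≫ O.ι ≫ V.hom = ξ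
      rw [IsOpenImmersion.lift_fac_assoc]
      exact Over.w y)
  have hyy : y' ≫ (Scheme.Etale.forget T).map i = y := Over.OverMorphism.ext (IsOpenImmersion.lift_fac _ _ _)
  haveI : IsIso (EtShriek.prV j V') := by
    show IsIso (pullback.fst (O.ι ≫ V.hom) j)
    refine isIso_of_isOpenImmersion_of_opensRange_eq_top _ (Opens.ext ?_)
    show Set.range (pullback.fst (O.ι ≫ V.hom) j) = Set.univ
    rw [Scheme.Pullback.range_fst]
    exact Set.eq_univ_of_forall fun t => t.2
  let s' : EtCoh.sect G ((EtCoh.bc j).obj V') := G.obj.map ((EtCoh.bc j).map i).op s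
  have hprop : ClSub.IsProperOver (EtShriek.prV j V') (EtShriek.sectSupp G _ s') := by
    haveI : IsProper (𝟙 _ ≫ EtShriek.prV j V') := by rw [Category.id_comp]; infer_instance
    exact ClSubLib.isProperOver_of_subset (EtShriek.prV j V') (𝟙 _) _ (EtSect.isClosed_sectSupp G s')
      fun t _ => ⟨t, rfl⟩
  obtain ⟨w, hw⟩ := (ShriekLQF.range_toPush j G V' s').2 hprop
  refine ⟨(Scheme.pointSmallEtale ξ).toPresheafFiber V' y' ((EtShriek.lowerShriek j).obj G).obj w, ?_⟩
  refine (GrothendieckTopology.Point.toPresheafFiber_naturality_apply _ _ _ _ _).trans ?_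
  refine (congrArg ((Scheme.pointSmallEtale ξ).toPresheafFiber V' y' ((EtCoh.push j).obj G).obj) hw).trans ?_
  refine (GrothendieckTopology.Point.toPresheafFiber_w_apply (Scheme.pointSmallEtale ξ) i y'
    ((EtCoh.push j).obj G).obj s).trans ?_
  exact congrArg (fun y₀ => (Scheme.pointSmallEtale ξ).toPresheafFiber V y₀ ((EtCoh.push j).obj G).obj s) hyy

end Shriek

variable {k : Type u} [Field k] [IsAlgClosed k]

variable (k) in
/-- the statement on integral affine curves -/
def IntConstVan : Prop :=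
  ∀ (C : Scheme.{u}) (c : C ⟶ Spec (CommRingCat.of k)), IsAffine C → LocallyOfFiniteType c → IsIntegral C →
    topologicalKrullDim C ≤ 1 → ∀ ℓ : ℕ, ℓ.Prime → Subsingleton (EtCoh.H C (EtCoh.const C (ZMod ℓ)) 2)

theorem subsingleton_H_const_affine (hI : IntConstVan k) (X : Scheme.{u}) [IsAffine X]
    (f : X ⟶ Spec (CommRingCat.of k)) [LocallyOfFiniteType f] (hdim : topologicalKrullDim X ≤ 1) (n : ℕ) (hn : 0 < n) :
    Subsingleton (EtCoh.H X (EtCoh.const X (ZMod n)) 2) := by
  classical
  haveI : IsNoetherian X := isNoetherian_of_field f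
  let G := EtCoh.const X (ZMod n)
  have hfin : {x : X | ¬ IsClosed ({x} : Set X)}.Finite :=
    (finite_isMaxPt X).subset fun x hx => isMaxPt_of_not_closed hdim hx
  let M := Fin hfin.toFinset.card
  let p : M → X := fun i => (hfin.toFinset.equivFin.symm i).1
  let K : M → Closeds X := fun i => ⟨closure {p i}, isClosed_closure⟩
  let Z : M → Scheme.{u} := fun i => (Scheme.IdealSheafData.vanishingIdeal (K i)).subscheme
  let ι : ∀ i, Z i ⟶ X := fun i => (Scheme.IdealSheafData.vanishingIdeal (K i)).subschemeι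
  have hr : ∀ i, Set.range (ι i) = closure {p i} := fun i => by
    show Set.range (Scheme.IdealSheafData.vanishingIdeal (K i)).subschemeι = _
    rw [Scheme.IdealSheafData.range_subschemeι, Scheme.IdealSheafData.coe_support_vanishingIdeal]
    rfl
  have hZ : ∀ i, IsIntegral (Z i) := fun i => by
    haveI : IsReduced (Z i) := DvrDom.isReduced_vanishingIdeal_subscheme (K i)
    haveI : IrreducibleSpace (Z i) := by
      haveI : IrreducibleSpace (Set.range (ι i)) :=
        Subtype.irreducibleSpace (hr i ▸ isIrreducible_singleton.closure)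
      exact ((ι i).isClosedEmbedding.isEmbedding.toHomeomorph.irreducibleSpace_iff).2 inferInstance
    exact isIntegral_of_irreducibleSpace_of_isReduced (Z i)
  have hA : ∀ i, Subsingleton (EtCoh.H X ((EtCoh.push (ι i)).obj ((EtCoh.pull (ι i)).obj G)) 2) := fun i => by
    refine (subsingleton_H_iff_push (ι i) _ (fun m => EtIntegral.Rpush_succ_isZero (ι i) _ m) 2).2 ?_
    refine subsingleton_H_of_iso (EtCons.pullConstM (ι i) (ZMod n)).symm 2 ?_
    haveI := hZ i
    exact subsingleton_H_const_of_prime 2 (hI (Z i) (ι i ≫ f) (isAffine_of_isAffineHom (ι i)) inferInstance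
      inferInstance (((ι i).isEmbedding.isInducing.topologicalKrullDim_le).trans hdim)) n hn
  let A : M → EtCoh.Ab X := fun i => (EtCoh.push (ι i)).obj ((EtCoh.pull (ι i)).obj G)
  let ψ : G ⟶ ⨁ A := biproduct.lift fun i => (EtCoh.pullPushAdj (ι i)).unit.app G
  refine (subsingleton_H_iff_of_isoAt (fun x hx => isSepClosed_of_isClosed f x hx) ψ (fun x hx => ?_) 2 le_rfl).2
    (subsingleton_H_biproduct A 2 hA)
  obtain ⟨i, hi⟩ : ∃ i, p i = x := ⟨hfin.toFinset.equivFin ⟨x, hfin.mem_toFinset.2 hx⟩, by simp [p]⟩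
  have hmax := isMaxPt_of_not_closed hdim hx
  obtain ⟨z, hz⟩ : x ∈ Set.range (ι i) := by rw [hr, hi]; exact subset_closure rfl
  obtain ⟨Ω, _, _, ξ, hξ, hb⟩ := bijective_stalk_unit_at (ι i) (EtPushStalk.liftProp_of_closedImmersion (ι i)) G z hz
  have hπ := stalk_biproduct_π_bijective A i (x := x) (fun a ha => zeroAt_push_of_zeroAt (ι a) _
    (isLTorsion_univ_of_killed hn (killed_pull (ι a) (killed_const X n))) x fun w hw => absurd ?_ ha) hξ
  · rw [isoAt_iff hξ]
    refine (Function.Bijective.of_comp_iff' hπ _).1 ?_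
    have hh : Function.Bijective ((EtCoh.stalk ξ).map ψ ≫ (EtCoh.stalk ξ).map (biproduct.π A i)) := by
      rw [← Functor.map_comp, biproduct.lift_π]
      exact hb
    exact hh
  · have h1 : x ∈ closure {p a} := hr a ▸ ⟨w, hw⟩
    have h2 : p a = x := hmax _ (specializes_iff_mem_closure.2 h1)
    exact hfin.toFinset.equivFin.symm.injective (Subtype.ext (h2.trans hi.symm))

theorem subsingleton_H_extZeroConst (hI : IntConstVan k) (X : Scheme.{u}) [IsAffine X]
    (f : X ⟶ Spec (CommRingCat.of k)) [LocallyOfFiniteType f] (hdim : topologicalKrullDim X ≤ 1) (U : X.Etale)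
    [IsAffine U.left] (n : ℕ) (hn : 0 < n) : Subsingleton (EtCoh.H X (EtPBC.extZeroConst U (ZMod n)) 2) := by
  haveI : Etale U.hom := U.prop
  haveI : EtShriek.JCont U.hom := EtMV.jcont_etale U.hom
  haveI : IsNoetherian X := isNoetherian_of_field f
  haveI := FpqcDescent.locallyQuasiFinite_of_etale U.hom
  haveI hUa : IsAffine U.left := inferInstance
  let g : U.left ⟶ X := U.hom
  haveI : IsAffineHom g := @isAffineHom_of_isAffine _ _ g hUa ‹IsAffine X›
  haveI : IsSeparated U.hom := inferInstanceAs (IsSeparated g)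
  haveI : QuasiCompact U.hom := inferInstanceAs (QuasiCompact g)
  haveI : Etale g := U.prop
  haveI : LocallyQuasiFinite g := FpqcDescent.locallyQuasiFinite_of_etale g
  refine subsingleton_H_of_iso (EtCons.extZeroConstIso U (ZMod n)) 2 ?_
  obtain ⟨e⟩ := ShriekLQF.nonempty_extZero_iso_lowerShriek U.hom
  refine subsingleton_H_of_iso (e.app _).symm 2 ?_
  obtain ⟨T₀, j₀, π₀, _, _, _, hj₀⟩ := LocImmFT.exists_openImmersion_finite g
  obtain ⟨hj, _, _, hd, hπp, hjπ⟩ := Nagata.exists_dense_image g j₀ π₀ hj₀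
  haveI := hj
  let j := j₀.toImage
  let π := j₀.imageι ≫ π₀
  haveI : IsFinite π := inferInstance
  have hjπ' : j ≫ π = U.hom := hjπ
  obtain ⟨e₁⟩ := ShriekLQF.nonempty_lowerShriek_comp j π
  let e' : EtShriek.lowerShriek U.hom ≅ EtShriek.lowerShriek j ⋙ EtCoh.push π :=
    eqToIso (congrArg (fun h => EtShriek.lowerShriek h) hjπ'.symm) ≪≫ e₁
  refine subsingleton_H_of_iso (e'.app _).symm 2 ?_
  refine (subsingleton_H_iff_push π _ (fun m => EtIntegral.Rpush_succ_isZero π _ m) 2).2 ?_
  haveI : IsAffine j₀.image := isAffine_of_isAffineHom π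
  let fT : j₀.image ⟶ Spec (CommRingCat.of k) := π ≫ f
  have hdimT : topologicalKrullDim j₀.image ≤ 1 := (S9683.result π).1.trans hdim
  haveI : IsNoetherian j₀.image := isNoetherian_of_field fT
  have hsep : ∀ x : j₀.image, IsClosed ({x} : Set j₀.image) → IsSepClosed (j₀.image.residueField x) :=
    fun x hx => isSepClosed_of_isClosed fT x hx
  have hmem : ∀ x : j₀.image, ¬ IsClosed ({x} : Set j₀.image) → x ∈ Set.range j := fun x hx => by
    obtain ⟨u', hu⟩ := DomLib.exists_specializes j (y := x) (hd x)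
    exact ⟨u', isMaxPt_of_not_closed hdimT hx _ hu⟩
  let GU := EtCoh.const U.left (ZMod n)
  refine (subsingleton_H_iff_of_isoAt hsep (EtShriek.lowerShriekToPush j GU)
    (fun x hx => isoAt_toPush j GU (hmem x hx)) 2 le_rfl).2 ?_
  refine subsingleton_H_of_iso ((EtCoh.push j).mapIso (EtCons.pullConstM j (ZMod n))) 2 ?_
  refine (subsingleton_H_iff_of_isoAt hsep ((EtCoh.pullPushAdj j).unit.app (EtCoh.const j₀.image (ZMod n)))
    (fun x hx => ?_) 2 le_rfl).1 (subsingleton_H_const_affine hI _ fT hdimT n hn)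
  obtain ⟨z, hz⟩ := hmem x hx
  obtain ⟨Ω, _, _, ξ, hξ, hb⟩ := bijective_stalk_unit_at j (EtPushStalk.liftProp_of_openImmersion j)
    (EtCoh.const j₀.image (ZMod n)) z hz
  exact (isoAt_iff hξ _).2 hb

theorem subsingleton_H_constructible (hI : IntConstVan k) (X : Scheme.{u}) [IsAffine X]
    (f : X ⟶ Spec (CommRingCat.of k)) [LocallyOfFiniteType f] (hdim : topologicalKrullDim X ≤ 1)
    (G : EtCoh.Ab X) (hG : EtPBC.IsConstructible G) : Subsingleton (EtCoh.H X G 2) := by
  obtain ⟨p, ⟨e⟩⟩ := EtCons.exists_pres G hG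
  refine subsingleton_H_of_iso e.symm 2 ?_
  haveI := p.hU
  have hS : (ShortComplex.mk (kernel.ι (cokernel.π p.φ)) (cokernel.π p.φ) (kernel.condition _)).ShortExact :=
    { exact := ShortComplex.exact_of_f_is_kernel _ (kernelIsKernel _) }
  refine subsingleton_H_X₃ hS 2 (subsingleton_H_biproduct _ 2 fun i =>
    subsingleton_H_extZeroConst hI X f hdim (p.U i) (p.N i) (p.hN i)) ?_
  refine kVan_finiteType f (n := 1) hdim (∏ i, p.N i) (Finset.prod_pos fun i _ => p.hN i) _
    (killed_of_mono (kernel.ι _) (killed_biproduct _ fun i W s => ?_)) 3 (by norm_num)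
  obtain ⟨d, hd⟩ := Finset.dvd_prod_of_mem p.N (Finset.mem_univ i)
  rw [hd, mul_comm, mul_nsmul', EtCons.killedBy_extConst (p.U i) (p.N i) W s, smul_zero]

/-- **affine curves, modulo constant sheaves on integral ones** -/
theorem cohDimLE_affine_curve_of (hI : IntConstVan k) (X : Scheme.{u}) [IsAffine X]
    (f : X ⟶ Spec (CommRingCat.of k)) [LocallyOfFiniteType f] (hdim : topologicalKrullDim X ≤ 1) :
    EtCoh.CohDimLE X 1 := by
  intro F hF q hq
  rcases Nat.lt_or_ge 2 q with h3 | h2
  · exact (kVan_finiteType f (n := 1) hdim).subsingleton_H F (isLTorsion_univ_of_isTorsion hF) q (by omega)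
  obtain rfl : q = 2 := by omega
  obtain ⟨J, _, _, D, c, hc, hD, ⟨e⟩⟩ := S0134.result X F hF
  refine subsingleton_H_of_iso e 2 ?_
  haveI := EtColimH.preservesColimitsOfShape_HF (X := X) 2 J
  refine subsingleton_of_forall_eq 0 fun s => ?_
  obtain ⟨a, sa, rfl⟩ := Concrete.isColimit_exists_rep _ (isColimitOfPreserves (EtCoh.HF X 2) hc) s
  rw [show sa = 0 from @Subsingleton.elim (EtCoh.H X (D.obj a) 2)
    (subsingleton_H_constructible hI X f hdim _ (hD a)) _ _]
  exact map_zero _

end Groth.Agent.EtPBC
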