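import Groth.Agent.EtPBC.CdDev
import Mathlib

/-!
# Sheaves killed by a natural number
-/

set_option autoImplicit false
set_option backward.isDefEq.respectTransparency false
set_option backward.isDefEq.respectTransparency.types false
set_option linter.auxLemma false
set_option linter.style.haveILetI false

universe u

open CategoryTheory CategoryTheory.Limits AlgebraicGeometry Opposite
open Groth.Agent.EtFLC (res res_res res_id)

noncomputable section

namespace Groth.Agent.EtPBC

variable {X Y : Scheme.{u}}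

/-- the sheaf is killed by `N` -/
def Killed (N : ℕ) (G : EtCoh.Ab X) : Prop := ∀ (W : X.Etale) (s : EtCoh.sect G W), N • s = 0

theorem killed_iff (N : ℕ) (G : EtCoh.Ab X) : Killed N G ↔ N • 𝟙 G = 0 := by
  refine ⟨fun h => ObjectProperty.hom_ext _ (NatTrans.ext (funext fun W => ?_)), fun h W s => ?_⟩
  · ext s
    exact (KummerLib.nsmul_id_app G N W.unop s).trans (h W.unop s)
  · refine (KummerLib.nsmul_id_app G N W s).symm.trans ?_
    rw [h]
    rfl

theorem killed_of_mono {F G : EtCoh.Ab X} {N : ℕ} (i : F ⟶ G) [Mono i] (h : Killed N G) : Killed N F := by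
  rw [killed_iff] at h ⊢
  rw [← cancel_mono i, zero_comp, Preadditive.nsmul_comp, Category.id_comp, ← Category.comp_id i,
    ← Preadditive.comp_nsmul, h, comp_zero]

theorem killed_of_epi {F G : EtCoh.Ab X} {N : ℕ} (p : F ⟶ G) [Epi p] (h : Killed N F) : Killed N G := by
  rw [killed_iff] at h ⊢
  rw [← cancel_epi p, comp_zero, Preadditive.comp_nsmul, Category.comp_id, ← Category.id_comp p,
    ← Preadditive.nsmul_comp, h, zero_comp]

theorem killed_push (f : Y ⟶ X) {N : ℕ} {G : EtCoh.Ab Y} (h : Killed N G) :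
    Killed N ((EtCoh.push f).obj G) := fun W s => h ((EtCoh.bc f).obj W) s

theorem killed_pull (f : Y ⟶ X) {N : ℕ} {G : EtCoh.Ab X} (h : Killed N G) :
    Killed N ((EtCoh.pull f).obj G) := by
  rw [killed_iff] at h ⊢
  haveI : (EtCoh.pull f).Additive := (EtCoh.pullPushAdj f).left_adjoint_additive
  rw [← (EtCoh.pull f).map_id, ← Functor.map_nsmul, h, Functor.map_zero]

theorem isPrimaryTorsion_of_killed {ℓ k : ℕ} {G : EtCoh.Ab X} (h : Killed (ℓ ^ k) G) :
    Dix.IsPrimaryTorsion ℓ G :=
  fun U s x => ⟨U, 𝟙 U, ⟨x, rfl⟩, k, h U _⟩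

variable (N : ℕ) (k : Type u) [Field k]

/-- killed sheaves over the field have no cohomology above degree one -/
def KilledVan : Prop :=
  ∀ F : EtCoh.Ab (Spec (CommRingCat.of k)), Killed N F → ∀ q : ℕ, 2 ≤ q →
    Subsingleton (EtCoh.H (Spec (CommRingCat.of k)) F q)

theorem killedVan_of_cohDimLEAt {ℓ : ℕ} (h : Dix.CohDimLEAt (Spec (CommRingCat.of k)) ℓ 1) (m : ℕ) :
    KilledVan (ℓ ^ m) k := fun F hF q hq => h F (isPrimaryTorsion_of_killed hF) q hq

end Groth.Agent.EtPBC
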