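import Groth.Agent.EtPBC.Skyscraper
import Groth.Agent.EtColimH.PTorsion
import Mathlib

/-!
# Vanishing of higher direct images from vanishing over affines; two truncated Leray arguments
-/

set_option autoImplicit false
set_option backward.isDefEq.respectTransparency false
set_option backward.isDefEq.respectTransparency.types false
set_option linter.auxLemma false
set_option linter.style.haveILetI false

universe u

open CategoryTheory CategoryTheory.Limits CategoryTheory.Abelian AlgebraicGeometry Opposite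
open Groth.Agent.EtFLC (res res_res res_id)

noncomputable section

namespace Groth.Agent.EtPBC

attribute [local instance 100000] EtCoh.H._proof_1 EtMV.hext
attribute [local instance 200000] EtMV.hextAb

variable {X Y : Scheme.{u}} (f : Y ⟶ X)

/-- classes of degree `q` over preimages of affines vanish -/
def LocVan (G : EtCoh.Ab Y) (q : ℕ) : Prop :=
  ∀ V : X.Etale, IsAffine V.left → ∀ c : Ext ((EtMV.P Y).obj ((EtCoh.bc f).obj V)) G q, c = 0

theorem locVan_succ_X₃ {S : ShortComplex (EtCoh.Ab Y)} (hS : S.ShortExact) [Injective S.X₂] (q : ℕ)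
    (h : LocVan f S.X₁ (q + 2)) : LocVan f S.X₃ (q + 1) := by
  intro V hV c
  obtain ⟨z, hz⟩ := Ext.covariant_sequence_exact₃ ((EtMV.P Y).obj ((EtCoh.bc f).obj V)) hS c
    (rfl : q + 1 + 1 = q + 2) (h V hV _)
  rw [← hz, Ext.eq_zero_of_injective z, Ext.zero_comp]

theorem epi_push_of_locVan {S : ShortComplex (EtCoh.Ab Y)} (hS : S.ShortExact) (h : LocVan f S.X₁ 1) :
    Epi ((EtCoh.push f).map S.g) := by
  refine (Sheaf.isLocallySurjective_iff_epi' AddCommGrpCat.{u + 1} ((EtCoh.push f).map S.g)).1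
    ⟨fun {V} s => (EtFLC.mem_iff _).2 fun x => ?_⟩
  obtain ⟨V', g, hV', w, hw⟩ := EtColimH.exists_affine_nhd V x
  let s' : EtCoh.sect S.X₃ ((EtCoh.bc f).obj V') := ((EtCoh.push f).obj S.X₃).obj.map g.op s
  obtain ⟨z, hz⟩ := Ext.covariant_sequence_exact₃ ((EtMV.P Y).obj ((EtCoh.bc f).obj V')) hS
    (Ext.mk₀ (EtMV.σ.symm s')) (rfl : 0 + 1 = 1) (h V' hV' _)
  obtain ⟨φ, rfl⟩ := (Ext.mk₀_bijective _ _).2 z
  rw [Ext.mk₀_comp_mk₀] at hz
  have e : φ ≫ S.g = EtMV.σ.symm s' := (Ext.mk₀_bijective _ _).1 hz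
  refine ⟨V', g, w, ⟨(EtMV.σ φ : EtCoh.sect S.X₂ ((EtCoh.bc f).obj V')), ?_⟩, hw⟩
  show (S.g.hom.app (op ((EtCoh.bc f).obj V'))).hom (EtMV.σ φ) = _
  rw [← EtMV.σ_comp, e, Equiv.apply_symm_apply]

variable [PreservesFiniteLimits (EtCoh.push f)]

/-- **higher direct images vanish if classes over preimages of affines vanish** -/
theorem isZero_rpush_of_locVan (q : ℕ) : ∀ G : EtCoh.Ab Y, LocVan f G (q + 1) →
    IsZero ((EtCoh.Rpush f (q + 1)).obj G) := by
  induction q with
  | zero =>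
    intro G hG
    refine EtColimH.isZero_succ (EtCoh.push f) (EtMV.injSeq_shortExact G) 0 ?_ ?_
    · exact Functor.isZero_rightDerived_obj_injective_succ _ _ _
    · exact EtColimH.epi_rightDerived_zero _ _ (epi_push_of_locVan f (EtMV.injSeq_shortExact G) hG)
  | succ q ih =>
    intro G hG
    refine EtColimH.isZero_succ (EtCoh.push f) (EtMV.injSeq_shortExact G) (q + 1) ?_ ?_
    · exact Functor.isZero_rightDerived_obj_injective_succ _ _ _
    · exact ⟨fun a b _ => (ih _ (locVan_succ_X₃ f (EtMV.injSeq_shortExact G) q hG)).eq_of_src a b⟩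

omit [PreservesFiniteLimits (EtCoh.push f)] in
theorem preservesFiniteLimits_push : PreservesFiniteLimits (EtCoh.push f) :=
  haveI := (EtCoh.pullPushAdj f).rightAdjoint_preservesLimits
  PreservesLimits.preservesFiniteLimits _

/-- the obstruction to exactness embeds in the first direct image -/
theorem exists_mono_coker_push (G : EtCoh.Ab Y) :
    ∃ j : cokernel ((EtCoh.push f).map (EtMV.injSeq G).g) ⟶ (EtCoh.Rpush f 1).obj G, Mono j := by
  let S := EtMV.injSeq G
  let R := EtCoh.push f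
  have he := (RDerLib.derivedLES R).exact₃ S (EtMV.injSeq_shortExact G) 0 1 rfl
  haveI := (ShortComplex.exact_iff_mono_cokernel_desc _).1 he
  let e : cokernel (R.map S.g) ≅ cokernel ((R.rightDerived 0).map S.g) :=
    cokernel.mapIso _ _ (R.rightDerivedZeroIsoSelf.app S.X₂).symm (R.rightDerivedZeroIsoSelf.app S.X₃).symm
      (R.rightDerivedZeroIsoSelf.inv.naturality S.g)
  exact ⟨_, @mono_comp _ _ _ _ _ e.hom inferInstance _ ((ShortComplex.exact_iff_mono_cokernel_desc _).1 he)⟩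

variable [PreservesFiniteLimits (EtCoh.pull f)]

theorem mono_desc_map {C : Type*} [Category C] [Abelian C] {D : Type*} [Category D] [Abelian D] (R : C ⥤ D)
    [R.Additive] [PreservesFiniteLimits R] {S : ShortComplex C} (hS : S.ShortExact)
    (w : R.map S.f ≫ R.map S.g = 0) : Mono (cokernel.desc (R.map S.f) (R.map S.g) w) := by
  haveI := hS.mono_f
  exact (ShortComplex.exact_iff_mono_cokernel_desc (ShortComplex.mk (R.map S.f) (R.map S.g) w)).1
    (ShortComplex.exact_of_f_is_kernel _ (KernelFork.mapIsLimit _ hS.fIsKernel R))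

/-- degree `≥ 3` cohomology of a direct image vanishes -/
theorem subsingleton_H_push (G : EtCoh.Ab Y) (hR : ∀ q : ℕ, IsZero ((EtCoh.Rpush f (q + 2)).obj G))
    (hR1 : ∀ (Q : EtCoh.Ab X) (j : Q ⟶ (EtCoh.Rpush f 1).obj G), Mono j →
      ∀ p : ℕ, 0 < p → Subsingleton (EtCoh.H X Q p))
    (n : ℕ) (hY : ∀ p : ℕ, 2 ≤ p → Subsingleton (EtCoh.H Y G p)) :
    Subsingleton (EtCoh.H X ((EtCoh.push f).obj G) (n + 3)) := by
  refine subsingleton_of_forall_eq 0 fun x => ?_
  let S := EtMV.injSeq G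
  have hS := EtMV.injSeq_shortExact G
  haveI := hS.mono_f
  let R := EtCoh.push f
  haveI : Injective (R.obj S.X₂) := by
    haveI := EtMV.push_preservesInjective f
    exact R.injective_obj _
  haveI : Mono (R.map S.f) := inferInstance
  let m : cokernel (R.map S.f) ⟶ R.obj S.X₃ := cokernel.desc _ (R.map S.g) (by rw [← R.map_comp, S.zero, R.map_zero])
  haveI : Mono m := mono_desc_map R hS _
  have hA : (ShortComplex.mk (R.map S.f) (cokernel.π (R.map S.f)) (cokernel.condition _)).ShortExact :=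
    { exact := ShortComplex.exact_of_g_is_cokernel _ (cokernelIsCokernel _) }
  have hB : (ShortComplex.mk m (cokernel.π m) (cokernel.condition m)).ShortExact :=
    { exact := ShortComplex.exact_of_g_is_cokernel _ (cokernelIsCokernel _) }
  obtain ⟨z, hz⟩ := Ext.covariant_sequence_exact₁ (EtCoh.const X ℤ) hA x (Ext.eq_zero_of_injective _)
    (n₀ := n + 2) rfl
  have hGY : ∀ y : EtCoh.H Y S.X₃ (n + 2), y = 0 := fun y => by
    obtain ⟨v, hv⟩ := Ext.covariant_sequence_exact₃ (EtCoh.const Y ℤ) hS y (rfl : n + 2 + 1 = n + 3)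
      (@Subsingleton.elim (EtCoh.H Y G (n + 3)) (hY _ (by omega)) _ _)
    rw [← hv, Ext.eq_zero_of_injective v, Ext.zero_comp]
  have hw : Ext.comp z (Ext.mk₀ m) (add_zero (n + 2)) = 0 := by
    haveI := EtMV.isIso_pc f
    have hb := EtMV.U_push_bijective f (EtMV.pc f) S.X₃
      (fun q => EtMV.isZero_rightDerived_X₃ (R := R) hS q (hR q)) (n + 2)
    exact hb.1 ((hGY _).trans (hGY _).symm)
  obtain ⟨t, ht⟩ := Ext.covariant_sequence_exact₁ (EtCoh.const X ℤ) hB z hw (n₀ := n + 1) rfl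
  have ht0 : t = 0 := by
    obtain ⟨j, hj⟩ := exists_mono_coker_push f G
    haveI := hj
    have e : cokernel.π (R.map S.f) ≫ m = R.map S.g := cokernel.π_desc _ _ _
    let d : cokernel m ⟶ cokernel (R.map S.g) := cokernel.desc m (cokernel.π _) (by
      rw [← cancel_epi (cokernel.π (R.map S.f)), ← Category.assoc, e, cokernel.condition, comp_zero])
    let d' : cokernel (R.map S.g) ⟶ cokernel m := cokernel.desc _ (cokernel.π m) (by
      rw [← e, Category.assoc, cokernel.condition, comp_zero])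
    have hd : d ≫ d' = 𝟙 _ := by
      apply coequalizer.hom_ext
      simp [d, d']
    haveI : Mono d := mono_of_mono_fac hd
    exact @Subsingleton.elim (EtCoh.H X (cokernel m) (n + 1)) (hR1 _ (d ≫ j) (mono_comp _ _) (n + 1) (by omega)) _ _
  rw [← hz, ← ht, ht0, Ext.zero_comp, Ext.zero_comp]

/-- torsion of degree `2` cohomology of a direct image -/
theorem nsmul_torsion_H2_push (G : EtCoh.Ab Y) (hR1 : IsZero ((EtCoh.Rpush f 1).obj G)) (r : ℕ)
    (hY : ∀ y : EtCoh.H Y G 2, r • y = 0 → y = 0)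
    (x : EtCoh.H X ((EtCoh.push f).obj G) 2) (hx : r • x = 0) : x = 0 := by
  haveI := EtMV.push_preservesInjective f
  let adj := EtCoh.pullPushAdj f
  let R := EtCoh.push f
  let S₀ := EtMV.injSeq G
  have hS₀ := EtMV.injSeq_shortExact G
  have hA₀ := EtMV.shortExact_map adj hS₀ hR1
  haveI : Injective (S₀.map R).X₂ := R.injective_obj _
  obtain ⟨z, rfl⟩ := Ext.covariant_sequence_exact₁ (EtCoh.const X ℤ) hA₀ x (Ext.eq_zero_of_injective _)
    (n₀ := 1) rfl
  have hrz : r • z = 0 := by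
    have h0 : (r • z).comp hA₀.extClass (rfl : 1 + 1 = 2) = 0 := by
      rw [← hx]
      exact map_nsmul (hA₀.extClass.postcomp (EtCoh.const X ℤ) (rfl : 1 + 1 = 2)) r z
    obtain ⟨w, hw⟩ := Ext.covariant_sequence_exact₃ (EtCoh.const X ℤ) hA₀ (r • z) rfl h0
    rw [← hw, Ext.eq_zero_of_injective w, Ext.zero_comp]
  suffices hz0 : z = 0 by rw [hz0, Ext.zero_comp]
  let S₁ := EtMV.injSeq S₀.X₃
  have hS₁ := EtMV.injSeq_shortExact S₀.X₃
  haveI := hS₁.mono_f
  haveI : Mono (R.map S₁.f) := inferInstance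
  haveI : Injective (R.obj S₁.X₂) := R.injective_obj _
  let m : cokernel (R.map S₁.f) ⟶ R.obj S₁.X₃ := cokernel.desc _ (R.map S₁.g) (by rw [← R.map_comp, S₁.zero, R.map_zero])
  haveI : Mono m := mono_desc_map R hS₁ _
  have hA₁ : (ShortComplex.mk (R.map S₁.f) (cokernel.π (R.map S₁.f)) (cokernel.condition _)).ShortExact :=
    { exact := ShortComplex.exact_of_g_is_cokernel _ (cokernelIsCokernel _) }
  obtain ⟨z', rfl⟩ := Ext.covariant_sequence_exact₁ (EtCoh.const X ℤ) hA₁ z (Ext.eq_zero_of_injective _)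
    (n₀ := 0) rfl
  obtain ⟨φ, rfl⟩ := (Ext.mk₀_bijective _ _).2 z'
  let c := EtMV.pc f
  haveI := EtMV.isIso_pc f
  let ψ : EtCoh.const Y ℤ ⟶ S₁.X₃ := c ≫ (adj.homEquiv _ _).symm (φ ≫ m)
  let y : Ext (EtCoh.const Y ℤ) S₀.X₃ 1 := (Ext.mk₀ ψ).comp hS₁.extClass (zero_add 1)
  have hry : r • y = 0 := by
    have h1 : (r • Ext.mk₀ φ).comp hA₁.extClass (zero_add 1) = 0 := by
      rw [← hrz]
      exact map_nsmul (hA₁.extClass.postcomp (EtCoh.const X ℤ) (zero_add 1)) r (Ext.mk₀ φ)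
    obtain ⟨w, hw⟩ := Ext.covariant_sequence_exact₃ (EtCoh.const X ℤ) hA₁ _ rfl h1
    obtain ⟨l, rfl⟩ := (Ext.mk₀_bijective _ _).2 w
    have hl : l ≫ cokernel.π (R.map S₁.f) = r • φ := by
      refine (Ext.mk₀_bijective _ _).1 ((Ext.mk₀_comp_mk₀ _ _).symm.trans (hw.trans ?_))
      exact (map_nsmul Ext.addEquiv₀.symm r φ).symm
    have h2 : r • ψ = (c ≫ (adj.homEquiv _ _).symm l) ≫ S₁.g := by
      have h3 : r • (φ ≫ m) = l ≫ R.map S₁.g := by
        rw [← Preadditive.nsmul_comp, ← hl, Category.assoc, cokernel.π_desc]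
      haveI := adj.left_adjoint_additive
      rw [← Preadditive.comp_nsmul, Category.assoc]
      congr 1
      rw [← Adjunction.homEquiv_naturality_right_symm, ← h3]
      exact (map_nsmul (adj.homAddEquiv _ _).symm r (φ ≫ m)).symm
    calc r • y = (r • Ext.mk₀ ψ).comp hS₁.extClass (zero_add 1) :=
          (map_nsmul (hS₁.extClass.postcomp (EtCoh.const Y ℤ) (zero_add 1)) r (Ext.mk₀ ψ)).symm
      _ = 0 := by
          rw [show r • Ext.mk₀ ψ = Ext.mk₀ (r • ψ) from (map_nsmul Ext.addEquiv₀.symm r ψ).symm, h2,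
            ← Ext.mk₀_comp_mk₀, Ext.comp_assoc_of_second_deg_zero, hS₁.comp_extClass, Ext.comp_zero]
  have hy0 : y = 0 := by
    have h4 : y.comp hS₀.extClass (rfl : 1 + 1 = 2) = 0 := by
      refine hY _ ?_
      show r • hS₀.extClass.postcomp (EtCoh.const Y ℤ) (rfl : 1 + 1 = 2) y = 0
      rw [← map_nsmul, hry, map_zero]
    obtain ⟨v, hv⟩ := Ext.covariant_sequence_exact₃ (EtCoh.const Y ℤ) hS₀ y rfl h4
    rw [← hv, Ext.eq_zero_of_injective v, Ext.zero_comp]
  obtain ⟨v, hv⟩ := Ext.covariant_sequence_exact₃ (EtCoh.const Y ℤ) hS₁ (Ext.mk₀ ψ) rfl hy0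
  obtain ⟨v, rfl⟩ := (Ext.mk₀_bijective _ _).2 v
  have hψ : v ≫ S₁.g = ψ := (Ext.mk₀_bijective _ _).1 ((Ext.mk₀_comp_mk₀ _ _).symm.trans hv)
  let l := adj.homEquiv _ _ (inv c ≫ v)
  have hφ : l ≫ cokernel.π (R.map S₁.f) = φ := by
    rw [← cancel_mono m, Category.assoc, cokernel.π_desc]
    rw [← Adjunction.homEquiv_naturality_right, Category.assoc, hψ]
    simp [ψ]
  rw [← hφ, ← Ext.mk₀_comp_mk₀, Ext.comp_assoc_of_second_deg_zero, hA₁.comp_extClass, Ext.comp_zero]

end Groth.Agent.EtPBC
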