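import Groth.Agent.EtPBC.GenPoint
import Groth.Agent.EtPBC.RpushVan
import Groth.Agent.EtPBC.Killed
import Groth.Agent.EtIntegral.Push
import Groth.Agent.EtMV.StrictZero
import Groth.Agent.S0642
import Groth.Agent.S3073
import Groth.Agent.S6186
import Groth.Agent.Hensel.Henselization
import Mathlib

/-!
# Higher direct images from the local scheme at a maximal point
-/

set_option autoImplicit false
set_option backward.isDefEq.respectTransparency false
set_option backward.isDefEq.respectTransparency.types false
set_option linter.auxLemma false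
set_option linter.style.haveILetI false

universe u

open CategoryTheory CategoryTheory.Limits CategoryTheory.Abelian AlgebraicGeometry Opposite TopologicalSpace

noncomputable section

namespace Groth.Agent.EtPBC

attribute [local instance 100000] EtCoh.H._proof_1 EtMV.hext
attribute [local instance 200000] EtMV.hextAb

/-- transport of vanishing along a universal homeomorphism -/
theorem subsingleton_H_of_univHomeo {X₀ X : Scheme.{u}} (i : X₀ ⟶ X) [IsIntegralHom i] [UniversallyInjective i]
    [Surjective i] (F : EtCoh.Ab X) (q : ℕ) (h : Subsingleton (EtCoh.H X₀ ((EtCoh.pull i).obj F) q)) :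
    Subsingleton (EtCoh.H X F q) := by
  haveI := Groth.Agent.EtPullExact.pull_preservesFiniteLimits i
  exact (Groth.Agent.S0642.result i F q).1.subsingleton

/-- a field with separable closure equal to itself has no cohomology -/
theorem subsingleton_H_sepClosed (L : Type u) [Field L] [IsSepClosed L] (F : EtCoh.Ab (Spec (CommRingCat.of L)))
    (q : ℕ) (hq : 0 < q) : Subsingleton (EtCoh.H (Spec (CommRingCat.of L)) F q) := by
  refine EtMV.subsingleton_H_of_closedPoints (S := Spec (CommRingCat.of L)) (fun s => ?_) (fun s => ?_) F q hq
  · rw [show ({s} : Set (Spec (CommRingCat.of L))) = Set.univ from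
      Set.eq_univ_of_forall fun t => @Subsingleton.elim ↥(Spec (CommRingCat.of L)) _ t s]
    exact isClosed_univ
  · haveI : s.asIdeal.IsMaximal := by
      rw [(Ideal.eq_bot_or_top s.asIdeal).resolve_right s.isPrime.ne_top]
      exact Ring.isField_iff_maximal_bot.1 (Field.toIsField _)
    exact Hensel.isSepClosed_of_ringEquiv ((RingEquiv.ofBijective
      (algebraMap L s.asIdeal.ResidueField)
      ⟨RingHom.injective _, s.asIdeal.algebraMap_residueField_surjective⟩).trans
      (Scheme.Spec.residueFieldIso (CommRingCat.of L) s).symm.commRingCatIsoToRingEquiv)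

/-- strictly henselian local rings are acyclic -/
theorem subsingleton_H_strictLocal (R : Type u) [CommRing R] [HenselianLocalRing R]
    [IsSepClosed (IsLocalRing.ResidueField R)] (F : EtCoh.Ab (Spec (CommRingCat.of R))) (q : ℕ) (hq : 0 < q) :
    Subsingleton (EtCoh.H (Spec (CommRingCat.of R)) F q) := by
  haveI := Groth.Agent.EtPullExact.pull_preservesFiniteLimits
    (Spec.map (CommRingCat.ofHom (IsLocalRing.residue R)))
  haveI := subsingleton_H_sepClosed (IsLocalRing.ResidueField R)
    ((EtCoh.pull (Spec.map (CommRingCat.ofHom (IsLocalRing.residue R)))).obj F) q hq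
  exact (Groth.Agent.S3073.result R F q).1.subsingleton

/-- the empty scheme is acyclic -/
theorem subsingleton_H_of_isEmpty (S : Scheme.{u}) [IsEmpty S] (F : EtCoh.Ab S) (q : ℕ) (hq : 0 < q) :
    Subsingleton (EtCoh.H S F q) :=
  EtMV.subsingleton_H_of_closedPoints (fun s => isEmptyElim s) (fun s => isEmptyElim s) F q hq

variable {X : Scheme.{u}} [IsNoetherian X] {x : X} (hx : IsMaxPt x)
include hx

/-- **higher direct images vanish at maximal points** -/
theorem zeroAt_rpush (G : EtCoh.Ab (locScheme x)) (q : ℕ) (y : X) (hy : IsMaxPt y) :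
    ZeroAt ((EtCoh.Rpush (locι x) (q + 1)).obj G) y := by
  haveI := quasiCompact_locι hx
  haveI : IsPreimmersion (locι x) := inferInstanceAs (IsPreimmersion (X.fromSpecStalk x))
  obtain ⟨hloc, hH⟩ := Hensel.exists_strictHenselization (X.presheaf.stalk y)
  let R := Hensel.Env (X.presheaf.stalk y)
    (SeparableClosure (IsLocalRing.ResidueField (X.presheaf.stalk y)))
  haveI : HenselianLocalRing R := _root_.Hensel.IsStrictHenselization.henselian (R := X.presheaf.stalk y)
  haveI : IsSepClosed (IsLocalRing.ResidueField R) := hH.isSepClosure.sep_closed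
  let s := Hens2.specOf X y R
  let a : Spec (CommRingCat.of R) ⟶ locScheme y :=
    Spec.map (CommRingCat.ofHom (algebraMap (X.presheaf.stalk y) R))
  have hs : ∀ t, s t = y := fun t => locι_apply hy (a t)
  have hξ : Hens2.geomPt X y R (default : ↥(Spec (CommRingCat.of (IsLocalRing.ResidueField R)))) = y := hs _
  refine (isZero_stalk_iff_zeroAt hξ _).1 ?_
  obtain ⟨e⟩ := Groth.Agent.S6186.result (locι x) y R (q + 1)
  refine IsZero.of_iso ?_ (e.app G)
  refine @AddCommGrpCat.isZero_of_subsingleton _ ?_
  show Subsingleton (EtCoh.H (pullback (locι x) s) ((EtCoh.pull (pullback.fst (locι x) s)).obj G) (q + 1))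
  by_cases hxy : y = x
  · subst hxy
    have hsq : IsPullback a (𝟙 _) (locι y) s :=
      ⟨⟨(Category.id_comp s).symm⟩, ⟨PullbackCone.IsLimit.mk _ (fun c => c.snd)
        (fun c => by
          rw [← cancel_mono (locι y), Category.assoc]
          exact c.condition.symm)
        (fun c => by simp) (fun c m _ h2 => by simpa using h2)⟩⟩
    let w := hsq.isoPullback
    exact subsingleton_H_of_univHomeo w.hom _ _ (subsingleton_H_strictLocal R _ (q + 1) q.succ_pos)
  · haveI : IsEmpty ↑(pullback (locι x) s) := ⟨fun z => hxy <| by
      have hc := congrArg (fun m : pullback (locι x) s ⟶ X => m z) (pullback.condition (f := locι x) (g := s))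
      exact ((hs _).symm.trans hc.symm).trans (locι_apply hx _)⟩
    exact subsingleton_H_of_isEmpty _ _ _ q.succ_pos

/-- killed sheaves on the local scheme: affine étale schemes have no classes above degree one -/
theorem locVan_of_killedVan {N : ℕ} (h : KilledVan N (X.residueField x)) (G : EtCoh.Ab (locScheme x))
    (hG : Killed N G) (o : (locScheme x).Etale) [IsAffine o.left] (q : ℕ) (hq : 2 ≤ q) :
    Subsingleton (Ext ((EtMV.P (locScheme x)).obj o) G q) := by
  haveI := isArtinianScheme_locScheme hx
  haveI := subsingleton_locScheme hx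
  haveI : Etale o.hom := o.prop
  haveI := EtMV.jcont_etale o.hom
  haveI := EtMV.lqf_of_etale o.hom
  haveI : IsLocallyArtinian (locScheme x) := inferInstance
  haveI : IsAffine ((𝟭 Scheme).obj o.left) := inferInstanceAs (IsAffine o.left)
  haveI : IsLocallyArtinian ((Functor.fromPUnit (locScheme x)).obj o.right) :=
    inferInstanceAs (IsLocallyArtinian (locScheme x))
  haveI : IsAffine ((Functor.fromPUnit (locScheme x)).obj o.right) :=
    inferInstanceAs (IsAffine (locScheme x))
  haveI : IsAffineHom o.hom := isAffineHom_of_isAffine o.hom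
  haveI : IsFinite o.hom := IsFinite.of_locallyQuasiFinite o.hom
  refine (EtMV.subsingleton_H_iff_of_etale o.hom G q).1 ?_
  haveI := Groth.Agent.EtPullExact.pull_preservesFiniteLimits o.hom
  let G' := (EtCoh.pull o.hom).obj G
  have hsub : Subsingleton (EtCoh.H (locScheme x) ((EtCoh.push o.hom).obj G') q) := by
    let i : Spec (X.residueField x) ⟶ locScheme x := Spec.map (X.residue x)
    haveI : IsClosedImmersion i := IsClosedImmersion.spec_of_surjective _ (Scheme.residue_surjective X x)
    haveI : Surjective i := ⟨fun t => ⟨default, Subsingleton.elim _ _⟩⟩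
    exact subsingleton_H_of_univHomeo i _ q
      (h ((EtCoh.pull i).obj ((EtCoh.push o.hom).obj G')) (killed_pull i (killed_push o.hom (killed_pull o.hom hG))) q hq)
  exact @Function.Surjective.subsingleton _ _ _ hsub
    (EtMV.HofPush_bijective o.hom G' (fun n => EtIntegral.Rpush_succ_isZero o.hom G' n) q).2

/-- killed sheaves on the local scheme have no cohomology above degree one -/
theorem subsingleton_H_locScheme {N : ℕ} (h : KilledVan N (X.residueField x)) (G : EtCoh.Ab (locScheme x))
    (hG : Killed N G) (q : ℕ) (hq : 2 ≤ q) : Subsingleton (EtCoh.H (locScheme x) G q) := by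
  let i : Spec (X.residueField x) ⟶ locScheme x := Spec.map (X.residue x)
  haveI := subsingleton_locScheme hx
  haveI : IsClosedImmersion i := IsClosedImmersion.spec_of_surjective _ (Scheme.residue_surjective X x)
  haveI : Surjective i := ⟨fun t => ⟨default, Subsingleton.elim _ _⟩⟩
  exact subsingleton_H_of_univHomeo i _ q (h _ (killed_pull i hG) q hq)

/-- higher direct images of killed sheaves vanish from degree two on -/
theorem isZero_rpush_killed {N : ℕ} (h : KilledVan N (X.residueField x)) (G : EtCoh.Ab (locScheme x))
    (hG : Killed N G) (q : ℕ) : IsZero ((EtCoh.Rpush (locι x) (q + 2)).obj G) := by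
  haveI := quasiCompact_locι hx
  haveI := preservesFiniteLimits_push (locι x)
  refine isZero_rpush_of_locVan (locι x) (q + 1) G fun V hV c => ?_
  haveI := affine_bc hx V
  exact @Subsingleton.elim _ (locVan_of_killedVan hx h G hG ((EtCoh.bc (locι x)).obj V) (q + 2) (by omega)) c 0

end Groth.Agent.EtPBC
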