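import Groth.Agent.EtPBC.LamChart
import Groth.Agent.EtPBC.AffineCurveRed
import Groth.Agent.EtPBC.LocSheaf
import Groth.Agent.EtShriekStalk.Basic
import Groth.Agent.Nagata.Dense
import Mathlib

/-!
# Finite generation of the cohomology of constructible sheaves of `Λ`-modules on curves
-/

set_option autoImplicit false
set_option backward.isDefEq.respectTransparency false
set_option backward.isDefEq.respectTransparency.types false
set_option linter.auxLemma false
set_option linter.style.haveILetI false
set_option linter.unusedSectionVars false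
set_option maxHeartbeats 1000000

universe u

open CategoryTheory CategoryTheory.Limits CategoryTheory.Abelian AlgebraicGeometry Opposite TopologicalSpace

noncomputable section

namespace Groth.Agent.EtPBC.Lam

attribute [local instance 100000] EtCoh.H._proof_1 EtMV.hext
attribute [local instance 200000] EtMV.hextAb

theorem epi_pull_map {X Y : Scheme.{u}} (g : Y ⟶ X) {F G : EtCoh.Ab X} (v : F ⟶ G) [Epi v] :
    Epi ((EtCoh.pull g).map v) := by
  haveI := Functor.preservesEpimorphisms_of_adjunction (EtCoh.pullPushAdj g)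
  infer_instance

variable {Λ : Type} [CommRing Λ] [IsNoetherianRing Λ]
variable {k : Type u} [Field k] [IsAlgClosed k]

/-- on a point, global sections are right exact -/
theorem finite_H_zero_point_of_epi {L L' : EtLam.Sheaf Λ (Spec (CommRingCat.of k))} (v : L.carrier ⟶ L'.carrier)
    [Epi v] (hv : IsHom v) [Module.Finite Λ (EtCoh.H (Spec (CommRingCat.of k)) L.carrier 0)] :
    Module.Finite Λ (EtCoh.H (Spec (CommRingCat.of k)) L'.carrier 0) := by
  haveI : Module.Finite Λ (EtCoh.H (Spec (CommRingCat.of k)) (kerL v hv).carrier (0 + 1)) := by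
    haveI := subsingleton_H_sepClosed k (kerL v hv).carrier (0 + 1) Nat.one_pos
    infer_instance
  exact finite_X₃ (L₁ := kerL v hv) (L₂ := L) (L₃ := L') (f := kernel.ι v) (g := v) (w := kernel.condition v)
    { exact := ShortComplex.exact_of_f_is_kernel _ (kernelIsKernel v) } (isHom_kerι v hv) hv 0

variable {X : Scheme.{u}} (f : X ⟶ Spec (CommRingCat.of k)) [IsSeparated f] [LocallyOfFiniteType f] [QuasiCompact f]
  (hdim : topologicalKrullDim X ≤ 1) (L : EtLam.Sheaf Λ X) (hC : HasCharts f L)

include hdim hC in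
/-- stalks at rational points -/
theorem finite_H_pull_point (x : Spec (CommRingCat.of k) ⟶ X) (hx : x ≫ f = 𝟙 _) (q : ℕ) :
    Module.Finite Λ (EtCoh.H (Spec (CommRingCat.of k)) (EtLam.pullback x L).carrier q) := by
  obtain ⟨M, _, _, _, N, ε, hε, hN, hNM⟩ := exists_point_const f L hC x hx
  haveI : IsClosedImmersion (x ≫ f) := by rw [hx]; infer_instance
  haveI : IsClosedImmersion x := IsClosedImmersion.of_comp x f
  haveI : IsNoetherian (Spec (CommRingCat.of k)) := inferInstance
  haveI : PreservesColimitsOfSize.{u + 1, u + 1} (EtPBC.cstF (Spec (CommRingCat.of k))) :=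
    (constantSheafAdj _ AddCommGrpCat.{u + 1} (EtCohDesc.topTerminal (Spec (CommRingCat.of k)))).leftAdjoint_preservesColimits
  haveI : Module.Finite Λ (EtCoh.H (Spec (CommRingCat.of k)) (constL (Spec (CommRingCat.of k)) M).carrier q) :=
    moduleFinite_coefL (EtPBC.cstF (Spec (CommRingCat.of k))) q N hN.1 (fun ℓ hl _ =>
      EtPBC.finite_H_const (Spec (CommRingCat.of k)) (𝟙 _) ((S9683.result x).1.trans hdim)
        (⟨hl.pos, Or.inl inferInstance⟩ : GoodN (𝟙 _) ℓ) q) M hNM
  exact moduleFinite_of_iso (L := constL (Spec (CommRingCat.of k)) M) (L' := EtLam.pullback x L) ε hε q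

include hdim hC in
/-- finite curves over `X` on which the sheaf is constant away from finitely many closed points -/
theorem finite_H_pull_of_chart {T : Scheme.{u}} (g : T ⟶ X) [IsFinite g] (O : T.Opens) [IsAffine O.toScheme]
    (hO : ∀ x : T, ¬ IsClosed ({x} : Set T) → x ∈ O) {M : Type} [AddCommGroup M] [Module Λ M] [Module.Finite Λ M]
    {N : ℕ} (hN : GoodN f N) (hNM : ∀ m : M, N • m = 0)
    (ε : EtCoh.const O.toScheme M ≅ (EtCoh.pull (O.ι ≫ g)).obj L.carrier)
    (hε : IsHom (L := constL O.toScheme M) (L' := EtLam.pullback (O.ι ≫ g) L) ε.hom) (q : ℕ) :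
    Module.Finite Λ (EtCoh.H T (EtLam.pullback g L).carrier q) := by
  classical
  haveI : IsNoetherian X := isNoetherian_of_field f
  let fT := g ≫ f
  haveI : IsNoetherian T := isNoetherian_of_field fT
  have hdimT : topologicalKrullDim T ≤ 1 := (S9683.result g).1.trans hdim
  have hsep : ∀ x : T, IsClosed ({x} : Set T) → IsSepClosed (T.residueField x) :=
    fun x hx => isSepClosed_of_isClosed fT x hx
  haveI : Etale O.ι := inferInstance
  haveI := EtMV.jcont_etale O.ι
  haveI := EtShriekStalk.preservesFiniteLimits O.ι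
  haveI : PreservesColimitsOfSize.{u + 1, u + 1} (EtPBC.cstF O.toScheme) :=
    (constantSheafAdj _ AddCommGrpCat.{u + 1} (EtCohDesc.topTerminal O.toScheme)).leftAdjoint_preservesColimits
  haveI : PreservesColimitsOfSize.{u + 1, u + 1} (EtShriek.extZero O.ι) :=
    (EtShriek.extZeroAdj O.ι).leftAdjoint_preservesColimits
  let Φ : AddCommGrpCat.{u + 1} ⥤ EtCoh.Ab T := EtPBC.cstF O.toScheme ⋙ EtShriek.extZero O.ι
  haveI : PreservesColimitsOfSize.{u + 1, u + 1} Φ := comp_preservesColimits _ _
  haveI : PreservesFiniteLimits Φ := comp_preservesFiniteLimits _ _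
  haveI : Φ.Additive := Functor.additive_of_preserves_binary_products _
  haveI hP : ∀ r, Module.Finite Λ (EtCoh.H T (coefL (Λ := Λ) Φ M).carrier r) := fun r =>
    moduleFinite_coefL Φ r N hN.1 (fun ℓ hl hd => by
      let U : T.Etale := Scheme.Etale.mk O.ι
      haveI : IsAffine U.left := inferInstanceAs (IsAffine O.toScheme)
      haveI : Etale U.hom := inferInstanceAs (Etale O.ι)
      haveI : EtShriek.JCont U.hom := EtMV.jcont_etale U.hom
      haveI := EtPBC.finite_H_extZeroConst T fT hdimT U ((hN.comp g).of_dvd hd) r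
      exact @finite_H_of_iso T _ _ (EtCons.extZeroConstIso U (ZMod ℓ)) r this) M hNM
  let G := EtLam.pullback g L
  let e : EtCoh.const O.toScheme M ≅ (EtShriek.restrAlong O.ι).obj G.carrier :=
    ε ≪≫ (EtCore.pullComp O.ι g).app L.carrier ≪≫ (EtPushStalk.restrPullIso O.ι).symm.app G.carrier
  have he : ∀ r, (constL O.toScheme M).act r ≫ e.hom = e.hom ≫ (EtShriek.restrAlong O.ι).map (G.act r) := fun r => by
    have h2 : (EtCoh.pull (O.ι ≫ g)).map (L.act r) ≫ (EtCore.pullComp O.ι g).hom.app L.carrier =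
        (EtCore.pullComp O.ι g).hom.app L.carrier ≫ (EtCoh.pull O.ι).map (G.act r) :=
      (EtCore.pullComp O.ι g).hom.naturality (L.act r)
    have h3 : (EtCoh.pull O.ι).map (G.act r) ≫ (EtPushStalk.restrPullIso O.ι).inv.app G.carrier =
        (EtPushStalk.restrPullIso O.ι).inv.app G.carrier ≫ (EtShriek.restrAlong O.ι).map (G.act r) :=
      (EtPushStalk.restrPullIso O.ι).inv.naturality (G.act r)
    show (constL O.toScheme M).act r ≫ ε.hom ≫ (EtCore.pullComp O.ι g).hom.app L.carrier ≫
        (EtPushStalk.restrPullIso O.ι).inv.app G.carrier =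
      (ε.hom ≫ (EtCore.pullComp O.ι g).hom.app L.carrier ≫
        (EtPushStalk.restrPullIso O.ι).inv.app G.carrier) ≫ _
    simp only [Category.assoc]
    erw [reassoc_of% (hε r), reassoc_of% h2, h3]
  let adj := EtShriek.extZeroAdj O.ι
  let P := coefL (Λ := Λ) Φ M
  let ψ : P.carrier ⟶ G.carrier := (adj.homEquiv (EtCoh.const O.toScheme M) G.carrier).symm e.hom
  have hψ : IsHom (L := P) (L' := G) ψ := fun r =>
    (adj.homEquiv_naturality_left_symm ((constL O.toScheme M).act r) e.hom).symm.trans
      ((congrArg (adj.homEquiv _ _).symm (he r)).trans (adj.homEquiv_naturality_right_symm e.hom (G.act r)))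
  have hiso : ∀ x : T, x ∈ O → IsoAt ψ x := by
    intro x hx
    obtain ⟨Ω, _, _, ξ', hξ'⟩ := exists_geomPt (X := O.toScheme) ⟨x, hx⟩
    have hξ : (ξ' ≫ O.ι) (default : ↥(Spec (CommRingCat.of Ω))) = x := by
      rw [show (ξ' ≫ O.ι) (default : ↥(Spec (CommRingCat.of Ω))) = O.ι (ξ' default) from rfl, hξ']
      rfl
    have h1 : adj.unit.app (EtCoh.const O.toScheme M) ≫ (EtShriek.restrAlong O.ι).map ψ = e.hom :=
      (adj.homEquiv_unit (f := ψ)).symm.trans ((adj.homEquiv _ _).apply_symm_apply e.hom)
    haveI := EtPushStalk.isIso_unit_extZero O.ι (EtCoh.const O.toScheme M)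
    haveI : IsIso (adj.unit.app (EtCoh.const O.toScheme M) ≫ (EtShriek.restrAlong O.ι).map ψ) := by
      rw [h1]; infer_instance
    haveI : IsIso ((EtShriek.restrAlong O.ι).map ψ) :=
      IsIso.of_isIso_comp_left (adj.unit.app (EtCoh.const O.toScheme M)) _
    haveI : IsIso ((EtCoh.pull O.ι).map ψ) := (NatIso.isIso_map_iff (EtPushStalk.restrPullIso O.ι) ψ).1 inferInstance
    haveI : IsIso ((EtCoh.stalk (ξ' ≫ O.ι)).map ψ) :=
      (NatIso.isIso_map_iff (EtStalk.stalkPullIso O.ι ξ') ψ).2
        (inferInstanceAs (IsIso ((EtCoh.stalk ξ').map ((EtCoh.pull O.ι).map ψ))))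
    exact (isoAt_iff hξ ψ).2 (ConcreteCategory.bijective_of_isIso _)
  let K := kerL ψ hψ
  let I := cokerL (L := kerL ψ hψ) (L' := P) (kernel.ι ψ) (isHom_kerι ψ hψ)
  let v : I.carrier ⟶ G.carrier := cokernel.desc _ ψ (kernel.condition ψ)
  have hv : IsHom (L := I) (L' := G) v := fun r => by
    have h1 := isHom_cokerπ (L := K) (L' := P) (kernel.ι ψ) (isHom_kerι ψ hψ) r
    have h2 : cokernel.π (kernel.ι ψ) ≫ v = ψ := cokernel.π_desc _ _ _
    refine (cancel_epi (cokernel.π (kernel.ι ψ))).1 ?_
    rw [← reassoc_of% h1]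
    exact (congrArg (P.act r ≫ ·) h2).trans ((hψ r).trans
      ((congrArg (· ≫ G.act r) h2.symm).trans (Category.assoc _ _ _)))
  haveI : Mono v := (ShortComplex.exact_iff_mono_cokernel_desc
    (ShortComplex.mk (kernel.ι ψ) ψ (kernel.condition ψ))).1
    (ShortComplex.exact_of_f_is_kernel _ (kernelIsKernel ψ))
  let C := cokerL v hv
  have hKs : SuppClosed K.carrier := fun x hx => (hiso x (hO x hx)).1
  have hCO : ∀ x ∈ O, ZeroAt C.carrier x := fun x hx => by
    have hw : ψ ≫ cokernel.π v = 0 := by
      exact (congrArg (· ≫ cokernel.π v) (cokernel.π_desc (kernel.ι ψ) ψ (kernel.condition ψ)).symm).trans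
        ((Category.assoc _ _ _).trans ((congrArg (cokernel.π (kernel.ι ψ) ≫ ·) (cokernel.condition v)).trans comp_zero))
    haveI : Epi (cokernel.desc ψ (cokernel.π v) hw) := epi_of_epi_fac (cokernel.π_desc ψ (cokernel.π v) hw)
    exact zeroAt_of_epi (cokernel.desc ψ (cokernel.π v) hw) (hiso x hx).2
  haveI hK : ∀ r, Module.Finite Λ (EtCoh.H T K.carrier r) := fun r => by
    rcases Nat.eq_zero_or_pos r with rfl | hr
    · exact finite_zero_of_mono (L := K) (L' := P) (kernel.ι ψ) (isHom_kerι ψ hψ)
    · haveI := subsingleton_H_of_suppClosed hsep K.carrier hKs r hr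
      infer_instance
  haveI hC : ∀ r, Module.Finite Λ (EtCoh.H T C.carrier r) := fun r => by
    rcases Nat.eq_zero_or_pos r with rfl | hr
    · have hBc : IsClosed ((O : Set T)ᶜ) := O.isOpen.isClosed_compl
      have hBpt : ∀ x ∈ ((O : Set T)ᶜ), IsClosed ({x} : Set T) := fun x hx => by_contra fun h => hx (hO x h)
      have hBf : ((O : Set T)ᶜ).Finite := finite_closed_of_closedPts T _ hBc hBpt
      let b : Fin hBf.toFinset.card → T := fun i => (hBf.toFinset.equivFin.symm i).1
      have hb : ∀ i, b i ∈ closedPoints T := fun i =>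
        hBpt _ (hBf.mem_toFinset.1 (hBf.toFinset.equivFin.symm i).2)
      let z : ∀ _ : Fin hBf.toFinset.card, Spec (CommRingCat.of k) ⟶ T := fun i =>
        ((pointEquivClosedPoint fT).symm ⟨b i, hb i⟩).1
      have hz : ∀ i, z i ≫ fT = 𝟙 _ := fun i => ((pointEquivClosedPoint fT).symm ⟨b i, hb i⟩).2
      haveI : ∀ i, IsFinite (z i) := fun i => by
        haveI : IsClosedImmersion (z i ≫ fT) := by rw [hz i]; infer_instance
        haveI : IsClosedImmersion (z i) := IsClosedImmersion.of_comp (z i) fT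
        infer_instance
      have hzb : ∀ i, z i (IsLocalRing.closedPoint k) = b i := fun i =>
        congrArg Subtype.val ((pointEquivClosedPoint fT).apply_symm_apply ⟨b i, hb i⟩)
      let A : Fin hBf.toFinset.card → EtLam.Sheaf Λ T := fun i =>
        EtLam.pushforward (z i) (EtLam.pullback (z i) C)
      haveI : ∀ i, Module.Finite Λ (EtCoh.H T (A i).carrier 0) := fun i => by
        have hx : (z i ≫ g) ≫ f = 𝟙 _ := (Category.assoc _ _ _).trans (hz i)
        haveI := finite_H_pull_point f hdim L hC (z i ≫ g) hx 0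
        haveI : Module.Finite Λ (EtCoh.H (Spec (CommRingCat.of k)) (EtLam.pullback (z i) G).carrier 0) :=
          moduleFinite_of_iso (L := EtLam.pullback (z i ≫ g) L) (L' := EtLam.pullback (z i) G)
            ((EtCore.pullComp (z i) g).app L.carrier) (fun r => (EtCore.pullComp (z i) g).hom.naturality (L.act r)) 0
        haveI := epi_pull_map (z i) (cokernel.π v)
        haveI := finite_H_zero_point_of_epi (L := EtLam.pullback (z i) G) (L' := EtLam.pullback (z i) C)
          ((EtCoh.pull (z i)).map (cokernel.π v)) ((isHom_cokerπ v hv).map (EtCoh.pull (z i)))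
        exact finite_push (z i) (EtLam.pullback (z i) C) 0
      haveI := finite_sum A 0
      let w : C.carrier ⟶ (sumL A).carrier :=
        biproduct.lift (f := fun i => (A i).carrier) fun i => (EtCoh.pullPushAdj (z i)).unit.app C.carrier
      haveI : Mono w :=
        mono_unit_family z C.carrier fun x => by
          by_cases hx : x ∈ O
          · exact Or.inr (hCO x hx)
          · refine Or.inl ⟨hBf.toFinset.equivFin ⟨x, hBf.mem_toFinset.2 hx⟩, IsLocalRing.closedPoint k, ?_⟩
            rw [hzb]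
            simp [b]
      exact finite_zero_of_mono (L := C) (L' := sumL A) w
        (isHom_lift A _ fun i r => (EtCoh.pullPushAdj (z i)).unit.naturality (C.act r))
    · haveI := subsingleton_H_of_suppClosed hsep C.carrier (fun x hx => hCO x (hO x hx)) r hr
      infer_instance
  have hA : (ShortComplex.mk (kernel.ι ψ) (cokernel.π (kernel.ι ψ)) (cokernel.condition _)).ShortExact :=
    { exact := ShortComplex.exact_of_g_is_cokernel _ (cokernelIsCokernel _) }
  have hB : (ShortComplex.mk v (cokernel.π v) (cokernel.condition v)).ShortExact :=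
    { exact := ShortComplex.exact_of_g_is_cokernel _ (cokernelIsCokernel _) }
  haveI : Module.Finite Λ (EtCoh.H T I.carrier q) :=
    finite_X₃ (L₁ := K) (L₂ := P) (L₃ := I) hA (isHom_kerι ψ hψ) (isHom_cokerπ (L := K) (L' := P) (kernel.ι ψ) (isHom_kerι ψ hψ)) q
  exact finite_X₂ (L₁ := I) (L₂ := G) (L₃ := C) hB hv (isHom_cokerπ v hv) q

section Units

variable {n : ℕ} {P : Fin n → Scheme.{u}} (π : ∀ i, P i ⟶ X)

/-- sheaves with finitely generated cohomology on all finite schemes over a covering family -/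
def Good (Q : EtLam.Sheaf Λ X) : Prop :=
  ∀ (i : Fin n) (T : Scheme.{u}) (h : T ⟶ P i) [IsFinite h] (q : ℕ),
    Module.Finite Λ (EtCoh.H T (EtLam.pullback (h ≫ π i) Q).carrier q)

/-- the targets of the units -/
def unitsL (Q : EtLam.Sheaf Λ X) : EtLam.Sheaf Λ X :=
  sumL fun i => EtLam.pushforward (π i) (EtLam.pullback (π i) Q)

/-- the units -/
def unitsHom (Q : EtLam.Sheaf Λ X) : Q.carrier ⟶ (unitsL π Q).carrier :=
  biproduct.lift (f := fun i => (EtLam.pushforward (π i) (EtLam.pullback (π i) Q)).carrier)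
    fun i => (EtCoh.pullPushAdj (π i)).unit.app Q.carrier

omit [IsNoetherianRing Λ] in
theorem isHom_unitsHom (Q : EtLam.Sheaf Λ X) : IsHom (L' := unitsL π Q) (unitsHom π Q) :=
  isHom_lift _ _ fun i r => (EtCoh.pullPushAdj (π i)).unit.naturality (Q.act r)

variable [∀ i, IsFinite (π i)] (hπ : ∀ x : X, ∃ i, x ∈ Set.range (π i))

include hπ in
omit [IsNoetherianRing Λ] in
theorem mono_unitsHom (Q : EtLam.Sheaf Λ X) : Mono (unitsHom π Q) :=
  mono_unit_family π Q.carrier fun x => Or.inl (hπ x)

variable {π} {Q : EtLam.Sheaf Λ X} (hQ : Good π Q)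

include hQ in
theorem Good.finite_units (q : ℕ) : Module.Finite Λ (EtCoh.H X (unitsL π Q).carrier q) := by
  haveI : ∀ i, Module.Finite Λ (EtCoh.H X (EtLam.pushforward (π i) (EtLam.pullback (π i) Q)).carrier q) := fun i => by
    haveI := hQ i (P i) (𝟙 _) q
    haveI := moduleFinite_of_iso (L := EtLam.pullback (𝟙 _ ≫ π i) Q) (L' := EtLam.pullback (π i) Q)
      ((EtCore.pullCongr (Category.id_comp (π i))).app Q.carrier)
      (fun r => (EtCore.pullCongr (Category.id_comp (π i))).hom.naturality (Q.act r)) q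
    exact finite_push (π i) (EtLam.pullback (π i) Q) q
  exact finite_sum _ q

include hπ hQ in
theorem Good.coker : Good π (cokerL (unitsHom π Q) (isHom_unitsHom π Q)) := by
  intro i T h _ q
  let g : T ⟶ X := h ≫ π i
  haveI := EtPullExact.pull_preservesFiniteLimits g
  haveI : IsFinite g := inferInstance
  haveI := mono_unitsHom π hπ Q
  let u := unitsHom π Q
  have hu := isHom_unitsHom π Q
  have hS : (ShortComplex.mk u (cokernel.π u) (cokernel.condition u)).ShortExact :=
    { exact := ShortComplex.exact_of_g_is_cokernel _ (cokernelIsCokernel _) }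
  have hS' := shortExact_map (EtCoh.pull g) hS
  let A : Fin n → EtLam.Sheaf Λ X := fun a => EtLam.pushforward (π a) (EtLam.pullback (π a) Q)
  haveI hA : ∀ a, Module.Finite Λ (EtCoh.H T (EtLam.pullback g (A a)).carrier q) := fun a => by
    let T' := Limits.pullback (π a) g
    let g' : T' ⟶ P a := Limits.pullback.fst (π a) g
    let π' : T' ⟶ T := Limits.pullback.snd (π a) g
    have sq : IsPullback g' π' (π a) g := IsPullback.of_hasPullback _ _
    haveI : IsFinite g' := MorphismProperty.pullback_fst _ _ ‹IsFinite g›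
    haveI : IsFinite π' := MorphismProperty.pullback_snd _ _ (‹∀ i, IsFinite (π i)› a)
    haveI := hQ a T' g' q
    haveI := moduleFinite_of_iso (L := EtLam.pullback (g' ≫ π a) Q)
      (L' := EtLam.pullback g' (EtLam.pullback (π a) Q))
      ((EtCore.pullComp g' (π a)).app Q.carrier) (fun r => (EtCore.pullComp g' (π a)).hom.naturality (Q.act r)) q
    haveI := finite_push π' (EtLam.pullback g' (EtLam.pullback (π a) Q)) q
    haveI := EtIntegralBC.isIso_baseChange0 sq (EtLam.pullback (π a) Q).carrier
    let b := EtCoh.baseChange0 (π a) g π' g' sq.w (EtLam.pullback (π a) Q).carrier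
    have hb : IsHom (L := EtLam.pullback g (A a))
        (L' := EtLam.pushforward π' (EtLam.pullback g' (EtLam.pullback (π a) Q))) b := fun r =>
      EtIntegralBC.baseChange0_natural (π a) g π' g' sq.w ((EtLam.pullback (π a) Q).act r)
    exact moduleFinite_of_iso (L := EtLam.pushforward π' (EtLam.pullback g' (EtLam.pullback (π a) Q)))
      (L' := EtLam.pullback g (A a)) (asIso b).symm (IsHom.inv hb) q
  haveI := finite_sum (fun a => EtLam.pullback g (A a)) q
  haveI hM : Module.Finite Λ (EtCoh.H T (EtLam.pullback g (unitsL π Q)).carrier q) := by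
    let e := (EtCoh.pull g).mapBiproduct fun a => (A a).carrier
    have he : IsHom (L := EtLam.pullback g (unitsL π Q)) (L' := sumL fun a => EtLam.pullback g (A a)) e.hom := by
      show IsHom (L := EtLam.pullback g (unitsL π Q)) (L' := sumL fun a => EtLam.pullback g (A a))
        (biproduct.lift fun a => (EtCoh.pull g).map (biproduct.π (fun a => (A a).carrier) a))
      exact isHom_lift _ _ fun a => (isHom_π A a).map (EtCoh.pull g)
    exact moduleFinite_of_iso (L := sumL fun a => EtLam.pullback g (A a)) (L' := EtLam.pullback g (unitsL π Q))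
      e.symm (show IsHom (L := sumL fun a => EtLam.pullback g (A a)) (L' := EtLam.pullback g (unitsL π Q)) e.inv from IsIso.Iso.inv_hom e ▸ IsHom.inv he) q
  haveI := hQ i T h (q + 1)
  exact finite_X₃ (L₁ := EtLam.pullback g Q) (L₂ := EtLam.pullback g (unitsL π Q))
    (L₃ := EtLam.pullback g (cokerL u hu)) hS' (hu.map (EtCoh.pull g))
    ((isHom_cokerπ u hu).map (EtCoh.pull g)) q

include hπ hQ in
/-- **cohomology of good sheaves** -/
theorem Good.finite (q : ℕ) : Module.Finite Λ (EtCoh.H X Q.carrier q) := by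
  induction q generalizing Q with
  | zero =>
    haveI := mono_unitsHom π hπ Q
    haveI := hQ.finite_units 0
    exact finite_zero_of_mono (unitsHom π Q) (isHom_unitsHom π Q)
  | succ q ih =>
    haveI := mono_unitsHom π hπ Q
    haveI := hQ.finite_units (q + 1)
    let u := unitsHom π Q
    have hS : (ShortComplex.mk u (cokernel.π u) (cokernel.condition u)).ShortExact :=
      { exact := ShortComplex.exact_of_g_is_cokernel _ (cokernelIsCokernel _) }
    haveI := ih (hQ.coker hπ)
    exact finite_X₁_succ (L₁ := Q) (L₂ := unitsL π Q) (L₃ := cokerL u (isHom_unitsHom π Q)) hS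
      (isHom_unitsHom π Q) (isHom_cokerπ u (isHom_unitsHom π Q)) q

end Units

include hdim hC in
/-- **finite generation of the cohomology of constructible sheaves of modules on curves** -/
theorem moduleFinite_H_curve (q : ℕ) : Module.Finite Λ (EtCoh.H X L.carrier q) := by
  classical
  have hC0 := hC
  haveI : IsNoetherian X := isNoetherian_of_field f
  have hfin : {x : X | IsMaxPt x}.Finite := finite_isMaxPt X
  choose W p hWa hlqf hlft M iM₁ iM₂ iM₃ N ε hε hxr hN hNM using hC
  let η : Fin hfin.toFinset.card → X := fun i => (hfin.toFinset.equivFin.symm i).1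
  have hcomp : ∀ x, ∃ (T : Scheme.{u}) (j : W x ⟶ T) (π : T ⟶ X), IsOpenImmersion j ∧ DenseRange j.base ∧
      IsFinite π ∧ j ≫ π = p x := fun x => by
    haveI := hWa x; haveI := hlqf x; haveI := hlft x
    haveI : IsAffineHom (p x ≫ f) := isAffineHom_of_isAffine _
    haveI : IsSeparated (p x) := IsSeparated.of_comp (p x) f
    haveI : QuasiCompact (p x) := QuasiCompact.of_comp (p x) f
    obtain ⟨T₀, j₀, π₀, _, _, _, hj₀⟩ := LocImmFT.exists_openImmersion_finite (p x)
    obtain ⟨hj, _, _, hd, _, hjπ⟩ := Nagata.exists_dense_image (p x) j₀ π₀ hj₀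
    exact ⟨j₀.image, j₀.toImage, j₀.imageι ≫ π₀, hj, hd, inferInstance, hjπ⟩
  choose P j π hj hd hπf hjπ using hcomp
  haveI : ∀ i, IsFinite (π (η i)) := fun i => hπf _
  refine Good.finite (π := fun i => π (η i)) (Q := L) (fun x => ?_) (fun i T h _ r => ?_) q
  · obtain ⟨ξ, hξ, hξx⟩ := exists_isMaxPt x
    let i : Fin hfin.toFinset.card := hfin.toFinset.equivFin ⟨ξ, hfin.mem_toFinset.2 hξ⟩
    have hi : η i = ξ := by simp [η, i]
    refine ⟨i, ?_⟩
    obtain ⟨w, hw⟩ := hxr (η i)
    have hr : IsClosed (Set.range (π (η i))) := (π (η i)).isClosedMap.isClosed_range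
    refine hξx.mem_closed hr ⟨j (η i) w, ?_⟩
    have h1 : π (η i) (j (η i) w) = p (η i) w := congrArg (fun m : W (η i) ⟶ X => m w) (hjπ (η i))
    exact h1.trans (hw.trans hi)
  · let x := η i
    haveI := hWa x; haveI := hj x; haveI := iM₃ x; haveI := hπf x
    let O : T.Opens := h ⁻¹ᵁ (j x).opensRange
    haveI : IsAffine O.toScheme := (isAffineOpen_opensRange (j x)).preimage h
    let a : O.toScheme ⟶ W x := (h ∣_ (j x).opensRange) ≫ (j x).isoOpensRange.inv
    have ha : a ≫ j x = O.ι ≫ h := by
      simp [a, O]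
    have hw : a ≫ p x = O.ι ≫ h ≫ π x := by rw [← hjπ x, ← Category.assoc, ha, Category.assoc]
    obtain ⟨ε', hε'⟩ := exists_const_comp L (p x) a _ hw (ε x) (hε x)
    haveI : IsFinite (h ≫ π x) := inferInstance
    refine finite_H_pull_of_chart f hdim L hC0 (h ≫ π x) O (fun t ht => ?_) (hN x) (hNM x) ε' hε' r
    haveI : JacobsonSpace T := LocallyOfFiniteType.jacobsonSpace ((h ≫ π x) ≫ f)
    haveI : IsNoetherian (P x) := isNoetherian_of_field (π x ≫ f)
    have hnc : ¬ IsClosed ({h t} : Set (P x)) := fun hc => ht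
      (isClosed_singleton_of_mem (hc.preimage h.continuous) (IsFinite.finite_preimage_singleton h (h t)) rfl)
    obtain ⟨w, hw'⟩ := DomLib.exists_specializes (j x) (y := h t) (hd x (h t))
    exact ⟨w, isMaxPt_of_not_closed ((S9683.result (π x)).1.trans hdim) hnc _ hw'⟩

omit [IsNoetherianRing Λ] in
/-- extensions by zero vanish off the range -/
theorem zeroAt_extZero {U P : Scheme.{u}} (j : U ⟶ P) [Etale j] [EtShriek.JCont j] (F : EtCoh.Ab U) {x : P}
    (hx : x ∉ Set.range j) : ZeroAt ((EtShriek.extZero j).obj F) x := by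
  obtain ⟨Ω, _, _, ξ, hξ⟩ := exists_geomPt x
  refine (isZero_stalk_iff_zeroAt hξ _).1 ((IsZero.iff_id_eq_zero _).2
    (EtShriekStalk.hom_ext j ξ F fun u => absurd ⟨u.1 default, ?_⟩ hx))
  rw [← hξ]
  exact congrArg (fun m : Spec (CommRingCat.of Ω) ⟶ P => m default) u.2

omit [IsNoetherianRing Λ] in
/-- **charts of extensions by zero** -/
theorem hasCharts_extZero {U P : Scheme.{u}} (a : U ⟶ Spec (CommRingCat.of k)) [IsSeparated a]
    [LocallyOfFiniteType a] [QuasiCompact a] (j : U ⟶ P) [IsOpenImmersion j] [EtShriek.JCont j]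
    (b : P ⟶ Spec (CommRingCat.of k)) [IsProper b] (L' : EtLam.Sheaf Λ U) (hL' : EtLam.IsConstructible L')
    (hT' : EtCoh.IsTorsion L'.carrier) :
    HasCharts b (FinFr.extZeroLam j L') := fun x => by
  haveI : IsNoetherian P := isNoetherian_of_field b
  by_cases hx : x ∈ Set.range j
  · obtain ⟨x₀, rfl⟩ := hx
    obtain ⟨W, p, _, _, _, M, _, _, _, ε, hε, ⟨w, hw⟩⟩ := exists_chart a L' hL' x₀
    haveI : Nonempty W := ⟨w⟩
    obtain ⟨N, hN, hNM⟩ :=
      exists_killing (Λ := Λ) (P := (0 < ·)) one_pos (fun _ _ => Nat.mul_pos) (torsIn_pos hT') p ε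
    haveI := EtPushStalk.isIso_unit_extZero j L'.carrier
    let e0 : L'.carrier ≅ (EtCoh.pull j).obj ((EtShriek.extZero j).obj L'.carrier) :=
      asIso ((EtShriek.extZeroAdj j).unit.app L'.carrier) ≪≫ (EtPushStalk.restrPullIso j).app _
    have h0 : IsHom (L := L') (L' := EtLam.pullback j (FinFr.extZeroLam j L')) e0.hom := fun r => by
      have h1 : L'.act r ≫ (EtShriek.extZeroAdj j).unit.app L'.carrier =
          (EtShriek.extZeroAdj j).unit.app L'.carrier ≫
            (EtShriek.restrAlong j).map ((EtShriek.extZero j).map (L'.act r)) :=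
        (EtShriek.extZeroAdj j).unit.naturality (L'.act r)
      have h2 : (EtShriek.restrAlong j).map ((EtShriek.extZero j).map (L'.act r)) ≫
          (EtPushStalk.restrPullIso j).hom.app ((EtShriek.extZero j).obj L'.carrier) =
          (EtPushStalk.restrPullIso j).hom.app ((EtShriek.extZero j).obj L'.carrier) ≫
            (EtCoh.pull j).map ((EtShriek.extZero j).map (L'.act r)) :=
        (EtPushStalk.restrPullIso j).hom.naturality _
      show L'.act r ≫ (EtShriek.extZeroAdj j).unit.app L'.carrier ≫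
          (EtPushStalk.restrPullIso j).hom.app ((EtShriek.extZero j).obj L'.carrier) = (_ ≫ _) ≫ _
      rw [reassoc_of% h1, h2, Category.assoc]
      rfl
    let ε' : EtCoh.const W M ≅ (EtCoh.pull (p ≫ j)).obj ((EtShriek.extZero j).obj L'.carrier) :=
      ε ≪≫ (EtCoh.pull p).mapIso e0 ≪≫ ((EtCore.pullComp p j).app _).symm
    have hε' : IsHom (L := constL W M) (L' := EtLam.pullback (p ≫ j) (FinFr.extZeroLam j L')) ε'.hom :=
      IsHom.comp (L' := EtLam.pullback p L') hε (IsHom.comp
        (L' := EtLam.pullback p (EtLam.pullback j (FinFr.extZeroLam j L'))) (h0.map (EtCoh.pull p))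
        (fun r => (EtCore.pullComp p j).inv.naturality ((FinFr.extZeroLam j L').act r)))
    refine ⟨W, p ≫ j, inferInstance, inferInstance, inferInstance, M, inferInstance, inferInstance, inferInstance, N,
      ε', hε', ⟨w, ?_⟩, ⟨hN, Or.inl inferInstance⟩, hNM⟩
    show j (p w) = j x₀
    rw [hw]
  · let C : Closeds P := ⟨(Set.range j)ᶜ, j.isOpenEmbedding.isOpen_range.isClosed_compl⟩
    let ι := (Scheme.IdealSheafData.vanishingIdeal C).subschemeι
    have hr : Set.range ι = (Set.range j)ᶜ := by
      simp [ι, C, Scheme.IdealSheafData.range_subschemeι, Scheme.IdealSheafData.coe_support_vanishingIdeal]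
    obtain ⟨z, hz⟩ : x ∈ Set.range ι := by rw [hr]; exact hx
    obtain ⟨A, hA, hzA, -⟩ := exists_isAffineOpen_mem_and_subset (x := z) (U := ⊤) trivial
    let p : A.toScheme ⟶ P := A.ι ≫ ι
    haveI : IsAffine A.toScheme := hA
    haveI : LocallyQuasiFinite p := inferInstance
    haveI : LocallyOfFiniteType p := inferInstance
    have h0 : IsZero ((EtCoh.pull p).obj ((EtShriek.extZero j).obj L'.carrier)) := isZero_of_zeroAt _ fun w => by
      obtain ⟨Ω, _, _, ξ, hξ⟩ := exists_geomPt w
      refine (isZero_stalk_iff_zeroAt hξ _).1 (IsZero.of_iso ?_ ((EtStalk.stalkPullIso p ξ).app _).symm)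
      refine (isZero_stalk_iff_zeroAt (ξ := ξ ≫ p) rfl _).2 (zeroAt_extZero j _ ?_)
      have h1 : (ξ ≫ p) (default : ↥(Spec (CommRingCat.of Ω))) ∈ Set.range ι := ⟨A.ι (ξ default), rfl⟩
      rwa [hr] at h1
    have h1 : IsZero (EtCoh.const A.toScheme PUnit.{1}) := Functor.map_isZero (EtPBC.cstF A.toScheme)
      (@AddCommGrpCat.isZero_of_subsingleton (up PUnit.{1}) ⟨fun a b => ULift.down_injective (Subsingleton.elim _ _)⟩)
    exact ⟨A.toScheme, p, inferInstance, inferInstance, inferInstance, PUnit.{1}, inferInstance, inferInstance,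
      inferInstance, 1, h1.iso h0, fun r => h1.eq_of_src _ _, ⟨⟨z, hzA⟩, hz⟩, ⟨one_pos, Or.inl inferInstance⟩,
      fun m => Subsingleton.elim _ _⟩

end Groth.Agent.EtPBC.Lam
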