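import Groth.Agent.EtPushStalk.Unit
import Groth.Agent.EtStalk.Sheaf
import Groth.Agent.EtFLC.Site
import Mathlib

/-!
# Vanishing of étale stalks at a point

`ZeroAt F x`: every section vanishes near every point over `x`; independent of the geometric point.
-/

set_option autoImplicit false
set_option backward.isDefEq.respectTransparency false
set_option backward.isDefEq.respectTransparency.types false
set_option linter.style.haveILetI false

universe u

open CategoryTheory CategoryTheory.Limits AlgebraicGeometry Opposite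
open Groth.Agent.EtFLC (res res_res res_id)

noncomputable section

namespace Groth.Agent.EtPBC

variable {X : Scheme.{u}}

/-- the stalks over the point vanish -/
def ZeroAt (F : EtCoh.Ab X) (x : X) : Prop :=
  ∀ (V : X.Etale) (s : EtCoh.sect F V) (v : V.left), V.hom v = x → v ∉ EtShriek.sectSupp F V s

theorem exists_geomPt (x : X) : ∃ (Ω : Type u) (_ : Field Ω) (_ : IsSepClosed Ω)
    (ξ : Spec (CommRingCat.of Ω) ⟶ X), ξ (default : ↥(Spec (CommRingCat.of Ω))) = x := by
  obtain ⟨Ω, i₁, i₂, ξ, -, hξ⟩ := EtStalk.covers_all (X := X) x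
  exact ⟨Ω, i₁, i₂, ξ, hξ⟩

section Point

variable {Ω : Type u} [Field Ω] [IsSepClosed Ω] {ξ : Spec (CommRingCat.of Ω) ⟶ X} {x : X}
  (hξ : ξ (default : ↥(Spec (CommRingCat.of Ω))) = x)
include hξ

theorem exists_lift_at {V : X.Etale} (v : V.left) (hv : V.hom v = x) :
    ∃ y : Over.mk ξ ⟶ (Scheme.Etale.forget _).obj V, y.left (default : ↥(Spec (CommRingCat.of Ω))) = v := by
  obtain ⟨y, hy⟩ := Scheme.pointSmallEtaleFiberObjToPreimage_surjective ξ (s₀ := x) hξ V ⟨v, hv⟩
  exact ⟨y, congrArg Subtype.val hy⟩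

theorem isZero_stalk_iff_zeroAt (F : EtCoh.Ab X) : IsZero ((EtCoh.stalk ξ).obj F) ↔ ZeroAt F x := by
  constructor
  · intro h V s v hv
    obtain ⟨y, rfl⟩ := exists_lift_at hξ v hv
    refine (EtPushStalk.germ_eq_zero_iff F ξ V y s).1 ?_
    haveI := AddCommGrpCat.subsingleton_of_isZero h
    exact @Subsingleton.elim ((EtCoh.stalk ξ).obj F) _ _ _
  · intro h
    rw [AddCommGrpCat.isZero_iff_subsingleton]
    refine subsingleton_of_forall_eq 0 fun z => ?_
    obtain ⟨V, y, s, rfl⟩ := GrothendieckTopology.Point.toPresheafFiber_jointly_surjective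
      (Φ := Scheme.pointSmallEtale ξ) (P := F.obj) z
    refine (EtPushStalk.germ_eq_zero_iff F ξ V y s).2 (h V s _ ?_)
    show ((y : Over.mk ξ ⟶ (Scheme.Etale.forget _).obj V).left ≫ V.hom)
      (default : ↥(Spec (CommRingCat.of Ω))) = x
    rw [← hξ]
    exact congrArg (fun f : Spec (CommRingCat.of Ω) ⟶ X => f (default : ↥(Spec (CommRingCat.of Ω))))
      (Over.w (y : Over.mk ξ ⟶ (Scheme.Etale.forget _).obj V))

theorem zeroAt_kernel {F G : EtCoh.Ab X} (f : F ⟶ G) (h : Function.Injective ((EtCoh.stalk ξ).map f)) :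
    ZeroAt (kernel f) x := by
  rw [← isZero_stalk_iff_zeroAt hξ]
  haveI : Mono ((EtCoh.stalk ξ).map f) := (AddCommGrpCat.mono_iff_injective _).2 h
  exact (isZero_kernel_of_mono ((EtCoh.stalk ξ).map f)).of_iso (PreservesKernel.iso (EtCoh.stalk ξ) f)

theorem zeroAt_cokernel {F G : EtCoh.Ab X} (f : F ⟶ G) (h : Function.Surjective ((EtCoh.stalk ξ).map f)) :
    ZeroAt (cokernel f) x := by
  rw [← isZero_stalk_iff_zeroAt hξ]
  haveI : Epi ((EtCoh.stalk ξ).map f) := (AddCommGrpCat.epi_iff_surjective _).2 h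
  exact (isZero_cokernel_of_epi ((EtCoh.stalk ξ).map f)).of_iso (PreservesCokernel.iso (EtCoh.stalk ξ) f)

end Point

theorem zeroAt_of_mono {F G : EtCoh.Ab X} (f : F ⟶ G) [Mono f] {x : X} (h : ZeroAt G x) : ZeroAt F x := by
  obtain ⟨Ω, _, _, ξ, hξ⟩ := exists_geomPt x
  rw [← isZero_stalk_iff_zeroAt hξ] at h ⊢
  exact IsZero.of_mono ((EtCoh.stalk ξ).map f) h

theorem zeroAt_of_epi {F G : EtCoh.Ab X} (f : F ⟶ G) [Epi f] {x : X} (h : ZeroAt F x) : ZeroAt G x := by
  obtain ⟨Ω, _, _, ξ, hξ⟩ := exists_geomPt x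
  rw [← isZero_stalk_iff_zeroAt hξ] at h ⊢
  exact IsZero.of_epi ((EtCoh.stalk ξ).map f) h

theorem zeroAt_of_iso {F G : EtCoh.Ab X} (e : F ≅ G) {x : X} (h : ZeroAt F x) : ZeroAt G x :=
  zeroAt_of_epi e.hom h

theorem isZero_of_zeroAt (F : EtCoh.Ab X) (h : ∀ x, ZeroAt F x) : IsZero F := by
  have hzero : ∀ {V : X.Etale} (s : EtCoh.sect F V), s = 0 := by
    intro V s
    refine EtFLC.sect_ext F fun v => ?_
    obtain ⟨W, g, ⟨w, hw⟩, hz⟩ := (EtSect.mem_iff F s v).1 (h _ V s v rfl)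
    exact ⟨W, g, w, hw, hz.trans (map_zero _).symm⟩
  refine (IsZero.iff_id_eq_zero F).2 (ObjectProperty.hom_ext _ (NatTrans.ext (funext fun V => ?_)))
  ext s
  exact (hzero (V := V.unop) s).trans (hzero (V := V.unop) _).symm

/-- stalks vanish away from the closed points -/
def SuppClosed (F : EtCoh.Ab X) : Prop := ∀ x : X, ¬ IsClosed ({x} : Set X) → ZeroAt F x

end Groth.Agent.EtPBC
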