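import Groth.Agent.ShriekLQF.Stalk
import Groth.Agent.EtPBC.StalkZero
import Mathlib

/-!
# Torsion and support of direct images with proper support along quasi-finite morphisms
-/

set_option autoImplicit false
set_option backward.isDefEq.respectTransparency false
set_option backward.isDefEq.respectTransparency.types false
set_option linter.auxLemma false
set_option linter.style.haveILetI false
set_option linter.unusedSectionVars false
set_option maxHeartbeats 1000000

universe u

open CategoryTheory CategoryTheory.Limits AlgebraicGeometry Opposite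

noncomputable section

namespace Groth.Agent.EtPBC

variable {X Y : Scheme.{u}}

/-- a geometric point with algebraically closed field over every point -/
theorem exists_algGeomPt (y : Y) : ∃ (Ω : Type u) (_ : Field Ω) (_ : IsAlgClosed Ω)
    (ξ : Spec (CommRingCat.of Ω) ⟶ Y), ξ (default : ↥(Spec (CommRingCat.of Ω))) = y :=
  ⟨AlgebraicClosure (Y.residueField y), inferInstance, inferInstance,
    Spec.map (CommRingCat.ofHom (algebraMap (Y.residueField y) (AlgebraicClosure (Y.residueField y)))) ≫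
      Y.fromSpecResidueField y, by
    rw [Scheme.Hom.comp_apply]
    exact Scheme.fromSpecResidueField_apply _ _⟩

/-- stalks of torsion sheaves are torsion -/
theorem isOfFinAddOrder_stalk {F : EtCoh.Ab X} (hF : EtCoh.IsTorsion F) {Ω : Type u} [Field Ω] [IsSepClosed Ω]
    (ξ : Spec (CommRingCat.of Ω) ⟶ X) (z : (EtCoh.stalk ξ).obj F) : IsOfFinAddOrder z := by
  obtain ⟨V, y, t, rfl⟩ := GrothendieckTopology.Point.toPresheafFiber_jointly_surjective
    (Φ := Scheme.pointSmallEtale ξ) (P := F.obj) z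
  obtain ⟨W, g, hw, hfin⟩ := hF V t ((y : Over.mk ξ ⟶ (Scheme.Etale.forget _).obj V).left (default : ↥(Spec (CommRingCat.of Ω))))
  obtain ⟨n, hn, hn0⟩ := isOfFinAddOrder_iff_nsmul_eq_zero.1 hfin
  refine isOfFinAddOrder_iff_nsmul_eq_zero.2 ⟨n, hn, ?_⟩
  refine (map_nsmul ((Scheme.pointSmallEtale ξ).toPresheafFiber V y F.obj).hom n t).symm.trans
    ((EtPushStalk.germ_eq_zero_iff F ξ V y (n • t)).2 ?_)
  exact (EtSect.mem_iff _ _ _).2 ⟨W, g, hw, (map_nsmul (F.obj.map g.op).hom n t).trans hn0⟩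

/-- torsion is checked on stalks -/
theorem isTorsion_of_stalks (F : EtCoh.Ab X) (h : ∀ x : X, ∃ (Ω : Type u) (_ : Field Ω) (_ : IsSepClosed Ω)
    (ξ : Spec (CommRingCat.of Ω) ⟶ X), ξ (default : ↥(Spec (CommRingCat.of Ω))) = x ∧
      ∀ z : (EtCoh.stalk ξ).obj F, IsOfFinAddOrder z) : EtCoh.IsTorsion F := by
  intro U s v
  obtain ⟨Ω, _, _, ξ, hξ, hz⟩ := h (U.hom v)
  obtain ⟨y, hy⟩ := exists_lift_at hξ v rfl
  obtain ⟨n, hn, hn0⟩ :=
    isOfFinAddOrder_iff_nsmul_eq_zero.1 (hz ((Scheme.pointSmallEtale ξ).toPresheafFiber U y F.obj s))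
  have h0 := (EtPushStalk.germ_eq_zero_iff F ξ U y (n • s)).1
    ((map_nsmul ((Scheme.pointSmallEtale ξ).toPresheafFiber U y F.obj).hom n s).trans hn0)
  rw [hy] at h0
  obtain ⟨W, g, hw, hres⟩ := (EtSect.mem_iff _ _ _).1 h0
  exact ⟨W, g, hw, isOfFinAddOrder_iff_nsmul_eq_zero.2
    ⟨n, hn, (map_nsmul (F.obj.map g.op).hom n s).symm.trans hres⟩⟩

variable (f : X ⟶ Y) [IsSeparated f] [LocallyOfFiniteType f] [LocallyQuasiFinite f] (F : EtCoh.Ab X)

/-- the direct image with proper support lives on the image -/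
theorem zeroAt_lowerShriek_of_notMem {y : Y} (hy : y ∉ Set.range f) :
    ZeroAt ((EtShriek.lowerShriek f).obj F) y := by
  obtain ⟨Ω, _, _, η, hη⟩ := exists_algGeomPt y
  refine (isZero_stalk_iff_zeroAt hη _).1 ?_
  refine @AddCommGrpCat.isZero_of_subsingleton _ (subsingleton_of_forall_eq 0 fun z => ?_)
  refine ShriekLQF.eq_zero_of_comp f η F z fun ξ => absurd ⟨ξ.1 default, ?_⟩ hy
  rw [← hη, ← Scheme.Hom.comp_apply, ξ.2]

/-- **direct images with proper support of torsion sheaves are torsion** -/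
theorem isTorsion_lowerShriek (hF : EtCoh.IsTorsion F) : EtCoh.IsTorsion ((EtShriek.lowerShriek f).obj F) := by
  classical
  refine isTorsion_of_stalks _ fun y => ?_
  obtain ⟨Ω, _, _, η, hη⟩ := exists_algGeomPt y
  refine ⟨Ω, inferInstance, inferInstance, η, hη, fun z => ?_⟩
  choose n hn hn0 using fun ξ => isOfFinAddOrder_iff_nsmul_eq_zero.1
    (isOfFinAddOrder_stalk hF ξ.1 (ShriekLQF.comp f η F ξ z))
  let S := (ShriekLQF.finite_support f η F z).toFinset
  refine isOfFinAddOrder_iff_nsmul_eq_zero.2 ⟨∏ ξ ∈ S, n ξ, Finset.prod_pos fun ξ _ => hn ξ, ?_⟩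
  refine ShriekLQF.eq_zero_of_comp f η F _ fun ξ => ?_
  rw [map_nsmul]
  by_cases h : ξ ∈ S
  · obtain ⟨c, hc⟩ := Finset.dvd_prod_of_mem n h
    rw [hc, mul_comm, mul_nsmul', hn0 ξ, nsmul_zero]
  · rw [show ShriekLQF.comp f η F ξ z = 0 from
      not_not.1 fun hne => h ((ShriekLQF.finite_support f η F z).mem_toFinset.2 hne), nsmul_zero]

end Groth.Agent.EtPBC
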