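import Groth.Agent.EtPBC.ShriekProperDim
import Groth.Agent.EtPBC.CdPClosed
import Groth.Agent.EtPBC.LamCurve
import Groth.Agent.EtPBC.ShriekTor
import Groth.Agent.EtShriekStalk.Basic
import Groth.Agent.RDerLib.LES
import Mathlib

/-!
# The top degree of direct images with proper support
-/

set_option autoImplicit false
set_option backward.isDefEq.respectTransparency false
set_option backward.isDefEq.respectTransparency.types false
set_option linter.style.haveILetI false
set_option linter.unusedSectionVars false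

universe u

open CategoryTheory CategoryTheory.Limits CategoryTheory.Abelian AlgebraicGeometry Opposite TopologicalSpace
open Groth.Agent.EtPushStalk

noncomputable section

namespace Groth.Agent.EtPBC

attribute [local instance 100000] EtCoh.H._proof_1 EtMV.hext
attribute [local instance 200000] EtMV.hextAb

variable {X : Scheme.{u}}

theorem isTorsion_of_mono {F G : EtCoh.Ab X} (f : F ⟶ G) [Mono f] (h : EtCoh.IsTorsion G) :
    EtCoh.IsTorsion F := by
  refine isTorsion_of_stalks F fun x => ?_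
  obtain ⟨Ω, _, _, ξ, hξ⟩ := exists_geomPt x
  refine ⟨Ω, inferInstance, inferInstance, ξ, hξ, fun z => ?_⟩
  obtain ⟨n, hn, hn0⟩ := isOfFinAddOrder_iff_nsmul_eq_zero.1 (isOfFinAddOrder_stalk h ξ ((EtCoh.stalk ξ).map f z))
  refine isOfFinAddOrder_iff_nsmul_eq_zero.2 ⟨n, hn, ?_⟩
  apply (AddCommGrpCat.mono_iff_injective ((EtCoh.stalk ξ).map f)).1 inferInstance
  exact ((map_nsmul ((EtCoh.stalk ξ).map f).hom n z).trans hn0).trans (map_zero ((EtCoh.stalk ξ).map f).hom).symm

theorem isTorsion_of_epi {F G : EtCoh.Ab X} (f : F ⟶ G) [Epi f] (h : EtCoh.IsTorsion F) :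
    EtCoh.IsTorsion G := by
  refine isTorsion_of_stalks G fun x => ?_
  obtain ⟨Ω, _, _, ξ, hξ⟩ := exists_geomPt x
  refine ⟨Ω, inferInstance, inferInstance, ξ, hξ, fun z => ?_⟩
  obtain ⟨w, rfl⟩ := (AddCommGrpCat.epi_iff_surjective ((EtCoh.stalk ξ).map f)).1 inferInstance z
  exact AddMonoidHom.isOfFinAddOrder ((EtCoh.stalk ξ).map f).hom (isOfFinAddOrder_stalk h ξ w)

section Field

variable {k : Type u} [Field k] [IsSepClosed k]

/-- sheaves on a proper scheme living on points of dimension at most `n` have `cd ≤ 2n` -/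
theorem subsingleton_H_of_resDim_proper {Z : Scheme.{u}} (c : Z ⟶ Spec (CommRingCat.of k)) [IsProper c]
    (n : ℕ) (F : EtCoh.Ab Z)
    (hF : EtAcyc.IsLTorsion Set.univ F) (hsupp : ∀ z, ¬ ResDim c z n → ZeroAt F z) (q : ℕ) (hq : 2 * n < q) :
    Subsingleton (EtCoh.H Z F q) := by
  haveI := isNoetherian_of_field c
  obtain ⟨hc⟩ := EtAcycX.nonempty_isColimit_kdCocone Set.univ F hF
  haveI := EtColimH.preservesColimitsOfShape_HF (X := Z) q (EtColimH.Expo.{u} (EtAcyc.PrimesIn Set.univ))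
  refine subsingleton_of_forall_eq 0 fun t => ?_
  obtain ⟨a, ta, rfl⟩ := Concrete.isColimit_exists_rep _ (isColimitOfPreserves (EtCoh.HF Z q) hc) t
  suffices h : Subsingleton (EtCoh.H Z ((EtAcycX.kdDiag Set.univ F).obj a) q) by
    rw [show ta = 0 from @Subsingleton.elim (EtCoh.H Z ((EtAcycX.kdDiag Set.univ F).obj a) q) h _ _]
    exact map_zero _
  have hm : 0 < a.down.down.1 := a.down.down.2.1
  have hK : Killed a.down.down.1 ((EtAcycX.kdDiag Set.univ F).obj a) := (killed_iff _ _).2 (EtAcycX.kd_tor F _)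
  haveI : Mono ((EtAcycX.kdCocone Set.univ F).ι.app a) :=
    inferInstanceAs (Mono (kernel.ι (a.down.down.1 • 𝟙 F)))
  refine subsingleton_H_of_suppPred (P := fun z => ResDim c z n) _ (fun x y h hx => hx.of_specializes c h)
    (fun z hz => zeroAt_of_mono ((EtAcycX.kdCocone Set.univ F).ι.app a) (hsupp z hz)) q
    fun C hC K j hj hK0 => ?_
  let I := Scheme.IdealSheafData.vanishingIdeal C
  let ι : I.subscheme ⟶ Z := I.subschemeι
  have hι : Set.range ι = (C : Set Z) := by
    rw [Scheme.IdealSheafData.range_subschemeι]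
    exact Scheme.IdealSheafData.coe_support_vanishingIdeal C
  refine subsingleton_H_of_closedImmersion ι K hm (killed_of_mono j hK) (fun x hx => hK0 x fun h => hx (hι ▸ h)) q ?_
  have hr : ∀ z : I.subscheme, ResDim (ι ≫ c) z n := fun z => by
    rw [resDim_closedImmersion c ι z n]
    exact hC _ (hι.subset ⟨z, rfl⟩)
  exact subsingleton_H_proper (ι ≫ c) n (dim_le_of_resDim (ι ≫ c) hr) _
    (isLTorsion_univ_of_killed hm (killed_pull ι (killed_of_mono j hK))) q hq

end Field

/-- **vanishing of `R^q p_*` for sheaves supported on a subscheme** -/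
theorem isZero_Rpush_supported {Z W P S : Scheme.{u}} (a : Z ⟶ W) [IsClosedImmersion a] (j : W ⟶ P)
    [IsOpenImmersion j] (p : P ⟶ S) [IsProper p] (n : ℕ)
    (hdim : ∀ s : S, topologicalKrullDim ((a ≫ j ≫ p).fiber s) ≤ n) (G : EtCoh.Ab P) (hG : EtCoh.IsTorsion G)
    (hsupp : ∀ z, z ∉ Set.range (a ≫ j) → ZeroAt G z) (q : ℕ) (hq : 2 * n < q) :
    IsZero ((EtCoh.Rpush p q).obj G) := by
  refine isZero_of_isZero_stalks _ fun Ω _ _ ξ => ?_
  refine isZero_stalk_Rpush p _ (isLTorsion_univ_of_isTorsion hG) ξ q ?_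
  haveI : LocallyOfFiniteType (a ≫ j ≫ p) := inferInstance
  let i : pullback (j ≫ p) ξ ⟶ pullback p ξ := pullback.map _ _ _ _ j (𝟙 _) (𝟙 _) (by simp) (by simp)
  let b : pullback (a ≫ j ≫ p) ξ ⟶ pullback (j ≫ p) ξ :=
    pullback.map _ _ _ _ a (𝟙 _) (𝟙 _) (by simp) (by simp)
  haveI : IsOpenImmersion i := by dsimp [i]; infer_instance
  haveI : IsClosedImmersion b := by
    dsimp [b]
    exact MorphismProperty.pullbackMap (P := @IsClosedImmersion) inferInstance inferInstance rfl (Category.id_comp _).symm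
  have hr : Set.range (b ≫ i) = (pullback.fst p ξ) ⁻¹' Set.range (a ≫ j) ∩ (pullback.snd p ξ) ⁻¹' Set.univ := by
    have e : b ≫ i = pullback.map (a ≫ j ≫ p) ξ p ξ (a ≫ j) (𝟙 _) (𝟙 _) (by simp) (by simp) := by
      refine pullback.hom_ext ?_ ?_ <;> simp [b, i]
    rw [e, Scheme.Pullback.range_map]
    simp
  refine subsingleton_H_of_resDim_proper (pullback.snd p ξ) n _
    (EtAcycX.isLTorsion_pull _ (isLTorsion_univ_of_isTorsion hG))
    (fun z hz => zeroAt_pull _ _ z (hsupp _ fun h => hz ?_)) q hq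
  obtain ⟨w, rfl⟩ := hr.symm.subset ⟨h, trivial⟩
  rw [Scheme.Hom.comp_apply, ← resDim_openImmersion, ← resDim_closedImmersion]
  exact resDim_of_dim_le _ (topologicalKrullDim_geomFibre_le (a ≫ j ≫ p) hdim ξ) w

section Counit

variable {U : Scheme.{u}} (j : U ⟶ X) [IsOpenImmersion j] (F : EtCoh.Ab X)

theorem bijective_stalk_counit {Ω : Type u} [Field Ω] [IsSepClosed Ω] (ξ : Spec (CommRingCat.of Ω) ⟶ X)
    (h : ξ (default : ↥(Spec (CommRingCat.of Ω))) ∈ Set.range j) :
    Function.Bijective ((EtCoh.stalk ξ).map ((EtShriek.extZeroAdj j).counit.app F)) := by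
  have hsub : Set.range ξ ⊆ Set.range j := by
    rintro _ ⟨z, rfl⟩
    rwa [Subsingleton.elim (α := Spec (CommRingCat.of Ω)) z (default : Spec (CommRingCat.of Ω))]
  obtain ⟨ζ, rfl⟩ : ∃ ζ : Spec (CommRingCat.of Ω) ⟶ U, ζ ≫ j = ξ :=
    ⟨IsOpenImmersion.lift j ξ hsub, IsOpenImmersion.lift_fac j ξ hsub⟩
  let R := EtShriek.restrAlong j
  let c := (EtShriek.extZeroAdj j).counit.app F
  haveI : IsIso (R.map c) := by
    haveI := isIso_unit_extZero j (R.obj F)
    have h1 := (EtShriek.extZeroAdj j).right_triangle_components F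
    haveI : IsIso ((EtShriek.extZeroAdj j).unit.app (R.obj F) ≫ R.map c) := by
      rw [h1]; exact IsIso.id _
    exact IsIso.of_isIso_comp_left ((EtShriek.extZeroAdj j).unit.app (R.obj F)) _
  haveI : IsIso ((EtCoh.pull j).map c) := (NatIso.isIso_map_iff (restrPullIso j).symm c).2 inferInstance
  haveI : IsIso ((EtCoh.stalk (ζ ≫ j)).map c) :=
    (NatIso.isIso_map_iff (EtStalk.stalkPullIso j ζ) c).mpr
      (inferInstanceAs (IsIso ((EtCoh.stalk ζ).map ((EtCoh.pull j).map c))))
  exact ConcreteCategory.bijective_of_isIso ((EtCoh.stalk (ζ ≫ j)).map c)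

theorem mono_counit : Mono ((EtShriek.extZeroAdj j).counit.app F) := by
  refine Preadditive.mono_of_isZero_kernel _ (isZero_of_zeroAt _ fun x => ?_)
  by_cases hx : x ∈ Set.range j
  · obtain ⟨Ω, _, _, ξ, hξ⟩ := exists_geomPt x
    exact zeroAt_kernel hξ _ (bijective_stalk_counit j F ξ (hξ.symm ▸ hx)).1
  · exact zeroAt_of_mono (kernel.ι ((EtShriek.extZeroAdj j).counit.app F)) (Lam.zeroAt_extZero j _ hx)

theorem zeroAt_cokernel_counit {x : X} (hx : x ∈ Set.range j) :
    ZeroAt (cokernel ((EtShriek.extZeroAdj j).counit.app F)) x := by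
  obtain ⟨Ω, _, _, ξ, hξ⟩ := exists_geomPt x
  exact zeroAt_cokernel hξ _ (bijective_stalk_counit j F ξ (hξ.symm ▸ hx)).2

end Counit

theorem mapShortExact_extZero {W P : Scheme.{u}} (j : W ⟶ P) [IsOpenImmersion j] {T : ShortComplex (EtCoh.Ab W)}
    (hT : T.ShortExact) : (T.map (EtShriek.extZero j)).ShortExact := by
  haveI := EtShriekStalk.preservesFiniteLimits j
  haveI : (EtShriek.extZero j).IsLeftAdjoint := (EtShriek.extZeroAdj j).isLeftAdjoint
  exact hT.map_of_exact (EtShriek.extZero j)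

variable {S : Scheme.{u}}

/-- **`R^{2d} f_!` is right exact on torsion sheaves** -/
theorem epi_top {f : X ⟶ S} (c : DEt.Compactification f) (d : ℕ)
    (hdim : ∀ s : S, topologicalKrullDim ↥(f.fiber s) ≤ d) {F G : EtCoh.Ab X} (hF : EtCoh.IsTorsion F)
    (φ : F ⟶ G) [Epi φ] : Epi ((EtCoh.Rpush c.fbar (2 * d)).map ((EtShriek.extZero c.j).map φ)) := by
  have hd : ∀ s : S, topologicalKrullDim ↥((c.j ≫ c.fbar).fiber s) ≤ d := by rw [c.fac]; exact hdim
  let T := ShortComplex.mk (kernel.ι φ) φ (kernel.condition φ)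
  have hT : T.ShortExact := { exact := ShortComplex.exact_of_f_is_kernel _ (kernelIsKernel φ) }
  have h1 := isZero_Rpush_extZero c.j c.fbar d hd T.X₁ (isTorsion_of_mono (kernel.ι φ) hF) (2 * d + 1) (by omega)
  exact ((RDerLib.derivedLES (EtCoh.push c.fbar)).exact₃ _ (mapShortExact_extZero c.j hT) (2 * d) (2 * d + 1) rfl).epi_f
    (h1.eq_of_tgt _ _)

theorem withBot_enat_le_of_lt_succ {x : WithBot ℕ∞} {n : ℕ} (h : x < ((n + 1 : ℕ) : WithBot ℕ∞)) :
    x ≤ (n : WithBot ℕ∞) := by
  induction x using WithBot.recBotCoe with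
  | bot => exact bot_le
  | coe a =>
    have h' : a < ((n + 1 : ℕ) : ℕ∞) := WithBot.coe_lt_coe.1 h
    refine WithBot.coe_le_coe.2 ?_
    rw [Nat.cast_add, Nat.cast_one] at h'
    exact ENat.lt_add_one_iff (ENat.natCast_ne_top n) |>.1 h'

/-- **`R^{2d} f_!` only depends on a dense open of the fibres** -/
theorem isIso_top {U Z : Scheme.{u}} {f : X ⟶ S} (c : DEt.Compactification f) (d : ℕ)
    (j : U ⟶ X) [IsOpenImmersion j] (i : Z ⟶ X) [IsClosedImmersion i]
    (hij : Set.range j.base = (Set.range i.base)ᶜ) (hZ : ∀ s : S, topologicalKrullDim ↥((i ≫ f).fiber s) < d)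
    (F : EtCoh.Ab X) (hF : EtCoh.IsTorsion F) :
    IsIso ((EtCoh.Rpush c.fbar (2 * d)).map ((EtShriek.extZero c.j).map ((EtShriek.extZeroAdj j).counit.app F))) := by
  let ε := (EtShriek.extZeroAdj j).counit.app F
  have hC : ∀ x, x ∉ Set.range i → ZeroAt (cokernel ε) x := fun x hx =>
    zeroAt_cokernel_counit j F (hij.symm.subset hx)
  haveI := mono_counit j F
  cases d with
  | zero =>
    have he : ∀ x, x ∉ Set.range i := by
      rintro _ ⟨z, rfl⟩
      let s := (i ≫ f) z
      haveI : Nonempty ↥((i ≫ f).fiber s) := ⟨(i ≫ f).asFiber z⟩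
      haveI : Nonempty (IrreducibleCloseds ↥((i ≫ f).fiber s)) :=
        ⟨⟨closure {(i ≫ f).asFiber z}, isIrreducible_singleton.closure, isClosed_closure⟩⟩
      exact not_le.2 (hZ s) (by exact_mod_cast Order.krullDim_nonneg)
    haveI : Epi ε := Abelian.epi_of_cokernel_π_eq_zero _
      ((isZero_of_zeroAt _ fun x => hC x (he x)).eq_of_tgt _ _)
    haveI : IsIso ε := isIso_of_mono_of_epi ε
    infer_instance
  | succ n =>
    have hd : ∀ s : S, topologicalKrullDim ↥((i ≫ c.j ≫ c.fbar).fiber s) ≤ n := by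
      rw [c.fac]
      exact fun s => withBot_enat_le_of_lt_succ (hZ s)
    let T := ShortComplex.mk ε (cokernel.π ε) (cokernel.condition ε)
    have hT : T.ShortExact := { exact := ShortComplex.exact_of_g_is_cokernel _ (cokernelIsCokernel ε) }
    have hCt : EtCoh.IsTorsion (cokernel ε) := isTorsion_of_epi (cokernel.π ε) hF
    have hG : EtCoh.IsTorsion ((EtShriek.extZero c.j).obj (cokernel ε)) := by
      obtain ⟨e⟩ := Groth.Agent.ShriekLQF.nonempty_extZero_iso_lowerShriek c.j
      haveI := Groth.Agent.FpqcDescent.locallyQuasiFinite_of_etale c.j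
      exact isTorsion_of_epi (e.inv.app _) (isTorsion_lowerShriek c.j _ hCt)
    have hs : ∀ z, z ∉ Set.range (i ≫ c.j) → ZeroAt ((EtShriek.extZero c.j).obj (cokernel ε)) z := by
      intro z hz
      by_cases h : z ∈ Set.range c.j
      · obtain ⟨x, rfl⟩ := h
        obtain ⟨Ω, _, _, ζ, hζ⟩ := exists_geomPt x
        refine (isZero_stalk_iff_zeroAt (x := c.j x) (ξ := ζ ≫ c.j) (by rw [Scheme.Hom.comp_apply, hζ]) _).1 ?_
        refine IsZero.of_iso ?_ ((EtStalk.stalkPullIso c.j ζ).app _)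
        haveI := isIso_unit_extZero c.j (cokernel ε)
        refine IsZero.of_iso ((isZero_stalk_iff_zeroAt hζ _).2 (hC x fun ⟨w, hw⟩ => hz ⟨w, by
          rw [Scheme.Hom.comp_apply, hw]⟩))
          ((EtCoh.stalk ζ).mapIso (((restrPullIso c.j).app _).symm ≪≫
            (asIso ((EtShriek.extZeroAdj c.j).unit.app (cokernel ε))).symm))
      · exact Lam.zeroAt_extZero c.j _ h
    have h := fun (q : ℕ) (hq : 2 * n < q) =>
      isZero_Rpush_supported i c.j c.fbar n hd ((EtShriek.extZero c.j).obj T.X₃) hG hs q hq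
    have hT' := mapShortExact_extZero c.j hT
    haveI : Epi ((EtCoh.Rpush c.fbar (2 * (n + 1))).map ((EtShriek.extZero c.j).map ε)) :=
      ((RDerLib.derivedLES (EtCoh.push c.fbar)).exact₂ _ hT' (2 * (n + 1))).epi_f
        ((h _ (by omega)).eq_of_tgt _ _)
    haveI : Mono ((EtCoh.Rpush c.fbar (2 * (n + 1))).map ((EtShriek.extZero c.j).map ε)) :=
      ((RDerLib.derivedLES (EtCoh.push c.fbar)).exact₁ _ hT' (2 * n + 1) (2 * (n + 1)) (by omega)).mono_g
        ((h _ (by omega)).eq_of_src _ _)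
    exact isIso_of_mono_of_epi _

end Groth.Agent.EtPBC
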