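import Mathlib

/-!
# Rational function fields tensored with a field
-/

set_option autoImplicit false

universe u

open TensorProduct

noncomputable section

namespace Groth.Agent.EtPBC

variable {K : Type u} [Field K]

/-- a fraction field tensored with a field is a domain when the ring is -/
theorem isDomain_tensor_of_isFractionRing {A L₀ P : Type u} [CommRing A] [IsDomain A] [Algebra K A] [Field L₀]
    [Algebra K L₀] [Algebra A L₀] [IsScalarTower K A L₀] [IsFractionRing A L₀] [CommRing P] [IsDomain P] [Algebra K P]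
    (Ω : Type u) [Field Ω] [Algebra K Ω] (e : A ⊗[K] Ω ≃ₐ[K] P) : IsDomain (L₀ ⊗[K] Ω) := by
  let B := FractionRing P
  let g₁ : A →ₐ[K] B := (IsScalarTower.toAlgHom K P B).comp
    (e.toAlgHom.comp (Algebra.TensorProduct.includeLeft (R := K) (S := K) (A := A) (B := Ω)))
  have hg₁ : Function.Injective g₁ :=
    (IsFractionRing.injective P B).comp (e.injective.comp
      (Algebra.TensorProduct.includeLeft_injective (S := K) (algebraMap K Ω).injective))
  let f₂ : Ω →ₐ[K] B := (IsScalarTower.toAlgHom K P B).comp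
    (e.toAlgHom.comp (Algebra.TensorProduct.includeRight (R := K) (A := A) (B := Ω)))
  let ψ : L₀ ⊗[K] Ω →ₐ[K] B :=
    Algebra.TensorProduct.productMap (IsFractionRing.liftAlgHom (K := L₀) (g := g₁) hg₁) f₂
  let ι₀ := Algebra.TensorProduct.map (IsScalarTower.toAlgHom K A L₀) (AlgHom.id K Ω)
  have key : ∀ z : L₀ ⊗[K] Ω, ∃ (c : A) (p : A ⊗[K] Ω), c ≠ 0 ∧
      (algebraMap A L₀ c ⊗ₜ[K] (1 : Ω)) * z = ι₀ p := by
    intro z
    induction z with
    | zero => exact ⟨1, 0, one_ne_zero, by simp⟩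
    | tmul l ω =>
      obtain ⟨⟨a, c⟩, h⟩ := IsLocalization.surj (nonZeroDivisors A) l
      refine ⟨c, a ⊗ₜ[K] ω, nonZeroDivisors.ne_zero c.2, ?_⟩
      simp [ι₀, mul_comm (algebraMap A L₀ c) l, h]
    | add z w hz hw =>
      obtain ⟨c, p, hc, hp⟩ := hz
      obtain ⟨c', p', hc', hp'⟩ := hw
      refine ⟨c * c', (c' ⊗ₜ[K] (1 : Ω)) * p + (c ⊗ₜ[K] (1 : Ω)) * p', mul_ne_zero hc hc', ?_⟩
      rw [map_add, map_mul ι₀ _ p, map_mul ι₀ _ p', ← hp, ← hp', Algebra.TensorProduct.map_tmul,
        Algebra.TensorProduct.map_tmul, ← mul_assoc, ← mul_assoc, Algebra.TensorProduct.tmul_mul_tmul,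
        Algebra.TensorProduct.tmul_mul_tmul, mul_add]
      simp [mul_comm]
  have hcomp : ψ.comp ι₀ = (IsScalarTower.toAlgHom K P B).comp e.toAlgHom := by
    apply Algebra.TensorProduct.ext
    · ext a
      simp [ψ, ι₀, g₁]
    · ext ω
      simp [ψ, ι₀, f₂]
  have hψ : Function.Injective ψ := by
    refine (injective_iff_map_eq_zero _).2 fun z hz => ?_
    obtain ⟨c, p, hc, hp⟩ := key z
    have h0 : ψ.comp ι₀ p = 0 := by
      show ψ (ι₀ p) = 0
      rw [← hp, map_mul, hz, mul_zero]
    rw [hcomp] at h0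
    have hp0 : p = 0 := e.injective ((IsFractionRing.injective P B (h0.trans (map_zero _).symm)).trans (map_zero _).symm)
    rw [hp0, map_zero] at hp
    have hu : IsUnit (algebraMap A L₀ c ⊗ₜ[K] (1 : Ω)) :=
      (isUnit_iff_ne_zero.2 (IsFractionRing.to_map_ne_zero_of_mem_nonZeroDivisors
        (mem_nonZeroDivisors_of_ne_zero hc))).map (Algebra.TensorProduct.includeLeft (R := K) (S := K) (B := Ω))
    exact hu.mul_right_eq_zero.1 hp
  exact hψ.isDomain ψ.toRingHom

/-- polynomial rings and base change -/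
def mvTensorEquiv (ι : Type u) (Ω : Type u) [Field Ω] [Algebra K Ω] :
    MvPolynomial ι K ⊗[K] Ω ≃ₐ[K] MvPolynomial ι Ω :=
  (Algebra.TensorProduct.comm K (MvPolynomial ι K) Ω).trans
    ((MvPolynomial.algebraTensorAlgEquiv (σ := ι) K Ω).restrictScalars K)

theorem isDomain_fractionRing_mv_tensor (ι : Type u) (Ω : Type u) [Field Ω] [Algebra K Ω] :
    IsDomain (FractionRing (MvPolynomial ι K) ⊗[K] Ω) :=
  isDomain_tensor_of_isFractionRing (A := MvPolynomial ι K) (L₀ := FractionRing (MvPolynomial ι K))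
    (P := MvPolynomial ι Ω) Ω (mvTensorEquiv ι Ω)

/-- a purely transcendental subfield over which a field is algebraic -/
theorem exists_purelyTranscendental (E : Type u) [Field E] [Algebra K E] (n : ℕ) (hn : Algebra.trdeg K E ≤ n)
    (Ω : Type u) [Field Ω] [Algebra K Ω] :
    ∃ (L₁ : Type u) (_ : Field L₁) (_ : Algebra K L₁) (_ : Algebra L₁ E) (_ : IsScalarTower K L₁ E),
      Algebra.IsAlgebraic L₁ E ∧ Algebra.trdeg K L₁ = Algebra.trdeg K E ∧ IsDomain (L₁ ⊗[K] Ω) := by
  haveI : FaithfulSMul K E := (faithfulSMul_iff_algebraMap_injective _ _).2 (algebraMap K E).injective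
  obtain ⟨ι, x, hx⟩ := exists_isTranscendenceBasis' K E
  let P := MvPolynomial ι K
  let L₀ := FractionRing P
  let g : L₀ →ₐ[K] E := IsFractionRing.liftAlgHom (g := MvPolynomial.aeval x) hx.1
  letI : Algebra L₀ E := g.toRingHom.toAlgebra
  haveI : IsScalarTower K L₀ E := IsScalarTower.of_algebraMap_eq fun y => (g.commutes y).symm
  haveI : FaithfulSMul K L₀ := (faithfulSMul_iff_algebraMap_injective _ _).2 (algebraMap K L₀).injective
  haveI : FaithfulSMul L₀ E := (faithfulSMul_iff_algebraMap_injective _ _).2 (algebraMap L₀ E).injective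
  haveI : Algebra.IsAlgebraic P L₀ := IsLocalization.isAlgebraic L₀ (nonZeroDivisors P)
  haveI : FaithfulSMul K P := (faithfulSMul_iff_algebraMap_injective _ _).2 (MvPolynomial.C_injective ι K)
  have e0 : Algebra.trdeg K L₀ = Algebra.trdeg K E := by
    have h := trdeg_add_eq K P (A := L₀)
    rw [MvPolynomial.trdeg_of_isDomain, Cardinal.lift_id, trdeg_eq_zero (R := P) (A := L₀), add_zero,
      hx.cardinalMk_eq_trdeg] at h
    exact h.symm
  haveI : Algebra.IsAlgebraic L₀ E := by
    have h := trdeg_add_eq K L₀ (A := E)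
    rw [e0] at h
    exact trdeg_eq_zero_iff.1 (Cardinal.eq_of_add_eq_add_left (h.trans (add_zero _).symm)
      (hn.trans_lt (Cardinal.natCast_lt_aleph0 (n := n))))
  exact ⟨L₀, inferInstance, inferInstance, inferInstance, inferInstance, ‹_›, e0,
    isDomain_fractionRing_mv_tensor (K := K) ι Ω⟩

end Groth.Agent.EtPBC
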