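import Groth.Agent.EtPBC.FieldTrdeg
import Groth.Agent.EtPBC.TensorDomain
import Groth.Agent.WEtField.Basic
import Groth.Agent.WeakEt.StrictHens
import Mathlib

/-!
# Residue fields tensored with strict henselisations
-/

set_option autoImplicit false
set_option backward.isDefEq.respectTransparency false
set_option backward.isDefEq.respectTransparency.types false
set_option linter.auxLemma false
set_option linter.style.haveILetI false
set_option linter.unusedSectionVars false
set_option maxHeartbeats 1000000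

universe u

open CategoryTheory CategoryTheory.Limits CategoryTheory.Abelian AlgebraicGeometry Opposite TensorProduct

noncomputable section

namespace Groth.Agent.EtPBC

attribute [local instance 100000] EtCoh.H._proof_1 EtMV.hext
attribute [local instance 200000] EtMV.hextAb

variable {L : Set ℕ} {K : Type u} [Field K]

/-- a separably closed field is acyclic -/
theorem kVanOn_sepClosed (Ω : Type u) [Field Ω] [IsSepClosed Ω] : KVanOn L (Spec (CommRingCat.of Ω)) 0 :=
  fun _ _ F _ q hq => subsingleton_H_sepClosed Ω F q hq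

/-- tensored with a separably closed algebraic extension a field has cohomological dimension at most its
transcendence degree -/
theorem kVanOn_tensor_sepClosed (E : Type u) [Field E] [Algebra K E] (n : ℕ) (hn : Algebra.trdeg K E ≤ n)
    (Ω : Type u) [Field Ω] [IsSepClosed Ω] [Algebra K Ω] [Algebra.IsIntegral K Ω] :
    KVanOn L (Spec (CommRingCat.of (E ⊗[K] Ω))) n := by
  haveI : FaithfulSMul K E := (faithfulSMul_iff_algebraMap_injective _ _).2 (algebraMap K E).injective
  haveI : FaithfulSMul K Ω := (faithfulSMul_iff_algebraMap_injective _ _).2 (algebraMap K Ω).injective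
  obtain ⟨L₀, _, _, _, _, hEalg, e0, hdom⟩ := exists_purelyTranscendental (K := K) E n hn Ω
  haveI : FaithfulSMul K L₀ := (faithfulSMul_iff_algebraMap_injective _ _).2 (algebraMap K L₀).injective
  let g : L₀ →ₐ[K] E := IsScalarTower.toAlgHom K L₀ E
  haveI := hEalg
  haveI := hdom
  have hF : IsField (L₀ ⊗[K] Ω) := isField_of_isIntegral_of_isField' (R := L₀) (Field.toIsField L₀)
  let f : L₀ ⊗[K] Ω →ₐ[K] E ⊗[K] Ω := Algebra.TensorProduct.map g (AlgHom.id K Ω)
  have hf : f.toRingHom.IsIntegral := by
    intro z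
    induction z with
    | zero => exact f.toRingHom.isIntegralElem_zero
    | add a b ha hb => exact RingHom.IsIntegralElem.add f.toRingHom ha hb
    | tmul a ω =>
      rw [show a ⊗ₜ[K] ω = (a ⊗ₜ[K] (1 : Ω)) * f ((1 : L₀) ⊗ₜ[K] ω) by
        simp [f, Algebra.TensorProduct.tmul_mul_tmul]]
      refine RingHom.IsIntegralElem.mul f.toRingHom ?_ (RingHom.isIntegralElem_map _)
      obtain ⟨p, hp, hp0⟩ := Algebra.IsIntegral.isIntegral (R := L₀) a
      refine ⟨p.map (Algebra.TensorProduct.includeLeft (R := K) (S := K) (A := L₀) (B := Ω)).toRingHom, hp.map _, ?_⟩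
      rw [Polynomial.eval₂_map, show f.toRingHom.comp
          (Algebra.TensorProduct.includeLeft (R := K) (S := K) (A := L₀) (B := Ω)).toRingHom =
          (Algebra.TensorProduct.includeLeft (R := K) (S := K) (A := E) (B := Ω)).toRingHom.comp g.toRingHom from
        RingHom.ext fun y => by simp [f]]
      rw [show a ⊗ₜ[K] (1 : Ω) = (Algebra.TensorProduct.includeLeft (R := K) (S := K) (A := E) (B := Ω)).toRingHom a
        from rfl, ← Polynomial.hom_eval₂]
      exact (congrArg _ hp0).trans (map_zero _)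
  letI : Field (L₀ ⊗[K] Ω) := hF.toField
  haveI : IsIntegralHom (Spec.map (CommRingCat.ofHom f.toRingHom)) := IsIntegralHom.SpecMap_iff.2 hf
  refine KVanOn.of_isIntegralHom (Y := Spec (CommRingCat.of (L₀ ⊗[K] Ω))) ?_
    (Spec.map (CommRingCat.ofHom f.toRingHom))
  letI : Algebra Ω (L₀ ⊗[K] Ω) :=
    (Algebra.TensorProduct.includeRight (R := K) (A := L₀) (B := Ω)).toRingHom.toAlgebra
  haveI : IsScalarTower K Ω (L₀ ⊗[K] Ω) :=
    IsScalarTower.of_algebraMap_eq' (Algebra.TensorProduct.includeRight (R := K) (A := L₀) (B := Ω)).comp_algebraMap.symm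
  haveI : FaithfulSMul L₀ (L₀ ⊗[K] Ω) :=
    (faithfulSMul_iff_algebraMap_injective _ _).2 (algebraMap L₀ (L₀ ⊗[K] Ω)).injective
  haveI : FaithfulSMul Ω (L₀ ⊗[K] Ω) :=
    (faithfulSMul_iff_algebraMap_injective _ _).2 (algebraMap Ω (L₀ ⊗[K] Ω)).injective
  haveI : Algebra.IsAlgebraic L₀ (L₀ ⊗[K] Ω) := inferInstance
  haveI : Algebra.IsAlgebraic K Ω := inferInstance
  have e1 := trdeg_add_eq K L₀ (A := L₀ ⊗[K] Ω)
  have e2 := trdeg_add_eq K Ω (A := L₀ ⊗[K] Ω)
  rw [e0, trdeg_eq_zero (R := L₀) (A := L₀ ⊗[K] Ω), add_zero] at e1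
  rw [← e1, trdeg_eq_zero (R := K) (A := Ω), zero_add] at e2
  exact (kVanOn_of_trdeg_le n (kVanOn_sepClosed Ω) (L₀ ⊗[K] Ω) (e2 ▸ hn)).mono (by omega)

/-- a strict henselisation of a field -/
theorem exists_sepClosure_hom {R : Type u} [CommRing R] [HenselianLocalRing R]
    [IsSepClosed (IsLocalRing.ResidueField R)] (f : K →+* R) :
    ∃ (Ω : Type u) (_ : Field Ω) (_ : IsSepClosed Ω) (_ : Algebra K Ω) (_ : Algebra.IsIntegral K Ω) (g : Ω →+* R),
      g.comp (algebraMap K Ω) = f := by
  obtain ⟨S, _, _, _, _, hS⟩ := EtBCQ.exists_sh K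
  have hm : IsLocalRing.maximalIdeal S = ⊥ := by
    rw [← Hensel.strictHenselization_map_maximalIdeal (R := K) (S := S),
      (IsLocalRing.isField_iff_maximalIdeal_eq).1 (Field.toIsField K), Ideal.map_bot]
  have hinj : Function.Injective (IsLocalRing.residue S) := by
    rw [RingHom.injective_iff_ker_eq_bot, IsLocalRing.ker_residue, hm]
  let e := RingEquiv.ofBijective (IsLocalRing.residue S) ⟨hinj, IsLocalRing.residue_surjective⟩
  haveI : IsSepClosed (IsLocalRing.ResidueField S) := hS.isSepClosure.1
  haveI : IsLocalHom f := ⟨fun a ha => isUnit_iff_ne_zero.2 fun h => by simp [h] at ha⟩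
  letI : Algebra (IsLocalRing.ResidueField K) (IsLocalRing.ResidueField R) :=
    (IsLocalRing.ResidueField.map f).toAlgebra
  haveI : Algebra.IsSeparable (IsLocalRing.ResidueField K) (IsLocalRing.ResidueField S) := hS.isSepClosure.2
  let τ : IsLocalRing.ResidueField S →ₐ[IsLocalRing.ResidueField K] IsLocalRing.ResidueField R := IsSepClosed.lift
  obtain ⟨g, ⟨hg, -⟩, -⟩ := hS.universal R f τ.toRingHom (RingHom.ext fun a => τ.commutes a)
  letI : Field S := ((IsLocalRing.isField_iff_maximalIdeal_eq).2 hm).toField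
  haveI : IsSepClosed S := Hensel.isSepClosed_of_ringEquiv e.symm
  refine ⟨S, inferInstance, inferInstance, inferInstance, ⟨fun s => ?_⟩, g, hg⟩
  obtain ⟨p, hp, hp0⟩ := Algebra.IsIntegral.isIntegral (R := IsLocalRing.ResidueField K) (e s)
  obtain ⟨p', hp', -, hp'm⟩ := Polynomial.lifts_and_degree_eq_and_monic
    ((Polynomial.lifts_iff_coeff_lifts p).2 fun i => IsLocalRing.residue_surjective (p.coeff i)) hp
  refine ⟨p', hp'm, hinj ?_⟩
  rw [map_zero, Polynomial.hom_eval₂, show (IsLocalRing.residue S).comp (algebraMap K S) =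
    (algebraMap (IsLocalRing.ResidueField K) (IsLocalRing.ResidueField S)).comp (IsLocalRing.residue K) from rfl,
    ← Polynomial.eval₂_map, hp']
  exact hp0

/-- a residue field tensored with a strict henselisation has cohomological dimension at most the
transcendence degree over a field inside the local ring -/
theorem kVanOn_tensor_strictHenselization {A : Type u} [CommRing A] [IsLocalRing A] [Algebra K A]
    (R : Type u) [CommRing R] [IsLocalRing R] [Algebra A R] [IsLocalHom (algebraMap A R)]
    [hR : _root_.Hensel.IsStrictHenselization A R] (E : Type u) [Field E] [Algebra A E] [Algebra K E]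
    [IsScalarTower K A E] (n : ℕ) (hn : Algebra.trdeg K E ≤ n) :
    KVanOn L (Spec (CommRingCat.of (E ⊗[A] R))) n := by
  haveI : HenselianLocalRing R := hR.henselian
  haveI : IsSepClosed (IsLocalRing.ResidueField R) := hR.isSepClosure.1
  haveI := WeakEt.weaklyEtale_strictHenselization A R
  haveI : Algebra.WeaklyEtale E (E ⊗[A] R) := inferInstance
  haveI : Algebra.IsIntegral E (E ⊗[A] R) := ⟨fun b => by
    obtain ⟨p, hp, hp0⟩ := WEtField.isSepElem_of_weaklyEtale (K := E) b
    exact IsAlgebraic.isIntegral ⟨p, hp.ne_zero, hp0⟩⟩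
  obtain ⟨Ω, _, _, _, _, g, hg⟩ := exists_sepClosure_hom ((algebraMap A R).comp (algebraMap K A))
  letI : Algebra K R := ((algebraMap A R).comp (algebraMap K A)).toAlgebra
  haveI : IsScalarTower K A R := IsScalarTower.of_algebraMap_eq fun _ => rfl
  let g' : Ω →ₐ[K] R := { g with commutes' := fun c => RingHom.congr_fun hg c }
  let ψ : E ⊗[K] Ω →ₐ[K] E ⊗[A] R := Algebra.TensorProduct.productMap
    ((Algebra.TensorProduct.includeLeft (R := A) (S := A) (A := E) (B := R)).restrictScalars K)
    (((Algebra.TensorProduct.includeRight (R := A) (A := E) (B := R)).restrictScalars K).comp g')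
  have hψ : ψ.toRingHom.IsIntegral := by
    have h : (ψ.toRingHom.comp (algebraMap E (E ⊗[K] Ω))).IsIntegral := by
      rw [show ψ.toRingHom.comp (algebraMap E (E ⊗[K] Ω)) = algebraMap E (E ⊗[A] R) from
        RingHom.ext fun y => by simp [ψ]]
      exact algebraMap_isIntegral_iff.2 inferInstance
    exact RingHom.IsIntegral.tower_top _ _ h
  haveI : IsIntegralHom (Spec.map (CommRingCat.ofHom ψ.toRingHom)) := IsIntegralHom.SpecMap_iff.2 hψ
  exact (kVanOn_tensor_sepClosed E n hn Ω).of_isIntegralHom (Spec.map (CommRingCat.ofHom ψ.toRingHom))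

end Groth.Agent.EtPBC
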