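import Groth.Agent.EtPBC.CdFiniteType
import Groth.Agent.EtPBC.CdTensor
import Groth.Agent.EtStrictLoc.RelSys
import Groth.Agent.Weighting.Geom
import Groth.Agent.EtLimit.Push
import Groth.Agent.S9683
import Mathlib

/-!
# Cohomological dimension of finite type schemes and morphisms over arbitrary fields
-/

set_option autoImplicit false
set_option backward.isDefEq.respectTransparency false
set_option backward.isDefEq.respectTransparency.types false
set_option linter.auxLemma false
set_option linter.style.haveILetI false
set_option linter.unusedSectionVars false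
set_option maxHeartbeats 1000000

universe u

open CategoryTheory CategoryTheory.Limits CategoryTheory.Abelian AlgebraicGeometry Opposite TopologicalSpace IsLocalRing

noncomputable section

namespace Groth.Agent.EtPBC

attribute [local instance 100000] EtCoh.H._proof_1 EtMV.hext
attribute [local instance 200000] EtMV.hextAb

variable {K : Type u} [Field K] {X : Scheme.{u}} (f : X ⟶ Spec (CommRingCat.of K))

theorem topologicalKrullDim_sepBase {n : ℕ} (hn : topologicalKrullDim X ≤ n) {Ω : Type u} [Field Ω] (φ : K →+* Ω)
    (hφ : φ.IsIntegral) : topologicalKrullDim ↥(pullback f (Spec.map (CommRingCat.ofHom φ))) ≤ n := by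
  haveI : IsIntegralHom (Spec.map (CommRingCat.ofHom φ)) := IsIntegralHom.SpecMap_iff.2 hφ
  exact ((Groth.Agent.S9683.result (pullback.fst f (Spec.map (CommRingCat.ofHom φ)))).1).trans hn

/-- **finite type schemes over any field** -/
theorem kVanOn_finiteType {L : Set ℕ} [LocallyOfFiniteType f] [QuasiCompact f] {n : ℕ}
    (hn : topologicalKrullDim X ≤ n) {e : ℕ} (hK : KVanOn L (Spec (CommRingCat.of K)) e) :
    KVanOn L X (2 * n + e) := by
  haveI : IsLocallyNoetherian X := LocallyOfFiniteType.isLocallyNoetherian f
  haveI : QuasiSeparated f := inferInstance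
  exact kVanOn_of_sepClosure f hK fun Ω _ _ φ hφ =>
    (kVan_finiteType (pullback.snd f _) (topologicalKrullDim_sepBase f hn φ hφ)).on L

theorem dim_le_of_resDim [LocallyOfFiniteType f] {n : ℕ} (h : ∀ x, ResDim f x n) : topologicalKrullDim X ≤ n := by
  refine iSup_le fun p => ?_
  choose η hη using fun i : Fin (p.length + 1) => QuasiSober.sober (p i).isIrreducible (p i).isClosed
  choose d hd hd' using fun x : X => exists_trdg_eq f x
  have hlt : ∀ i : Fin p.length, d (η i.castSucc) < d (η i.succ) := fun i => by
    have hle : p i.castSucc < p i.succ := p.step i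
    have hs : η i.succ ⤳ η i.castSucc :=
      (hη i.succ).specializes (hle.le (hη i.castSucc).mem)
    have hne : η i.succ ≠ η i.castSucc := fun e => hle.ne (IrreducibleCloseds.ext (by
      rw [← (hη i.castSucc).def, ← (hη i.succ).def, e]))
    exact Nat.cast_lt.1 ((hd (η i.castSucc)).symm.trans_lt ((trdg_lt_of_specializes f hs hne).trans_le (hd (η i.succ)).le))
  have hi : ∀ (j : ℕ) (hj : j < p.length + 1), j ≤ d (η ⟨j, hj⟩) := by
    intro j
    induction j with
    | zero => exact fun _ => Nat.zero_le _
    | succ j ih => exact fun hj => (ih (by omega)).trans_lt (hlt ⟨j, by omega⟩)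
  have h1 : d (η (Fin.last p.length)) ≤ n :=
    Nat.cast_le.1 ((hd _).symm.le.trans (h (η (Fin.last p.length))))
  exact_mod_cast (hi p.length (by omega)).trans h1

include f in
theorem exists_dim_le [LocallyOfFiniteType f] [QuasiCompact f] : ∃ n : ℕ, topologicalKrullDim X ≤ n := by
  haveI : IsLocallyNoetherian X := LocallyOfFiniteType.isLocallyNoetherian f
  haveI : CompactSpace X := QuasiCompact.compactSpace_of_compactSpace f
  haveI : IsNoetherian X := {}
  choose d hd hd' using fun x : X => exists_trdg_eq f x
  have hfin := NoetherianSpace.finite_irreducibleComponents (α := X)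
  haveI := hfin.fintype
  choose η hη using fun Z : irreducibleComponents X =>
    QuasiSober.sober Z.2.1 (isClosed_of_mem_irreducibleComponents Z.1 Z.2)
  refine ⟨Finset.univ.sup fun Z => d (η Z), dim_le_of_resDim f fun x => ?_⟩
  let Z : irreducibleComponents X := ⟨irreducibleComponent x, irreducibleComponent_mem_irreducibleComponents x⟩
  refine ResDim.of_specializes f ((hη Z).specializes (mem_irreducibleComponent (x := x))) ?_
  exact (hd (η Z)).le.trans (Nat.cast_le.2 (Finset.le_sup (f := fun Z => d (η Z)) (Finset.mem_univ Z)))

/-! ### morphisms -/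

section Rel

variable {Y : Scheme.{u}} [LocallyOfFiniteType f] [QuasiCompact f] (b : Y ⟶ Spec (CommRingCat.of K))
  [LocallyOfFiniteType b] (g : X ⟶ Y) (w : g ≫ b = f) [QuasiCompact g] [QuasiSeparated g]
include w

open EtStrictLoc in
/-- base changes to strict localisations -/
theorem kVanOn_xR {n : ℕ} (hn : topologicalKrullDim X ≤ n) (y : Y) (R : Type u) [CommRing R] [IsLocalRing R]
    [HenselianLocalRing R] [IsSepClosed (ResidueField R)] [Algebra (Y.presheaf.stalk y) R]
    [IsLocalHom (algebraMap (Y.presheaf.stalk y) R)] [_root_.Hensel.IsStrictHenselization (Y.presheaf.stalk y) R] :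
    KVanOn Set.univ (xR g y R) (2 * n) := by
  obtain ⟨Ω, _, _, _, _, ι, hι⟩ := exists_sepClosure_hom (K := K) (R := R) (Spec.preimage (Hens2.specOf Y y R ≫ b)).hom
  let ω := Spec.map (CommRingCat.ofHom (algebraMap K Ω))
  let rω : Spec (CommRingCat.of R) ⟶ Spec (CommRingCat.of Ω) := Spec.map (CommRingCat.ofHom ι)
  haveI : IsIntegralHom ω := IsIntegralHom.SpecMap_iff.2 (algebraMap_isIntegral_iff.2 ‹_›)
  have hrω : rω ≫ ω = Hens2.specOf Y y R ≫ b := by
    rw [← Spec.map_preimage (Hens2.specOf Y y R ≫ b), ← Spec.map_comp]
    exact congrArg Spec.map (CommRingCat.hom_ext hι)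
  let Idx' := Idx Y y R
  let a : ∀ i : Idx', (xDiag g y R).obj i ⟶ Spec (CommRingCat.of K) := fun i => xp g y R i ≫ f
  have ha : ∀ {i j : Idx'} (m : i ⟶ j), (xDiag g y R).map m ≫ a j = a i := fun {i j} m => by
    rw [← Category.assoc, xp_w]
  let D : Idx' ⥤ Scheme.{u} :=
    { obj := fun i => pullback (a i) ω
      map := fun {i j} m => pullback.lift (pullback.fst _ _ ≫ (xDiag g y R).map m) (pullback.snd _ _)
        (by rw [Category.assoc, ha, pullback.condition])
      map_id := fun i => by
        apply pullback.hom_ext
        · simp only [pullback.lift_fst, CategoryTheory.Functor.map_id, Category.comp_id, Category.id_comp]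
        · simp only [pullback.lift_snd, Category.id_comp]
      map_comp := fun m m' => by
        apply pullback.hom_ext
        · simp only [pullback.lift_fst, CategoryTheory.Functor.map_comp, Category.assoc, pullback.lift_fst_assoc]
        · simp only [pullback.lift_snd, Category.assoc] }
  haveI : ∀ {i j : Idx'} (m : i ⟶ j), IsAffineHom (D.map m) := fun {i j} m => by
    have sq : IsPullback (D.map m) (pullback.fst (a i) ω) (pullback.fst (a j) ω) ((xDiag g y R).map m) := by
      refine IsPullback.of_right ?_ (pullback.lift_fst _ _ _) (IsPullback.of_hasPullback (a j) ω).flip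
      rw [ha]
      exact (show D.map m ≫ pullback.snd (a j) ω = pullback.snd (a i) ω from pullback.lift_snd _ _ _).symm ▸
        (IsPullback.of_hasPullback (a i) ω).flip
    exact MorphismProperty.of_isPullback (P := @IsAffineHom) sq.flip inferInstance
  let X' := pullback (pullback.fst g (Hens2.specOf Y y R) ≫ f) ω
  have hpt : ∀ i : Idx', xπ g y R i ≫ a i = pullback.fst g (Hens2.specOf Y y R) ≫ f := fun i => by
    rw [← Category.assoc, xπ_snd]
  let c : Cone D :=
    { pt := X'
      π :=
        { app := fun i => pullback.lift (pullback.fst _ _ ≫ xπ g y R i) (pullback.snd _ _)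
            (by rw [Category.assoc, hpt, pullback.condition])
          naturality := fun i j m => by
            refine (Category.id_comp _).trans ?_
            apply pullback.hom_ext
            · simp only [D, pullback.lift_fst, Category.assoc, pullback.lift_fst_assoc]
              rw [xπ_w]
            · simp only [D, pullback.lift_snd, Category.assoc] } }
  haveI : Nonempty Idx' := IsCofiltered.nonempty
  let i₀ : Idx' := Classical.arbitrary _
  let tc (t : Cone D) : Cone (xDiag g y R) :=
    { pt := t.pt
      π :=
        { app := fun i => t.π.app i ≫ pullback.fst _ _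
          naturality := fun i j m => by
            refine (Category.id_comp _).trans ?_
            rw [Category.assoc, ← t.w m, Category.assoc]
            exact congrArg (t.π.app i ≫ ·) (pullback.lift_fst _ _ _) } }
  have hsnd : ∀ (t : Cone D) (i : Idx'), t.π.app i ≫ pullback.snd _ _ = t.π.app i₀ ≫ pullback.snd _ _ := by
    intro t i
    obtain ⟨k, p, q, -⟩ := IsCofilteredOrEmpty.cone_objs i i₀
    rw [← t.w p, ← t.w q, Category.assoc, Category.assoc]
    exact congrArg (t.π.app k ≫ ·) ((pullback.lift_snd _ _ _).trans (pullback.lift_snd _ _ _).symm)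
  let hc : IsLimit c :=
    { lift := fun t => pullback.lift ((isLimitXCone g y R).lift (tc t)) (t.π.app i₀ ≫ pullback.snd _ _) (by
        rw [← hpt i₀, ← Category.assoc]
        erw [(isLimitXCone g y R).fac (tc t) i₀]
        show (t.π.app i₀ ≫ pullback.fst _ _) ≫ a i₀ = _
        rw [Category.assoc, Category.assoc, pullback.condition])
      fac := fun t i => by
        apply pullback.hom_ext
        · simp only [c, Category.assoc, pullback.lift_fst, pullback.lift_fst_assoc]
          exact (isLimitXCone g y R).fac (tc t) i
        · simp only [c, Category.assoc, pullback.lift_snd]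
          exact (hsnd t i).symm
      uniq := fun t m hm => by
        apply pullback.hom_ext
        · rw [pullback.lift_fst]
          refine (isLimitXCone g y R).hom_ext fun i => ?_
          rw [(isLimitXCone g y R).fac]
          show (m ≫ pullback.fst _ _) ≫ xπ g y R i = t.π.app i ≫ pullback.fst _ _
          rw [← hm i, Category.assoc, Category.assoc]
          exact congrArg (m ≫ ·) (pullback.lift_fst _ _ _).symm
        · rw [pullback.lift_snd, ← hm i₀, Category.assoc]
          exact congrArg (m ≫ ·) (pullback.lift_snd _ _ _).symm }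
  haveI : ∀ i, QuasiCompact (a i) := fun i => by
    haveI : CompactSpace ↥(Spec (CommRingCat.of K)) := inferInstance
    exact (HasAffineProperty.iff_of_isAffine (P := @QuasiCompact)).2 inferInstance
  haveI : ∀ i, CompactSpace ↥(D.obj i) := fun i =>
    QuasiCompact.compactSpace_of_compactSpace (pullback.snd (a i) ω)
  haveI : ∀ i, IsLocallyNoetherian (D.obj i) := fun i =>
    LocallyOfFiniteType.isLocallyNoetherian (pullback.snd (a i) ω)
  have hD : ∀ i, EtCoh.CohDimLE (D.obj i) (2 * n) := fun i => by
    let XΩ := pullback f ω
    let cΩ := pullback.snd f ω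
    let t : D.obj i ⟶ XΩ := pullback.lift (pullback.fst _ _ ≫ xp g y R i) (pullback.snd _ _)
      (by rw [Category.assoc]; exact pullback.condition)
    haveI : Etale t := by
      have sq : IsPullback t (pullback.fst (a i) ω) (pullback.fst f ω) (xp g y R i) := by
        refine IsPullback.of_right ?_ (pullback.lift_fst _ _ _) (IsPullback.of_hasPullback f ω).flip
        exact (show t ≫ pullback.snd f ω = pullback.snd (a i) ω from pullback.lift_snd _ _ _).symm ▸
          (IsPullback.of_hasPullback (a i) ω).flip
      exact MorphismProperty.of_isPullback (P := @Etale) sq.flip inferInstance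
    haveI := EtMV.lqf_of_etale t
    haveI : QuasiCompact t := by
      haveI : QuasiCompact (t ≫ cΩ) := by rw [show t ≫ cΩ = pullback.snd (a i) ω from pullback.lift_snd _ _ _]; infer_instance
      exact QuasiCompact.of_comp t cΩ
    refine cohDimLE_of_kVanOn ((kVan_of_resDim (t ≫ cΩ) fun z => ?_).on Set.univ)
    have e : kStr (t ≫ cΩ) z = (t.residueFieldMap z).hom.comp (kStr cΩ (t z)) := by
      have h : CommRingCat.ofHom (kStr (t ≫ cΩ) z) = CommRingCat.ofHom (kStr cΩ (t z)) ≫ t.residueFieldMap z := by
        apply Spec.map_injective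
        rw [kStr_spec, Spec.map_comp, kStr_spec, ← Category.assoc,
          ← Scheme.Hom.SpecMap_residueFieldMap_fromSpecResidueField, Category.assoc]
      exact congrArg CommRingCat.Hom.hom h
    show trdg (kStr (t ≫ cΩ) z) ≤ n
    rw [e, trdg_comp_integral_right _ _ (Weighting.finite_residueFieldMap t z).to_isIntegral]
    exact resDim_of_dim_le cΩ (topologicalKrullDim_sepBase f hn _ (algebraMap_isIntegral_iff.2 ‹_›)) (t z)
  have hX' : KVanOn Set.univ X' (2 * n) := kVanOn_of_cohDimLE (EtLimit.cohDimLE_limit D c hc (2 * n) hD)
  let s : xR g y R ⟶ X' := pullback.lift (𝟙 _) (pullback.snd g (Hens2.specOf Y y R) ≫ rω) (by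
    rw [Category.id_comp, Category.assoc, hrω, ← w, ← Category.assoc, ← Category.assoc, pullback.condition])
  haveI : IsClosedImmersion s := by
    haveI : IsClosedImmersion (s ≫ pullback.fst (pullback.fst g (Hens2.specOf Y y R) ≫ f) ω) := by
      rw [pullback.lift_fst]; infer_instance
    exact IsClosedImmersion.of_comp s (pullback.fst (pullback.fst g (Hens2.specOf Y y R) ≫ f) ω)
  haveI : CompactSpace ↥(xR g y R) := QuasiCompact.compactSpace_of_compactSpace (pullback.snd g _)
  haveI : QuasiSeparatedSpace ↥(xR g y R) := quasiSeparatedSpace_of_quasiSeparated (pullback.snd g _)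
  exact hX'.of_isIntegralHom s

/-- **relative cohomological dimension** -/
theorem isZero_Rpush_finiteType {n : ℕ} (hn : topologicalKrullDim X ≤ n) (F : EtCoh.Ab X) (hF : EtCoh.IsTorsion F)
    (q : ℕ) (hq : 2 * n < q) : IsZero ((EtCoh.Rpush g q).obj F) := by
  refine isZero_of_zeroAt _ fun y => ?_
  obtain ⟨R, _, _, _, _, hR⟩ := EtBCQ.exists_sh (Y.presheaf.stalk y)
  haveI : HenselianLocalRing R := hR.henselian
  haveI : IsSepClosed (ResidueField R) := hR.isSepClosure.1
  refine (isZero_stalk_iff_zeroAt (EtBCQ.geomPt_apply y R) _).1 ?_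
  obtain ⟨e⟩ := EtStrictLoc.nonempty_stalkRpush g y R q
  refine IsZero.of_iso ?_ (e.app F)
  refine @AddCommGrpCat.isZero_of_subsingleton _ ?_
  haveI : CompactSpace ↥(EtStrictLoc.xR g y R) := QuasiCompact.compactSpace_of_compactSpace (pullback.snd g _)
  haveI : QuasiSeparatedSpace ↥(EtStrictLoc.xR g y R) := quasiSeparatedSpace_of_quasiSeparated (pullback.snd g _)
  exact (kVanOn_xR f b g w hn y R).subsingleton_H _ (EtAcycX.isLTorsion_pull _ (isLTorsion_univ_of_isTorsion hF)) q hq

end Rel

end Groth.Agent.EtPBC
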