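import Groth.Agent.EtPBC.CdProper
import Groth.Agent.S4642
import Mathlib

/-!
# Fibre dimensions bound the higher direct images along proper morphisms
-/

set_option autoImplicit false
set_option backward.isDefEq.respectTransparency false
set_option backward.isDefEq.respectTransparency.types false
set_option linter.auxLemma false
set_option linter.style.haveILetI false
set_option linter.unusedSectionVars false
set_option maxHeartbeats 1000000

universe u

open CategoryTheory CategoryTheory.Limits CategoryTheory.Abelian AlgebraicGeometry Opposite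

noncomputable section

namespace Groth.Agent.EtPBC

attribute [local instance 100000] EtCoh.H._proof_1 EtMV.hext
attribute [local instance 200000] EtMV.hextAb

/-- geometric fibres have the dimension of the fibres -/
theorem topologicalKrullDim_geomFibre_le {X Y : Scheme.{u}} (f : X ⟶ Y) [LocallyOfFiniteType f] {n : ℕ}
    (hdim : ∀ y : Y, topologicalKrullDim (f.fiber y) ≤ n) {Ω : Type u} [Field Ω]
    (ξ : Spec (CommRingCat.of Ω) ⟶ Y) : topologicalKrullDim ↥(pullback f ξ) ≤ n := by
  let y := ξ (IsLocalRing.closedPoint Ω)
  let φ : Y.residueField y ⟶ CommRingCat.of Ω := Scheme.descResidueField (Scheme.stalkClosedPointTo ξ)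
  have hφ : Spec.map φ ≫ Y.fromSpecResidueField y = ξ :=
    Scheme.descResidueField_stalkClosedPointTo_fromSpecResidueField Ω Y ξ
  letI : Algebra (Y.residueField y) Ω := φ.hom.toAlgebra
  let c : pullback f ξ ⟶ f.fiber y :=
    pullback.lift (pullback.fst f ξ) (pullback.snd f ξ ≫ Spec.map φ)
      (by rw [pullback.condition, Category.assoc, hφ])
  have sq : IsPullback c (pullback.snd f ξ) (pullback.snd f (Y.fromSpecResidueField y)) (Spec.map φ) := by
    refine IsPullback.of_right ?_ (pullback.lift_snd _ _ _) (IsPullback.of_hasPullback f (Y.fromSpecResidueField y))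
    rw [show c ≫ pullback.fst f (Y.fromSpecResidueField y) = pullback.fst f ξ from pullback.lift_fst _ _ _, hφ]
    exact IsPullback.of_hasPullback f ξ
  refine sq.isoPullback.hom.isOpenEmbedding.isInducing.topologicalKrullDim_le.trans ?_
  haveI : LocallyOfFiniteType (pullback.snd f (Y.fromSpecResidueField y)) := inferInstance
  exact (Groth.Agent.S4642.result (k := Y.residueField y) (K := Ω)
    (pullback.snd f (Y.fromSpecResidueField y))).le.trans (hdim y)

/-- higher direct images of torsion sheaves vanish above twice the fibre dimension -/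
theorem isZero_Rpush_of_fibreDim {X Y : Scheme.{u}} (f : X ⟶ Y) [IsProper f] (n : ℕ)
    (hdim : ∀ y : Y, topologicalKrullDim (f.fiber y) ≤ n) (F : EtCoh.Ab X) (hF : EtAcyc.IsLTorsion Set.univ F)
    (q : ℕ) (hq : 2 * n < q) : IsZero ((EtCoh.Rpush f q).obj F) := by
  refine isZero_of_isZero_stalks _ fun Ω _ _ ξ => isZero_stalk_Rpush f F hF ξ q ?_
  exact subsingleton_H_proper (pullback.snd f ξ) n (topologicalKrullDim_geomFibre_le f hdim ξ) _
    (EtAcycX.isLTorsion_pull _ hF) q hq

end Groth.Agent.EtPBC
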