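import Groth.Agent.EtPBC.ShriekProper
import Groth.Agent.EtPBC.RelDimBound
import Groth.Agent.EtPBC.CdMain
import Groth.Agent.ShriekLQF.Etale
import Mathlib

/-!
# Direct images with proper support vanish above twice the fibre dimension
-/

set_option autoImplicit false
set_option backward.isDefEq.respectTransparency false
set_option backward.isDefEq.respectTransparency.types false
set_option linter.auxLemma false
set_option linter.style.haveILetI false
set_option linter.unusedSectionVars false
set_option maxHeartbeats 1000000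

universe u

open CategoryTheory CategoryTheory.Limits CategoryTheory.Abelian AlgebraicGeometry Opposite TopologicalSpace

noncomputable section

namespace Groth.Agent.EtPBC

attribute [local instance 100000] EtCoh.H._proof_1 EtMV.hext
attribute [local instance 200000] EtMV.hextAb

variable {k : Type u} [Field k]

/-- open subschemes have the same residue fields -/
theorem resDim_openImmersion {W Z : Scheme.{u}} (c : Z ⟶ Spec (CommRingCat.of k)) (i : W ⟶ Z) [IsOpenImmersion i]
    (w : W) (m : ℕ) : ResDim (i ≫ c) w m ↔ ResDim c (i w) m := by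
  have e : kStr (i ≫ c) w = (i.residueFieldMap w).hom.comp (kStr c (i w)) := by
    have h : CommRingCat.ofHom (kStr (i ≫ c) w) = CommRingCat.ofHom (kStr c (i w)) ≫ i.residueFieldMap w := by
      apply Spec.map_injective
      rw [kStr_spec, Spec.map_comp, kStr_spec, ← Category.assoc,
        ← Scheme.Hom.SpecMap_residueFieldMap_fromSpecResidueField, Category.assoc]
    exact congrArg CommRingCat.Hom.hom h
  have hsurj : Function.Surjective (i.residueFieldMap w) := (ConcreteCategory.bijective_of_isIso _).2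
  unfold ResDim
  rw [e, trdg_comp_integral_right _ _ (RingHom.isIntegral_of_surjective _ hsurj)]

variable [IsSepClosed k]

/-- sheaves on a proper scheme living on an open subscheme of dimension at most `n` have `cd ≤ 2n` -/
theorem subsingleton_H_supported_open {W Z : Scheme.{u}} (c : Z ⟶ Spec (CommRingCat.of k)) [IsProper c]
    (i : W ⟶ Z) [IsOpenImmersion i] (n : ℕ) (hdim : topologicalKrullDim W ≤ n) (F : EtCoh.Ab Z)
    (hF : EtAcyc.IsLTorsion Set.univ F) (hsupp : ∀ z, z ∉ Set.range i → ZeroAt F z) (q : ℕ) (hq : 2 * n < q) :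
    Subsingleton (EtCoh.H Z F q) := by
  haveI := isNoetherian_of_field c
  obtain ⟨hc⟩ := EtAcycX.nonempty_isColimit_kdCocone Set.univ F hF
  haveI := EtColimH.preservesColimitsOfShape_HF (X := Z) q (EtColimH.Expo.{u} (EtAcyc.PrimesIn Set.univ))
  refine subsingleton_of_forall_eq 0 fun t => ?_
  obtain ⟨a, ta, rfl⟩ := Concrete.isColimit_exists_rep _ (isColimitOfPreserves (EtCoh.HF Z q) hc) t
  suffices h : Subsingleton (EtCoh.H Z ((EtAcycX.kdDiag Set.univ F).obj a) q) by
    rw [show ta = 0 from @Subsingleton.elim (EtCoh.H Z ((EtAcycX.kdDiag Set.univ F).obj a) q) h _ _]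
    exact map_zero _
  have hm : 0 < a.down.down.1 := a.down.down.2.1
  have hK : Killed a.down.down.1 ((EtAcycX.kdDiag Set.univ F).obj a) := (killed_iff _ _).2 (EtAcycX.kd_tor F _)
  haveI : Mono ((EtAcycX.kdCocone Set.univ F).ι.app a) :=
    inferInstanceAs (Mono (kernel.ι (a.down.down.1 • 𝟙 F)))
  refine subsingleton_H_of_suppPred (P := fun z => ResDim c z n) _ (fun x y h hx => hx.of_specializes c h)
    (fun z hz => zeroAt_of_mono ((EtAcycX.kdCocone Set.univ F).ι.app a) (hsupp z fun hzr => hz ?_)) q
    fun C hC K j hj hK0 => ?_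
  · obtain ⟨w, rfl⟩ := hzr
    exact (resDim_openImmersion c i w n).1 (resDim_of_dim_le (i ≫ c) hdim w)
  let I := Scheme.IdealSheafData.vanishingIdeal C
  let ι : I.subscheme ⟶ Z := I.subschemeι
  have hι : Set.range ι = (C : Set Z) := by
    rw [Scheme.IdealSheafData.range_subschemeι]
    exact Scheme.IdealSheafData.coe_support_vanishingIdeal C
  refine subsingleton_H_of_closedImmersion ι K hm (killed_of_mono j hK) (fun x hx => hK0 x fun h => hx (hι ▸ h)) q ?_
  have hr : ∀ z : I.subscheme, ResDim (ι ≫ c) z n := fun z => by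
    rw [resDim_closedImmersion c ι z n]
    exact hC _ (hι.subset ⟨z, rfl⟩)
  exact subsingleton_H_proper (ι ≫ c) n (dim_le_of_resDim (ι ≫ c) hr) _
    (isLTorsion_univ_of_killed hm (killed_pull ι (killed_of_mono j hK))) q hq

/-- **vanishing of `R^q p_* j_!`** -/
theorem isZero_Rpush_extZero {X P S : Scheme.{u}} (j : X ⟶ P) [IsOpenImmersion j] (p : P ⟶ S) [IsProper p] (d : ℕ)
    (hdim : ∀ s : S, topologicalKrullDim ((j ≫ p).fiber s) ≤ d) (F : EtCoh.Ab X) (hF : EtCoh.IsTorsion F)
    (q : ℕ) (hq : 2 * d < q) : IsZero ((EtCoh.Rpush p q).obj ((EtShriek.extZero j).obj F)) := by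
  obtain ⟨e⟩ := Groth.Agent.ShriekLQF.nonempty_extZero_iso_lowerShriek j
  refine IsZero.of_iso ?_ ((EtCoh.Rpush p q).mapIso (e.app F))
  haveI := Groth.Agent.FpqcDescent.locallyQuasiFinite_of_etale j
  refine isZero_of_isZero_stalks _ fun Ω _ _ ξ => ?_
  refine isZero_stalk_Rpush p _ (isLTorsion_univ_of_isTorsion (isTorsion_lowerShriek j F hF)) ξ q ?_
  let i : pullback (j ≫ p) ξ ⟶ pullback p ξ := pullback.map _ _ _ _ j (𝟙 _) (𝟙 _) (by simp) (by simp)
  have hr : Set.range i = (pullback.fst p ξ) ⁻¹' Set.range j ∩ (pullback.snd p ξ) ⁻¹' Set.univ := by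
    rw [Scheme.Pullback.range_map]
    simp
  haveI : IsOpenImmersion i := by
    dsimp [i]
    infer_instance
  exact subsingleton_H_supported_open (pullback.snd p ξ) i d (topologicalKrullDim_geomFibre_le (j ≫ p) hdim ξ) _
    (EtAcycX.isLTorsion_pull _ (isLTorsion_univ_of_isTorsion (isTorsion_lowerShriek j F hF)))
    (fun z hz => zeroAt_pull _ _ z (zeroAt_lowerShriek_of_notMem j F fun h => hz (hr.symm ▸ ⟨h, trivial⟩))) q hq

end Groth.Agent.EtPBC
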