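import Groth.Agent.EtPBC.CdDev
import Groth.Agent.Misc3.KummerField
import Groth.Agent.KummerLib.MuConst
import Groth.Agent.EtPushStalk.OpenImm
import Groth.Agent.EtMV.Etale
import Mathlib.GroupTheory.IndexNormal
import Mathlib.RingTheory.Norm.Basic

/-!
# Roots of unity over fields with surjective norms

If norms are surjective in Galois extensions of degree `p` of all finite separable extensions of a
field `k` with `p` invertible then `H^q(k, μ_p) = 0` for `q ≥ 2`, and hence `cd_p(k) ≤ 1`.
-/

set_option autoImplicit false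
set_option backward.isDefEq.respectTransparency false
set_option backward.isDefEq.respectTransparency.types false
set_option linter.auxLemma false
set_option linter.style.haveILetI false

universe u

open CategoryTheory CategoryTheory.Limits CategoryTheory.Abelian AlgebraicGeometry Opposite
open Groth.Agent.EtFLC (res res_res res_id)
open Groth.Agent.GalCohLib (pt ptMap)

noncomputable section

namespace Groth.Agent.EtPBC

attribute [local instance 100000] EtCoh.H._proof_1 EtMV.hext
attribute [local instance 200000] EtMV.hextAb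

/-- norms in Galois extensions of degree `p` of finite separable extensions are surjective -/
def NormSurj (p : ℕ) (k : Type u) [Field k] : Prop :=
  ∀ (K : Type u) [Field K] [Algebra k K] [FiniteDimensional k K] [Algebra.IsSeparable k K]
    (L : Type u) [Field L] [Algebra K L] [FiniteDimensional K L] [IsGalois K L],
    Module.finrank K L = p → ∀ x : K, x ≠ 0 → ∃ y : L, Algebra.norm K y = x

theorem NormSurj.ext {p : ℕ} {k : Type u} [Field k] (h : NormSurj p k) (K : Type u) [Field K] [Algebra k K]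
    [FiniteDimensional k K] [Algebra.IsSeparable k K] : NormSurj p K := by
  intro K' _ _ _ _
  letI : Algebra k K' := ((algebraMap K K').comp (algebraMap k K)).toAlgebra
  haveI : IsScalarTower k K K' := IsScalarTower.of_algebraMap_eq fun _ => rfl
  haveI : FiniteDimensional k K' := FiniteDimensional.trans k K K'
  haveI : Algebra.IsSeparable k K' := Algebra.IsSeparable.trans k K K'
  exact h K'

section Gm

variable {X Y : Scheme.{u}} (h : Y ⟶ X) [Etale h] [EtShriek.JCont h]

/-- the units restrict to the units -/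
def gmRestrIso : (EtShriek.restrAlong h).obj (EtCoh.Gm X) ≅ EtCoh.Gm Y :=
  (fullyFaithfulSheafToPresheaf Y.smallEtaleTopology AddCommGrpCat.{u + 1}).preimageIso
    (NatIso.ofComponents (fun _ => Iso.refl _) fun f => by
      rw [Iso.refl_hom, Iso.refl_hom, Category.comp_id, Category.id_comp]
      rfl)

/-- the units pull back to the units along étale maps -/
def gmPullIso : (EtCoh.pull h).obj (EtCoh.Gm X) ≅ EtCoh.Gm Y :=
  ((EtPushStalk.restrPullIso h).app _).symm ≪≫ gmRestrIso h

/-- roots of unity pull back to roots of unity along étale maps -/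
def muPullIso [PreservesFiniteLimits (EtCoh.pull h)] (n : ℕ) :
    (EtCoh.pull h).obj (EtCoh.mu X n) ≅ EtCoh.mu Y n :=
  haveI : (EtCoh.pull h).Additive := Functor.additive_of_preserves_binary_products _
  PreservesKernel.iso (EtCoh.pull h) (EtCoh.powMap X n) ≪≫
    kernel.mapIso _ _ (gmPullIso h) (gmPullIso h) (by
      rw [EtCoh.powMap, Functor.map_nsmul, CategoryTheory.Functor.map_id, EtCoh.powMap,
        Preadditive.comp_nsmul, Preadditive.nsmul_comp, Category.id_comp, Category.comp_id])

end Gm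

theorem subsingleton_H_congr {X : Scheme.{u}} {F G : EtCoh.Ab X} (e : F ≅ G) (n : ℕ)
    (h : Subsingleton (EtCoh.H X G n)) : Subsingleton (EtCoh.H X F n) := by
  refine subsingleton_of_forall_eq 0 fun x => ?_
  have e1 : Ext.comp (Ext.comp x (Ext.mk₀ e.hom) (add_zero n)) (Ext.mk₀ e.inv) (add_zero n) = x := by
    rw [Ext.comp_assoc_of_second_deg_zero, Ext.mk₀_comp_mk₀, e.hom_inv_id, Ext.comp_mk₀_id]
  rw [← e1, show Ext.comp x (Ext.mk₀ e.hom) (add_zero n) = 0 from
    @Subsingleton.elim (EtCoh.H X G n) h _ _, Ext.zero_comp]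

section Points

variable {k : Type u} [Field k]

/-- Hilbert 90 at a point -/
theorem subsingleton_ext_Gm_one (L : Type u) [Field L] [Algebra k L] [FiniteDimensional k L]
    [Algebra.IsSeparable k L] :
    Subsingleton (Ext ((EtMV.P (Spec (CommRingCat.of k))).obj (pt k L)) (EtCoh.Gm _) 1) := by
  haveI := GalCohLib.etale_spec k L
  haveI := EtMV.jcont_etale (Spec.map (CommRingCat.ofHom (algebraMap k L)))
  exact (EtMV.subsingleton_H_iff_of_etale (Spec.map (CommRingCat.ofHom (algebraMap k L))) _ 1).1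
    (subsingleton_H_congr (gmPullIso _) 1 (Misc3.KummerField.subsingleton_H1_Gm L))

theorem subsingleton_ext_mu (L : Type u) [Field L] [Algebra k L] [FiniteDimensional k L]
    [Algebra.IsSeparable k L] (n q : ℕ)
    (h : Subsingleton (EtCoh.H (Spec (CommRingCat.of L)) (EtCoh.mu _ n) q)) :
    Subsingleton (Ext ((EtMV.P (Spec (CommRingCat.of k))).obj (pt k L)) (EtCoh.mu _ n) q) := by
  haveI := GalCohLib.etale_spec k L
  haveI := EtMV.jcont_etale (Spec.map (CommRingCat.ofHom (algebraMap k L)))
  haveI := Groth.Agent.EtPullExact.pull_preservesFiniteLimits (Spec.map (CommRingCat.ofHom (algebraMap k L)))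
  exact (EtMV.subsingleton_H_iff_of_etale (Spec.map (CommRingCat.ofHom (algebraMap k L))) _ q).1
    (subsingleton_H_congr (muPullIso _ n) q h)

/-- units of a point -/
def uSect (L : Type u) [Field L] [Algebra k L] [FiniteDimensional k L] [Algebra.IsSeparable k L] :
    Additive Lˣ →+ EtCoh.sect (EtCoh.Gm (Spec (CommRingCat.of k))) (pt k L) :=
  (AddEquiv.ulift (α := Additive (Γ(Spec (CommRingCat.of L), ⊤))ˣ)).symm.toAddMonoidHom.comp
    (MonoidHom.toAdditive (Units.map (Scheme.ΓSpecIso (CommRingCat.of L)).inv.hom.toMonoidHom))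

theorem uSect_surjective (L : Type u) [Field L] [Algebra k L] [FiniteDimensional k L] [Algebra.IsSeparable k L] :
    Function.Surjective (uSect (k := k) L) := by
  intro s
  let v : (Γ(Spec (CommRingCat.of L), ⊤))ˣ :=
    ((s : ULift.{u + 1} (Additive (Γ(Spec (CommRingCat.of L), ⊤))ˣ)).down).toMul
  refine ⟨Additive.ofMul (Units.map (Scheme.ΓSpecIso (CommRingCat.of L)).hom.hom.toMonoidHom v), ?_⟩
  show ULift.up (Additive.ofMul _) = s
  refine congrArg ULift.up (congrArg Additive.ofMul (Units.ext ?_))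
  exact CategoryTheory.Iso.hom_inv_id_apply (Scheme.ΓSpecIso (CommRingCat.of L)) (v : Γ(Spec (CommRingCat.of L), ⊤))

theorem res_uSect {L M : Type u} [Field L] [Algebra k L] [FiniteDimensional k L] [Algebra.IsSeparable k L]
    [Field M] [Algebra k M] [FiniteDimensional k M] [Algebra.IsSeparable k M]
    (φ : L →+* M) (f : pt k M ⟶ pt k L) (hf : f.left = Spec.map (CommRingCat.ofHom φ)) (a : Lˣ) :
    res (EtCoh.Gm _) f (uSect L (Additive.ofMul a)) = uSect M (Additive.ofMul (Units.map φ.toMonoidHom a)) := by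
  refine congrArg ULift.up (congrArg Additive.ofMul (Units.ext ?_))
  show f.left.appTop ((Scheme.ΓSpecIso (CommRingCat.of L)).inv (a : L)) =
    (Scheme.ΓSpecIso (CommRingCat.of M)).inv (φ (a : L))
  rw [hf]
  exact (ConcreteCategory.congr_hom (Scheme.ΓSpecIso_inv_naturality (CommRingCat.ofHom φ)) (a : L)).symm

variable (k) in
/-- norms are surjective on units of a cyclic point of prime degree -/
theorem exists_tr_comp_eq (p : ℕ) [Fact p.Prime] (hN : NormSurj p k)
    (L' K : Type u) [Field L'] [Field K] [Algebra k L'] [Algebra k K] [Algebra L' K] [IsScalarTower k L' K]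
    [FiniteDimensional k L'] [Algebra.IsSeparable k L'] [FiniteDimensional k K] [Algebra.IsSeparable k K]
    [FiniteDimensional L' K] [IsGalois L' K] (hdeg : Module.finrank L' K = p)
    (g : K ≃ₐ[L'] K) (hg : ∀ x : K ≃ₐ[L'] K, x ∈ Subgroup.zpowers g)
    (u' : (EtMV.P (Spec (CommRingCat.of k))).obj (pt k L') ⟶ EtCoh.Gm _) :
    ∃ ψ : (EtMV.P (Spec (CommRingCat.of k))).obj (pt k K) ⟶ EtCoh.Gm _,
      (cycCover k L' K g hg).tr ≫ ψ = u' := by
  classical
  obtain ⟨a, ha⟩ := uSect_surjective L' (EtMV.σ u')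
  obtain ⟨y, hy⟩ := hN L' K hdeg ((Additive.toMul a : L'ˣ) : L') (Units.ne_zero _)
  have hy0 : y ≠ 0 := by
    rintro rfl
    exact Units.ne_zero (Additive.toMul a) (hy.symm.trans (Algebra.norm_zero))
  refine ⟨EtMV.σ.symm (uSect K (Additive.ofMul (Units.mk0 y hy0))), EtMV.σ.injective ?_⟩
  apply res_ptMap_injective k L' K (EtCoh.Gm _)
  refine ((cycCover k L' K g hg).res_π_σ_tr _).trans ?_
  rw [Equiv.apply_symm_apply, ← ha]
  refine Eq.trans ?_ (res_uSect (algebraMap L' K) (ptMap k L' K) rfl (Additive.toMul a)).symm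
  unfold CycCover.nsum
  have h1 : ∀ i, res (EtCoh.Gm _) (spow (cycCover k L' K g hg).σ i) (uSect K (Additive.ofMul (Units.mk0 y hy0))) =
      uSect K (Additive.ofMul (Units.map (g ^ i).toAlgHom.toRingHom.toMonoidHom (Units.mk0 y hy0))) := by
    intro i
    rw [show spow (cycCover k L' K g hg).σ i = galMap k L' K (g ^ i) from spow_galMap k L' K g i]
    exact res_uSect _ _ rfl _
  simp only [h1]
  rw [← map_sum, ← ofMul_prod]
  refine congrArg (fun v => uSect K (Additive.ofMul v)) (Units.ext ?_)
  rw [Units.coe_prod]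
  show ∏ i ∈ Finset.range (orderOf g), (g ^ i) y = algebraMap L' K ((Additive.toMul a : L'ˣ) : L')
  rw [← hy, Algebra.norm_eq_prod_automorphisms]
  refine Finset.prod_bij (fun i _ => g ^ i) (fun i _ => Finset.mem_univ _) ?_ ?_ (fun i _ => rfl)
  · exact fun i hi j hj e => pow_injOn_Iio_orderOf (Finset.mem_range.1 hi) (Finset.mem_range.1 hj) e
  · intro x _
    obtain ⟨i, rfl⟩ := mem_powers_iff_mem_zpowers.mpr (hg x)
    exact ⟨i % orderOf g, Finset.mem_range.2 (Nat.mod_lt _ (orderOf_pos g)), pow_mod_orderOf g i⟩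

end Points

section Tower

variable {k : Type u} [Field k] (p : ℕ) [hpp : Fact p.Prime] (F : EtCoh.Ab (Spec (CommRingCat.of k))) (q : ℕ)

/-- classes killed by a cyclic step of degree `p` vanish -/
def CyclicKill : Prop :=
  ∀ (L' K : Type u) [Field L'] [Field K] [Algebra k L'] [Algebra k K] [Algebra L' K] [IsScalarTower k L' K]
    [FiniteDimensional k L'] [Algebra.IsSeparable k L'] [FiniteDimensional k K] [Algebra.IsSeparable k K]
    [FiniteDimensional L' K] [IsGalois L' K], Module.finrank L' K = p →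
    ∀ c : Ext ((EtMV.P _).obj (pt k L')) F q,
      (Ext.mk₀ ((EtMV.P _).map (ptMap k L' K))).comp c (zero_add q) = 0 → c = 0

theorem eq_zero_of_pGroup (hstep : CyclicKill p F q) (N : ℕ) :
    ∀ (L' M : Type u) [Field L'] [Field M] [Algebra k L'] [Algebra k M] [Algebra L' M] [IsScalarTower k L' M]
    [FiniteDimensional k L'] [Algebra.IsSeparable k L'] [FiniteDimensional k M] [Algebra.IsSeparable k M]
    [FiniteDimensional L' M] [IsGalois L' M], Nat.card (M ≃ₐ[L'] M) = p ^ N →
    ∀ c : Ext ((EtMV.P _).obj (pt k L')) F q,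
      (Ext.mk₀ ((EtMV.P _).map (ptMap k L' M))).comp c (zero_add q) = 0 → c = 0 := by
  induction N with
  | zero =>
    intro L' M _ _ _ _ _ _ _ _ _ _ _ _ hcard c hc
    have h1 := GalCohLib.rel_card_nsmul_eq_zero k L' M F q c hc
    rwa [Fintype.card_eq_nat_card, hcard, pow_zero, one_nsmul] at h1
  | succ N ih =>
    intro L' M _ _ _ _ _ _ _ _ _ _ _ _ hcard c hc
    obtain ⟨H, hH⟩ := Sylow.exists_subgroup_card_pow_prime (G := M ≃ₐ[L'] M) p
      (n := N) (hcard ▸ Dvd.intro p (pow_succ p N).symm)
    have hidx : H.index = p := by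
      have := H.card_mul_index
      rw [hH, hcard, pow_succ] at this
      exact Nat.eq_of_mul_eq_mul_left (pow_pos hpp.out.pos N) this
    haveI : H.Normal := Subgroup.normal_of_index_eq_minFac_card (by
      rw [hidx, hcard, Nat.pow_minFac (Nat.succ_ne_zero N), hpp.out.minFac_eq])
    let K := IntermediateField.fixedField H
    haveI : IsScalarTower k K M := IsScalarTower.of_algebraMap_eq fun _ => rfl
    haveI : Algebra.IsSeparable k K := Algebra.isSeparable_tower_bot_of_isSeparable k K M
    haveI : FiniteDimensional k K := FiniteDimensional.left k K M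
    haveI : IsGalois K M := IsGalois.tower_top_of_isGalois L' K M
    haveI : IsGalois L' K := IsGalois.of_fixedField_normal_subgroup H
    have hKM : Nat.card (M ≃ₐ[K] M) = p ^ N := by
      rw [← hH, ← Nat.card_congr (IntermediateField.fixingSubgroupEquiv K).toEquiv,
        IntermediateField.fixingSubgroup_fixedField]
    have hLK : Module.finrank L' K = p := by
      rw [IntermediateField.finrank_eq_fixingSubgroup_index (F := L') (E' := M) K,
        IntermediateField.fixingSubgroup_fixedField, hidx]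
    have hfac : ptMap k K M ≫ ptMap k L' K = ptMap k L' M := by
      apply MorphismProperty.Over.Hom.ext
      rw [MorphismProperty.Comma.comp_left]
      show Spec.map _ ≫ Spec.map _ = Spec.map _
      rw [← Spec.map_comp]
      congr 1
    have hK : (Ext.mk₀ ((EtMV.P _).map (ptMap k L' K))).comp c (zero_add q) = 0 := by
      refine ih K M hKM _ ?_
      rw [Ext.mk₀_comp_mk₀_assoc, ← Functor.map_comp, hfac]
      exact hc
    exact hstep L' K hLK c hK

/-- `p`-primary classes of a field vanish if cyclic steps of degree `p` kill -/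
theorem eq_zero_of_cyclicKill (hstep : CyclicKill p F (q + 1))
    (x : EtCoh.H (Spec (CommRingCat.of k)) F (q + 1)) (hx : ∃ m : ℕ, p ^ m • x = 0) : x = 0 := by
  classical
  let X := Spec (CommRingCat.of k)
  let c := (EtMV.eX X F (q + 1)).symm x
  obtain ⟨m, hm⟩ := hx
  have hc0 : p ^ m • c = 0 := by rw [← map_nsmul, hm, map_zero]
  obtain ⟨o, h, w, -, hkill⟩ := EtMV.exists_kill q (EtCoh.top X) F c (default : ↥X)
  obtain ⟨M, _, _, _, _, a, ha⟩ := Misc3.EtFieldTorsion.exists_galois_nhd o w
  let j : pt k M ⟶ o := MorphismProperty.Over.homMk a ha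
  have hc : (Ext.mk₀ ((EtMV.P X).map (EtMV.toTop (pt k M)))).comp c (zero_add (q + 1)) = 0 := by
    rw [EtMV.hom_top_ext (EtMV.toTop (pt k M)) (j ≫ h), Functor.map_comp, ← Ext.mk₀_comp_mk₀_assoc, hkill,
      Ext.comp_zero]
  obtain ⟨S⟩ : Nonempty (Sylow p (M ≃ₐ[k] M)) := inferInstance
  let L' := IntermediateField.fixedField (S : Subgroup (M ≃ₐ[k] M))
  haveI : Algebra.IsSeparable k L' := Algebra.isSeparable_tower_bot_of_isSeparable k L' M
  haveI : IsGalois L' M := IsGalois.tower_top_of_isGalois k L' M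
  have hL : (Ext.mk₀ ((EtMV.P X).map (EtMV.toTop (pt k L')))).comp c (zero_add (q + 1)) = 0 := by
    refine eq_zero_of_pGroup p F (q + 1) hstep ((Nat.card (M ≃ₐ[k] M)).factorization p) L' M ?_ _ ?_
    · rw [← Nat.card_congr (IntermediateField.fixingSubgroupEquiv L').toEquiv,
        IntermediateField.fixingSubgroup_fixedField, S.card_eq_multiplicity]
    · rw [Ext.mk₀_comp_mk₀_assoc, ← Functor.map_comp,
        EtMV.hom_top_ext (ptMap k L' M ≫ EtMV.toTop (pt k L')) (EtMV.toTop (pt k M))]
      exact hc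
  have hd := GalCohLib.finrank_nsmul_eq_zero k L' F (q + 1) c hL
  have hdeg : ¬ p ∣ Module.finrank k L' := by
    have h := IntermediateField.finrank_eq_fixingSubgroup_index (F := k) (E' := M) L'
    rw [IntermediateField.fixingSubgroup_fixedField] at h
    intro hd
    exact S.not_dvd_index (h ▸ hd)
  have hcop : Nat.Coprime (p ^ m) (Module.finrank k L') :=
    Nat.Coprime.pow_left m ((hpp.out.coprime_iff_not_dvd).mpr hdeg)
  have hcz : c = 0 := AddMonoid.addOrderOf_eq_one_iff.mp (Nat.eq_one_of_dvd_coprimes hcop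
    (addOrderOf_dvd_of_nsmul_eq_zero hc0) (addOrderOf_dvd_of_nsmul_eq_zero hd))
  exact (EtMV.eX X F (q + 1)).symm.map_eq_zero_iff.mp hcz

end Tower

variable (p : ℕ) [hpp : Fact p.Prime]

theorem exists_generator (L' K : Type u) [Field L'] [Field K] [Algebra L' K] [FiniteDimensional L' K]
    [IsGalois L' K] (hdeg : Module.finrank L' K = p) :
    ∃ g : K ≃ₐ[L'] K, ∀ x : K ≃ₐ[L'] K, x ∈ Subgroup.zpowers g := by
  have hc : Nat.card (K ≃ₐ[L'] K) = p := (IsGalois.card_aut_eq_finrank L' K).trans hdeg
  haveI := isCyclic_of_prime_card hc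
  exact IsCyclic.exists_generator

/-- **norm surjectivity kills the `p`-part of `H^2(k, G_m)`** -/
theorem primaryTorsion_H2_Gm {k : Type u} [Field k] (hN : NormSurj p k)
    (x : EtCoh.H (Spec (CommRingCat.of k)) (EtCoh.Gm _) 2) (hx : ∃ m : ℕ, p ^ m • x = 0) : x = 0 := by
  refine eq_zero_of_cyclicKill p _ 1 ?_ x hx
  intro L' K _ _ _ _ _ _ _ _ _ _ _ _ hdeg c hc
  obtain ⟨g, hg⟩ := exists_generator p L' K hdeg
  refine (cycCover k L' K g hg).eq_zero_of_restrict _ (m := 0) (fun b => ?_) (fun a => ?_) c hc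
  · exact @Subsingleton.elim _ (subsingleton_ext_Gm_one K) b 0
  · obtain ⟨u', rfl⟩ := (Ext.mk₀_bijective _ _).2 a
    obtain ⟨ψ, rfl⟩ := exists_tr_comp_eq k p hN L' K hdeg g hg u'
    exact ⟨Ext.mk₀ ψ, Ext.mk₀_comp_mk₀ _ _⟩

/-- **norm surjectivity kills `H^q(k, μ_p)` for `q ≥ 2`** -/
theorem subsingleton_H_mu (m : ℕ) : ∀ (k : Type u) [Field k], (p : k) ≠ 0 → NormSurj p k →
    Subsingleton (EtCoh.H (Spec (CommRingCat.of k)) (EtCoh.mu _ p) (m + 2)) := by
  induction m using Nat.strong_induction_on with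
  | _ m ih =>
  rcases m with _ | m
  · intro k _ hp hN
    let X := Spec (CommRingCat.of k)
    have hinv : IsUnit (p : Γ(X, ⊤)) := by
      simpa using ((IsUnit.mk0 _ hp).map (Scheme.ΓSpecIso (CommRingCat.of k)).inv.hom)
    haveI hepi : Epi (EtCoh.powMap X p) := Groth.Agent.S0108.result X p hinv
    have hS := EtSix.kummerShortExact (X := X) hepi
    refine subsingleton_of_forall_eq 0 fun x => ?_
    have hpx : p • x = 0 := by
      refine nsmul_eq_zero_of_killed _ p (fun W s => ?_) _ x
      apply (KummerLib.mu_sections (X := X) p W).1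
      rw [map_nsmul, map_zero]
      exact ((KummerLib.mu_sections (X := X) p W).2 _).mp ⟨s, rfl⟩
    have h0 : Ext.comp x (Ext.mk₀ (EtCoh.muι X p)) (add_zero 2) = 0 := by
      refine primaryTorsion_H2_Gm p hN _ ⟨1, ?_⟩
      rw [pow_one]
      show p • (Ext.mk₀ (EtCoh.muι X p)).postcomp _ (add_zero 2) x = 0
      rw [← map_nsmul, hpx, map_zero]
    obtain ⟨y, hy⟩ := Ext.covariant_sequence_exact₁ (EtCoh.const X ℤ) hS x h0 (n₀ := 1) rfl
    haveI : Subsingleton (Ext (EtCoh.const X ℤ) (EtSix.kummerSC X p).X₃ 1) :=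
      Misc3.KummerField.subsingleton_H1_Gm k
    rw [← hy, Subsingleton.elim y 0, Ext.zero_comp]
  · intro k _ hp hN
    let X := Spec (CommRingCat.of k)
    have hinv : IsUnit (p : Γ(X, ⊤)) := by
      simpa using ((IsUnit.mk0 _ hp).map (Scheme.ΓSpecIso (CommRingCat.of k)).inv.hom)
    haveI hepi : Epi (EtCoh.powMap X p) := Groth.Agent.S0108.result X p hinv
    have hS := EtSix.kummerShortExact (X := X) hepi
    have hvan : ∀ j < m + 1, ∀ (L : Type u) [Field L] [Algebra k L] [FiniteDimensional k L] [Algebra.IsSeparable k L],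
        Subsingleton (Ext ((EtMV.P X).obj (pt k L)) (EtCoh.mu X p) (j + 2)) := by
      intro j hj L _ _ _ _
      refine subsingleton_ext_mu L p _ (ih j hj L ?_ (hN.ext L))
      rw [← map_natCast (algebraMap k L)]
      exact (map_ne_zero (algebraMap k L)).2 hp
    refine subsingleton_of_forall_eq 0 fun x => eq_zero_of_cyclicKill p _ (m + 2) ?_ x ⟨1, ?_⟩
    · intro L' K _ _ _ _ _ _ _ _ _ _ _ _ hdeg c hc
      obtain ⟨g, hg⟩ := exists_generator p L' K hdeg
      refine (cycCover k L' K g hg).eq_zero_of_restrict _ (m := m + 1) (fun b => ?_) ?_ c hc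
      · exact @Subsingleton.elim _ (hvan m (Nat.lt_succ_self m) K) b 0
      · cases m with
        | succ m =>
          intro a
          exact ⟨0, by rw [Ext.comp_zero]; exact (@Subsingleton.elim _ (hvan m (by omega) L') 0 a)⟩
        | zero =>
          intro a
          haveI := subsingleton_ext_Gm_one (k := k) L'
          obtain ⟨b, hb⟩ := Ext.covariant_sequence_exact₁ ((EtMV.P X).obj (pt k L')) hS a
            (@Subsingleton.elim _ (subsingleton_ext_Gm_one (k := k) L') _ _) (n₀ := 0) rfl
          obtain ⟨u', rfl⟩ := (Ext.mk₀_bijective _ _).2 b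
          obtain ⟨ψ, rfl⟩ := exists_tr_comp_eq k p hN L' K hdeg g hg u'
          exact ⟨(Ext.mk₀ ψ).comp hS.extClass (zero_add 1), by rw [Ext.mk₀_comp_mk₀_assoc]; exact hb⟩
    · rw [pow_one]
      refine nsmul_eq_zero_of_killed _ p (fun W s => ?_) _ x
      apply (KummerLib.mu_sections (X := X) p W).1
      rw [map_nsmul, map_zero]
      exact ((KummerLib.mu_sections (X := X) p W).2 _).mp ⟨s, rfl⟩

end Groth.Agent.EtPBC
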