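import Groth.Agent.EtPBC.GenPoint
import Mathlib

/-!
# The units of a scheme and of its local scheme at a maximal point
-/

set_option autoImplicit false
set_option backward.isDefEq.respectTransparency false
set_option backward.isDefEq.respectTransparency.types false
set_option linter.auxLemma false
set_option linter.style.haveILetI false

universe u

open CategoryTheory CategoryTheory.Limits AlgebraicGeometry Opposite TopologicalSpace
open Groth.Agent.EtFLC (res res_res res_id)

noncomputable section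

namespace Groth.Agent.EtPBC

section Generic

variable {X : Scheme.{u}}

/-- the kernel vanishes at a point if sections killed by the map vanish near it -/
theorem zeroAt_kernel_of_local {F G : EtCoh.Ab X} (u : F ⟶ G) {x : X}
    (h : ∀ (V : X.Etale) (s : EtCoh.sect F V) (v : V.left), V.hom v = x →
      (u.hom.app (op V)).hom s = 0 → v ∉ EtShriek.sectSupp F V s) : ZeroAt (kernel u) x := by
  intro V s v hv
  haveI : Mono (kernel.ι u).hom := (sheafToPresheaf _ _).map_mono (kernel.ι u)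
  obtain ⟨W, g, hw, h0⟩ := (EtSect.mem_iff F ((kernel.ι u).hom.app (op V) s) v).1 (h V _ v hv
    (congrArg (fun m : kernel u ⟶ G => (m.hom.app (op V)).hom s) (kernel.condition u)))
  refine (EtSect.mem_iff _ s v).2 ⟨W, g, hw, ?_⟩
  refine (AddCommGrpCat.mono_iff_injective _).1
    (inferInstance : Mono ((kernel.ι u).hom.app (op W))) ((?_ : _ = _).trans (map_zero _).symm)
  exact (ConcreteCategory.congr_hom ((kernel.ι u).hom.naturality g.op) s).trans h0

/-- the cokernel vanishes at a point if sections lift near it -/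
theorem zeroAt_cokernel_of_local {F G : EtCoh.Ab X} (u : F ⟶ G) {x : X}
    (h : ∀ (V : X.Etale) (t : EtCoh.sect G V) (v : V.left), V.hom v = x →
      ∃ (W : X.Etale) (g : W ⟶ V) (w : W.left), g.left w = v ∧
        ∃ s : EtCoh.sect F W, (u.hom.app (op W)).hom s = res G g t) : ZeroAt (cokernel u) x := by
  intro V c v hv
  haveI hls : Sheaf.IsLocallySurjective (cokernel.π u) :=
    (Sheaf.isLocallySurjective_iff_epi' AddCommGrpCat.{u + 1} (cokernel.π u)).2 inferInstance
  obtain ⟨V', f, v', ⟨t, ht⟩, hv'⟩ :=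
    (EtFLC.mem_iff _).1 (Presheaf.imageSieve_mem _ (cokernel.π u).hom c) v
  have hv'' : V'.hom v' = x := by
    rw [← hv, ← hv']
    exact (congrArg (fun m : V'.left ⟶ X => m v') (MorphismProperty.Over.w f)).symm
  obtain ⟨W, g, w, hgw, s, hs⟩ := h V' t v' hv''
  refine (EtSect.mem_iff _ c v).2 ⟨W, g ≫ f, ⟨w, ?_⟩, ?_⟩
  · show f.left (g.left w) = v
    rw [hgw, hv']
  show res (cokernel u) (g ≫ f) c = 0
  rw [← res_res]
  have e1 : (cokernel.π u).hom.app (op V') t = res (cokernel u) f c := ht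
  rw [← e1]
  refine (ConcreteCategory.congr_hom ((cokernel.π u).hom.naturality g.op) t).symm.trans ?_
  show (cokernel.π u).hom.app (op W) (res G g t) = 0
  rw [← hs]
  exact congrArg (fun m : F ⟶ cokernel u => (m.hom.app (op W)).hom s) (cokernel.condition u)

end Generic

/-- the function underlying a section of the units -/
def gmVal {X : Scheme.{u}} {W : X.Etale} (s : EtCoh.sect (EtCoh.Gm X) W) : Γ(W.left, ⊤) :=
  Units.val (Additive.toMul (α := (Γ(W.left, ⊤))ˣ) (ULift.down.{u + 1} (α := Additive (Γ(W.left, ⊤))ˣ) s))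

theorem isUnit_gmVal {X : Scheme.{u}} {W : X.Etale} (s : EtCoh.sect (EtCoh.Gm X) W) : IsUnit (gmVal s) :=
  Units.isUnit _

theorem gmVal_res {X : Scheme.{u}} {W W' : X.Etale} (g : W' ⟶ W) (s : EtCoh.sect (EtCoh.Gm X) W) :
    gmVal (res (EtCoh.Gm X) g s) = g.left.appTop (gmVal s) := rfl

theorem gmVal_zero {X : Scheme.{u}} (W : X.Etale) : gmVal (0 : EtCoh.sect (EtCoh.Gm X) W) = 1 := rfl

theorem gmVal_injective {X : Scheme.{u}} {W : X.Etale} :
    Function.Injective (gmVal : EtCoh.sect (EtCoh.Gm X) W → Γ(W.left, ⊤)) := fun s t h =>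
  ULift.ext (α := Additive (Γ(W.left, ⊤))ˣ) s t (Additive.toMul.injective (Units.ext h))

theorem exists_gmVal {X : Scheme.{u}} {W : X.Etale} {a : Γ(W.left, ⊤)} (ha : IsUnit a) :
    ∃ s : EtCoh.sect (EtCoh.Gm X) W, gmVal s = a :=
  ⟨ULift.up (Additive.ofMul ha.unit), ha.unit_spec⟩

variable {X : Scheme.{u}} (x : X)

/-- restriction of units to the local scheme -/
def gmUnit : EtCoh.Gm X ⟶ (EtCoh.push (locι x)).obj (EtCoh.Gm (locScheme x)) :=
  ObjectProperty.homMk
    { app := fun W => EtCoh.ΓUnits.map (pullback.fst W.unop.hom (locι x)).op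
      naturality := fun W W' g => by
        show EtCoh.ΓUnits.map g.unop.left.op ≫ EtCoh.ΓUnits.map (pullback.fst W'.unop.hom (locι x)).op =
          EtCoh.ΓUnits.map (pullback.fst W.unop.hom (locι x)).op ≫
            EtCoh.ΓUnits.map ((EtCoh.bc (locι x)).map g.unop).left.op
        rw [← EtCoh.ΓUnits.map_comp, ← EtCoh.ΓUnits.map_comp, ← op_comp, ← op_comp]
        exact congrArg (fun m => EtCoh.ΓUnits.map (Quiver.Hom.op m)) (EtCoh.isPullback_bc_map (locι x) g.unop).w.symm }

theorem gmVal_gmUnit (W : X.Etale) (s : EtCoh.sect (EtCoh.Gm X) W) :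
    gmVal (X := locScheme x) (W := (EtCoh.bc (locι x)).obj W) (((gmUnit x).hom.app (op W)).hom s) =
      (pullback.fst W.hom (locι x)).appTop (gmVal s) := rfl

variable {x}

/-- base change to the local scheme is bijective on local rings -/
theorem bijective_stalkMap_fst (W : X.Etale) (z : ((EtCoh.bc (locι x)).obj W).left) :
    Function.Bijective ((pullback.fst W.hom (locι x)).stalkMap z) := by
  let p : pullback W.hom (locι x) ⟶ W.left := pullback.fst W.hom (locι x)
  haveI : IsPreimmersion p := MorphismProperty.pullback_fst _ _ (inferInstanceAs (IsPreimmersion (X.fromSpecStalk x)))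
  haveI : Flat p := MorphismProperty.pullback_fst _ _ (flat_locι x)
  refine ⟨?_, p.stalkMap_surjective z⟩
  algebraize [(p.stalkMap z).hom]
  haveI : Module.Flat (W.left.presheaf.stalk (p z)) ((pullback W.hom (locι x)).presheaf.stalk z) :=
    Flat.stalkMap p z
  haveI : IsLocalHom (algebraMap (W.left.presheaf.stalk (p z)) ((pullback W.hom (locι x)).presheaf.stalk z)) :=
    p.toLRSHom.prop z
  haveI : Module.FaithfullyFlat (W.left.presheaf.stalk (p z)) ((pullback W.hom (locι x)).presheaf.stalk z) :=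
    Module.FaithfullyFlat.of_flat_of_isLocalHom
  exact FaithfulSMul.algebraMap_injective (W.left.presheaf.stalk (p z)) ((pullback W.hom (locι x)).presheaf.stalk z)

/-- comparing a section on a one point base change with a section on a neighbourhood -/
theorem appTop_eq_of_restrict {o o' W : Scheme.{u}} (p : o ⟶ W) (B : W.Opens) (q : o' ⟶ o)
    (p' : o' ⟶ (B : Scheme.{u})) (w : q ≫ p = p' ≫ B.ι) (t : Γ(o, ⊤)) (a : Γ(W, B))
    (h : o.presheaf.map (homOfLE (le_top : p ⁻¹ᵁ B ≤ ⊤)).op t = p.app B a) :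
    q.appTop t = p'.appTop (B.topIso.inv a) := by
  have hle : (⊤ : o'.Opens) ≤ q ⁻¹ᵁ (p ⁻¹ᵁ B) := fun z _ => by
    show p (q z) ∈ B
    rw [← Scheme.Hom.comp_apply, w]
    exact (p' z).2
  have h1 : q.appTop t = q.appLE (p ⁻¹ᵁ B) ⊤ hle (o.presheaf.map (homOfLE le_top).op t) := by
    rw [← ConcreteCategory.comp_apply, Scheme.Hom.map_appLE]
    exact (ConcreteCategory.congr_hom (Scheme.Hom.appLE_eq_app (f := q) (U := ⊤)) t).symm
  rw [h1, h, ← ConcreteCategory.comp_apply, ← ConcreteCategory.comp_apply,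
    Scheme.Hom.app_eq_appLE, Scheme.Hom.appLE_comp_appLE]
  have h2 : ∀ (f g : o' ⟶ W) (e : f = g) (hf : (⊤ : o'.Opens) ≤ f ⁻¹ᵁ B) (hg : (⊤ : o'.Opens) ≤ g ⁻¹ᵁ B),
      f.appLE B ⊤ hf = g.appLE B ⊤ hg := by rintro f g rfl _ _; rfl
  refine ConcreteCategory.congr_hom ((h2 _ _ w _ (fun z _ => (p' z).2)).trans ?_) a
  rw [Scheme.Hom.comp_appLE]
  have h3 : ∀ (O : (B : Scheme.{u}).Opens) (e : O = ⊤) (hO : (⊤ : o'.Opens) ≤ p' ⁻¹ᵁ O),
      p'.appLE O ⊤ hO = (B : Scheme.{u}).presheaf.map (eqToHom e.symm).op ≫ p'.appTop := by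
    rintro O rfl hO
    simp [Scheme.Hom.app_eq_appLE]
    exact (Category.id_comp _).symm
  show B.ι.app B ≫ p'.appLE (B.ι ⁻¹ᵁ B) ⊤ _ = B.topIso.inv ≫ p'.appTop
  rw [h3 (B.ι ⁻¹ᵁ B) B.ι_preimage_self, ← Category.assoc]
  refine congrArg (· ≫ p'.appTop) ?_
  simp only [Scheme.Opens.ι_app, Scheme.Opens.topIso_inv, Scheme.Opens.toScheme_presheaf_map,
    ← Functor.map_comp]
  rfl

/-- a function which is one on an open restricts to one -/
theorem appTop_ι_eq_one {W : Scheme.{u}} (B : W.Opens) (a : Γ(W, ⊤)) (i₁ i₂ : B ⟶ ⊤)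
    (h : W.presheaf.map i₁.op a = W.presheaf.map i₂.op 1) : B.ι.appTop a = 1 := by
  have e : B.ι.appTop = W.presheaf.map i₁.op ≫ B.ι.appLE B ⊤ (by simp) := by
    rw [Scheme.Hom.map_appLE]
    exact Scheme.Hom.app_eq_appLE (f := B.ι) (U := ⊤)
  rw [e, ConcreteCategory.comp_apply, h, map_one, map_one]

variable (hx : IsMaxPt x) [IsNoetherian X]
include hx

/-- **units inject at maximal points** -/
theorem zeroAt_kernel_gmUnit : ZeroAt (kernel (gmUnit x)) x := by
  refine zeroAt_kernel_of_local _ fun V s v hv hs => ?_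
  obtain ⟨W, g, w, hW, hgw, hw⟩ := exists_nhd hx V v (hv.symm ▸ hx)
  have hwx : W.hom w = x := by
    rw [← hv, ← hgw]
    exact (congrArg (fun m : W.left ⟶ X => m w) (MorphismProperty.Over.w g)).symm
  obtain ⟨z, hz, -⟩ := Scheme.Pullback.exists_preimage_pullback (f := W.hom) (g := locι x) w
    (IsLocalRing.closedPoint (X.presheaf.stalk x)) (hwx.trans (Scheme.fromSpecStalk_closedPoint (x := x)).symm)
  let a := gmVal (res (EtCoh.Gm X) g s)
  have h1 : (pullback.fst W.hom (locι x)).appTop a = 1 := by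
    show gmVal (X := locScheme x) (W := (EtCoh.bc (locι x)).obj W)
      (((gmUnit x).hom.app (op W)).hom (res (EtCoh.Gm X) g s)) = 1
    have e : ((gmUnit x).hom.app (op W)).hom (res (EtCoh.Gm X) g s) = 0 :=
      (ConcreteCategory.congr_hom ((gmUnit x).hom.naturality g.op) s).trans
        ((congrArg (fun t => (((EtCoh.push (locι x)).obj (EtCoh.Gm (locScheme x))).obj.map g.op).hom t) hs).trans
          (map_zero _))
    rw [e]
    exact gmVal_zero _
  subst hz
  let w₀ : W.left := pullback.fst W.hom (locι x) z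
  have hg : W.left.presheaf.germ ⊤ w₀ trivial a = W.left.presheaf.germ ⊤ w₀ trivial 1 := by
    refine (bijective_stalkMap_fst W z).1 ?_
    rw [map_one (W.left.presheaf.germ ⊤ w₀ trivial).hom, map_one]
    refine (Scheme.Hom.germ_stalkMap_apply (pullback.fst W.hom (locι x)) ⊤ z trivial a).trans ?_
    show (pullback W.hom (locι x)).presheaf.germ _ z _ ((pullback.fst W.hom (locι x)).appTop a) = 1
    rw [h1, map_one]
  obtain ⟨B₀, hwB, i₁, i₂, hB⟩ :=
    TopCat.Presheaf.germ_eq W.left.presheaf (U := (⊤ : W.left.Opens)) (V := (⊤ : W.left.Opens)) w₀ trivial trivial _ _ hg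
  let B : W.left.Opens := B₀
  haveI : Etale W.hom := W.prop
  let W' : X.Etale := MorphismProperty.Over.mk ⊤ (B.ι ≫ W.hom) (inferInstance : Etale (B.ι ≫ W.hom))
  let b : W' ⟶ W := MorphismProperty.Over.homMk B.ι rfl
  refine (EtSect.mem_iff _ s v).2 ⟨W', b ≫ g, ⟨⟨w₀, hwB⟩, hgw⟩, ?_⟩
  show res (EtCoh.Gm X) (b ≫ g) s = 0
  rw [← res_res]
  refine gmVal_injective ?_
  rw [gmVal_zero, gmVal_res]
  exact appTop_ι_eq_one B a i₁ i₂ hB

/-- **units lift at maximal points** -/
theorem zeroAt_cokernel_gmUnit : ZeroAt (cokernel (gmUnit x)) x := by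
  refine zeroAt_cokernel_of_local _ fun V t v hv => ?_
  obtain ⟨W, g, w, hW, hgw, hw⟩ := exists_nhd hx V v (hv.symm ▸ hx)
  have hwx : W.hom w = x := by
    rw [← hv, ← hgw]
    exact (congrArg (fun m : W.left ⟶ X => m w) (MorphismProperty.Over.w g)).symm
  obtain ⟨z, hz, -⟩ := Scheme.Pullback.exists_preimage_pullback (f := W.hom) (g := locι x) w
    (IsLocalRing.closedPoint (X.presheaf.stalk x)) (hwx.trans (Scheme.fromSpecStalk_closedPoint (x := x)).symm)
  haveI hsub : Subsingleton ↑(pullback W.hom (locι x)) := subsingleton_bc hx W w hw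
  subst hz
  let p : pullback W.hom (locι x) ⟶ W.left := pullback.fst W.hom (locι x)
  let t' : EtCoh.sect (EtCoh.Gm (locScheme x)) ((EtCoh.bc (locι x)).obj W) :=
    res (EtCoh.Gm (locScheme x)) ((EtCoh.bc (locι x)).map g) t
  let τ : Γ(pullback W.hom (locι x), ⊤) := gmVal t'
  obtain ⟨α, hα⟩ := (bijective_stalkMap_fst W z).2 ((pullback W.hom (locι x)).presheaf.germ ⊤ z trivial τ)
  obtain ⟨B₀, hB, a, ha⟩ := TopCat.Presheaf.exists_germ_eq W.left.presheaf (x := p z) α
  let B : W.left.Opens := B₀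
  have hαu : IsUnit α := by
    haveI : IsLocalHom (p.stalkMap z).hom := p.toLRSHom.prop z
    refine IsUnit.of_map (p.stalkMap z).hom α ?_
    exact (show (p.stalkMap z).hom α = _ from hα).symm ▸
      (isUnit_gmVal t').map ((pullback W.hom (locι x)).presheaf.germ ⊤ z trivial).hom
  let C : W.left.Opens := W.left.basicOpen a
  have hC : p z ∈ C := (Scheme.mem_basicOpen W.left a (p z) hB).2 (ha.symm ▸ hαu)
  let c : Γ(W.left, C) := W.left.presheaf.map (homOfLE (W.left.basicOpen_le a)).op a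
  have hcu : IsUnit c := RingedSpace.isUnit_res_basicOpen _ a
  haveI : Etale W.hom := W.prop
  let W' : X.Etale := MorphismProperty.Over.mk ⊤ (C.ι ≫ W.hom) (inferInstance : Etale (C.ι ≫ W.hom))
  let b : W' ⟶ W := MorphismProperty.Over.homMk C.ι rfl
  obtain ⟨s, hs⟩ := exists_gmVal (X := X) (W := W') (hcu.map C.topIso.inv.hom)
  refine ⟨W', b ≫ g, ⟨p z, hC⟩, hgw, s, ?_⟩
  refine gmVal_injective (X := locScheme x) (W := (EtCoh.bc (locι x)).obj W') ?_
  show (pullback.fst W'.hom (locι x)).appTop (gmVal s) =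
    gmVal (res (EtCoh.Gm (locScheme x)) ((EtCoh.bc (locι x)).map (b ≫ g)) t)
  rw [Functor.map_comp, ← res_res, gmVal_res, hs]
  refine (appTop_eq_of_restrict p C ((EtCoh.bc (locι x)).map b).left (pullback.fst W'.hom (locι x))
    (EtCoh.isPullback_bc_map (locι x) b).w τ c ?_).symm
  refine TopCat.Presheaf.section_ext (pullback W.hom (locι x)).sheaf (p ⁻¹ᵁ C) _ _ fun z' hz' => ?_
  obtain rfl : z = z' := @Subsingleton.elim _ hsub _ _
  show (pullback W.hom (locι x)).presheaf.germ (p ⁻¹ᵁ C) z hz' _ =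
    (pullback W.hom (locι x)).presheaf.germ (p ⁻¹ᵁ C) z hz' _
  refine (TopCat.Presheaf.germ_res_apply _ _ _ hz' τ).trans (hα.symm.trans ?_)
  refine Eq.trans ?_ (Scheme.Hom.germ_stalkMap_apply p C z hz' c)
  refine congrArg _ (ha.symm.trans ?_)
  exact (TopCat.Presheaf.germ_res_apply W.left.presheaf (homOfLE (W.left.basicOpen_le (U := B) a)) (p z) hz' a).symm

end Groth.Agent.EtPBC
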