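import Groth.Agent.EtPBC.Curve
import Groth.Agent.EtPBC.GmLoc
import Groth.Agent.EtPBC.FieldMu
import Groth.Agent.EtPicLib.Local
import Groth.Agent.EtStalk.Applications
import Groth.Agent.KummerLib.Torsion
import Mathlib

/-!
# Torsion classes of the units on one-dimensional schemes
-/

set_option autoImplicit false
set_option backward.isDefEq.respectTransparency false
set_option backward.isDefEq.respectTransparency.types false
set_option linter.auxLemma false
set_option linter.style.haveILetI false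

universe u

open CategoryTheory CategoryTheory.Limits CategoryTheory.Abelian AlgebraicGeometry Opposite TopologicalSpace
open Groth.Agent.EtFLC (res res_res res_id)

noncomputable section

namespace Groth.Agent.EtPBC

attribute [local instance 100000] EtCoh.H._proof_1 EtMV.hext
attribute [local instance 200000] EtMV.hextAb

/-- stalks of the cokernel of a map to a finite sum with a single contributing summand -/
theorem isZero_obj_cokernel {C : Type*} [Category C] [Abelian C] {D : Type*} [Category D] [Abelian D] (Φ : C ⥤ D)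
    [Φ.Additive] [Φ.PreservesEpimorphisms] {J : Type} [Fintype J] (P : J → C) [HasBiproduct P] {A : C}
    (u : A ⟶ ⨁ P) (z : J) (hz : ∀ x, x ≠ z → IsZero (Φ.obj (P x)))
    (he : Epi (Φ.map (u ≫ biproduct.π P z))) : IsZero (Φ.obj (cokernel u)) := by
  classical
  have hsum : Φ.map (cokernel.π u) = Φ.map (biproduct.π P z) ≫ Φ.map (biproduct.ι P z ≫ cokernel.π u) := by
    conv_lhs => rw [← Category.id_comp (cokernel.π u), ← biproduct.total (f := P)]
    rw [Preadditive.sum_comp, Functor.map_sum]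
    rw [Finset.sum_eq_single z (fun x _ hx => by
        rw [Category.assoc, Φ.map_comp, (hz x hx).eq_of_src (Φ.map (biproduct.ι P x ≫ cokernel.π u)) 0, comp_zero])
      (fun h => absurd (Finset.mem_univ z) h), Category.assoc, Φ.map_comp]
  have h0 : Φ.map (biproduct.ι P z ≫ cokernel.π u) = 0 := by
    haveI := he
    rw [← cancel_epi (Φ.map (u ≫ biproduct.π P z)), comp_zero, Φ.map_comp u, Category.assoc, ← hsum,
      ← Φ.map_comp, cokernel.condition, Φ.map_zero]
  exact IsZero.of_epi_eq_zero (Φ.map (cokernel.π u)) (by rw [hsum, h0, comp_zero])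

/-- on a discrete scheme invertible sheaves are trivial -/
theorem subsingleton_H1_Gm_of_discrete (S : Scheme.{u}) [DiscreteTopology S] :
    Subsingleton (EtCoh.H S (EtCoh.Gm S) 1) := by
  refine subsingleton_of_forall_eq 0 fun c => ?_
  obtain ⟨q, rfl⟩ := EtPicLib.δ_surjective (G := EtCoh.Gm S) c
  refine (EtPicLib.δ_eq_zero_iff (EtCoh.Gm S) q).2 ?_
  choose V y hV hy using EtPicLib.exists_lift_nhd q
  let U : S → S.Opens := fun p => ⟨{p}, isOpen_discrete _⟩
  have hle : ∀ p, U p ≤ V p := fun p a ha => (Set.mem_singleton_iff.1 ha).symm ▸ hV p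
  obtain ⟨t, ht⟩ := EtPicLib.exists_glue_opens (EtMV.injSeq (EtCoh.Gm S)).X₂ U (fun p => ⟨p, rfl⟩)
    (fun p => EtPicLib.rr _ (hle p) (y p)) fun a b => by
      by_cases h : a = b
      · subst h
        rfl
      · haveI : IsEmpty (EtMV.oo (U a ⊓ U b)).left := ⟨fun z => h ((z.2.1 : z.1 = a).symm.trans z.2.2)⟩
        haveI := EtStalk.subsingleton_of_isEmpty (EtMV.injSeq (EtCoh.Gm S)).X₂ (EtMV.oo (U a ⊓ U b)) inferInstance
        exact Subsingleton.elim (α := EtCoh.sect (EtMV.injSeq (EtCoh.Gm S)).X₂ (EtMV.oo (U a ⊓ U b))) _ _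
  refine ⟨t, EtFLC.sect_ext _ fun p => ?_⟩
  refine ⟨EtMV.oo (U p), EtMV.toTop _, ⟨p, rfl⟩, rfl, ?_⟩
  rw [← EtFLC.app_res, ht p, EtFLC.app_res, hy p, res_res]
  exact EtPicLib.res_top _ _ _ _

variable {X : Scheme.{u}} [IsNoetherian X]

section Loc

variable {x : X} (hx : IsMaxPt x)
include hx

/-- Picard groups over the local scheme vanish -/
theorem isZero_rpush_one_Gm : IsZero ((EtCoh.Rpush (locι x) 1).obj (EtCoh.Gm (locScheme x))) := by
  haveI := quasiCompact_locι hx
  haveI := preservesFiniteLimits_push (locι x)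
  refine isZero_rpush_of_locVan (locι x) 0 _ fun V hV c => ?_
  let o := (EtCoh.bc (locι x)).obj V
  haveI : Etale o.hom := o.prop
  haveI := EtMV.jcont_etale o.hom
  haveI := isArtinianScheme_bc hx V
  haveI : DiscreteTopology o.left :=
    (IsArtinianScheme.iff_isNoetherian_and_discreteTopology.1 (isArtinianScheme_bc hx V)).2
  refine @Subsingleton.elim _ ((EtMV.subsingleton_H_iff_of_etale o.hom (EtCoh.Gm (locScheme x)) 1).1 ?_) c 0
  exact subsingleton_H_congr (gmPullIso o.hom) 1 (subsingleton_H1_Gm_of_discrete o.left)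

omit [AlgebraicGeometry.IsNoetherian X] hx in
theorem invertibleOn_locScheme {n : ℕ} (h : Dix.InvertibleOn X n) : Dix.InvertibleOn (locScheme x) n := fun t h0 =>
  h (locι x t) ((map_eq_zero ((locι x).residueFieldMap t).hom).1 ((map_natCast _ n).trans h0))

omit hx in
theorem killed_mu {S : Scheme.{u}} (n : ℕ) : Killed n (EtCoh.mu S n) := by
  haveI : Mono (EtCoh.muι S n) := inferInstanceAs (Mono (kernel.ι (EtCoh.powMap S n)))
  rw [killed_iff, ← cancel_mono (EtCoh.muι S n), zero_comp, Preadditive.nsmul_comp, Category.id_comp,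
    ← Category.comp_id (EtCoh.muι S n), ← Preadditive.comp_nsmul]
  exact kernel.condition (EtCoh.powMap S n)

/-- torsion classes of the pushed forward units vanish -/
theorem nsmul_torsion_H2_push_Gm {r : ℕ} (hk : KilledVan r (X.residueField x)) (hinv : Dix.InvertibleOn X r)
    (c : EtCoh.H X ((EtCoh.push (locι x)).obj (EtCoh.Gm (locScheme x))) 2) (hc : r • c = 0) : c = 0 := by
  haveI := Groth.Agent.EtPullExact.pull_preservesFiniteLimits (locι x)
  refine nsmul_torsion_H2_push (locι x) _ (isZero_rpush_one_Gm hx) r (fun y hy => ?_) c hc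
  haveI := subsingleton_H_locScheme hx hk (EtCoh.mu (locScheme x) r) (killed_mu r) 2 le_rfl
  obtain ⟨η, hη⟩ : y ∈ Set.range ⇑((EtCoh.HF (locScheme x) 2).map (EtCoh.muι (locScheme x) r)) := by
    rw [KummerLib.range_H_mu (locScheme x) r (invertibleOn_locScheme hinv) 2]
    exact hy
  rw [← hη, show η = 0 from @Subsingleton.elim (EtCoh.H (locScheme x) (EtCoh.mu (locScheme x) r) 2) _ η 0, map_zero]

end Loc

variable (hdim : topologicalKrullDim X ≤ 1)
  (hsep : ∀ x : X, IsClosed ({x} : Set X) → IsSepClosed (X.residueField x))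
include hdim hsep

/-- **torsion classes of degree two of the units vanish** -/
theorem nsmul_torsion_H2_Gm {r : ℕ} (hk : ∀ x : X, IsMaxPt x → KilledVan r (X.residueField x))
    (hinv : Dix.InvertibleOn X r) (c : EtCoh.H X (EtCoh.Gm X) 2) (hc : r • c = 0) : c = 0 := by
  classical
  let T : Type u := {x : X // IsMaxPt x ∧ ¬ IsClosed ({x} : Set X)}
  haveI : Finite T := ((finite_isMaxPt X).subset (fun x hx => hx.1)).to_subtype
  obtain ⟨m, ⟨e⟩⟩ := Finite.exists_equiv_fin T
  let J : Type := Fin m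
  let pt : J → X := fun j => (e.symm j).1
  have hpt : ∀ j, IsMaxPt (pt j) := fun j => (e.symm j).2.1
  let P : J → EtCoh.Ab X := fun j => (EtCoh.push (locι (pt j))).obj (EtCoh.Gm (locScheme (pt j)))
  let u : EtCoh.Gm X ⟶ ⨁ P := biproduct.lift fun j => gmUnit (pt j)
  have hK : SuppClosed (kernel u) := fun z hz => by
    obtain ⟨j, rfl⟩ : ∃ j, pt j = z :=
      ⟨e ⟨z, isMaxPt_of_not_closed hdim hz, hz⟩, congrArg Subtype.val (e.symm_apply_apply _)⟩
    have w : kernel.ι u ≫ gmUnit (pt j) = 0 := by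
      rw [← (biproduct.lift_π (fun j => gmUnit (pt j)) j : u ≫ biproduct.π P j = gmUnit (pt j)),
        kernel.condition_assoc, zero_comp]
    haveI : Mono (kernel.lift (gmUnit (pt j)) (kernel.ι u) w) :=
      mono_of_mono_fac (kernel.lift_ι (gmUnit (pt j)) (kernel.ι u) w)
    exact zeroAt_of_mono (kernel.lift (gmUnit (pt j)) (kernel.ι u) w) (zeroAt_kernel_gmUnit (hpt j))
  have hC : SuppClosed (cokernel u) := fun z hz => by
    obtain ⟨j, rfl⟩ : ∃ j, pt j = z :=
      ⟨e ⟨z, isMaxPt_of_not_closed hdim hz, hz⟩, congrArg Subtype.val (e.symm_apply_apply _)⟩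
    obtain ⟨Ω, _, _, ξ, hξ⟩ := exists_geomPt (pt j)
    haveI : (EtCoh.stalk ξ).Additive := Functor.additive_of_preserves_binary_products _
    refine (isZero_stalk_iff_zeroAt hξ _).1 (isZero_obj_cokernel (EtCoh.stalk ξ) P u j
      (fun x hx => (isZero_stalk_iff_zeroAt hξ _).2 (zeroAt_push (hpt x) _ (pt j) (hpt j)
        fun h => hx (e.symm.injective (Subtype.ext h.symm)))) ?_)
    rw [(biproduct.lift_π (fun j => gmUnit (pt j)) j : u ≫ biproduct.π P j = gmUnit (pt j))]
    exact Preadditive.epi_of_isZero_cokernel _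
      (((isZero_stalk_iff_zeroAt hξ _).2 (zeroAt_cokernel_gmUnit (hpt j))).of_iso
        (PreservesCokernel.iso (EtCoh.stalk ξ) (gmUnit (pt j))).symm)
  let p : EtCoh.Gm X ⟶ cokernel (kernel.ι u) := cokernel.π (kernel.ι u)
  let v : cokernel (kernel.ι u) ⟶ ⨁ P := cokernel.desc _ u (kernel.condition u)
  have hpv : p ≫ v = u := cokernel.π_desc _ _ _
  haveI : Mono v := (ShortComplex.exact_iff_mono_cokernel_desc
    (ShortComplex.mk (kernel.ι u) u (kernel.condition u))).1
    (ShortComplex.exact_of_f_is_kernel _ (kernelIsKernel u))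
  have hA : (ShortComplex.mk (kernel.ι u) p (cokernel.condition _)).ShortExact :=
    { exact := ShortComplex.exact_of_g_is_cokernel _ (cokernelIsCokernel _) }
  have hB : (ShortComplex.mk v (cokernel.π v) (cokernel.condition v)).ShortExact :=
    { exact := ShortComplex.exact_of_g_is_cokernel _ (cokernelIsCokernel _) }
  have hCv : SuppClosed (cokernel v) := fun z hz => by
    have hw : u ≫ cokernel.π v = 0 := (congrArg (· ≫ cokernel.π v) hpv.symm).trans
      ((Category.assoc _ _ _).trans ((congrArg (p ≫ ·) (cokernel.condition v)).trans comp_zero))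
    haveI : Epi (cokernel.desc u (cokernel.π v) hw) :=
      epi_of_epi_fac (cokernel.π_desc u (cokernel.π v) hw)
    exact zeroAt_of_epi (cokernel.desc u (cokernel.π v) hw) (hC z hz)
  have hcomp : ∀ x : J, Ext.comp c (Ext.mk₀ (u ≫ biproduct.π P x)) (add_zero 2) = 0 := fun x => by
    refine nsmul_torsion_H2_push_Gm (hpt x) (hk _ (hpt x)) hinv _ ?_
    show r • ((Ext.mk₀ (u ≫ biproduct.π P x)).postcomp (EtCoh.const X ℤ) (add_zero 2)) c = 0
    exact (map_nsmul _ r c).symm.trans ((congrArg _ hc).trans (map_zero _))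
  have hd : Ext.comp c (Ext.mk₀ u) (add_zero 2) = 0 := by
    have e : u = ∑ x, (u ≫ biproduct.π P x) ≫ biproduct.ι P x := by
      simp only [Category.assoc]
      rw [← Preadditive.comp_sum, biproduct.total, Category.comp_id]
    rw [e, Ext.mk₀_sum, Ext.comp_sum]
    refine Finset.sum_eq_zero fun x _ => ?_
    rw [← Ext.mk₀_comp_mk₀, ← Ext.comp_assoc_of_second_deg_zero, hcomp x, Ext.zero_comp]
  have hI : Ext.comp c (Ext.mk₀ p) (add_zero 2) = 0 := by
    obtain ⟨d, hd'⟩ := Ext.covariant_sequence_exact₁ (EtCoh.const X ℤ) hB (Ext.comp c (Ext.mk₀ p) (add_zero 2))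
      (by rw [Ext.comp_assoc_of_second_deg_zero, Ext.mk₀_comp_mk₀, hpv, hd]) (n₀ := 1) rfl
    haveI := subsingleton_H_of_suppClosed hsep (cokernel v) hCv 1 one_pos
    rw [← hd', show d = 0 from @Subsingleton.elim (EtCoh.H X (cokernel v) 1) _ d 0, Ext.zero_comp]
  obtain ⟨d, hd'⟩ := Ext.covariant_sequence_exact₂ (EtCoh.const X ℤ) hA c hI
  haveI := subsingleton_H_of_suppClosed hsep (kernel u) hK 2 two_pos
  rw [← hd', show d = 0 from @Subsingleton.elim (EtCoh.H X (kernel u) 2) _ d 0, Ext.zero_comp]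

/-- **torsion classes of the units vanish above degree one** -/
theorem torsion_H_Gm_eq_zero {r : ℕ} (hr : 0 < r)
    (hcd : ∀ x : X, IsMaxPt x → ∀ ℓ : ℕ, ℓ.Prime → ℓ ∣ r → Dix.CohDimLEAt (Spec (X.residueField x)) ℓ 1)
    (hk : ∀ x : X, IsMaxPt x → KilledVan r (X.residueField x)) (hinv : Dix.InvertibleOn X r)
    (i : ℕ) (hi : 2 ≤ i) (c : EtCoh.H X (EtCoh.Gm X) i) (hc : r • c = 0) : c = 0 := by
  rcases Nat.lt_or_ge i 3 with h | h
  · obtain rfl : i = 2 := by omega
    exact nsmul_torsion_H2_Gm hdim hsep hk hinv c hc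
  · haveI := subsingleton_H_of_killed_of_cd hdim hsep r hr hcd (EtCoh.mu X r) (killed_mu r) i h
    obtain ⟨η, hη⟩ : c ∈ Set.range ⇑((EtCoh.HF X i).map (EtCoh.muι X r)) := by
      rw [KummerLib.range_H_mu X r hinv i]
      exact hc
    rw [← hη, show η = 0 from @Subsingleton.elim (EtCoh.H X (EtCoh.mu X r) i) _ η 0, map_zero]

end Groth.Agent.EtPBC
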