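import Groth.Agent.EtPBC.ASCurve
import Groth.Agent.EtPBC.CdFibre
import Groth.Agent.ProjMor.Morph
import Groth.Agent.GrT.Gamma
import Groth.Agent.ProjLib.ClosedSub
import Groth.Agent.S9576
import Groth.Agent.S10829
import Mathlib

/-!
# Schemes finite over the projective line: `ℤ/p`-cohomology in characteristic `p`
-/

set_option autoImplicit false
set_option backward.isDefEq.respectTransparency false
set_option backward.isDefEq.respectTransparency.types false
set_option linter.auxLemma false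
set_option linter.style.haveILetI false

universe u

open CategoryTheory CategoryTheory.Limits AlgebraicGeometry Opposite Polynomial
open Groth.Agent.QC (resO)

noncomputable section

namespace Groth.Agent.EtPBC

attribute [local instance 100000] EtCoh.H._proof_1 EtMV.hext
attribute [local instance 200000] EtMV.hextAb

variable {k : Type u} [Field k]

local notation "𝒫" => CohB1.polyGrading 1 k

theorem X_mem_one (i : Fin 2) : (MvPolynomial.X i : MvPolynomial (Fin 2) k) ∈ CohB1.polyGrading 1 k 1 :=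
  MvPolynomial.isHomogeneous_X k i

variable (k) in
/-- the two standard opens of the projective line -/
def dPlus (i : Fin 2) : (CohB1.ProjSpace 1 k).Opens :=
  Proj.basicOpen 𝒫 (MvPolynomial.X i)

/-- dehomogenisation -/
def dh (i : Fin 2) : MvPolynomial (Fin 2) k →+* Γ(CohB1.ProjSpace 1 k, dPlus k i) :=
  GrT.deh 𝒫 (X_mem_one i)

theorem dPlus_sup : dPlus k 0 ⊔ dPlus k 1 = ⊤ := by
  have h := (Groth.Agent.S9576.result 1 k).1
  refine le_antisymm le_top (h.ge.trans (iSup_le fun i => ?_))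
  fin_cases i
  · exact le_sup_left
  · exact le_sup_right

theorem isAffineOpen_dPlus (i : Fin 2) : IsAffineOpen (dPlus k i) :=
  ProjLib.isAffineOpen_basicOpen _ (X_mem_one i) one_pos

theorem basicOpen_dh (i j : Fin 2) :
    (CohB1.ProjSpace 1 k).basicOpen (dh (k := k) j (MvPolynomial.X i)) = dPlus k j ⊓ dPlus k i :=
  GrT.basicOpen_deh_eq (𝒜 := 𝒫)
    (v := fun i : ULift.{u} (Fin 2) => (MvPolynomial.X i.down : MvPolynomial (Fin 2) k))
    (hv := fun i => X_mem_one i.down) ⟨i⟩ ⟨j⟩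

variable {Z : Scheme.{u}} (b : Z ⟶ CohB1.ProjSpace 1 k)

/-- dehomogenisation pulled back -/
def pv (i : Fin 2) : MvPolynomial (Fin 2) k →+* Γ(Z, b ⁻¹ᵁ dPlus k i) := (b.app (dPlus k i)).hom.comp (dh i)

theorem pv_basicOpen (i j : Fin 2) :
    Z.basicOpen (pv b j (MvPolynomial.X i)) = b ⁻¹ᵁ dPlus k j ⊓ b ⁻¹ᵁ dPlus k i := by
  rw [pv, RingHom.comp_apply, ← Scheme.preimage_basicOpen, basicOpen_dh]
  rfl

theorem res_pv_C (c : k) :
    resO Z (inf_le_left : b ⁻¹ᵁ dPlus k 0 ⊓ b ⁻¹ᵁ dPlus k 1 ≤ b ⁻¹ᵁ dPlus k 0) (pv b 0 (MvPolynomial.C c)) =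
      resO Z inf_le_right (pv b 1 (MvPolynomial.C c)) := by
  have h : resO _ (inf_le_left : dPlus k 0 ⊓ dPlus k 1 ≤ dPlus k 0) (dh (k := k) 0 (MvPolynomial.C c)) =
      resO _ (inf_le_right : dPlus k 0 ⊓ dPlus k 1 ≤ dPlus k 1) (dh (k := k) 1 (MvPolynomial.C c)) :=
    (GrT.deh_cross 𝒫 (X_mem_one 0) (X_mem_one 1) (n := 0) (MvPolynomial.isHomogeneous_C _ c) inf_le_left
      inf_le_right).trans (by rw [pow_zero, map_one, map_one, one_mul]; rfl)
  have h0 := ConcreteCategory.congr_hom (b.naturality (homOfLE (inf_le_left : dPlus k 0 ⊓ dPlus k 1 ≤ dPlus k 0)).op)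
    (dh (k := k) 0 (MvPolynomial.C c))
  have h1 := ConcreteCategory.congr_hom (b.naturality (homOfLE (inf_le_right : dPlus k 0 ⊓ dPlus k 1 ≤ dPlus k 1)).op)
    (dh (k := k) 1 (MvPolynomial.C c))
  exact h0.symm.trans ((congrArg _ h).trans h1)

theorem res_pv_X :
    resO Z (inf_le_left : b ⁻¹ᵁ dPlus k 0 ⊓ b ⁻¹ᵁ dPlus k 1 ≤ b ⁻¹ᵁ dPlus k 0) (pv b 0 (MvPolynomial.X 1)) *
      resO Z inf_le_right (pv b 1 (MvPolynomial.X 0)) = 1 := by
  have h : resO _ (inf_le_left : dPlus k 0 ⊓ dPlus k 1 ≤ dPlus k 0) (dh (k := k) 0 (MvPolynomial.X 1)) *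
      resO _ (inf_le_right : dPlus k 0 ⊓ dPlus k 1 ≤ dPlus k 1) (dh (k := k) 1 (MvPolynomial.X 0)) = 1 := by
    have := GrT.deh_inv 𝒫 (X_mem_one 0) (X_mem_one 1) 1 (V := dPlus k 0 ⊓ dPlus k 1) inf_le_left inf_le_right
    rw [pow_one, pow_one] at this
    exact this
  have h0 := ConcreteCategory.congr_hom (b.naturality (homOfLE (inf_le_left : dPlus k 0 ⊓ dPlus k 1 ≤ dPlus k 0)).op)
    (dh (k := k) 0 (MvPolynomial.X 1))
  have h1 := ConcreteCategory.congr_hom (b.naturality (homOfLE (inf_le_right : dPlus k 0 ⊓ dPlus k 1 ≤ dPlus k 1)).op)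
    (dh (k := k) 1 (MvPolynomial.X 0))
  have h2 := congrArg (b.app (dPlus k 0 ⊓ dPlus k 1)) h
  rw [map_mul, map_one] at h2
  exact (congrArg₂ (· * ·) h0.symm h1.symm).trans h2

/-- sections on a basic open have bounded denominators -/
theorem exists_pow_mul {U W : Z.Opens} (hU : IsAffineOpen U) (f : Γ(Z, U)) (hW : W ≤ U) (e : W = Z.basicOpen f)
    (y : Γ(Z, W)) : ∃ (n : ℕ) (a : Γ(Z, U)), resO Z hW a = y * resO Z hW f ^ n := by
  subst e
  haveI := hU.isLocalization_basicOpen f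
  letI : Algebra Γ(Z, U) Γ(Z, Z.basicOpen f) := (resO Z hW).toAlgebra
  obtain ⟨⟨a, _, n, rfl⟩, h⟩ := IsLocalization.surj (Submonoid.powers f) (S := Γ(Z, Z.basicOpen f)) y
  exact ⟨n, a, by rw [← map_pow]; exact h.symm⟩

/-- **no `ℤ/p`-cohomology above degree one on curves finite over the projective line in characteristic `p`** -/
theorem subsingleton_H_zmod_of_finite [IsFinite b] [IsSepClosed k] (p : ℕ) [Fact p.Prime] [CharP k p]
    (q : ℕ) (hq : 2 ≤ q) : Subsingleton (EtCoh.H Z (EtCoh.const Z (ZMod p)) q) := by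
  have h0 : (p : Γ(Z, ⊤)) = 0 := by
    have := congrArg ((Scheme.ΓSpecIso (CommRingCat.of k)).inv ≫ (b ≫ CohB1.ProjSpace.toSpec 1 k).appTop)
      (CharP.cast_eq_zero k p)
    rwa [map_natCast, map_zero] at this
  let V : Fin 2 → Z.Opens := fun i => b ⁻¹ᵁ dPlus k i
  have hV : ∀ i, IsAffineOpen (V i) := fun i => (isAffineOpen_dPlus i).preimage b
  have hW : IsAffineOpen (V 0 ⊓ V 1) := pv_basicOpen b 1 0 ▸ (hV 0).basicOpen (pv b 0 (MvPolynomial.X 1))
  refine subsingleton_H_zmod_of_cover p h0 (U := V 0) (V := V 1) ?_ (hV 0) (hV 1) hW (fun f => ?_) q hq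
  · show b ⁻¹ᵁ dPlus k 0 ⊔ b ⁻¹ᵁ dPlus k 1 = ⊤
    rw [← Scheme.Hom.preimage_sup, dPlus_sup, Scheme.Hom.preimage_top]
  letI a0 : Algebra k Γ(Z, V 0) := ((pv b 0).comp MvPolynomial.C).toAlgebra
  letI a1 : Algebra k Γ(Z, V 1) := ((pv b 1).comp MvPolynomial.C).toAlgebra
  letI aW : Algebra k Γ(Z, V 0 ⊓ V 1) :=
    ((resO Z (inf_le_left : V 0 ⊓ V 1 ≤ V 0)).comp ((pv b 0).comp MvPolynomial.C)).toAlgebra
  let ρ₁ : Γ(Z, V 0) →ₐ[k] Γ(Z, V 0 ⊓ V 1) := { resO Z inf_le_left with commutes' := fun c => rfl }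
  let ρ₂ : Γ(Z, V 1) →ₐ[k] Γ(Z, V 0 ⊓ V 1) :=
    { resO Z inf_le_right with commutes' := fun c => (res_pv_C b c).symm }
  have hfin : (b.app (dPlus k 0)).hom.Finite := IsFinite.finite_app (f := b) (dPlus k 0) (isAffineOpen_dPlus 0)
  obtain ⟨S, hS⟩ : ∃ S : Finset Γ(Z, V 0), ∀ a, ∃ qq : Γ(Z, V 0) → k[X],
      a = ∑ e ∈ S, aeval (pv b 0 (MvPolynomial.X 1)) (qq e) * e := by
    letI := (b.app (dPlus k 0)).hom.toAlgebra
    obtain ⟨S, hS⟩ := hfin.fg_top
    refine ⟨S, fun a => ?_⟩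
    obtain ⟨r, -, hr⟩ := Submodule.mem_span_finset.1 (hS.ge (Submodule.mem_top : a ∈ ⊤))
    choose F hF using fun e => ProjMor.exists_deh_eq (X_mem_one (k := k) 0) (r e)
    let φ : MvPolynomial (Fin 2) k →+* k[X] :=
      MvPolynomial.eval₂Hom Polynomial.C (fun j => if j = 0 then 1 else Polynomial.X)
    have hφ : (aeval (pv b 0 (MvPolynomial.X 1))).toRingHom.comp φ = pv b 0 := by
      refine MvPolynomial.ringHom_ext (fun c => ?_) (fun j => ?_)
      · simp only [RingHom.comp_apply, φ, MvPolynomial.coe_eval₂Hom, MvPolynomial.eval₂_C, AlgHom.toRingHom_eq_coe,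
          RingHom.coe_coe, aeval_C]
        rfl
      · fin_cases j
        · have : pv b 0 (MvPolynomial.X (0 : Fin 2)) = 1 := by
            exact (congrArg (fun z => (b.app (dPlus k 0)).hom z) (GrT.deh_self 𝒫 (X_mem_one 0))).trans (map_one (b.app (dPlus k 0)).hom)
          simp [φ, this]
        · simp [φ]
    refine ⟨fun e => φ (F e), hr.symm.trans (Finset.sum_congr rfl fun e _ => ?_)⟩
    show b.app (dPlus k 0) (r e) * e = _
    rw [← hF e]
    exact congrArg (· * e) (RingHom.congr_fun hφ (F e)).symm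
  have hfinq := finite_quotient_sup_range ρ₁ ρ₂ (pv b 0 (MvPolynomial.X 1)) (pv b 1 (MvPolynomial.X 0))
    (res_pv_X b) S hS (fun y => exists_pow_mul (hV 0) _ inf_le_left (pv_basicOpen b 1 0).symm y)
    (fun y => exists_pow_mul (hV 1) _ inf_le_right ((inf_comm _ _).trans (pv_basicOpen b 0 1).symm) y)
  obtain ⟨x, y, g, hxy⟩ := exists_as_decomp p ρ₁ ρ₂ hfinq ((V 0 ⊓ V 1).topIso.hom f)
  refine ⟨(V 0).topIso.inv x, (V 1).topIso.inv y, (V 0 ⊓ V 1).topIso.inv g, ?_⟩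
  have key : ∀ (i : Fin 2) (h : V 0 ⊓ V 1 ≤ V i) (w : Γ(Z, V i)),
      (V 0 ⊓ V 1).topIso.hom ((Z.homOfLE h).appTop ((V i).topIso.inv w)) = resO Z h w := fun i h w => by
    rw [← ConcreteCategory.comp_apply, ← ConcreteCategory.comp_apply, Scheme.homOfLE_appTop,
      Scheme.Opens.topIso_hom, Scheme.Opens.topIso_inv, ← Functor.map_comp, ← Functor.map_comp]
    rfl
  apply (ConcreteCategory.bijective_of_isIso (V 0 ⊓ V 1).topIso.hom).1
  rw [map_add, map_add, map_sub, map_pow, key 0, key 1, Iso.inv_hom_id_apply]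
  exact hxy

end Groth.Agent.EtPBC
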