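import Groth.Agent.EtPBC.Glue
import Groth.Agent.EtPicLib.Units
import Groth.Agent.EtMV.Base
import Mathlib

/-!
# The units pull back to the units
-/

set_option autoImplicit false
set_option backward.isDefEq.respectTransparency false
set_option backward.isDefEq.respectTransparency.types false
set_option linter.auxLemma false
set_option linter.style.haveILetI false

universe u

open CategoryTheory CategoryTheory.Limits CategoryTheory.Abelian AlgebraicGeometry Opposite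
open Groth.Agent.EtFLC (res res_res res_id)
open Groth.Agent.EtPicLib (oval oval_rr exists_oval oval_injective uval uval_res)

noncomputable section

namespace Groth.Agent.EtPBC

attribute [local instance 100000] EtCoh.H._proof_1 EtMV.hext
attribute [local instance 200000] EtMV.hextAb

variable {X Z : Scheme.{u}} (i : Z ⟶ X)

/-- units restrict along any morphism -/
def gmPush : EtCoh.Gm X ⟶ (EtCoh.push i).obj (EtCoh.Gm Z) :=
  ObjectProperty.homMk
    { app := fun W => EtCoh.ΓUnits.map (pullback.fst W.unop.hom i).op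
      naturality := fun W W' g => by
        show EtCoh.ΓUnits.map g.unop.left.op ≫ EtCoh.ΓUnits.map (pullback.fst W'.unop.hom i).op =
          EtCoh.ΓUnits.map (pullback.fst W.unop.hom i).op ≫
            EtCoh.ΓUnits.map ((EtCoh.bc i).map g.unop).left.op
        rw [← EtCoh.ΓUnits.map_comp, ← EtCoh.ΓUnits.map_comp, ← op_comp, ← op_comp]
        exact congrArg (fun m => EtCoh.ΓUnits.map (Quiver.Hom.op m)) (EtCoh.isPullback_bc_map i g.unop).w.symm }

/-- the pulled back units map to the units -/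
def gmCmp : (EtCoh.pull i).obj (EtCoh.Gm X) ⟶ EtCoh.Gm Z :=
  ((EtCoh.pullPushAdj i).homEquiv _ _).symm (gmPush i)

theorem unit_gmCmp : (EtCoh.pullPushAdj i).unit.app (EtCoh.Gm X) ≫ (EtCoh.push i).map (gmCmp i) = gmPush i := by
  refine ((EtCoh.pullPushAdj i).homEquiv_unit ..).symm.trans ?_
  exact ((EtCoh.pullPushAdj i).homEquiv (EtCoh.Gm X) (EtCoh.Gm Z)).apply_symm_apply _

theorem gmCmp_r {o : X.Etale} {o' : Z.Etale} (δ : o' ⟶ (EtCoh.bc i).obj o) (s : EtCoh.sect (EtCoh.Gm X) o) :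
    (gmCmp i).hom.app (op o') (EtMV.r i δ (EtCoh.Gm X) s) =
      res (EtCoh.Gm Z) δ ((gmPush i).hom.app (op o) s) := by
  refine (ConcreteCategory.congr_hom ((gmCmp i).hom.naturality δ.op) _).trans ?_
  refine congrArg (res (EtCoh.Gm Z) δ) ?_
  rw [← unit_gmCmp]
  rfl

/-- the pullback of a function -/
theorem uval_gmCmp_r {o : X.Etale} {o' : Z.Etale} (δ : o' ⟶ (EtCoh.bc i).obj o) (s : EtCoh.sect (EtCoh.Gm X) o) :
    uval ((gmCmp i).hom.app (op o') (EtMV.r i δ (EtCoh.Gm X) s)) =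
      (δ.left ≫ pullback.fst o.hom i).appTop (uval s) := by
  rw [gmCmp_r, uval_res, Scheme.Hom.comp_appTop]
  rfl

/-- the pullback of a function on an open -/
theorem oval_gmCmp_r (W : X.Opens) (s : EtCoh.sect (EtCoh.Gm X) (EtMV.oo W)) :
    oval ((gmCmp i).hom.app (op (EtMV.oo (i ⁻¹ᵁ W))) (EtMV.r i (pbo i W) (EtCoh.Gm X) s)) = i.app W (oval s) := by
  have h : (pbo i W).left ≫ pullback.fst (EtMV.oo W).hom i = i ∣_ W := pullback.lift_fst _ _ _
  rw [oval, uval_gmCmp_r, h, oval]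
  have e : W.topIso.hom ≫ i.app W = (i ∣_ W).appTop ≫ (i ⁻¹ᵁ W).topIso.hom := by
    simp [morphismRestrict_app, Scheme.Opens.topIso_hom, Scheme.Hom.app_eq_appLE]
  exact (ConcreteCategory.congr_hom e (uval s)).symm

variable [PreservesFiniteLimits (EtCoh.pull i)]

/-- pullback of degree one classes of the units -/
def gmH : Ext ((EtMV.P X).obj (EtMV.oo (⊤ : X.Opens))) (EtCoh.Gm X) 1 →+
    Ext ((EtMV.P Z).obj (EtMV.oo (⊤ : Z.Opens))) (EtCoh.Gm Z) 1 :=
  ((Ext.mk₀ (gmCmp i)).postcomp _ (add_zero 1)).comp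
    (EtMV.T (EtCoh.pull i) (pc' i (pbo i (⊤ : X.Opens))) (EtCoh.Gm X) 1)

/-- glued unit classes pull back to glued unit classes -/
theorem gmH_gcls {U V : X.Opens} (hc : (⊤ : X.Opens) ≤ U ⊔ V) (hcZ : (⊤ : Z.Opens) ≤ i ⁻¹ᵁ U ⊔ i ⁻¹ᵁ V)
    (s : EtCoh.sect (EtCoh.Gm X) (EtMV.oo (U ⊓ V))) :
    gmH i (gcls le_top le_top hc s) =
      gcls (le_top : i ⁻¹ᵁ U ≤ ⊤) (le_top : i ⁻¹ᵁ V ≤ ⊤) hcZ
        ((gmCmp i).hom.app _ (EtMV.r i (pbo i (U ⊓ V)) (EtCoh.Gm X) s)) := by
  show Ext.comp (EtMV.T (EtCoh.pull i) (pc' i (pbo i (⊤ : X.Opens))) (EtCoh.Gm X) 1 (gcls le_top le_top hc s))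
    (Ext.mk₀ (gmCmp i)) (add_zero 1) = _
  rw [T_gcls i le_top le_top hc hcZ s, gcls, gcls, Ext.comp_assoc_of_second_deg_zero, Ext.mk₀_comp_mk₀, secHom_comp]

end Groth.Agent.EtPBC
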