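import Groth.Agent.EtPBC.GenPic
import Groth.Agent.EtPBC.GmPull
import Groth.Agent.SubmFinFibre.Basic
import Groth.Agent.S17447
import Mathlib

/-!
# Classes of the units on the closed fibre lift over a henselian base
-/

set_option autoImplicit false
set_option backward.isDefEq.respectTransparency false
set_option backward.isDefEq.respectTransparency.types false
set_option linter.auxLemma false
set_option linter.style.haveILetI false

universe u

open CategoryTheory CategoryTheory.Limits CategoryTheory.Abelian AlgebraicGeometry Opposite TopologicalSpace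
open Groth.Agent.EtFLC (res res_res res_id)
open Groth.Agent.EtPicLib (oval oval_rr exists_oval oval_injective ofO oval_ofO)
open IsLocalRing (closedPoint)

noncomputable section

namespace Groth.Agent.EtPBC

attribute [local instance 100000] EtCoh.H._proof_1 EtMV.hext
attribute [local instance 200000] EtMV.hextAb

theorem oval_res {X : Scheme.{u}} {U V : X.Opens} (h : V ≤ U) (s : EtCoh.sect (EtCoh.Gm X) (EtMV.oo U)) :
    oval (res (EtCoh.Gm X) (EtMV.res h) s) = X.presheaf.map (homOfLE h).op (oval s) := oval_rr h s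

variable {A : Type u} [CommRing A] [HenselianLocalRing A] {X : Scheme.{u}}
  (f : X ⟶ Spec (CommRingCat.of A)) [IsProper f]

/-- a closed piece, finite over the base, of the zeros of a function around an isolated point of the closed fibre -/
theorem exists_finite_piece {W : X.Opens} (hW : IsAffineOpen W) (b : Γ(X, W)) (x : X) (hxW : x ∈ W)
    (hxb : x ∉ X.basicOpen b) (hx0 : f x = closedPoint A)
    (huniq : ∀ z ∈ W, z ∉ X.basicOpen b → f z = closedPoint A → z = x) :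
    ∃ D : Set X, IsClosed D ∧ x ∈ D ∧ D ⊆ (W : Set X) \ (X.basicOpen b : Set X) ∧
      ∃ O : X.Opens, (W : Set X) \ (((W : Set X) \ (X.basicOpen b : Set X)) \ D) = (O : Set X) := by
  let q : Γ(X, W) ⟶ CommRingCat.of (Γ(X, W) ⧸ Ideal.span {b}) := CommRingCat.ofHom (Ideal.Quotient.mk _)
  let ι₀ : Spec (CommRingCat.of (Γ(X, W) ⧸ Ideal.span {b})) ⟶ X := Spec.map q ≫ hW.fromSpec
  haveI : IsClosedImmersion (Spec.map q) := IsClosedImmersion.spec_of_surjective _ Ideal.Quotient.mk_surjective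
  have hrange : Set.range ι₀ = (W : Set X) \ (X.basicOpen b : Set X) := by
    have h1 : Set.range (Spec.map q) = PrimeSpectrum.zeroLocus ({b} : Set Γ(X, W)) := by
      refine (range_comap_of_surjective _ _ Ideal.Quotient.mk_surjective).trans ?_
      rw [Ideal.mk_ker, PrimeSpectrum.zeroLocus_span]
    have h2 : Set.range ι₀ = hW.fromSpec '' Set.range (Spec.map q) := by
      rw [Scheme.Hom.comp_base, TopCat.coe_comp, Set.range_comp]
    rw [h2, h1]
    ext z
    constructor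
    · rintro ⟨p, hp, rfl⟩
      refine ⟨hW.range_fromSpec ▸ ⟨p, rfl⟩, fun h => ?_⟩
      have h' : p ∈ hW.fromSpec ⁻¹ᵁ X.basicOpen b := h
      rw [hW.fromSpec_preimage_basicOpen] at h'
      exact h' (hp rfl)
    · rintro ⟨hzW, hzb⟩
      obtain ⟨p, rfl⟩ : z ∈ Set.range hW.fromSpec := hW.range_fromSpec.symm ▸ hzW
      refine ⟨p, ?_, rfl⟩
      intro c hc
      rw [Set.mem_singleton_iff] at hc
      subst c
      by_contra h
      refine hzb (show p ∈ hW.fromSpec ⁻¹ᵁ X.basicOpen b from ?_)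
      rw [hW.fromSpec_preimage_basicOpen]
      exact h
  have hinj : Function.Injective ι₀ := by
    intro a c h
    exact (Spec.map q).isClosedEmbedding.injective (hW.fromSpec.isOpenEmbedding.injective h)
  obtain ⟨y, hy⟩ : x ∈ Set.range ι₀ := hrange.symm ▸ ⟨hxW, hxb⟩
  let g := ι₀ ≫ f
  have hfib : g.base ⁻¹' {closedPoint A} ⊆ {y} := fun z hz => by
    have hmem : ι₀ z ∈ (W : Set X) \ (X.basicOpen b : Set X) := hrange ▸ ⟨z, rfl⟩
    exact hinj ((huniq _ hmem.1 hmem.2 hz).trans hy.symm)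
  have hgy : g y = closedPoint A := by
    show f (ι₀ y) = _
    rw [hy]
    exact hx0
  have hqf : y ∈ g.quasiFiniteLocus :=
    SubmFinFibre.quasiFiniteAt_of_finite_fibre g _ ((Set.finite_singleton y).subset hfib) y hgy
  obtain ⟨O₂, hO₂, hyO₂, hO₂le⟩ := exists_isAffineOpen_mem_and_subset (U := g.quasiFiniteLocus) (x := y) hqf
  haveI : IsAffine (O₂ : Scheme.{u}) := hO₂
  haveI : LocallyQuasiFinite (O₂.ι ≫ g) := by
    rw [← Scheme.homOfLE_ι _ hO₂le, Category.assoc]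
    infer_instance
  haveI : IsAffineHom (O₂.ι ≫ g) := isAffineHom_of_isAffine _
  obtain ⟨W₁, ⟨hW₁c, hW₁f, hW₁0⟩, -⟩ := Groth.Agent.S17447.result A (O₂.ι ≫ g)
  let j : (W₁ : Scheme.{u}) ⟶ X := W₁.ι ≫ O₂.ι ≫ ι₀
  haveI : IsFinite (j ≫ f) := by
    simpa [j, g, Category.assoc] using hW₁f
  haveI : IsProper j := IsProper.of_comp _ f
  have hD : Set.range j = ι₀ '' (O₂.ι '' (W₁ : Set _)) := by
    ext z
    constructor
    · rintro ⟨a, rfl⟩
      exact ⟨O₂.ι (W₁.ι a), ⟨W₁.ι a, a.2, rfl⟩, rfl⟩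
    · rintro ⟨_, ⟨a, ha, rfl⟩, rfl⟩
      exact ⟨⟨a, ha⟩, rfl⟩
  refine ⟨Set.range j, j.isClosedMap.isClosed_range, ?_, ?_, ?_⟩
  · rw [hD]
    exact ⟨y, ⟨⟨y, hyO₂⟩, hW₁0 _ hgy, rfl⟩, hy⟩
  · rw [hD, ← hrange]
    exact Set.image_subset_range _ _
  · have hopen : IsOpen (O₂.ι '' (W₁ : Set _)) := O₂.ι.isOpenEmbedding.isOpenMap _ W₁.isOpen
    have hcl : IsClosed (Spec.map q '' (O₂.ι '' (W₁ : Set _))ᶜ) :=
      (Spec.map q).isClosedEmbedding.isClosedMap _ hopen.isClosed_compl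
    refine ⟨hW.fromSpec ''ᵁ ⟨(Spec.map q '' (O₂.ι '' (W₁ : Set _))ᶜ)ᶜ, hcl.isOpen_compl⟩, ?_⟩
    show _ = hW.fromSpec '' (Spec.map q '' (O₂.ι '' (W₁ : Set _))ᶜ)ᶜ
    rw [Set.image_compl_eq_range_sdiff_image hW.fromSpec.isOpenEmbedding.injective, ← Set.image_comp,
      hW.range_fromSpec]
    refine congrArg ((W : Set X) \ ·) ?_
    rw [hD, ← hrange, ← Set.image_compl_eq_range_sdiff_image hinj]
    rfl

variable {Z : Scheme.{u}} [IsNoetherian Z] (i : Z ⟶ X) [IsClosedImmersion i]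
  [PreservesFiniteLimits (EtCoh.pull i)]

/-- **Picard classes lift from the closed fibre** -/
theorem gmH_surjective (hi : Set.range i = f ⁻¹' {closedPoint A}) (hdim : topologicalKrullDim Z ≤ 1) :
    Function.Surjective (gmH i) := by
  rw [← AddMonoidHom.range_eq_top]
  refine eq_top_of_point_classes hdim _ fun x hx V hxV a hu => ?_
  obtain ⟨O, hO, hOV⟩ := i.isClosedEmbedding.isInducing.isOpen_iff.1 V.isOpen
  obtain ⟨W, hW, hxW, hWO⟩ := exists_isAffineOpen_mem_and_subset (U := (⟨O, hO⟩ : X.Opens)) (x := i x)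
    (show x ∈ i ⁻¹' O from hOV.symm ▸ hxV)
  have hVV : i ⁻¹ᵁ W ≤ V := fun z hz => by
    show z ∈ (V : Set Z)
    rw [← hOV]
    exact hWO hz
  obtain ⟨b, hb⟩ := i.app_surjective W hW (Z.presheaf.map (homOfLE hVV).op a)
  have hpre : i ⁻¹ᵁ X.basicOpen b = i ⁻¹ᵁ W ⊓ Z.basicOpen a := by
    rw [Scheme.preimage_basicOpen, hb, Scheme.basicOpen_res]
  by_cases hxb : x ∈ Z.basicOpen a
  · -- the function does not vanish at the point
    refine ⟨V ⊓ Z.basicOpen a, inf_le_left, ⟨hxV, hxb⟩, ?_⟩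
    have hcov := compl₁_cover hx (show x ∈ V ⊓ Z.basicOpen a from ⟨hxV, hxb⟩)
    have hzero : gcls (le_top : compl₁ hx ≤ ⊤) (le_top : V ⊓ Z.basicOpen a ≤ ⊤) hcov
        (res (EtCoh.Gm Z) (EtMV.res (inf_le_inf le_rfl inf_le_left)) (ofO hu)) = 0 := by
      have hua : IsUnit (Z.presheaf.map (homOfLE (inf_le_left : V ⊓ Z.basicOpen a ≤ V)).op a) := by
        have h1 : IsUnit (Z.presheaf.map (homOfLE (Z.basicOpen_le a)).op a) := RingedSpace.isUnit_res_basicOpen _ a
        have h2 := h1.map (Z.presheaf.map (homOfLE (inf_le_right : V ⊓ Z.basicOpen a ≤ Z.basicOpen a)).op).hom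
        rw [← ConcreteCategory.comp_apply, ← Functor.map_comp] at h2
        exact h2
      have e : res (EtCoh.Gm Z) (EtMV.res (inf_le_inf (le_refl (compl₁ hx)) inf_le_left)) (ofO hu) =
          res (EtCoh.Gm Z) (EtMV.res (inf_le_right : compl₁ hx ⊓ (V ⊓ Z.basicOpen a) ≤ V ⊓ Z.basicOpen a))
            (ofO hua) := by
        refine oval_injective ?_
        rw [oval_res, oval_res, oval_ofO, oval_ofO]
        rw [← ConcreteCategory.comp_apply, ← ConcreteCategory.comp_apply, ← Functor.map_comp, ← Functor.map_comp]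
        rfl
      have hS := EtMV.sc'_shortExact (le_top : compl₁ hx ≤ ⊤) (le_top : V ⊓ Z.basicOpen a ≤ ⊤) hcov
      have e2 : secHom (res (EtCoh.Gm Z)
          (EtMV.res (inf_le_right : compl₁ hx ⊓ (V ⊓ Z.basicOpen a) ≤ V ⊓ Z.basicOpen a)) (ofO hua)) =
          (EtMV.sc' (le_top : compl₁ hx ≤ ⊤) (le_top : V ⊓ Z.basicOpen a ≤ ⊤)).f ≫
            biprod.desc 0 (-secHom (ofO hua)) := by
        show _ = biprod.lift _ _ ≫ biprod.desc 0 _
        rw [biprod.lift_desc, comp_zero, zero_add, Preadditive.neg_comp, Preadditive.comp_neg, neg_neg, map_secHom]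
      rw [gcls, e, e2, ← Ext.mk₀_comp_mk₀, ← Ext.comp_assoc_of_second_deg_zero, hS.extClass_comp, Ext.zero_comp]
    rw [hzero]
    exact zero_mem _
  · have hx0 : f (i x) = closedPoint A := (hi ▸ ⟨x, rfl⟩ : i x ∈ f ⁻¹' {closedPoint A})
    obtain ⟨D, hD, hxD, hDsub, O', hO'⟩ := exists_finite_piece f hW b (i x) hxW
      (fun h => hxb ((hpre.le (show x ∈ i ⁻¹ᵁ X.basicOpen b from h)).2)) hx0 (fun z hzW hzb hz => by
      obtain ⟨z₀, rfl⟩ : z ∈ Set.range i := hi.symm ▸ hz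
      refine congrArg i (by_contra fun hne => hzb ?_)
      show z₀ ∈ i ⁻¹ᵁ X.basicOpen b
      rw [hpre]
      have hz₀ : z₀ ∈ Z.basicOpen (Z.presheaf.map (homOfLE (inf_le_right : compl₁ hx ⊓ V ≤ V)).op a) := by
        rw [Scheme.basicOpen_of_isUnit _ hu]
        exact ⟨hne, hVV hzW⟩
      rw [Scheme.basicOpen_res] at hz₀
      exact ⟨hzW, hz₀.2⟩)
    let U' : X.Opens := ⟨Dᶜ, hD.isOpen_compl⟩
    have hcov : (⊤ : X.Opens) ≤ U' ⊔ O' := fun z _ => by
      by_cases hzD : z ∈ D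
      · exact Or.inr (hO' ▸ (⟨(hDsub hzD).1, fun h => h.2 hzD⟩ :
          z ∈ (W : Set X) \ (((W : Set X) \ (X.basicOpen b : Set X)) \ D)))
      · exact Or.inl hzD
    have hO'W : O' ≤ W := fun z hz => ((hO'.symm ▸ hz :
      z ∈ (W : Set X) \ (((W : Set X) \ (X.basicOpen b : Set X)) \ D))).1
    have hsub : U' ⊓ O' ≤ X.basicOpen b := fun z hz => by
      have h := (hO'.symm ▸ hz.2 : z ∈ (W : Set X) \ (((W : Set X) \ (X.basicOpen b : Set X)) \ D))
      by_contra hzb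
      exact h.2 ⟨⟨h.1, hzb⟩, hz.1⟩
    have hunit : IsUnit (X.presheaf.map (homOfLE ((inf_le_right : U' ⊓ O' ≤ O').trans hO'W)).op b) := by
      have h1 : IsUnit (X.presheaf.map (homOfLE (X.basicOpen_le b)).op b) := RingedSpace.isUnit_res_basicOpen _ b
      have h2 := h1.map (X.presheaf.map (homOfLE hsub).op).hom
      rw [← ConcreteCategory.comp_apply, ← Functor.map_comp] at h2
      exact h2
    have hU' : i ⁻¹ᵁ U' = compl₁ hx := by
      refine TopologicalSpace.Opens.ext (Set.ext fun z => ?_)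
      show i z ∉ D ↔ z ≠ x
      refine ⟨fun h he => h (he ▸ hxD), fun hne hzD => ?_⟩
      have hz₀ : z ∈ Z.basicOpen (Z.presheaf.map (homOfLE (inf_le_right : compl₁ hx ⊓ V ≤ V)).op a) := by
        rw [Scheme.basicOpen_of_isUnit _ hu]
        exact ⟨hne, hVV (hDsub hzD).1⟩
      rw [Scheme.basicOpen_res] at hz₀
      exact (hDsub hzD).2 (hpre.ge (show z ∈ i ⁻¹ᵁ W ⊓ Z.basicOpen a from ⟨(hDsub hzD).1, hz₀.2⟩))
    have hxV' : x ∈ i ⁻¹ᵁ O' := by
      show i x ∈ (O' : Set X)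
      rw [← hO']
      exact ⟨hxW, fun h => h.2 hxD⟩
    refine ⟨i ⁻¹ᵁ O', fun z hz => hVV (hO'W hz), hxV', gcls le_top le_top hcov (ofO hunit), ?_⟩
    have hcovZ : (⊤ : Z.Opens) ≤ i ⁻¹ᵁ U' ⊔ i ⁻¹ᵁ O' := hU' ▸ compl₁_cover hx hxV'
    rw [gmH_gcls i hcov hcovZ (ofO hunit)]
    have h := res_gcls (le_top : i ⁻¹ᵁ U' ≤ ⊤) (le_top : i ⁻¹ᵁ O' ≤ ⊤) hcovZ (le_top : compl₁ hx ≤ ⊤)
      (le_top : i ⁻¹ᵁ O' ≤ ⊤) (compl₁_cover hx hxV') hU'.ge le_rfl le_rfl
      ((gmCmp i).hom.app _ (EtMV.r i (pbo i (U' ⊓ O')) (EtCoh.Gm X) (ofO hunit)))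
    refine ((cRes_self (G := EtCoh.Gm Z) _).symm.trans h).trans (congrArg _ (oval_injective ?_))
    refine ((oval_res _ _).trans (congrArg _ ((oval_gmCmp_r i _ _).trans (congrArg _ (oval_ofO hunit))))).trans
      (Eq.trans ?_ ((oval_res _ _).trans (congrArg _ (oval_ofO hu))).symm)
    have e := ConcreteCategory.congr_hom (i.naturality
      (homOfLE ((inf_le_right : U' ⊓ O' ≤ O').trans hO'W)).op) b
    rw [ConcreteCategory.comp_apply, ConcreteCategory.comp_apply, hb] at e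
    refine (congrArg _ e).trans ?_
    simp only [← ConcreteCategory.comp_apply, ← Functor.map_comp]
    rfl

end Groth.Agent.EtPBC
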