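import Groth.Agent.EtPBC.H2Surj
import Groth.Agent.EtPBC.PicLift
import Groth.Agent.EtPBC.ConstKilled
import Groth.Agent.EtPBC.P1Curve
import Groth.Agent.EtPBC.CurveGm
import Groth.Agent.EtH1PBC.Main
import Groth.Agent.EtBCQ.DegZero
import Groth.Agent.EtAcycX.Descend
import Groth.Agent.EtFinCrit.Main
import Mathlib

/-!
# The closed fibre of a proper scheme over a strictly henselian ring, fibre finite over the projective line
-/

set_option autoImplicit false
set_option backward.isDefEq.respectTransparency false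
set_option backward.isDefEq.respectTransparency.types false
set_option linter.auxLemma false
set_option linter.style.haveILetI false
set_option linter.unusedSectionVars false
set_option maxHeartbeats 1000000

universe u

open CategoryTheory CategoryTheory.Limits CategoryTheory.Abelian AlgebraicGeometry Opposite IsLocalRing

noncomputable section

namespace Groth.Agent.EtPBC

attribute [local instance 100000] EtCoh.H._proof_1 EtMV.hext
attribute [local instance 200000] EtMV.hextAb

/-- cohomology is invariant under isomorphisms of schemes -/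
theorem bijective_Hpull_of_isIso {X Y : Scheme.{u}} (e : Y ⟶ X) [IsIso e] [PreservesFiniteLimits (EtCoh.pull e)]
    (F : EtCoh.Ab X) (q : ℕ) : Function.Bijective (EtCore.Hpull e F q) :=
  Groth.Agent.S0642.result e F q

theorem bijective_Hpull_iso_comp_iff {X Y Y' : Scheme.{u}} (e : Y' ⟶ Y) [IsIso e] (i : Y ⟶ X) (i' : Y' ⟶ X)
    (w : e ≫ i = i') [PreservesFiniteLimits (EtCoh.pull i)] [PreservesFiniteLimits (EtCoh.pull i')]
    (F : EtCoh.Ab X) (q : ℕ) :
    Function.Bijective (EtCore.Hpull i' F q) ↔ Function.Bijective (EtCore.Hpull i F q) := by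
  haveI := EtCohDesc.pull_preservesFiniteLimits e
  haveI := EtAcycX.isIso_ψh e i i' w F
  have hb : Function.Bijective (EtCore.HpullVia e i i' w F q) :=
    (EtAcycX.bijective_comp_iso (EtLimit.ψh e i i' w F) q).comp (bijective_Hpull_of_isIso e _ q)
  rw [show ⇑(EtCore.Hpull i' F q) = ⇑(EtCore.HpullVia e i i' w F q) ∘ ⇑(EtCore.Hpull i F q) from
    funext fun x => (EtAcycX.Hpull_HpullVia e i i' w F q x).symm]
  exact Function.Bijective.of_comp_iff' hb _

variable {R : Type u} [CommRing R] [HenselianLocalRing R] {X Z : Scheme.{u}}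
  (f : X ⟶ Spec (CommRingCat.of R)) [IsProper f] (i : Z ⟶ X) (c : Z ⟶ Spec (CommRingCat.of (ResidueField R)))
  (sq : IsPullback i c f (Spec.map (CommRingCat.ofHom (residue R)))) [PreservesFiniteLimits (EtCoh.pull i)]

include sq in
theorem bijective_Hpull_zero (F : EtCoh.Ab X) : Function.Bijective (EtCore.Hpull i F 0) := by
  haveI := EtCohDesc.pull_preservesFiniteLimits (pullback.fst f (Spec.map (CommRingCat.ofHom (residue R))))
  refine (bijective_Hpull_iso_comp_iff sq.isoPullback.hom (pullback.fst _ _) i sq.isoPullback_hom_fst F 0).2 ?_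
  exact EtBCQ.bijective_T_zero _ F (Groth.Agent.S0167.result R X f F)

include sq in
theorem bijective_Hpull_one (M : Type) [AddCommGroup M] [Finite M] :
    Function.Bijective (EtCore.Hpull i (EtCoh.const X M) 1) := by
  haveI := EtCohDesc.pull_preservesFiniteLimits (pullback.fst f (Spec.map (CommRingCat.ofHom (residue R))))
  refine (bijective_Hpull_iso_comp_iff sq.isoPullback.hom (pullback.fst _ _) i sq.isoPullback_hom_fst _ 1).2 ?_
  exact EtH1PBC.bijective_Hpull_one_closedFibre R f M

theorem range_specMap_residue (S : Type u) [CommRing S] [IsLocalRing S] :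
    Set.range (Spec.map (CommRingCat.ofHom (residue S))) = {closedPoint S} := by
  have h : ∀ z, Spec.map (CommRingCat.ofHom (residue S)) z = closedPoint S := fun z => by
    refine PrimeSpectrum.ext ?_
    show Ideal.comap (residue S) _ = maximalIdeal S
    rw [show (z : PrimeSpectrum (ResidueField S)).asIdeal = ⊥ from
      (Ideal.eq_bot_or_top _).resolve_right (PrimeSpectrum.isPrime _).ne_top, ← RingHom.ker_eq_comap_bot, ker_residue]
  exact Set.eq_singleton_iff_unique_mem.2 ⟨⟨default, h _⟩, fun y ⟨z, hz⟩ => hz ▸ h z⟩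

theorem exists_cyclotomic_root [IsSepClosed (ResidueField R)] (n : ℕ) (hn : 1 ≤ n)
    (hu : (n : ResidueField R) ≠ 0) : ∃ z : R, Polynomial.aeval z (Polynomial.cyclotomic n ℤ) = 0 := by
  haveI : NeZero (n : ResidueField R) := ⟨hu⟩
  have hsep : (Polynomial.cyclotomic n (ResidueField R)).Separable := Polynomial.separable_cyclotomic n _
  obtain ⟨x, hx⟩ := IsSepClosed.exists_root _ (by
    rw [Polynomial.degree_cyclotomic]
    exact_mod_cast (Nat.totient_pos.2 hn).ne') hsep
  obtain ⟨x, rfl⟩ := residue_surjective x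
  obtain ⟨z, hz, -⟩ := HenselianLocalRing.is_henselian (Polynomial.cyclotomic n R)
    (Polynomial.cyclotomic.monic n R) x (by
      rw [← residue_eq_zero_iff, ← Polynomial.eval₂_at_apply, ← Polynomial.eval_map, Polynomial.map_cyclotomic]
      exact hx) (by
      rw [← residue_ne_zero_iff_isUnit, ← Polynomial.eval₂_at_apply, ← Polynomial.eval_map,
        ← Polynomial.derivative_map, Polynomial.map_cyclotomic]
      exact hsep.aeval_derivative_ne_zero (by simpa using hx))
  refine ⟨z, ?_⟩
  rw [Polynomial.aeval_def, ← Polynomial.eval_map, Polynomial.map_cyclotomic]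
  exact hz

variable [IsSepClosed (ResidueField R)] (b : Z ⟶ CohB1.ProjSpace 1 (ResidueField R)) [IsFinite b]

include sq b in
/-- **degree zero bijective, all degrees surjective, for finite cyclic coefficients** -/
theorem good_const (ℓ : ℕ) [hℓ : Fact ℓ.Prime] (ν q : ℕ) :
    Function.Injective (EtCore.Hpull i (EtCoh.const X (ZMod (ℓ ^ ν))) 0) ∧
      Function.Surjective (EtCore.Hpull i (EtCoh.const X (ZMod (ℓ ^ ν))) q) := by
  haveI : NeZero (ℓ ^ ν) := ⟨pow_ne_zero _ hℓ.out.ne_zero⟩
  refine ⟨(bijective_Hpull_zero f i c sq _).1, ?_⟩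
  rcases Nat.lt_or_ge q 2 with hq | hq
  · obtain rfl | rfl : q = 0 ∨ q = 1 := by omega
    · exact (bijective_Hpull_zero f i c sq _).2
    · exact (bijective_Hpull_one f i c sq _).2
  haveI : IsProper c := MorphismProperty.of_isPullback (P := @IsProper) sq ‹_›
  haveI : IsClosedImmersion i := MorphismProperty.of_isPullback (P := @IsClosedImmersion) sq.flip
    (IsClosedImmersion.spec_of_surjective _ residue_surjective)
  haveI : IsLocallyNoetherian Z := LocallyOfFiniteType.isLocallyNoetherian c
  haveI : CompactSpace Z := QuasiCompact.compactSpace_of_compactSpace c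
  haveI : IsNoetherian Z := ⟨⟩
  have hdim : topologicalKrullDim Z ≤ 1 :=
    topologicalKrullDim_le_of_finite b (by rw [Groth.Agent.S10829.result]; rfl)
  have hsep : ∀ z : Z, IsClosed ({z} : Set Z) → IsSepClosed (Z.residueField z) := isSepClosed_of_isClosed c
  have hsub : ∀ m, Subsingleton (EtCoh.H Z (EtCoh.const Z (ZMod (ℓ ^ ν))) m) →
      Function.Surjective (EtCore.Hpull i (EtCoh.const X (ZMod (ℓ ^ ν))) m) := fun m h y =>
    ⟨0, (map_zero _).trans ((subsingleton_H_congr (EtCore.pullConst i (ZMod (ℓ ^ ν))) m h).elim _ _)⟩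
  by_cases hℓ0 : (ℓ : ResidueField R) = 0
  · haveI : CharP (ResidueField R) ℓ := (CharP.charP_iff_prime_eq_zero hℓ.out).2 hℓ0
    exact hsub q (subsingleton_H_const_pow Z ℓ q (subsingleton_H_zmod_of_finite b ℓ q hq) ν)
  have hk : ∀ z : Z, IsMaxPt z → KilledVan (ℓ ^ ν) (Z.residueField z) := fun z _ =>
    killedVan_of_cohDimLEAt _ (cohDimLEAt_residueField c hdim z ℓ) ν
  rcases Nat.lt_or_ge q 3 with hq3 | hq3
  swap
  · exact hsub q (subsingleton_H_of_killed hdim hsep hk _ (killed_const Z _) q hq3)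
  obtain rfl : q = 2 := by omega
  have hn : 1 ≤ ℓ ^ ν := Nat.one_le_iff_ne_zero.2 (NeZero.ne _)
  have hu0 : ((ℓ ^ ν : ℕ) : ResidueField R) ≠ 0 := by rw [Nat.cast_pow]; exact pow_ne_zero _ hℓ0
  obtain ⟨z, hz⟩ := exists_cyclotomic_root (ℓ ^ ν) hn hu0
  let φ : R →+* Γ(X, ⊤) := ((Scheme.ΓSpecIso (CommRingCat.of R)).inv ≫ f.appTop).hom
  have hu : IsUnit ((ℓ ^ ν : ℕ) : Γ(X, ⊤)) := by
    have h1 : IsUnit ((ℓ ^ ν : ℕ) : R) := (residue_ne_zero_iff_isUnit _).1 (by rwa [map_natCast])
    have := h1.map φ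
    rwa [map_natCast] at this
  have hζ : Polynomial.aeval (φ z) (Polynomial.cyclotomic (ℓ ^ ν) ℤ) = 0 := by
    rw [show φ z = φ.toIntAlgHom z from rfl, Polynomial.aeval_algHom_apply, hz, map_zero]
  have hi : Set.range i = f ⁻¹' {closedPoint R} := by
    rw [← range_specMap_residue R, ← sq.isoPullback_hom_fst, ← Scheme.Pullback.range_fst]
    ext x
    exact ⟨fun ⟨z, hz⟩ => ⟨sq.isoPullback.hom z, hz⟩,
      fun ⟨z, hz⟩ => ⟨sq.isoPullback.inv z, by
        rw [← Scheme.Hom.comp_apply, sq.isoPullback.inv_hom_id_assoc]; exact hz⟩⟩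
  refine surjective_Hpull_two i (ℓ ^ ν) hn hu (φ z) hζ (gmH_surjective f i hi hdim) fun e he => ?_
  refine torsion_H_Gm_eq_zero hdim hsep hn (fun x _ r hr hd => ?_) hk (fun x => ?_) 2 le_rfl e he
  · obtain rfl := (Nat.prime_dvd_prime_iff_eq hr hℓ.out).1 (hr.dvd_of_dvd_pow hd)
    exact cohDimLEAt_residueField c hdim x r
  · let ψ : ResidueField R →+* Z.residueField x :=
      ((Scheme.ΓSpecIso (CommRingCat.of (ResidueField R))).inv ≫ c.appTop ≫ Z.evaluation ⊤ x trivial).hom
    have := ψ.injective.ne hu0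
    rwa [map_natCast, map_zero] at this

end Groth.Agent.EtPBC
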