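import Groth.Agent.KummerLib.MuConst
import Groth.Agent.EtMV.ConstSect
import Groth.Agent.EtPicLib.Units
import Groth.Agent.EtPBC.GmPull
import Groth.Agent.EtMV.ConstUnit
import Mathlib

/-!
# The Kummer sequence with constant kernel, compatibly with pullback
-/

set_option autoImplicit false
set_option backward.isDefEq.respectTransparency false
set_option backward.isDefEq.respectTransparency.types false
set_option linter.auxLemma false
set_option linter.style.haveILetI false

universe u

open CategoryTheory CategoryTheory.Limits AlgebraicGeometry Opposite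
open Groth.Agent.KummerLib (muVal mu_sections muVal_map)

noncomputable section

namespace Groth.Agent.EtPBC

variable {X : Scheme.{u}} (n : ℕ)

theorem zeta_pow (hn : 1 ≤ n) (ζ : Γ(X, ⊤)) (hζ : Polynomial.aeval ζ (Polynomial.cyclotomic n ℤ) = 0) :
    ζ ^ n = 1 := by
  have hroot : (Polynomial.cyclotomic n Γ(X, ⊤)).IsRoot ζ := by
    rwa [Polynomial.IsRoot, ← Polynomial.map_cyclotomic_int, Polynomial.eval_map, ← algebraMap_int_eq,
      ← Polynomial.aeval_def]
  exact Polynomial.isRoot_of_unity_of_root_cyclotomic (Nat.mem_divisors_self n (by omega)) hroot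

theorem exists_kummer_const (hn : 1 ≤ n) (hunit : IsUnit (n : Γ(X, ⊤))) (ζ : Γ(X, ⊤))
    (hζ : Polynomial.aeval ζ (Polynomial.cyclotomic n ℤ) = 0) :
    ∃ e : EtCoh.const X (ZMod n) ≅ EtCoh.mu X n, ∀ m : ℤ,
      EtPicLib.uval (((EtCoh.muι X n).hom.app (op (EtCoh.top X))).hom
        (e.hom.hom.app (op (EtCoh.top X)) (EtMV.cst (EtCoh.top X) (m : ZMod n)))) =
      ((Units.ofPowEqOne ζ n (zeta_pow n hn ζ hζ) (by omega)) ^ m).val := by
  haveI : NeZero n := ⟨by omega⟩
  have hroot : (Polynomial.cyclotomic n Γ(X, ⊤)).IsRoot ζ := by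
    rwa [Polynomial.IsRoot, ← Polynomial.map_cyclotomic_int, Polynomial.eval_map, ← algebraMap_int_eq,
      ← Polynomial.aeval_def]
  have hpow : ζ ^ n = 1 := Polynomial.isRoot_of_unity_of_root_cyclotomic (Nat.mem_divisors_self n (by omega)) hroot
  let z : (Γ(X, ⊤))ˣ := Units.ofPowEqOne ζ n hpow (by omega)
  let top : X.Etale := EtCoh.top X
  obtain ⟨x₀, hx₀⟩ := ((mu_sections (X := X) n top).2 (Additive.ofMul z)).mpr (by
    change n • Additive.ofMul z = 0
    rw [← ofMul_pow, Units.pow_ofPowEqOne]
    rfl)
  let tot : ∀ U : X.Etale, U ⟶ top := fun U => (EtHens.isTerminalTop X).from U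
  let xU : ∀ U : X.Etale, (EtCoh.mu X n).obj.obj (op U) := fun U => (EtCoh.mu X n).obj.map (tot U).op x₀
  have hxn : ∀ U, n • xU U = 0 := fun U => by
    apply (mu_sections (X := X) n U).1
    rw [map_nsmul, map_zero]
    exact ((mu_sections (X := X) n U).2 _).mp ⟨_, rfl⟩
  let f : ∀ U, ZMod n →+ (EtCoh.mu X n).obj.obj (op U) := fun U =>
    ZMod.lift n ⟨zmultiplesHom _ (xU U), by change (n : ℤ) • xU U = 0; rw [natCast_zsmul]; exact hxn U⟩
  have hf : ∀ U (m : ℤ), f U (m : ZMod n) = m • xU U := fun U m => ZMod.lift_coe _ _ _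
  let ψ : (Functor.const (X.Etaleᵒᵖ)).obj (AddCommGrpCat.of (ULift.{u + 1} (ZMod n))) ⟶ (EtCoh.mu X n).obj :=
    { app := fun U => AddCommGrpCat.ofHom ((f U.unop).comp AddEquiv.ulift.toAddMonoidHom)
      naturality := fun U V g => by
        ext a
        change f V.unop a.down = (EtCoh.mu X n).obj.map g (f U.unop a.down)
        obtain ⟨m, hm⟩ := ZMod.intCast_surjective a.down
        rw [← hm, hf, hf, map_zsmul]
        refine congrArg (m • ·) ?_
        change (EtCoh.mu X n).obj.map (tot V.unop).op x₀ = (EtCoh.mu X n).obj.map g ((EtCoh.mu X n).obj.map (tot U.unop).op x₀)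
        rw [← ConcreteCategory.comp_apply, ← Functor.map_comp]
        exact congrArg (fun k => (EtCoh.mu X n).obj.map k x₀) (congrArg Quiver.Hom.op
          ((EtHens.isTerminalTop X).hom_ext (tot V.unop) (g.unop ≫ tot U.unop))) }
  have hval : ∀ (U : X.Etale) (m : ℤ),
      (muVal n U (f U (m : ZMod n))).toMul.val = ((Units.map (tot U).left.appTop.hom.toMonoidHom z) ^ m).val := by
    intro U m
    rw [hf, map_zsmul, toMul_zsmul, muVal_map, hx₀]
    rfl
  have hprim : ∀ (U : X.Etale) (u : U.left),
      IsPrimitiveRoot (U.left.Γevaluation u ((tot U).left.appTop ζ)) n := by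
    intro U u
    haveI : NeZero (n : U.left.residueField u) := ⟨by
      have := (hunit.map (tot U).left.appTop.hom).map (U.left.Γevaluation u).hom
      rw [map_natCast, map_natCast] at this
      exact this.ne_zero⟩
    have h := hroot.map (f := (U.left.Γevaluation u).hom.comp (tot U).left.appTop.hom)
    erw [Polynomial.map_cyclotomic] at h
    exact Polynomial.isRoot_cyclotomic_iff.mp h
  have hinj : Presheaf.IsLocallyInjective X.smallEtaleTopology ψ := by
    refine ⟨fun {U} a b hab => ?_⟩
    obtain ⟨U⟩ := U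
    refine EtInvariance.SchemePush.mem_of_surjective fun u => ?_
    have h : a = b := by
      refine ULift.ext _ _ ?_
      have hab' : f U (a.down - b.down) = 0 := by
        rw [map_sub, sub_eq_zero]
        exact hab
      obtain ⟨m, hm⟩ := ZMod.intCast_surjective (a.down - b.down)
      rw [← hm] at hab'
      have h1 : ((Units.map (tot U).left.appTop.hom.toMonoidHom z) ^ m).val = 1 := by
        rw [← hval, hab', map_zero]
        rfl
      have h2 : (U.left.Γevaluation u ((tot U).left.appTop ζ)) ^ m = 1 := by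
        have := congrArg (U.left.Γevaluation u) h1
        rw [map_one] at this
        rw [← this]
        let w : (Γ(U.left, ⊤))ˣ := Units.map (tot U).left.appTop.hom.toMonoidHom z
        exact ((congrArg Units.val (map_zpow (Units.map (U.left.Γevaluation u).hom.toMonoidHom) w m)).trans
          (Units.val_zpow_eq_zpow_val _ _)).symm
      rw [← sub_eq_zero, ← hm, ZMod.intCast_zmod_eq_zero_iff_dvd]
      exact ((hprim U u).zpow_eq_one_iff_dvd m).mp h2
    exact ⟨U, 𝟙 U, by change _ = _; rw [h], u, rfl⟩
  have hsur : Presheaf.IsLocallySurjective X.smallEtaleTopology ψ := by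
    refine ⟨fun {U} x => ?_⟩
    refine EtInvariance.SchemePush.mem_of_surjective fun u => ?_
    let s : (Γ(U.left, ⊤))ˣ := (muVal n U x).toMul
    have hs : s ^ n = 1 := by
      have := ((mu_sections (X := X) n U).2 _).mp ⟨x, rfl⟩
      rw [← ofMul_toMul (muVal n U x), ← ofMul_pow] at this
      exact Additive.ofMul.injective this
    obtain ⟨i, -, hi⟩ := (hprim U u).eq_pow_of_pow_eq_one (ξ := U.left.Γevaluation u s.val) (by
      rw [← map_pow, ← Units.val_pow_eq_pow_val, hs, Units.val_one, map_one])
    let zU : (Γ(U.left, ⊤))ˣ := Units.map (tot U).left.appTop.hom.toMonoidHom z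
    let t : (Γ(U.left, ⊤))ˣ := s / zU ^ i
    have ht : t.val ^ n = 1 := by
      have : t ^ n = 1 := by
        rw [div_pow, hs, ← pow_mul, mul_comm, pow_mul]
        simp only [zU, ← map_pow, z, Units.pow_ofPowEqOne, map_one, one_pow, div_one]
      rw [← Units.val_pow_eq_pow_val, this, Units.val_one]
    let g := ∑ j ∈ Finset.range n, t.val ^ j
    let W : U.left.Opens := U.left.basicOpen g
    have htu : U.left.Γevaluation u t.val = 1 := by
      have h3 : Units.map (U.left.Γevaluation u).hom.toMonoidHom s =
          (Units.map (U.left.Γevaluation u).hom.toMonoidHom zU) ^ i := Units.ext hi.symm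
      have : Units.map (U.left.Γevaluation u).hom.toMonoidHom t = 1 := by
        rw [map_div, h3, map_pow, div_self']
      exact congrArg Units.val this
    have huW : u ∈ W := by
      refine (U.left.evaluation_ne_zero_iff_mem_basicOpen u (U := ⊤) trivial g).mp ?_
      change U.left.Γevaluation u g ≠ 0
      simp only [g, map_sum, map_pow, htu, one_pow, Finset.sum_const, Finset.card_range, nsmul_one]
      intro h0
      have := (hunit.map (tot U).left.appTop.hom).map (U.left.Γevaluation u).hom
      rw [map_natCast, map_natCast] at this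
      exact this.ne_zero h0
    haveI : Etale U.hom := U.prop
    let V : X.Etale := Scheme.Etale.mk (W.ι ≫ U.hom)
    let k : V ⟶ U := MorphismProperty.Over.homMk W.ι rfl
    refine ⟨V, k, ⟨⟨((i : ℤ) : ZMod n)⟩, ?_⟩, ⟨u, huW⟩, rfl⟩
    apply (mu_sections (X := X) n V).1
    refine Additive.toMul.injective (Units.ext ?_)
    change (muVal n V (f V ((i : ℤ) : ZMod n))).toMul.val = (muVal n V ((EtCoh.mu X n).obj.map k.op x)).toMul.val
    rw [hval, muVal_map, zpow_natCast]
    have hto : tot V = k ≫ tot U := (EtHens.isTerminalTop X).hom_ext _ _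
    have htop : Units.map (tot V).left.appTop.hom.toMonoidHom z = Units.map k.left.appTop.hom.toMonoidHom zU := by
      rw [hto]
      refine Units.ext ?_
      change (k.left ≫ (tot U).left).appTop ζ = _
      rw [Scheme.Hom.comp_appTop]
      rfl
    have hW : IsUnit (k.left.appTop g) := by
      have h5 := (U.left.toRingedSpace.isUnit_res_basicOpen g).map W.topIso.inv.hom
      have e : k.left.appTop = U.left.presheaf.map (homOfLE (U.left.basicOpen_le g)).op ≫ W.topIso.inv := by
        change W.ι.appTop = _
        simp only [Scheme.Opens.ι_appTop, Scheme.Opens.topIso_inv, ← Functor.map_comp]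
        rfl
      rw [e]
      exact h5
    have h1 : k.left.appTop t.val = 1 := by
      rw [← sub_eq_zero]
      refine hW.mul_left_cancel ?_
      rw [mul_zero, ← map_one k.left.appTop.hom, ← map_sub, ← map_mul, geom_sum_mul, ht, sub_self, map_zero]
    have h2 : Units.map k.left.appTop.hom.toMonoidHom s = Units.map k.left.appTop.hom.toMonoidHom (zU ^ i) := by
      rw [← div_eq_one, ← map_div]
      exact Units.ext h1
    rw [htop, ← map_pow]
    exact congrArg Units.val h2.symm
  haveI : IsIso ((presheafToSheaf X.smallEtaleTopology AddCommGrpCat.{u + 1}).map ψ) :=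
    (GrothendieckTopology.W_iff _ ψ).mp
      (haveI := hinj; haveI := hsur; GrothendieckTopology.W_of_isLocallyBijective _ ψ)
  refine ⟨(asIso ((presheafToSheaf X.smallEtaleTopology AddCommGrpCat.{u + 1}).map ψ)) ≪≫
    (asIso (sheafificationAdjunction X.smallEtaleTopology AddCommGrpCat.{u + 1}).counit).app (EtCoh.mu X n), fun m => ?_⟩
  have h1 := (sheafificationAdjunction X.smallEtaleTopology AddCommGrpCat.{u + 1}).homEquiv_unit
    (f := (presheafToSheaf X.smallEtaleTopology AddCommGrpCat.{u + 1}).map ψ ≫
      (sheafificationAdjunction X.smallEtaleTopology AddCommGrpCat.{u + 1}).counit.app (EtCoh.mu X n))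
  have h2 : ((sheafificationAdjunction X.smallEtaleTopology AddCommGrpCat.{u + 1}).homEquiv _ _)
      ((presheafToSheaf X.smallEtaleTopology AddCommGrpCat.{u + 1}).map ψ ≫
        (sheafificationAdjunction X.smallEtaleTopology AddCommGrpCat.{u + 1}).counit.app (EtCoh.mu X n)) = ψ := by
    refine (congrArg _ ((sheafificationAdjunction X.smallEtaleTopology AddCommGrpCat.{u + 1}).homEquiv_counit ..).symm).trans ?_
    exact Equiv.apply_symm_apply _ _
  have h3 := ConcreteCategory.congr_hom (congr_app (h1.symm.trans h2) (op (EtCoh.top X))) ⟨(m : ZMod n)⟩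
  refine Eq.trans (congrArg (fun y => EtPicLib.uval (((EtCoh.muι X n).hom.app (op (EtCoh.top X))).hom y))
    (show _ = f (EtCoh.top X) (m : ZMod n) from h3)) ?_
  refine (hval (EtCoh.top X) m).trans ?_
  rw [(EtHens.isTerminalTop X).hom_ext (tot (EtCoh.top X)) (𝟙 _)]
  rw [show (𝟙 (EtCoh.top X) : _ ⟶ _).left.appTop.hom.toMonoidHom = MonoidHom.id _ from rfl, Units.map_id]
  rfl

end Groth.Agent.EtPBC
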