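import Groth.Agent.EtPBC.AllBC
import Groth.Agent.EtPBC.Killed
import Groth.Agent.EtAcycX.Killed
import Groth.Agent.EtPullExact.Basic
import Groth.Prelude.Def_PBC
import Mathlib

/-!
# Sheaves injective among the sheaves killed by an integer
-/

set_option autoImplicit false
set_option backward.isDefEq.respectTransparency false
set_option backward.isDefEq.respectTransparency.types false
set_option linter.auxLemma false
set_option linter.style.haveILetI false
set_option linter.unusedSectionVars false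
set_option maxHeartbeats 1000000

universe u

open CategoryTheory CategoryTheory.Limits CategoryTheory.Abelian AlgebraicGeometry Opposite

noncomputable section

namespace Groth.Agent.EtPBC

attribute [local instance 100000] EtCoh.H._proof_1 EtMV.hext
attribute [local instance 200000] EtMV.hextAb

variable {X Y : Scheme.{u}}

/-- extension property against monomorphisms of sheaves killed by `m` -/
def InjKilled (m : ℕ) (I : EtCoh.Ab X) : Prop :=
  ∀ (G : EtCoh.Ab X), EtCoh.KilledBy m G → ∀ (a : G ⟶ I) {G' : EtCoh.Ab X} (e : G ⟶ G'),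
    EtCoh.KilledBy m G' → Mono e → ∃ b : G' ⟶ I, e ≫ b = a

/-- such a sheaf is a retract of the `m`-torsion of an injective sheaf -/
theorem InjKilled.exists_retract {m : ℕ} {I : EtCoh.Ab X} (hI : EtCoh.KilledBy m I) (h : InjKilled m I) :
    ∃ (J : EtCoh.Ab X) (_ : Injective J) (i : I ⟶ EtColimH.tor J m) (r : EtColimH.tor J m ⟶ I), i ≫ r = 𝟙 I := by
  obtain ⟨J, hJ, i, hi⟩ := EtAcycX.exists_hullKd (m := m) ((killed_iff m I).1 hI)
  obtain ⟨r, hr⟩ := h I hI (𝟙 I) i ((killed_iff m _).2 (EtAcycX.kd_tor J m)) hi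
  exact ⟨J, hJ, i, r, hr⟩

theorem InjKilled.isZero_Rpush {m : ℕ} (hm : 0 < m) {I : EtCoh.Ab X} (hI : EtCoh.KilledBy m I) (h : InjKilled m I)
    (f : X ⟶ Y) (q : ℕ) : IsZero ((EtCoh.Rpush f (q + 1)).obj I) := by
  obtain ⟨J, hJ, i, r, hr⟩ := h.exists_retract hI
  rw [IsZero.iff_id_eq_zero, ← (EtCoh.Rpush f (q + 1)).map_id, ← hr, Functor.map_comp,
    (EtAcycX.isZero_rpush_tor f J hm q).eq_of_tgt ((EtCoh.Rpush f (q + 1)).map i) 0, zero_comp]

theorem InjKilled.subsingleton_H {m : ℕ} (hm : 0 < m) {I : EtCoh.Ab X} (hI : EtCoh.KilledBy m I) (h : InjKilled m I)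
    (q : ℕ) : Subsingleton (EtCoh.H X I (q + 1)) := by
  obtain ⟨J, hJ, i, r, hr⟩ := h.exists_retract hI
  haveI := EtAcycX.subsingleton_H_tor J hm q
  refine subsingleton_of_forall_eq 0 fun x => ?_
  have h1 : x.comp (Ext.mk₀ i) (add_zero (q + 1)) = (0 : EtCoh.H X (EtColimH.tor J m) (q + 1)) :=
    Subsingleton.elim _ _
  calc x = (x.comp (Ext.mk₀ i) (add_zero (q + 1))).comp (Ext.mk₀ r) (add_zero (q + 1)) := by
        rw [Ext.comp_assoc_of_second_deg_zero, Ext.mk₀_comp_mk₀, hr, Ext.comp_mk₀_id]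
    _ = 0 := by rw [h1, Ext.zero_comp]

theorem isLTorsion_univ_of_killedBy {m : ℕ} (hm : 0 < m) {I : EtCoh.Ab X} (hI : EtCoh.KilledBy m I) :
    EtAcyc.IsLTorsion Set.univ I :=
  fun U s x => ⟨U, 𝟙 U, m, ⟨x, rfl⟩, ⟨hm, fun _ _ _ => Set.mem_univ _⟩, hI U _⟩

/-- cohomology commutes with base change along a proper morphism -/
theorem cohCommutesWithBC_proper (f : X ⟶ Y) [IsProper f] [EtCoh.BCCont f] : EtPBC.CohCommutesWithBC f := by
  intro X' Y' f' g' g _ _ _ sq F hF q
  haveI := EtPullExact.pull_preservesFiniteLimits g'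
  haveI := isIso_bcQ_proper f g f' g' sq F (isLTorsion_univ_of_isTorsion hF) q
  exact ⟨asIso (EtBC.bcQ f g f' g' sq.w q F)⟩

/-- pullbacks of sheaves injective among the sheaves killed by `m` are acyclic along proper morphisms -/
theorem InjKilled.isZero_Rpush_pull {m : ℕ} (hm : 0 < m) {I : EtCoh.Ab X} (hI : EtCoh.KilledBy m I) (h : InjKilled m I)
    (f : X ⟶ Y) [IsProper f] {X' Y' : Scheme.{u}} (f' : X' ⟶ Y') (g' : X' ⟶ X) (g : Y' ⟶ Y)
    (sq : IsPullback g' f' f g) (q : ℕ) : IsZero ((EtCoh.Rpush f' (q + 1)).obj ((EtCoh.pull g').obj I)) := by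
  haveI := EtPullExact.pull_preservesFiniteLimits g'
  haveI := isIso_bcQ_proper f g f' g' sq I (isLTorsion_univ_of_killedBy hm hI) (q + 1)
  haveI : (EtCoh.pull g).Additive := (EtCoh.pullPushAdj g).left_adjoint_additive
  exact IsZero.of_iso ((EtCoh.pull g).map_isZero (h.isZero_Rpush hm hI f q))
    (asIso (EtBC.bcQ f g f' g' sq.w (q + 1) I)).symm

end Groth.Agent.EtPBC
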