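import Groth.Agent.EtPBC.GeomPt
import Groth.Agent.EtPBC.Acyclic
import Groth.Agent.EtPBC.Skyscraper
import Groth.Agent.EtAcycX.KilledColim
import Groth.Agent.EtMV.HofPush
import Groth.Agent.EtIntegral.Push
import Mathlib

/-!
# Cohomological dimension along proper morphisms
-/

set_option autoImplicit false
set_option backward.isDefEq.respectTransparency false
set_option backward.isDefEq.respectTransparency.types false
set_option linter.auxLemma false
set_option linter.style.haveILetI false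
set_option linter.unusedSectionVars false
set_option maxHeartbeats 1000000

universe u

open CategoryTheory CategoryTheory.Limits CategoryTheory.Abelian AlgebraicGeometry Opposite

noncomputable section

namespace Groth.Agent.EtPBC

attribute [local instance 100000] EtCoh.H._proof_1 EtMV.hext
attribute [local instance 200000] EtMV.hextAb

variable {X Y : Scheme.{u}}

/-- sheaves killed by a positive integer have no cohomology above `d` -/
def KVan (X : Scheme.{u}) (d : ℕ) : Prop :=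
  ∀ m : ℕ, 0 < m → ∀ F : EtCoh.Ab X, Killed m F → ∀ q : ℕ, d < q → Subsingleton (EtCoh.H X F q)

theorem subsingleton_H_of_iso {F G : EtCoh.Ab X} (e : F ≅ G) (q : ℕ) (h : Subsingleton (EtCoh.H X F q)) :
    Subsingleton (EtCoh.H X G q) := by
  haveI : Subsingleton ((EtCoh.HF X q).obj F) := h
  exact AddCommGrpCat.subsingleton_of_isZero
    ((AddCommGrpCat.isZero_of_subsingleton ((EtCoh.HF X q).obj F)).of_iso ((EtCoh.HF X q).mapIso e).symm)

theorem KVan.subsingleton_H {d : ℕ} (h : KVan X d) [CompactSpace X] [QuasiSeparatedSpace X] (F : EtCoh.Ab X)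
    (hF : EtAcyc.IsLTorsion Set.univ F) (q : ℕ) (hq : d < q) : Subsingleton (EtCoh.H X F q) := by
  obtain ⟨hc⟩ := EtAcycX.nonempty_isColimit_kdCocone Set.univ F hF
  haveI := EtColimH.preservesColimitsOfShape_HF (X := X) q (EtColimH.Expo.{u} (EtAcyc.PrimesIn Set.univ))
  refine subsingleton_of_forall_eq 0 fun c => ?_
  obtain ⟨a, ca, rfl⟩ := Concrete.isColimit_exists_rep _ (isColimitOfPreserves (EtCoh.HF X q) hc) c
  haveI := h _ a.down.down.2.1 ((EtAcycX.kdDiag Set.univ F).obj a)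
    ((killed_iff _ _).2 (EtAcycX.kd_tor F _)) q hq
  rw [show ca = 0 from @Subsingleton.elim (EtCoh.H X ((EtAcycX.kdDiag Set.univ F).obj a) q) _ _ _]
  exact map_zero _

/-- cohomology of an acyclic direct image -/
theorem subsingleton_H_iff_push (f : X ⟶ Y) (F : EtCoh.Ab X)
    (hR : ∀ q : ℕ, IsZero ((EtCoh.Rpush f (q + 1)).obj F)) (n : ℕ) :
    Subsingleton (EtCoh.H Y ((EtCoh.push f).obj F) n) ↔ Subsingleton (EtCoh.H X F n) := by
  haveI := EtPullExact.pull_preservesFiniteLimits f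
  exact (Equiv.ofBijective _ (EtMV.HofPush_bijective f F hR n)).subsingleton_congr

/-- a direct image with bounded higher direct images -/
theorem subsingleton_H_of_Rpush (f : X ⟶ Y) {m : ℕ} (hm : 0 < m) {b : ℕ}
    (hY : ∀ G : EtCoh.Ab Y, Killed m G → ∀ q : ℕ, b < q → Subsingleton (EtCoh.H Y G q)) : ∀ (a : ℕ)
    (F : EtCoh.Ab X), Killed m F → (∀ q : ℕ, a < q → IsZero ((EtCoh.Rpush f q).obj F)) →
    ∀ n : ℕ, a + b < n → Subsingleton (EtCoh.H X F n) := by
  intro a
  induction a with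
  | zero =>
    exact fun F hF hR n hn => (subsingleton_H_iff_push f F (fun q => hR (q + 1) q.succ_pos) n).1
      (hY _ (killed_push f hF) n (by omega))
  | succ a ih =>
    intro F hF hR n hn
    obtain ⟨J, hJ, i, hi⟩ := EtAcycX.exists_hullKd (m := m) ((killed_iff m F).1 hF)
    have hS : (ShortComplex.mk i (cokernel.π i) (cokernel.condition i)).ShortExact :=
      { exact := ShortComplex.exact_of_g_is_cokernel _ (cokernelIsCokernel i) }
    have hC : Killed m (cokernel i) := killed_of_epi (cokernel.π i) ((killed_iff m _).2 (EtAcycX.kd_tor J m))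
    have hR' : ∀ q : ℕ, a < q → IsZero ((EtCoh.Rpush f q).obj (cokernel i)) := by
      intro q hq
      obtain ⟨q, rfl⟩ : ∃ k, q = k + 1 := ⟨q - 1, by omega⟩
      exact ((RDerLib.derivedLES (EtCoh.push f)).exact₃ _ hS (q + 1) (q + 2) rfl).isZero_of_both_zeros
        ((EtAcycX.isZero_rpush_tor f J hm q).eq_of_src _ _) ((hR (q + 2) (by omega)).eq_of_tgt _ _)
    obtain ⟨k, rfl⟩ : ∃ k, n = k + 1 := ⟨n - 1, by omega⟩
    refine subsingleton_of_forall_eq 0 fun x => ?_
    haveI := EtAcycX.subsingleton_H_tor J hm k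
    obtain ⟨z, hz⟩ := Ext.covariant_sequence_exact₁ (EtCoh.const X ℤ) hS x
      (@Subsingleton.elim (EtCoh.H X (EtColimH.tor J m) (k + 1)) _ _ _) rfl
    haveI : Subsingleton (EtCoh.H X (cokernel i) k) := ih _ hC hR' k (by omega)
    rw [← hz, show z = 0 from @Subsingleton.elim (EtCoh.H X (cokernel i) k) _ _ _, Ext.zero_comp]

theorem isZero_of_isZero_stalks (G : EtCoh.Ab Y)
    (h : ∀ (Ω : Type u) [Field Ω] [IsSepClosed Ω] (ξ : Spec (CommRingCat.of Ω) ⟶ Y),
      IsZero ((EtCoh.stalk ξ).obj G)) : IsZero G :=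
  isZero_of_zeroAt G fun y => by
    obtain ⟨Ω, _, _, ξ, hξ⟩ := exists_geomPt y
    exact (isZero_stalk_iff_zeroAt hξ G).1 (h Ω ξ)

/-- stalks of higher direct images along proper morphisms -/
theorem isZero_stalk_Rpush (f : X ⟶ Y) [IsProper f] (F : EtCoh.Ab X) (hF : EtAcyc.IsLTorsion Set.univ F)
    {Ω : Type u} [Field Ω] [IsSepClosed Ω] (ξ : Spec (CommRingCat.of Ω) ⟶ Y) (n : ℕ)
    (h : Subsingleton (EtCoh.H (pullback f ξ) ((EtCoh.pull (pullback.fst f ξ)).obj F) n)) :
    IsZero ((EtCoh.stalk ξ).obj ((EtCoh.Rpush f n).obj F)) := by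
  obtain ⟨e⟩ := nonempty_stalk_Rpush_iso f ξ F hF n
  exact (AddCommGrpCat.isZero_of_subsingleton _).of_iso e

/-- the stalks of direct images vanish off the image of the support -/
theorem isZero_stalk_Rpush_of_zeroAt (f : X ⟶ Y) [IsProper f] (F : EtCoh.Ab X)
    (hF : EtAcyc.IsLTorsion Set.univ F) {Ω : Type u} [Field Ω] [IsSepClosed Ω]
    (ξ : Spec (CommRingCat.of Ω) ⟶ Y) (hξ : ∀ x : X, f x ∈ Set.range ξ → ZeroAt F x) (n : ℕ) :
    IsZero ((EtCoh.stalk ξ).obj ((EtCoh.Rpush f n).obj F)) :=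
  isZero_stalk_Rpush f F hF ξ n (subsingleton_H_of_isZero (isZero_of_zeroAt _ fun z =>
    zeroAt_pull _ F z (hξ _ ⟨(pullback.snd f ξ) z, congr($(pullback.condition (f := f) (g := ξ)) z).symm⟩)) n)

/-- the direct image is the zeroth derived functor -/
def pushZeroIso (f : X ⟶ Y) (F : EtCoh.Ab X) : (EtCoh.Rpush f 0).obj F ≅ (EtCoh.push f).obj F :=
  haveI : PreservesFiniteLimits (EtCoh.push f) :=
    haveI : (EtCoh.push f).IsRightAdjoint := (EtCoh.pullPushAdj f).isRightAdjoint
    inferInstance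
  (EtCoh.push f).rightDerivedZeroIsoSelf.app F

theorem zeroAt_push_of_zeroAt (f : X ⟶ Y) [IsProper f] (F : EtCoh.Ab X) (hF : EtAcyc.IsLTorsion Set.univ F) (y : Y)
    (hy : ∀ x : X, f x = y → ZeroAt F x) : ZeroAt ((EtCoh.push f).obj F) y := by
  obtain ⟨Ω, _, _, ξ, hξ⟩ := exists_geomPt y
  rw [← isZero_stalk_iff_zeroAt hξ]
  refine (isZero_stalk_Rpush_of_zeroAt f F hF ξ (fun x hx => hy x ?_) 0).of_iso
    ((EtCoh.stalk ξ).mapIso (pushZeroIso f F)).symm
  obtain ⟨z, hz⟩ := hx
  rw [← hz, Subsingleton.elim (α := Spec (CommRingCat.of Ω)) z default, hξ]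

theorem isLTorsion_univ_of_killed {m : ℕ} (hm : 0 < m) {F : EtCoh.Ab X} (hF : Killed m F) :
    EtAcyc.IsLTorsion Set.univ F :=
  isLTorsion_univ_of_killedBy hm hF

end Groth.Agent.EtPBC
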