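import Groth.Agent.EtPBC.Skyscraper
import Groth.Agent.EtMV.NormalIrr
import Mathlib

/-!
# The spectrum of the local ring at a maximal point

For a maximal point `x` of a noetherian scheme, `j : Spec 𝒪_{X,x} ⟶ X` is a one-point flat preimmersion.
-/

set_option autoImplicit false
set_option backward.isDefEq.respectTransparency false
set_option backward.isDefEq.respectTransparency.types false
set_option linter.auxLemma false
set_option linter.style.haveILetI false

universe u

open CategoryTheory CategoryTheory.Limits AlgebraicGeometry Opposite TopologicalSpace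
open Groth.Agent.EtFLC (res res_res res_id)

noncomputable section

namespace Groth.Agent.EtPBC

variable {X : Scheme.{u}}

/-- a point without proper generalisations -/
def IsMaxPt (x : X) : Prop := ∀ y : X, y ⤳ x → y = x

/-- the local scheme at a point -/
abbrev locScheme (x : X) : Scheme.{u} := Spec (X.presheaf.stalk x)

/-- its inclusion -/
abbrev locι (x : X) : locScheme x ⟶ X := X.fromSpecStalk x

theorem flat_locι (x : X) : Flat (locι x) := by
  obtain ⟨U, hU, hxU, -⟩ := exists_isAffineOpen_mem_and_subset (U := (⊤ : X.Opens)) (x := x) trivial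
  show Flat (X.fromSpecStalk x)
  rw [← hU.fromSpecStalk_eq_fromSpecStalk hxU, IsAffineOpen.fromSpecStalk]
  haveI : Flat (Spec.map (X.presheaf.germ U x hxU)) := by
    rw [HasRingHomProperty.Spec_iff (P := @Flat)]
    letI : Algebra Γ(X, U) (X.presheaf.stalk x) := (X.presheaf.germ U x hxU).hom.toAlgebra
    haveI := hU.isLocalization_stalk ⟨x, hxU⟩
    exact RingHom.flat_algebraMap_iff.2
      (IsLocalization.flat (X.presheaf.stalk x) (hU.primeIdealOf ⟨x, hxU⟩).asIdeal.primeCompl)
  infer_instance

variable {x : X} (hx : IsMaxPt x)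
include hx

theorem locι_apply (t : locScheme x) : locι x t = x := by
  have h : locι x t ∈ Set.range (X.fromSpecStalk x) := ⟨t, rfl⟩
  rw [Scheme.range_fromSpecStalk] at h
  exact hx _ h

theorem subsingleton_locScheme : Subsingleton (locScheme x) :=
  ⟨fun a b => (X.fromSpecStalk x).isEmbedding.injective ((locι_apply hx a).trans (locι_apply hx b).symm)⟩

theorem isArtinianScheme_locScheme [IsLocallyNoetherian X] : IsArtinianScheme (locScheme x) := by
  haveI := subsingleton_locScheme hx
  haveI : DiscreteTopology (locScheme x) :=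
    discreteTopology_iff_forall_isOpen.2 fun s => (Set.eq_empty_or_nonempty s).elim
      (fun h => h ▸ isOpen_empty) fun h => by
        rw [show s = Set.univ from Set.eq_univ_of_forall fun a => (Subsingleton.elim h.some a) ▸ h.some_mem]
        exact isOpen_univ
  exact IsArtinianScheme.iff_isNoetherian_and_discreteTopology.2 ⟨inferInstance, inferInstance⟩

theorem quasiCompact_locι [QuasiSeparatedSpace X] : QuasiCompact (locι x) := by
  haveI := subsingleton_locScheme hx
  exact ⟨fun s _ _ => (Set.toFinite (locι x ⁻¹' s)).isCompact⟩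

theorem isArtinianScheme_bc [IsLocallyNoetherian X] [QuasiSeparatedSpace X] (V : X.Etale) [IsAffine V.left] :
    IsArtinianScheme ((EtCoh.bc (locι x)).obj V).left := by
  haveI := quasiCompact_locι hx
  haveI := isArtinianScheme_locScheme hx
  let o := (EtCoh.bc (locι x)).obj V
  haveI : Etale o.hom := o.prop
  haveI := EtMV.lqf_of_etale o.hom
  haveI : IsLocallyNoetherian o.left :=
    @LocallyOfFiniteType.isLocallyNoetherian o.left (locScheme x) o.hom inferInstance inferInstance
  haveI : CompactSpace ↥((𝟭 Scheme).obj V.left) := inferInstanceAs (CompactSpace ↥(V.left))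
  haveI : CompactSpace o.left :=
    QuasiCompact.compactSpace_of_compactSpace (pullback.fst V.hom (locι x))
  haveI := subsingleton_locScheme hx
  haveI : DiscreteTopology o.left := by
    obtain ⟨t⟩ : Nonempty (locScheme x) := ⟨IsLocalRing.closedPoint (X.presheaf.stalk x)⟩
    have h : o.hom ⁻¹' {t} = Set.univ := Set.eq_univ_of_forall fun a => Subsingleton.elim (α := locScheme x) _ _
    have hd := o.hom.isDiscrete_preimage_singleton t
    rw [h, isDiscrete_iff_discreteTopology] at hd
    exact (Homeomorph.Set.univ o.left).symm.isEmbedding.discreteTopology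
  exact IsArtinianScheme.iff_isNoetherian_and_discreteTopology.2 ⟨{}, inferInstance⟩

omit hx in
theorem affine_bc [IsLocallyNoetherian X] [QuasiSeparatedSpace X] (hx : IsMaxPt x) (V : X.Etale)
    [IsAffine V.left] : IsAffine ((EtCoh.bc (locι x)).obj V).left := by
  haveI := isArtinianScheme_bc hx V
  haveI : Finite ((EtCoh.bc (locι x)).obj V).left := IsArtinianScheme.finite
  infer_instance

/-- an affine neighbourhood seeing at most one point over `x` -/
theorem exists_nhd [IsNoetherian X] (V : X.Etale) (v : V.left) (hv : IsMaxPt (V.hom v)) :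
    ∃ (W : X.Etale) (g : W ⟶ V) (w : W.left), IsAffine W.left ∧ g.left w = v ∧
      ∀ w' : W.left, W.hom w' = x → w' = w := by
  haveI : Etale V.hom := V.prop
  obtain ⟨A, hA, hvA, -⟩ := exists_isAffineOpen_mem_and_subset (U := (⊤ : V.left.Opens)) (x := v) trivial
  let S : Set V.left := {a | a ∈ A ∧ V.hom a = x ∧ a ≠ v}
  have hS : S.Finite := by
    let V' : X.Etale := MorphismProperty.Over.mk ⊤ (A.ι ≫ V.hom) (inferInstance : Etale (A.ι ≫ V.hom))
    haveI : IsAffine V'.left := hA
    haveI := isArtinianScheme_bc hx V'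
    haveI : Finite ((EtCoh.bc (locι x)).obj V').left := IsArtinianScheme.finite
    refine (Set.finite_range fun z : ((EtCoh.bc (locι x)).obj V').left =>
      A.ι (pullback.fst V'.hom (locι x) z)).subset fun a ha => ?_
    obtain ⟨z, hz, -⟩ := Scheme.Pullback.exists_preimage_pullback (f := V'.hom) (g := locι x)
      (⟨a, ha.1⟩ : A) (IsLocalRing.closedPoint (X.presheaf.stalk x))
      (ha.2.1.trans (Scheme.fromSpecStalk_closedPoint (x := x)).symm)
    exact ⟨z, congrArg A.ι hz⟩
  have hvS : v ∉ closure S := by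
    rw [← Set.biUnion_of_singleton S, hS.closure_biUnion]
    simp only [Set.mem_iUnion, not_exists]
    intro a ha hva
    have hav : a ⤳ v := specializes_iff_mem_closure.2 hva
    exact ha.2.2 (etale_eq_of_specializes hav (hv _ (hav.map V.hom.continuous)))
  obtain ⟨B, hB, hvB, hBA⟩ := exists_isAffineOpen_mem_and_subset
    (U := A ⊓ ⟨(closure S)ᶜ, isClosed_closure.isOpen_compl⟩) (x := v) ⟨hvA, hvS⟩
  let W : X.Etale := MorphismProperty.Over.mk ⊤ (B.ι ≫ V.hom) (inferInstance : Etale (B.ι ≫ V.hom))
  refine ⟨W, MorphismProperty.Over.homMk B.ι rfl, ⟨v, hvB⟩, hB, rfl, fun w' hw' => ?_⟩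
  by_contra h
  have hmem := hBA (show (w' : B).1 ∈ (B : Set V.left) from (w' : B).2)
  exact hmem.2 (subset_closure ⟨hmem.1, hw', fun e => h (Subtype.ext e)⟩)

omit hx in
/-- points of the base change lie over `x` -/
theorem bc_fst_over (hx : IsMaxPt x) (W : X.Etale) (z : ((EtCoh.bc (locι x)).obj W).left) :
    W.hom (pullback.fst W.hom (locι x) z) = x := by
  have hc := congrArg (fun m : pullback W.hom (locι x) ⟶ X => m z) (pullback.condition (f := W.hom) (g := locι x))
  exact hc.trans (locι_apply hx _)

/-- with one point over `x` the base change has one point -/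
theorem subsingleton_bc (W : X.Etale) (w : W.left) (hw : ∀ w' : W.left, W.hom w' = x → w' = w) :
    Subsingleton ((EtCoh.bc (locι x)).obj W).left := by
  refine ⟨fun a b => ?_⟩
  haveI : IsPreimmersion (pullback.fst W.hom (locι x)) :=
    MorphismProperty.pullback_fst _ _ (inferInstanceAs (IsPreimmersion (X.fromSpecStalk x)))
  exact (pullback.fst W.hom (locι x)).isEmbedding.injective
    ((hw _ (bc_fst_over hx W a)).trans (hw _ (bc_fst_over hx W b)).symm)

variable [IsNoetherian X]

/-- **germs of the direct image inject at maximal points over `x`** -/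
theorem injective_stalkPushHom (G : EtCoh.Ab (locScheme x)) {Ω : Type u} [Field Ω] [IsSepClosed Ω]
    (ζ : Spec (CommRingCat.of Ω) ⟶ locScheme x) :
    Function.Injective (EtPushStalk.stalkPushHom (locι x) ζ G) := by
  rw [injective_iff_map_eq_zero]
  intro z hz
  obtain ⟨V, v, t, rfl⟩ := GrothendieckTopology.Point.toPresheafFiber_jointly_surjective
    (Φ := Scheme.pointSmallEtale (ζ ≫ locι x)) (P := ((EtCoh.push (locι x)).obj G).obj) z
  rw [EtPushStalk.stalkPushHom_germ] at hz
  let v' : Over.mk (ζ ≫ locι x) ⟶ (Scheme.Etale.forget X).obj V := v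
  let v₀ : V.left := v'.left (default : ↥(Spec (CommRingCat.of Ω)))
  have hv₀ : V.hom v₀ = x := by
    have h := congrArg (fun m : Spec (CommRingCat.of Ω) ⟶ X => m (default : ↥(Spec (CommRingCat.of Ω))))
      (Over.w v')
    exact h.trans (locι_apply hx _)
  obtain ⟨W, g, w, hW, hgw, hw⟩ := exists_nhd hx V v₀ (hv₀.symm ▸ hx)
  haveI := subsingleton_bc hx W w hw
  refine (EtPushStalk.germ_eq_zero_iff _ (ζ ≫ locι x) V v' t).2 ((EtSect.mem_iff _ t v₀).2
    ⟨W, g, ⟨w, hgw⟩, ?_⟩)
  let o := (EtCoh.bc (locι x)).obj V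
  let p : o.left := (EtPushStalk.up (locι x) ζ v').left (default : ↥(Spec (CommRingCat.of Ω)))
  let t' : EtCoh.sect G o := t
  obtain ⟨W', b, ⟨w', hw'⟩, hb⟩ := (EtSect.mem_iff G t' p).1
    ((EtPushStalk.germ_eq_zero_iff G ζ o (EtPushStalk.up (locι x) ζ v') t').1 hz)
  show res G ((EtCoh.bc (locι x)).map g) t = 0
  refine EtFLC.sect_ext G (V := (EtCoh.bc (locι x)).obj W) fun q => ?_
  obtain ⟨P, a, c, hac, hP⟩ := EtSect.exists_pullback ((EtCoh.bc (locι x)).map g) b
  have hfst : pullback.fst V.hom (locι x) p = v₀ := by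
    show ((EtPushStalk.up (locι x) ζ v').left ≫ pullback.fst V.hom (locι x))
      (default : ↥(Spec (CommRingCat.of Ω))) = v₀
    rw [show (EtPushStalk.up (locι x) ζ v').left ≫ pullback.fst V.hom (locι x) = v'.left from
      pullback.lift_fst _ _ _]
    rfl
  have hq : ((EtCoh.bc (locι x)).map g).left q = p := by
    haveI : IsPreimmersion (pullback.fst V.hom (locι x)) :=
      MorphismProperty.pullback_fst _ _ (inferInstanceAs (IsPreimmersion (X.fromSpecStalk x)))
    refine (pullback.fst V.hom (locι x)).isEmbedding.injective ?_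
    have h1 := congrArg (fun m : ((EtCoh.bc (locι x)).obj W).left ⟶ V.left => m q)
      (EtCoh.isPullback_bc_map (locι x) g).w
    refine h1.trans ?_
    show g.left (pullback.fst W.hom (locι x) q) = _
    rw [hw _ (bc_fst_over hx W q), hgw, hfst]
  obtain ⟨r, hr⟩ := hP q w' (hq.trans hw'.symm)
  refine ⟨P, a, r, hr, ?_⟩
  rw [map_zero, res_res, hac, ← res_res G c b]
  exact (congrArg _ hb).trans (map_zero _)

/-- direct images have no stalks at other maximal points -/
theorem zeroAt_push (G : EtCoh.Ab (locScheme x)) (y : X) (hy : IsMaxPt y) (hne : y ≠ x) :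
    ZeroAt ((EtCoh.push (locι x)).obj G) y := by
  intro V s v hv
  obtain ⟨W, g, w, hW, hgw, hw⟩ := exists_nhd hx V v (hv.symm ▸ hy)
  have hwy : W.hom w = y := by
    rw [← hv, ← hgw]
    exact (congrArg (fun m : W.left ⟶ X => m w) (MorphismProperty.Over.w g)).symm
  refine (EtSect.mem_iff _ s v).2 ⟨W, g, ⟨w, hgw⟩, ?_⟩
  show res G ((EtCoh.bc (locι x)).map g) s = 0
  refine EtFLC.sect_ext G (V := (EtCoh.bc (locι x)).obj W) fun q => absurd ?_ hne
  exact hwy.symm.trans ((congrArg W.hom (hw _ (bc_fst_over hx W q))).symm.trans (bc_fst_over hx W q))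

/-- the unit is bijective on stalks over `x` -/
theorem bijective_stalk_unit_loc (F : EtCoh.Ab X) :
    ∃ (Ω : Type u) (_ : Field Ω) (_ : IsSepClosed Ω) (ξ : Spec (CommRingCat.of Ω) ⟶ X),
      ξ (default : ↥(Spec (CommRingCat.of Ω))) = x ∧
      Function.Bijective ((EtCoh.stalk ξ).map ((EtCoh.pullPushAdj (locι x)).unit.app F)) := by
  obtain ⟨Ω, _, _, ζ, -⟩ := exists_geomPt (X := locScheme x) (IsLocalRing.closedPoint (X.presheaf.stalk x))
  exact ⟨Ω, inferInstance, inferInstance, ζ ≫ locι x, locι_apply hx _,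
    bijective_stalk_unit (locι x) F ζ (injective_stalkPushHom hx _ ζ)⟩

end Groth.Agent.EtPBC
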