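import Groth.Agent.EtPBC.CdModel
import Groth.Agent.EtPushStalk.Unit
import Groth.Agent.Unibranch.Noether
import Mathlib

/-!
# Cohomological dimension of proper schemes over separably closed fields
-/

set_option autoImplicit false
set_option backward.isDefEq.respectTransparency false
set_option backward.isDefEq.respectTransparency.types false
set_option linter.auxLemma false
set_option linter.style.haveILetI false
set_option linter.unusedSectionVars false
set_option maxHeartbeats 1000000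

universe u

open CategoryTheory CategoryTheory.Limits CategoryTheory.Abelian AlgebraicGeometry Opposite TopologicalSpace

noncomputable section

namespace Groth.Agent.EtPBC

attribute [local instance 100000] EtCoh.H._proof_1 EtMV.hext
attribute [local instance 200000] EtMV.hextAb

section Stalks

variable {Γs Y U : Scheme.{u}}

/-- the stalk of a direct image injects where the map is an isomorphism -/
theorem injective_stalkPushHom_of_open (q : Γs ⟶ Y) [IsProper q] (s : U ⟶ Γs) [IsOpenImmersion (s ≫ q)]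
    (hrange : ∀ γ : Γs, q γ ∈ Set.range (s ≫ q) → γ ∈ Set.range s) {Ω : Type u} [Field Ω] [IsSepClosed Ω]
    (ζ : Spec (CommRingCat.of Ω) ⟶ U) (G : EtCoh.Ab Γs) :
    Function.Injective (EtPushStalk.stalkPushHom q (ζ ≫ s) G) := by
  refine (injective_iff_map_eq_zero _).2 fun z hz => ?_
  obtain ⟨V, v, t, rfl⟩ := GrothendieckTopology.Point.toPresheafFiber_jointly_surjective
    (Φ := Scheme.pointSmallEtale ((ζ ≫ s) ≫ q)) (P := ((EtCoh.push q).obj G).obj) z
  have hw := (EtPushStalk.stalkPushHom_germ (ζ ≫ s) G V v t).symm.trans hz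
  have h0 := (EtPushStalk.germ_eq_zero_iff G (ζ ≫ s) ((EtCoh.bc q).obj V) (EtPushStalk.up q (ζ ≫ s) v) t).1 hw
  refine (EtPushStalk.germ_eq_zero_iff ((EtCoh.push q).obj G) _ V v t).2 ?_
  let f : ((EtCoh.bc q).obj V).left ⟶ V.left := pullback.fst V.hom q
  let v₀ := v.left (default : Spec (CommRingCat.of Ω))
  let S := EtShriek.sectSupp G ((EtCoh.bc q).obj V) t
  haveI : IsProper (pullback.fst V.hom q) := inferInstance
  have hf : IsClosedMap f := (pullback.fst V.hom q).isClosedMap
  have hout : v₀ ∉ f '' S := by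
    rintro ⟨w, hwS, hwv⟩
    let w₁ := (pullback.snd V.hom q) w
    have hq : q w₁ = (s ≫ q) (ζ (default : Spec (CommRingCat.of Ω))) := by
      have h1 : q w₁ = V.hom (f w) := congr($(pullback.condition (f := V.hom) (g := q)) w).symm
      have h2 : V.hom v₀ = ((ζ ≫ s) ≫ q) (default : Spec (CommRingCat.of Ω)) :=
        congrArg (fun g : Spec (CommRingCat.of Ω) ⟶ Y => g (default : Spec (CommRingCat.of Ω))) (Over.w v)
      rw [h1, hwv, h2]
      rfl
    obtain ⟨x, hx⟩ := hrange w₁ ⟨_, hq.symm⟩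
    let m : pullback V.hom (s ≫ q) ⟶ pullback V.hom q :=
      pullback.map _ _ _ _ (𝟙 _) s (𝟙 _) (by simp) (by simp)
    have hm : Set.range m = (pullback.fst V.hom q) ⁻¹' Set.univ ∩ (pullback.snd V.hom q) ⁻¹' Set.range s := by
      rw [Scheme.Pullback.range_map]
      simp
    let a₀ : Spec (CommRingCat.of Ω) ⟶ pullback V.hom (s ≫ q) :=
      pullback.lift v.left ζ ((Over.w v).trans (Category.assoc _ _ _))
    have hmf : m ≫ pullback.fst V.hom q = pullback.fst V.hom (s ≫ q) :=
      (pullback.lift_fst _ _ _).trans (Category.comp_id _)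
    have hms : m ≫ pullback.snd V.hom q = pullback.snd V.hom (s ≫ q) ≫ s := pullback.lift_snd _ _ _
    have hup : (EtPushStalk.up q (ζ ≫ s) v).left = a₀ ≫ m := by
      show pullback.lift v.left (ζ ≫ s) (Over.w v) = _
      apply pullback.hom_ext
      · refine (pullback.lift_fst _ _ _).trans (Eq.symm ?_)
        exact (Category.assoc _ _ _).trans ((congrArg (a₀ ≫ ·) hmf).trans (pullback.lift_fst _ _ _))
      · refine (pullback.lift_snd _ _ _).trans (Eq.symm ?_)
        exact (Category.assoc _ _ _).trans ((congrArg (a₀ ≫ ·) hms).trans (pullback.lift_snd_assoc _ _ _ _))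
    obtain ⟨a, ha⟩ : w ∈ Set.range m := hm.symm ▸ ⟨trivial, x, hx⟩
    have hinj : Function.Injective (pullback.fst V.hom (s ≫ q)) :=
      (pullback.fst V.hom (s ≫ q)).isOpenEmbedding.injective
    have he : a = a₀ (default : Spec (CommRingCat.of Ω)) := by
      refine hinj ?_
      have h1 : (pullback.fst V.hom (s ≫ q)) a = f w := by rw [← ha, ← hmf]; rfl
      rw [h1, hwv]
      have h2 : a₀ ≫ pullback.fst V.hom (s ≫ q) = v.left := pullback.lift_fst _ _ _
      exact congr($(h2.symm) (default : Spec (CommRingCat.of Ω)))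
    apply h0
    rw [hup]
    show m (a₀ (default : Spec (CommRingCat.of Ω))) ∈ S
    rw [← he, ha]
    exact hwS
  have := V.prop
  let O : V.left.Opens := ⟨(f '' S)ᶜ, (hf _ (EtSect.isClosed_sectSupp G t)).isOpen_compl⟩
  let V' : Y.Etale := Scheme.Etale.mk (O.ι ≫ V.hom)
  let a : V' ⟶ V := MorphismProperty.Over.homMk O.ι rfl
  refine (EtSect.mem_iff _ _ _).2 ⟨V', a, ⟨⟨v₀, hout⟩, rfl⟩, ?_⟩
  refine (EtSect.map_eq_zero_iff G t ((EtCoh.bc q).map a)).2 ?_
  rintro _ ⟨y, rfl⟩ hy
  exact (pullback.fst V'.hom q y).2 ⟨_, hy, congr($((EtCoh.isPullback_bc_map q a).w) y)⟩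

/-- a sheaf supported in a quasi-finite open piece is acyclic along a proper map -/
theorem isZero_Rpush_of_lqf (p : Γs ⟶ Y) [IsProper p] (s : U ⟶ Γs) [IsOpenImmersion s] [LocallyQuasiFinite (s ≫ p)]
    (G : EtCoh.Ab Γs) {m : ℕ} (hm : 0 < m) (hG : Killed m G) (hs : ∀ γ : Γs, γ ∉ Set.range s → ZeroAt G γ) (n : ℕ) :
    IsZero ((EtCoh.Rpush p (n + 1)).obj G) := by
  refine isZero_of_isZero_stalks _ fun Ω _ _ ξ => ?_
  refine isZero_stalk_Rpush p G (isLTorsion_univ_of_killed hm hG) ξ (n + 1) ?_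
  haveI := isNoetherian_of_field (pullback.snd p ξ)
  haveI : JacobsonSpace ↥(pullback p ξ) := LocallyOfFiniteType.jacobsonSpace (pullback.snd p ξ)
  refine subsingleton_H_of_suppClosed (isSepClosed_of_isClosed (pullback.snd p ξ)) _ (fun z hz => ?_) _ n.succ_pos
  refine zeroAt_pull _ G z (hs _ fun hzs => hz ?_)
  let W := pullback (s ≫ p) ξ
  let ι : W ⟶ pullback p ξ := pullback.map _ _ _ _ s (𝟙 _) (𝟙 _) (by simp) (by simp)
  have hι : Set.range ι = (pullback.fst p ξ) ⁻¹' Set.range s ∩ (pullback.snd p ξ) ⁻¹' Set.univ := by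
    rw [Scheme.Pullback.range_map]
    simp
  obtain ⟨w, rfl⟩ : z ∈ Set.range ι := hι.symm ▸ ⟨hzs, trivial⟩
  haveI : LocallyQuasiFinite (pullback.snd (s ≫ p) ξ) := inferInstance
  haveI : DiscreteTopology W := by
    have h := (pullback.snd (s ≫ p) ξ).isDiscrete_preimage_singleton (default : Spec (CommRingCat.of Ω))
    rw [show (pullback.snd (s ≫ p) ξ) ⁻¹' {(default : Spec (CommRingCat.of Ω))} = Set.univ from
      Set.eq_univ_of_forall fun x => Subsingleton.elim (α := Spec (CommRingCat.of Ω)) _ _] at h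
    exact isDiscrete_univ_iff.1 h
  refine isClosed_singleton_of_isLocallyClosed_singleton ?_
  rw [← Set.image_singleton]
  exact (ι.isOpenEmbedding.isOpenMap _ (isOpen_discrete ({w} : Set W))).isLocallyClosed

end Stalks

variable {k : Type u} [Field k] [IsSepClosed k]

theorem eq_zero_of_isEmpty {Z : Scheme.{u}} (F : EtCoh.Ab Z) (h : ∀ z, ZeroAt F z) (q : ℕ) :
    Subsingleton (EtCoh.H Z F q) := subsingleton_H_of_isZero (isZero_of_zeroAt F h) q

/-- sheaves supported in an affine open of dimension at most `n` of a proper scheme -/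
theorem subsingleton_H_of_supported {Z : Scheme.{u}} (c : Z ⟶ Spec (CommRingCat.of k)) [IsProper c] (U : Z.Opens)
    (hU : IsAffineOpen U) (n : ℕ) (hdim : ringKrullDim Γ(Z, U) ≤ n) {m : ℕ} (hm : 0 < m) (F : EtCoh.Ab Z)
    (hF : Killed m F) (hsupp : ∀ z : Z, z ∉ U → ZeroAt F z) (q : ℕ) (hq : 2 * n < q) :
    Subsingleton (EtCoh.H Z F q) := by
  by_cases hne : ∀ z : Z, z ∉ U
  · exact eq_zero_of_isEmpty F (fun z => hsupp z (hne z)) q
  push Not at hne
  obtain ⟨z₀, hz₀⟩ := hne
  let A := Γ(Z, U)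
  haveI : Nontrivial A := by
    haveI : Nonempty U := ⟨⟨z₀, hz₀⟩⟩
    exact Scheme.component_nontrivial Z U
  let φ : CommRingCat.of k ⟶ Γ(Z, U) := Spec.preimage (hU.fromSpec ≫ c)
  have hφ : LocallyOfFiniteType (Spec.map φ) := by rw [Spec.map_preimage]; infer_instance
  rw [HasRingHomProperty.Spec_iff (P := @LocallyOfFiniteType)] at hφ
  letI := φ.hom.toAlgebra
  haveI : Algebra.FiniteType k A := hφ
  obtain ⟨d, g, hgi, hgf⟩ := exists_finite_inj_algHom_of_fg k A
  have hd : d ≤ n := by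
    rw [Unibranch.ringKrullDim_eq_of_finite_inj g hgi hgf] at hdim
    exact_mod_cast hdim
  obtain ⟨Q, b, hb, J, hJ, hJb, hQ⟩ := exists_model (k := k) d
  let π := Spec.map (CommRingCat.ofHom g.toRingHom)
  haveI : IsFinite π := (IsFinite.SpecMap_iff _).2 hgf
  have hc : hU.fromSpec ≫ c = (π ≫ J) ≫ b := by
    rw [Category.assoc, hJb, ← Spec.map_comp, ← Spec.map_preimage (hU.fromSpec ≫ c)]
    exact congrArg Spec.map (CommRingCat.hom_ext (RingHom.ext fun x => (g.commutes x).symm))
  let g₀ : Spec Γ(Z, U) ⟶ pullback c b := pullback.lift hU.fromSpec (π ≫ J) hc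
  haveI : IsNoetherianRing Γ(Z, U) := Algebra.FiniteType.isNoetherianRing k A
  haveI : IsImmersion (g₀ ≫ pullback.fst c b) := by rw [pullback.lift_fst]; infer_instance
  haveI : IsImmersion g₀ := IsImmersion.of_comp g₀ (pullback.fst c b)
  haveI : QuasiCompact g₀ := inferInstance
  let q₁ := g₀.imageι ≫ pullback.fst c b
  let q₂ := g₀.imageι ≫ pullback.snd c b
  let s := g₀.toImage
  have hs₁ : s ≫ q₁ = hU.fromSpec := by
    rw [Scheme.Hom.toImage_imageι_assoc, pullback.lift_fst]
  have hs₂ : s ≫ q₂ = π ≫ J := by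
    rw [Scheme.Hom.toImage_imageι_assoc, pullback.lift_snd]
  haveI : IsOpenImmersion (s ≫ q₁) := by rw [hs₁]; infer_instance
  haveI : LocallyQuasiFinite (s ≫ q₁) := inferInstance
  haveI : LocallyQuasiFinite (s ≫ q₂) := by rw [hs₂]; infer_instance
  have hrange : ∀ γ, q₁ γ ∈ Set.range (s ≫ q₁) → γ ∈ Set.range s := by
    intro γ hγ
    rw [hs₁, hU.range_fromSpec] at hγ
    let W := pullback.fst c b ⁻¹ᵁ U
    have hWr : Set.range (W.ι ≫ pullback.fst c b) ⊆ Set.range hU.fromSpec := by
      rintro _ ⟨w, rfl⟩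
      rw [hU.range_fromSpec]
      exact w.2
    let h := IsOpenImmersion.lift hU.fromSpec (W.ι ≫ pullback.fst c b) hWr
    have hg₀ : Set.range g₀ ⊆ Set.range W.ι := by
      rw [Scheme.Opens.range_ι]
      rintro _ ⟨a, rfl⟩
      show (g₀ ≫ pullback.fst c b) a ∈ U
      rw [pullback.lift_fst]
      exact hU.range_fromSpec.le (Set.mem_range_self a)
    let g' := IsOpenImmersion.lift W.ι g₀ hg₀
    have hg' : g' ≫ W.ι = g₀ := IsOpenImmersion.lift_fac _ _ _
    have hgh : g' ≫ h = 𝟙 _ := by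
      rw [← cancel_mono hU.fromSpec, Category.assoc, IsOpenImmersion.lift_fac, reassoc_of% hg', pullback.lift_fst,
        Category.id_comp]
    haveI : IsSeparated (h ≫ hU.fromSpec) := by rw [IsOpenImmersion.lift_fac]; infer_instance
    haveI : IsSeparated h := IsSeparated.of_comp h hU.fromSpec
    haveI : IsClosedImmersion (g' ≫ h) := by rw [hgh]; infer_instance
    haveI : IsClosedImmersion g' := IsClosedImmersion.of_comp g' h
    have h1 : g₀.imageι γ ∈ closure (Set.range g₀) := by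
      have h2 : g₀.imageι γ ∈ g₀.imageι '' closure (Set.range s) :=
        ⟨γ, (Scheme.Hom.denseRange s) γ, rfl⟩
      refine closure_mono ?_ (image_closure_subset_closure_image g₀.imageι.continuous h2)
      rintro _ ⟨_, ⟨a, rfl⟩, rfl⟩
      exact ⟨a, congr($(g₀.toImage_imageι.symm) a)⟩
    have h3 : (⟨g₀.imageι γ, hγ⟩ : W) ∈ closure (Set.range g') := by
      rw [W.ι.isEmbedding.isInducing.closure_eq_preimage_closure_image]
      refine closure_mono ?_ h1
      rintro _ ⟨a, rfl⟩
      exact ⟨g' a, ⟨a, rfl⟩, congr($hg' a)⟩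
    rw [g'.isClosedEmbedding.isClosed_range.closure_eq] at h3
    obtain ⟨a, ha⟩ := h3
    refine ⟨a, g₀.imageι.isClosedEmbedding.injective ?_⟩
    exact congr($(g₀.toImage_imageι.trans hg'.symm) a).trans (congrArg W.ι ha)
  let G := (EtCoh.pull q₁).obj F
  have hG : Killed m G := killed_pull q₁ hF
  have hG0 : ∀ γ, γ ∉ Set.range s → ZeroAt G γ := fun γ hγ =>
    zeroAt_pull q₁ F γ (hsupp _ fun h => hγ (hrange γ (by rw [hs₁, hU.range_fromSpec]; exact h)))
  let u : F ⟶ (EtCoh.push q₁).obj G := (EtCoh.pullPushAdj q₁).unit.app F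
  have hz : ∀ z, ZeroAt (kernel u) z ∧ ZeroAt (cokernel u) z := by
    intro z
    by_cases hzU : z ∈ U
    · obtain ⟨a, rfl⟩ : z ∈ Set.range hU.fromSpec := hU.range_fromSpec.symm ▸ hzU
      obtain ⟨Ω, _, _, ζ, hζ⟩ := exists_geomPt a
      have hb := bijective_stalk_unit q₁ F (ζ ≫ s) (injective_stalkPushHom_of_open q₁ s hrange ζ G)
      have hξ : ((ζ ≫ s) ≫ q₁) (default : Spec (CommRingCat.of Ω)) = hU.fromSpec a := by
        rw [Category.assoc, hs₁, Scheme.Hom.comp_apply, hζ]
      exact ⟨zeroAt_kernel hξ u hb.1, zeroAt_cokernel hξ u hb.2⟩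
    · refine ⟨zeroAt_of_mono (kernel.ι u) (hsupp z hzU), zeroAt_of_epi (cokernel.π u) ?_⟩
      refine zeroAt_push_of_zeroAt q₁ G (isLTorsion_univ_of_killed hm hG) z fun γ hγ => hG0 γ ?_
      rintro ⟨a, rfl⟩
      refine hzU (hγ ▸ ?_)
      rw [← Scheme.Hom.comp_apply, hs₁]
      exact hU.range_fromSpec.le (Set.mem_range_self a)
  haveI : Mono u := Preadditive.mono_of_isZero_kernel u (isZero_of_zeroAt _ fun z => (hz z).1)
  haveI : Epi u := Preadditive.epi_of_isZero_cokernel u (isZero_of_zeroAt _ fun z => (hz z).2)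
  haveI : IsIso u := isIso_of_mono_of_epi u
  refine subsingleton_H_of_iso (asIso u).symm q ((subsingleton_H_iff_push q₁ G
    (isZero_Rpush_of_lqf q₁ s G hm hG hG0) q).2 ?_)
  refine subsingleton_H_of_Rpush q₂ hm (hQ m hm) 0 G hG (fun r hr => ?_) q (by omega)
  obtain ⟨r, rfl⟩ : ∃ j, r = j + 1 := ⟨r - 1, by omega⟩
  exact isZero_Rpush_of_lqf q₂ s G hm hG hG0 r

/-- proper schemes of dimension at most `n` over separably closed fields have cohomological dimension at most `2n` -/
theorem kVan_proper {X : Scheme.{u}} (c : X ⟶ Spec (CommRingCat.of k)) [IsProper c] (n : ℕ)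
    (hdim : topologicalKrullDim X ≤ n) : KVan X (2 * n) := by
  haveI := isNoetherian_of_field c
  suffices h : ∀ (C : Closeds X) (Z : Scheme.{u}) (i : Z ⟶ X), IsClosedImmersion i → Set.range i ⊆ C →
      KVan Z (2 * n) from h ⊤ X (𝟙 X) inferInstance (Set.subset_univ _)
  intro C
  induction C using WellFoundedLT.induction with
  | _ C ih =>
    intro Z i hi hC m hm F hF q hq
    by_cases hZ : IsEmpty Z
    · exact eq_zero_of_isEmpty F (fun z => isEmptyElim z) q
    obtain ⟨z⟩ := not_isEmpty_iff.1 hZ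
    obtain ⟨U, hU, hzU, -⟩ := exists_isAffineOpen_mem_and_subset (x := z) (U := (⊤ : Z.Opens)) trivial
    let D : Closeds Z := ⟨(U : Set Z)ᶜ, U.isOpen.isClosed_compl⟩
    let I := Scheme.IdealSheafData.vanishingIdeal D
    let t := I.subschemeι
    have ht : Set.range t = (U : Set Z)ᶜ := by
      rw [Scheme.IdealSheafData.range_subschemeι]
      exact Scheme.IdealSheafData.coe_support_vanishingIdeal D
    let C' : Closeds X := ⟨i '' (U : Set Z)ᶜ, i.isClosedEmbedding.isClosedMap _ U.isOpen.isClosed_compl⟩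
    have hlt : C' < C := by
      refine lt_of_le_not_ge (fun x hx => ?_) fun h => ?_
      · obtain ⟨y, -, rfl⟩ := hx
        exact hC ⟨y, rfl⟩
      · obtain ⟨y, hy, he⟩ := h (hC ⟨z, rfl⟩)
        exact hy (i.isClosedEmbedding.injective he ▸ hzU)
    have hT : KVan I.subscheme (2 * n) := ih C' hlt _ (t ≫ i) inferInstance (by
      rintro _ ⟨y, rfl⟩
      exact ⟨t y, ht ▸ Set.mem_range_self y, rfl⟩)
    let u : F ⟶ (EtCoh.push t).obj ((EtCoh.pull t).obj F) := (EtCoh.pullPushAdj t).unit.app F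
    have hker : ∀ y : Z, y ∉ U → ZeroAt (kernel u) y := fun y hy => by
      obtain ⟨w, hw⟩ : y ∈ Set.range t := ht.symm ▸ hy
      obtain ⟨Ω, _, _, ξ, hξ, hb⟩ := bijective_stalk_unit_at t (EtPushStalk.liftProp_of_closedImmersion t) F w hw
      exact zeroAt_kernel hξ u hb.1
    have hcok : IsZero (cokernel u) := isZero_of_zeroAt _ fun y => by
      by_cases hy : y ∈ U
      · refine zeroAt_of_epi (cokernel.π u) (zeroAt_push_of_zeroAt t _
          (isLTorsion_univ_of_killed hm (killed_pull t hF)) y fun w hw => absurd hy ?_)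
        exact hw ▸ ((ht ▸ Set.mem_range_self w : t w ∈ (U : Set Z)ᶜ))
      · obtain ⟨w, hw⟩ : y ∈ Set.range t := ht.symm ▸ hy
        obtain ⟨Ω, _, _, ξ, hξ, hb⟩ := bijective_stalk_unit_at t (EtPushStalk.liftProp_of_closedImmersion t) F w hw
        exact zeroAt_cokernel hξ u hb.2
    haveI : Epi u := Preadditive.epi_of_isZero_cokernel u hcok
    have hS : (ShortComplex.mk (kernel.ι u) u (kernel.condition u)).ShortExact :=
      { exact := ShortComplex.exact_of_f_is_kernel _ (kernelIsKernel u) }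
    have hUdim : ringKrullDim Γ(Z, U) ≤ n := by
      rw [← PrimeSpectrum.topologicalKrullDim_eq_ringKrullDim]
      exact (hU.fromSpec.isOpenEmbedding.isInducing.topologicalKrullDim_le.trans
        i.isClosedEmbedding.isInducing.topologicalKrullDim_le).trans hdim
    haveI : IsProper (i ≫ c) := inferInstance
    have hK : Subsingleton (EtCoh.H Z (kernel u) q) :=
      subsingleton_H_of_supported (i ≫ c) U hU n hUdim hm _ (killed_of_mono (kernel.ι u) hF) hker q hq
    have hP : Subsingleton (EtCoh.H Z ((EtCoh.push t).obj ((EtCoh.pull t).obj F)) q) :=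
      (subsingleton_H_iff_push t _ (EtIntegral.Rpush_succ_isZero t _) q).2 (hT m hm _ (killed_pull t hF) q hq)
    refine subsingleton_of_forall_eq 0 fun x => ?_
    obtain ⟨y, hy⟩ := Ext.covariant_sequence_exact₂ (EtCoh.const Z ℤ) hS x
      (@Subsingleton.elim (EtCoh.H Z ((EtCoh.push t).obj ((EtCoh.pull t).obj F)) q) hP _ _)
    rw [← hy, show y = 0 from @Subsingleton.elim (EtCoh.H Z (kernel u) q) hK _ _, Ext.zero_comp]

/-- the bound for torsion sheaves -/
theorem subsingleton_H_proper {X : Scheme.{u}} (c : X ⟶ Spec (CommRingCat.of k)) [IsProper c] (n : ℕ)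
    (hdim : topologicalKrullDim X ≤ n) (F : EtCoh.Ab X) (hF : EtAcyc.IsLTorsion Set.univ F) (q : ℕ)
    (hq : 2 * n < q) : Subsingleton (EtCoh.H X F q) := by
  haveI := isNoetherian_of_field c
  exact (kVan_proper c n hdim).subsingleton_H F hF q hq

end Groth.Agent.EtPBC
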