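import Groth.Agent.EtPBC.PointDiv
import Groth.Agent.EtPBC.CurveGm
import Groth.Agent.EtPBC.CdFibre
import Groth.Agent.EtPBC.Curve
import Mathlib

/-!
# Degree two cohomology of smooth affine curves
-/

set_option autoImplicit false
set_option backward.isDefEq.respectTransparency false
set_option backward.isDefEq.respectTransparency.types false
set_option linter.auxLemma false
set_option linter.style.haveILetI false
set_option linter.unusedSectionVars false
set_option maxHeartbeats 1000000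

universe u

open CategoryTheory CategoryTheory.Limits CategoryTheory.Abelian AlgebraicGeometry Opposite IsLocalRing TopologicalSpace
open Groth.Agent.EtFLC (res res_res res_id)
open Groth.Agent.EtPicLib (oval oval_rr ofO oval_ofO oval_injective)

noncomputable section

namespace Groth.Agent.EtPBC

attribute [local instance 100000] EtCoh.H._proof_1 EtMV.hext
attribute [local instance 200000] EtMV.hextAb

/-- powers of an equation -/
def DivDat.npow {X : Scheme.{u}} {V U : X.Opens} (D : DivDat X V U) (m : ℕ) : DivDat X V U where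
  cover := D.cover
  a := D.a ^ m
  unit := by rw [map_pow]; exact D.unit.pow m

theorem DivDat.cls_npow {X : Scheme.{u}} {V U : X.Opens} (D : DivDat X V U) : ∀ m : ℕ, (D.npow m).cls = m • D.cls
  | 0 => by rw [zero_smul]; exact (D.npow 0).cls_eq_zero (by simp [DivDat.npow])
  | m + 1 => by
    rw [succ_nsmul, ← DivDat.cls_npow D m, ← DivDat.cls_mul]
    exact DivDat.cls_congr _ _ (pow_succ _ _)

/-- equations differing by a unit at the point have the same class -/
theorem DivDat.cls_eq_of_germ {X : Scheme.{u}} {x : X} (hx : IsClosed ({x} : Set X)) {V V' U U' : X.Opens}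
    (hV : V = compl₁ hx) (hV' : V' = compl₁ hx) (D : DivDat X V U) (E : DivDat X V' U') (hxU : x ∈ U) (hxU' : x ∈ U')
    {v : X.presheaf.stalk x} (hv : IsUnit v)
    (hvb : X.presheaf.germ U' x hxU' E.a = v * X.presheaf.germ U x hxU D.a) : E.cls = D.cls := by
  subst hV hV'
  obtain ⟨W, hxW, v', rfl⟩ := X.presheaf.germ_exist v
  have hxv : x ∈ X.basicOpen v' := (X.mem_basicOpen _ _ hxW).2 hv
  have e0 : X.presheaf.germ (U' ⊓ (U ⊓ W)) x ⟨hxU', hxU, hxW⟩ (X.presheaf.map (homOfLE inf_le_left).op E.a) =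
      X.presheaf.germ (U' ⊓ (U ⊓ W)) x ⟨hxU', hxU, hxW⟩ (X.presheaf.map (homOfLE (inf_le_right.trans inf_le_right)).op v' *
        X.presheaf.map (homOfLE (inf_le_right.trans inf_le_left)).op D.a) := by
    rw [map_mul, X.presheaf.germ_res_apply, X.presheaf.germ_res_apply, X.presheaf.germ_res_apply]
    exact hvb
  obtain ⟨W', hxW', i₁, i₂, hW'⟩ := X.presheaf.germ_eq x _ _ _ _ e0
  let U'' := X.basicOpen v' ⊓ W'
  have hU'' : U'' ≤ U' ⊓ (U ⊓ W) := inf_le_right.trans i₁.le
  have hc := compl₁_cover hx (show x ∈ U'' from ⟨hxv, hxW'⟩)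
  rw [← E.cls_restrict le_rfl (hU''.trans inf_le_left) hc,
    ← D.cls_restrict le_rfl (hU''.trans (inf_le_right.trans inf_le_left)) hc]
  refine DivDat.cls_eq_of_unit _ _
    (v := X.presheaf.map (homOfLE (hU''.trans (inf_le_right.trans inf_le_right))).op v') ?_ ?_
  · rw [show homOfLE (hU''.trans (inf_le_right.trans inf_le_right)) =
      homOfLE (inf_le_left : U'' ≤ X.basicOpen v') ≫ homOfLE (X.basicOpen_le v') from rfl, op_comp, Functor.map_comp,
      ConcreteCategory.comp_apply]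
    exact (AlgebraicGeometry.RingedSpace.isUnit_res_basicOpen X.toSheafedSpace v').map _
  · have h := congrArg (X.presheaf.map (homOfLE (inf_le_right : U'' ≤ W')).op) hW'
    rw [map_mul, map_mul] at h
    simp only [← ConcreteCategory.comp_apply, ← Functor.map_comp] at h
    exact h

variable {k : Type u} [Field k] [IsAlgClosed k] {X : Scheme.{u}} [IsIntegral X]
  (c : X ⟶ Spec (CommRingCat.of k)) [IsProper c] (hdim : topologicalKrullDim X ≤ 1)
  (hreg : ∀ x : X, IsClosed ({x} : Set X) → ∃ t, maximalIdeal (X.presheaf.stalk x) = Ideal.span {t})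
include c hdim hreg

omit hreg in
theorem isMaxPt_iff_eq_genericPoint (z : X) : IsMaxPt z ↔ z = genericPoint X := by
  refine ⟨fun h => (h _ ((genericPoint_spec X).specializes (Set.mem_univ z))).symm, ?_⟩
  rintro rfl y hy
  exact (hy.antisymm ((genericPoint_spec X).specializes (Set.mem_univ y))).eq

omit hdim in
theorem genAt_ne_zero {x : X} (hx : IsClosed ({x} : Set X)) (hne : x ≠ genericPoint X) {t : X.presheaf.stalk x}
    (ht : maximalIdeal (X.presheaf.stalk x) = Ideal.span {t}) : t ≠ 0 := by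
  rintro rfl
  obtain ⟨U, hU, hxU, -⟩ := exists_isAffineOpen_mem_and_subset (U := (⊤ : X.Opens)) (x := x) trivial
  haveI : Nonempty U := ⟨⟨x, hxU⟩⟩
  letI : Algebra Γ(X, U) (X.presheaf.stalk x) := TopCat.Presheaf.algebra_section_stalk X.presheaf ⟨x, hxU⟩
  let p := hU.primeIdealOf ⟨x, hxU⟩
  haveI : IsLocalization.AtPrime (X.presheaf.stalk x) p.asIdeal := hU.isLocalization_stalk ⟨x, hxU⟩
  have hp : p.asIdeal = ⊥ := by
    refine eq_bot_iff.2 fun a ha => Submodule.mem_bot _ |>.2 ?_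
    have h1 := (IsLocalization.AtPrime.to_map_mem_maximal_iff (X.presheaf.stalk x) p.asIdeal a).2 ha
    rw [ht, Ideal.span_singleton_eq_bot.2 rfl, Ideal.mem_bot] at h1
    exact germ_injective_of_isIntegral X x hxU (h1.trans (map_zero _).symm)
  refine hne ?_
  have h2 : hU.fromSpec p = x := hU.fromSpec_primeIdealOf ⟨x, hxU⟩
  rw [← h2, show p = genericPoint (Spec Γ(X, U)) from PrimeSpectrum.ext (hp.trans (by
      rw [genericPoint_eq_bot_of_affine]; rfl)),
    genericPoint_eq_of_isOpenImmersion hU.fromSpec]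

/-- closed points have equations -/
theorem exists_pt_dat {x : X} (hx : IsClosed ({x} : Set X)) (hne : x ≠ genericPoint X) :
    ∃ (U : X.Opens) (D : DivDat X (compl₁ hx) U), D.GenAt x := by
  haveI : IsLocallyNoetherian X := LocallyOfFiniteType.isLocallyNoetherian c
  haveI : CompactSpace X := QuasiCompact.compactSpace_of_compactSpace c
  haveI : IsNoetherian X := {}
  obtain ⟨t, ht⟩ := hreg x hx
  obtain ⟨U₁, hxU₁, a, ha⟩ := X.presheaf.germ_exist t
  let Z : Set X := ((U₁ : Set X)ᶜ ∪ (X.basicOpen a : Set X))ᶜ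
  have hZ : ∀ z ∈ Z, z ∈ U₁ ∧ ¬ z ∈ X.basicOpen a := fun z hz =>
    ⟨by_contra fun h => hz (Or.inl h), fun h => hz (Or.inr h)⟩
  have ha0 : a ≠ 0 := fun h => genAt_ne_zero c hreg hx hne ht (by rw [← ha, h, map_zero])
  have hη : genericPoint X ∈ X.basicOpen a := by
    have hne' : X.basicOpen a ≠ ⊥ := fun h => ha0 (basicOpen_eq_bot_iff _ |>.1 h)
    obtain ⟨z, hz⟩ : (X.basicOpen a : Set X).Nonempty := by
      rw [Set.nonempty_iff_ne_empty]
      exact fun h => hne' (Opens.ext h)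
    exact ((genericPoint_spec X).specializes (Set.mem_univ z)).mem_open (X.basicOpen a).isOpen hz
  have hclosed : ∀ z ∈ closure Z, IsClosed ({z} : Set X) := by
    intro z hz
    by_contra h
    have hzη := (isMaxPt_iff_eq_genericPoint c hdim z).1 (isMaxPt_of_not_closed hdim h)
    subst hzη
    obtain ⟨y, hy, hyZ⟩ := mem_closure_iff.1 hz _ (X.basicOpen a).isOpen hη
    exact (hZ y hyZ).2 hy
  have hfin : Z.Finite := (finite_closed_of_closedPts X (closure Z) isClosed_closure hclosed).subset subset_closure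
  have hcl : IsClosed (Z \ {x}) := by
    rw [← Set.biUnion_of_singleton (Z \ {x})]
    exact hfin.sdiff.isClosed_biUnion fun z hz => hclosed z (subset_closure hz.1)
  let U : X.Opens := U₁ ⊓ ⟨(Z \ {x})ᶜ, hcl.isOpen_compl⟩
  have hxU : x ∈ U := ⟨hxU₁, fun h => h.2 rfl⟩
  refine ⟨U, ⟨compl₁_cover hx hxU, X.presheaf.map (homOfLE (inf_le_left : U ≤ U₁)).op a, ?_⟩, hxU, ?_⟩
  · refine AlgebraicGeometry.RingedSpace.isUnit_of_isUnit_germ X.toSheafedSpace _ _ fun z hz => ?_
    erw [X.presheaf.germ_res_apply, X.presheaf.germ_res_apply]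
    refine (X.mem_basicOpen a z hz.2.1).1 ?_
    by_contra h
    refine hz.2.2 ⟨fun hh => hh.elim (fun h' => h' hz.2.1) h, hz.1⟩
  · rw [ht, X.presheaf.germ_res_apply, ha]

/-- **classes of the units on an affine open missing a point are divisible** -/
theorem exists_nsmul_open {n : ℕ} (r : KRoot (Spec (CommRingCat.of k)) n) (W : X.Opens) {y : X}
    (hy : IsClosed ({y} : Set X)) (hyW : y ∉ W) (d : H1g (W : Scheme.{u})) : ∃ γ : H1g (W : Scheme.{u}), n • γ = d := by
  haveI : IsLocallyNoetherian X := LocallyOfFiniteType.isLocallyNoetherian c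
  haveI : CompactSpace X := QuasiCompact.compactSpace_of_compactSpace c
  haveI : IsNoetherian X := {}
  haveI : NoetherianSpace ↥(W : Scheme.{u}) := inferInstanceAs (NoetherianSpace ↥(W : Set X))
  haveI : IsNoetherian (W : Scheme.{u}) := {}
  haveI : JacobsonSpace X := LocallyOfFiniteType.jacobsonSpace c
  haveI := EtPullExact.pull_preservesFiniteLimits W.ι
  have hdimW : topologicalKrullDim ↥(W : Scheme.{u}) ≤ 1 :=
    W.ι.isOpenEmbedding.isInducing.topologicalKrullDim_le.trans hdim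
  suffices h : (nsmulAddMonoidHom n : H1g (W : Scheme.{u}) →+ H1g (W : Scheme.{u})).range = ⊤ by
    obtain ⟨γ, hγ⟩ := (h ▸ AddSubgroup.mem_top d :
      d ∈ (nsmulAddMonoidHom n : H1g (W : Scheme.{u}) →+ H1g (W : Scheme.{u})).range)
    exact ⟨γ, hγ⟩
  refine eq_top_of_point_classes hdimW _ fun x hx V hxV a hu => ⟨V, le_rfl, hxV, ?_⟩
  have htgt : gcls (le_top : compl₁ hx ≤ ⊤) (le_top : V ≤ ⊤) (compl₁_cover hx hxV)
      (res (EtCoh.Gm (W : Scheme.{u})) (EtMV.res (inf_le_inf le_rfl (le_refl V))) (ofO hu)) =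
      (⟨compl₁_cover hx hxV, a, hu⟩ : DivDat (W : Scheme.{u}) (compl₁ hx) V).cls := by
    refine congrArg _ (oval_injective ?_)
    rw [oval_res, oval_ofO]
    rw [← ConcreteCategory.comp_apply, ← Functor.map_comp]
    rfl
  rw [htgt]
  have hxX : IsClosed ({W.ι x} : Set X) := by
    refine isClosed_singleton_of_isLocallyClosed_singleton ?_
    have h2 : ({W.ι x} : Set X) = closure {W.ι x} ∩ (W : Set X) := by
      ext z
      refine ⟨fun hz => ?_, fun ⟨hz, hzW⟩ => ?_⟩
      · rw [Set.mem_singleton_iff] at hz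
        subst hz
        exact ⟨subset_closure rfl, x.2⟩
      have : (⟨z, hzW⟩ : ↥(W : Scheme.{u})) ∈ ({x} : Set ↥(W : Scheme.{u})) := by
        rw [← hx.closure_eq, ← specializes_iff_mem_closure]
        exact W.ι.isOpenEmbedding.isInducing.specializes_iff.1 (specializes_iff_mem_closure.2 hz)
      exact Set.mem_singleton_iff.2 (congrArg Subtype.val (Set.mem_singleton_iff.1 this))
    rw [h2]
    exact isClosed_closure.isLocallyClosed.inter W.isOpen.isLocallyClosed
  have hne : W.ι x ≠ genericPoint X := fun h => by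
    have h1 : y ∈ ({W.ι x} : Set X) := by
      rw [h] at hxX ⊢
      exact hxX.closure_eq.le ((genericPoint_spec X).def.ge (Set.mem_univ y))
    exact hyW ((Set.mem_singleton_iff.1 h1) ▸ x.2)
  have hney : y ≠ genericPoint X := fun h => hyW
    ((h ▸ (genericPoint_spec X).specializes (Set.mem_univ (W.ι x))).mem_open W.isOpen x.2)
  obtain ⟨U, Ex, hEx⟩ := exists_pt_dat c hdim hreg hxX hne
  obtain ⟨U', Ey, hEy⟩ := exists_pt_dat c hdim hreg hy hney
  obtain ⟨γ, hγ⟩ := exists_nsmul_cls_sub c r hreg hxX hy Ex hEx Ey hEy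
  have hpre : W.ι ⁻¹ᵁ compl₁ hxX = compl₁ hx := by
    refine Opens.ext ?_
    show W.ι ⁻¹' ({W.ι x} : Set X)ᶜ = ({x} : Set _)ᶜ
    rw [Set.preimage_compl, ← Set.image_singleton, Set.preimage_image_eq _ W.ι.isOpenEmbedding.injective]
  have hzero : (Ey.pull W.ι).cls = 0 := by
    refine DivDat.cls_eq_zero _ ?_
    have hle : W.ι ⁻¹ᵁ U' ≤ W.ι ⁻¹ᵁ compl₁ hy ⊓ W.ι ⁻¹ᵁ U' := le_inf (fun z _ h => hyW (h ▸ z.2)) le_rfl
    have h := (Ey.pull W.ι).unit.map ((W : Scheme.{u}).presheaf.map (homOfLE hle).op).hom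
    erw [← ConcreteCategory.comp_apply, ← Functor.map_comp] at h
    rwa [show (homOfLE inf_le_right).op ≫ (homOfLE hle).op = 𝟙 _ from rfl, CategoryTheory.Functor.map_id] at h
  obtain ⟨hxU, hgen⟩ : (Ex.pull W.ι).GenAt x := hEx.pull W.ι
  let s := (W : Scheme.{u}).presheaf.germ _ x hxU (Ex.pull W.ι).a
  haveI : IsIntegral (W : Scheme.{u}) :=
    haveI : Nonempty ↥(W : Scheme.{u}) := ⟨x⟩
    isIntegral_of_isOpenImmersion W.ι
  obtain ⟨m, v, hv, hmv⟩ : ∃ (m : ℕ) (v : (W : Scheme.{u}).presheaf.stalk x), IsUnit v ∧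
      (W : Scheme.{u}).presheaf.germ V x hxV a = v * s ^ m := by
    let b := (W : Scheme.{u}).presheaf.germ V x hxV a
    have hs : ¬ IsUnit s := fun h => by
      have := hgen ▸ Ideal.mem_span_singleton_self s
      exact (IsLocalRing.mem_maximalIdeal _).1 this h
    have hb : b ≠ 0 := by
      intro hb
      have ha : a = 0 := germ_injective_of_isIntegral (W : Scheme.{u}) x hxV (hb.trans (map_zero _).symm)
      obtain ⟨η, hη⟩ : ∃ η, η ∈ compl₁ hx ⊓ V := by
        refine ⟨genericPoint (W : Scheme.{u}), ?_, ((genericPoint_spec _).mem_open_set_iff V.isOpen).mpr (by simpa using ⟨x, hxV⟩)⟩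
        intro h
        refine hne ?_
        rw [← Set.mem_singleton_iff.1 h]
        exact genericPoint_eq_of_isOpenImmersion W.ι
      haveI : Nonempty ↥((compl₁ hx ⊓ V : (W : Scheme.{u}).Opens) : Scheme.{u}) := ⟨⟨η, hη⟩⟩
      haveI : Nonempty ↥(compl₁ hx ⊓ V : (W : Scheme.{u}).Opens) := ⟨⟨η, hη⟩⟩
      rw [ha, map_zero, isUnit_zero_iff] at hu
      exact zero_ne_one hu
    by_cases hs0 : s = 0
    · refine ⟨0, b, ?_, by rw [pow_zero, mul_one]⟩
      by_contra hbu
      have h1 : b ∈ Ideal.span {s} := hgen ▸ (IsLocalRing.mem_maximalIdeal _).2 hbu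
      rw [hs0, Ideal.span_singleton_eq_bot.2 rfl, Ideal.mem_bot] at h1
      exact hb h1
    obtain ⟨m, v, hv, hvb⟩ := WfDvdMonoid.max_power_factor hb (irreducible_of_maximal hgen hs0 hs)
    refine ⟨m, v, ?_, by rw [show (W : Scheme.{u}).presheaf.germ V x hxV a = b from rfl, hvb, mul_comm]⟩
    by_contra hvu
    refine hv (Ideal.mem_span_singleton.1 ?_)
    rw [← hgen]
    exact (IsLocalRing.mem_maximalIdeal _).2 hvu
  refine ⟨m • gmH W.ι γ, ?_⟩
  show n • (m • gmH W.ι γ) = _
  rw [smul_comm, ← map_nsmul (gmH W.ι) n, hγ, map_sub, Ex.gmH_cls, Ey.gmH_cls, hzero, sub_zero, ← DivDat.cls_npow]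
  exact (DivDat.cls_eq_of_germ hx hpre rfl ((Ex.pull W.ι).npow m)
    (⟨compl₁_cover hx hxV, a, hu⟩ : DivDat (W : Scheme.{u}) (compl₁ hx) V) hxU hxV hv
    (hmv.trans (congrArg (v * ·) (map_pow _ _ m).symm))).symm
where
  irreducible_of_maximal {R : Type u} [CommRing R] [IsLocalRing R] [IsDomain R] {s : R}
      (h : maximalIdeal R = Ideal.span {s}) (hs0 : s ≠ 0) (hs : ¬ IsUnit s) : Irreducible s := by
    refine ⟨hs, fun p q hpq => ?_⟩
    by_contra hcon
    push Not at hcon
    obtain ⟨hp, hq⟩ := hcon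
    obtain ⟨p', hp'⟩ := Ideal.mem_span_singleton'.1 (h ▸ (IsLocalRing.mem_maximalIdeal p).2 hp)
    obtain ⟨q', hq'⟩ := Ideal.mem_span_singleton'.1 (h ▸ (IsLocalRing.mem_maximalIdeal q).2 hq)
    refine hs (IsUnit.of_mul_eq_one (p' * q') (mul_left_cancel₀ hs0 ?_))
    rw [mul_one]
    conv_rhs => rw [hpq, ← hp', ← hq']
    ring

/-- **the degree two cohomology of an affine open of a smooth proper curve missing a point vanishes** -/
theorem subsingleton_H2_open {ℓ : ℕ} [hℓ : Fact ℓ.Prime] (hℓk : (ℓ : k) ≠ 0) (W : X.Opens) {y : X}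
    (hy : IsClosed ({y} : Set X)) (hyW : y ∉ W) :
    Subsingleton (EtCoh.H (W : Scheme.{u}) (EtCoh.const (W : Scheme.{u}) (ZMod ℓ)) 2) := by
  haveI : IsLocallyNoetherian X := LocallyOfFiniteType.isLocallyNoetherian c
  haveI : CompactSpace X := QuasiCompact.compactSpace_of_compactSpace c
  haveI : IsNoetherian X := {}
  haveI : NoetherianSpace ↥(W : Scheme.{u}) := inferInstanceAs (NoetherianSpace ↥(W : Set X))
  haveI : IsNoetherian (W : Scheme.{u}) := {}
  haveI : NeZero (ℓ : k) := ⟨hℓk⟩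
  obtain ⟨z, hz⟩ := IsAlgClosed.exists_root (Polynomial.cyclotomic ℓ k)
    (Polynomial.degree_cyclotomic_pos ℓ k hℓ.out.pos).ne'
  let e := (Scheme.ΓSpecIso (CommRingCat.of k)).inv.hom
  have hu0 : IsUnit (ℓ : Γ(Spec (CommRingCat.of k), ⊤)) := by
    have h := (isUnit_iff_ne_zero.2 hℓk).map e
    rwa [map_natCast] at h
  let r₀ : KRoot (Spec (CommRingCat.of k)) ℓ :=
    ⟨hℓ.out.one_lt.le, hu0, e z, by
      rw [show e z = e.toIntAlgHom z from rfl, Polynomial.aeval_algHom_apply,
        show Polynomial.aeval z (Polynomial.cyclotomic ℓ ℤ) = 0 by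
          rw [Polynomial.aeval_def, algebraMap_int_eq, ← Polynomial.eval_map, Polynomial.map_cyclotomic_int]
          exact hz, map_zero]⟩
  let r : KRoot (W : Scheme.{u}) ℓ := r₀.pull (W.ι ≫ c)
  have hdimW : topologicalKrullDim ↥(W : Scheme.{u}) ≤ 1 :=
    W.ι.isOpenEmbedding.isInducing.topologicalKrullDim_le.trans hdim
  haveI : LocallyOfFiniteType (W.ι ≫ c) := inferInstance
  have htor : ∀ e' : EtCoh.H (W : Scheme.{u}) (EtCoh.Gm _) 2, ℓ • e' = 0 → e' = 0 := by
    refine torsion_H_Gm_eq_zero hdimW (isSepClosed_of_isClosed (W.ι ≫ c)) hℓ.out.pos (fun x _ q hq hd => ?_)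
      (fun x _ => ?_) (fun x => ?_) 2 le_rfl
    · obtain rfl := (Nat.prime_dvd_prime_iff_eq hq hℓ.out).1 hd
      exact cohDimLEAt_residueField (W.ι ≫ c) hdimW x q
    · have h := killedVan_of_cohDimLEAt ((W : Scheme.{u}).residueField x) (cohDimLEAt_residueField (W.ι ≫ c) hdimW x ℓ) 1
      rwa [pow_one] at h
    · let ψ : k →+* (W : Scheme.{u}).residueField x :=
        ((Scheme.ΓSpecIso (CommRingCat.of k)).inv ≫ (W.ι ≫ c).appTop ≫ (W : Scheme.{u}).evaluation ⊤ x trivial).hom
      have h := ψ.injective.ne hℓk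
      rwa [map_natCast, map_zero] at h
  refine subsingleton_of_forall_eq 0 fun w => ?_
  obtain ⟨d, rfl⟩ := r.dK_surjective htor w
  obtain ⟨γ, rfl⟩ := exists_nsmul_open c hdim hreg r₀ W hy hyW d
  exact r.dK_nsmul γ

end Groth.Agent.EtPBC
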