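import Groth.Agent.EtPBC.AffineCurveRed
import Groth.Agent.EtPBC.CurvePic
import Groth.Agent.EtPBC.CdProper
import Groth.Agent.EtPBC.ArtinSchreier
import Groth.Agent.CurveCompl.Basic
import Groth.Agent.W7Nef.Normalise
import Groth.Agent.BMCoh.NormalizationIso
import Groth.Agent.Nagata.PrimeSubscheme
import Mathlib

/-!
# Affine curves over an algebraically closed field have cohomological dimension one
-/

set_option autoImplicit false
set_option backward.isDefEq.respectTransparency false
set_option backward.isDefEq.respectTransparency.types false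
set_option linter.auxLemma false
set_option linter.style.haveILetI false
set_option linter.unusedSectionVars false
set_option maxHeartbeats 1000000

universe u

open CategoryTheory CategoryTheory.Limits CategoryTheory.Abelian AlgebraicGeometry Opposite TopologicalSpace IsLocalRing

noncomputable section

namespace Groth.Agent.EtPBC

attribute [local instance 100000] EtCoh.H._proof_1 EtMV.hext
attribute [local instance 200000] EtMV.hextAb

variable {k : Type u} [Field k] [IsAlgClosed k]

theorem exists_maximalIdeal_eq_span {X : Scheme.{u}} {x : X} [IsRegularLocalRing (X.presheaf.stalk x)]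
    (h : ringKrullDim (X.presheaf.stalk x) = 1) :
    ∃ t, maximalIdeal (X.presheaf.stalk x) = Ideal.span {t} := by
  have h1 : (((maximalIdeal (X.presheaf.stalk x)).spanFinrank : ℕ) : WithBot ℕ∞) = ((1 : ℕ) : WithBot ℕ∞) := by
    rw [((isRegularLocalRing_iff (X.presheaf.stalk x)).1 inferInstance).trans h]
    rfl
  have h2 : (maximalIdeal (X.presheaf.stalk x)).spanFinrank = 1 := by exact_mod_cast h1
  obtain ⟨s, hs1, hs2⟩ := Submodule.FG.exists_span_set_encard_eq_spanFinrank
    (IsNoetherian.noetherian (maximalIdeal (X.presheaf.stalk x)))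
  rw [h2, Nat.cast_one, Set.encard_eq_one] at hs1
  obtain ⟨t, rfl⟩ := hs1
  exact ⟨t, hs2.symm⟩

theorem exists_irreducible_of_dense {X Y : Scheme.{u}} [IrreducibleSpace X] (j : X ⟶ Y)
    (hd : Dense (Set.range j.base)) : IrreducibleSpace Y := by
  have h1 := ((IrreducibleSpace.isIrreducible_univ X).image j.base j.continuous.continuousOn).closure
  rw [Set.image_univ, hd.closure_eq] at h1
  exact { isPreirreducible_univ := h1.2, toNonempty := ⟨h1.1.some⟩ }

/-- **integral affine curves** -/
theorem intConstVan : IntConstVan k := by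
  intro C c hCa hc hCi hdim ℓ hℓ
  haveI : Fact ℓ.Prime := ⟨hℓ⟩
  haveI : IsNoetherian C := isNoetherian_of_field c
  rcases eq_or_ne (ℓ : k) 0 with h0 | hℓk
  · have h0' : (ℓ : Γ(C, ⊤)) = 0 := by
      have h := congrArg ((Scheme.ΓSpecIso (CommRingCat.of k)).inv ≫ c.appTop).hom h0
      simpa using h
    exact subsingleton_H_zmod_of_isAffine ℓ h0' 2 le_rfl
  have hsep : ∀ x : C, IsClosed ({x} : Set C) → IsSepClosed (C.residueField x) :=
    fun x hx => isSepClosed_of_isClosed c x hx
  by_cases hall : ∀ x : C, IsClosed ({x} : Set C)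
  · exact subsingleton_H_of_suppClosed hsep _ (fun x hx => absurd (hall x) hx) 2 (by norm_num)
  haveI : IsSeparated c := inferInstance
  obtain ⟨d, Y, cY, j, _, _, hjc, hjd, _, _, -, hdimY⟩ := CurveCompl.exists_completion c hdim
  let fY : Y ⟶ Spec (CommRingCat.of k) := cY ≫ CohB1.ProjSpace.toSpec d k
  haveI : IsProper fY := inferInstance
  haveI : IsNoetherian Y := isNoetherian_of_field fY
  haveI : QuasiCompact j := inferInstance
  haveI : IsReduced Y := IsSchemeTheoreticallyDominant.isReduced j
  haveI : IrreducibleSpace Y := exists_irreducible_of_dense j hjd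
  haveI : IsIntegral Y := isIntegral_of_irreducibleSpace_of_isReduced Y
  have hdimY' : topologicalKrullDim Y = 1 := by
    refine le_antisymm hdimY ?_
    push Not at hall
    obtain ⟨x, hx⟩ := hall
    refine le_trans ?_ ((topologicalKrullDim_subspace_le C (closure ({x} : Set C))).trans
      j.isOpenEmbedding.isInducing.topologicalKrullDim_le)
    letI := specializationOrder C
    rw [BMCoh.topologicalKrullDim_closure_singleton, show Order.height x = _ from (WeilLib.exists_pdim_eq_trd c x).2]
    exact_mod_cast Nat.one_le_iff_ne_zero.2 fun h0 => hx ((WeilLib.pdim_eq_zero_iff c x).1 h0)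
  letI : Y.Over (Spec (CommRingCat.of k)) := ⟨fY⟩
  haveI : IsProper (Y ↘ Spec (CommRingCat.of k)) := inferInstanceAs (IsProper fY)
  letI : Field (Y.presheaf.stalk (genericPoint Y)) := inferInstanceAs (Field Y.functionField)
  let g := Y.fromSpecStalk (genericPoint Y)
  haveI : QuasiCompact (g ≫ fY) := inferInstance
  haveI : QuasiSeparated (g ≫ fY) := inferInstance
  haveI : QuasiCompact g := QuasiCompact.of_comp g fY
  haveI : QuasiSeparated g := QuasiSeparated.of_comp g fY
  obtain ⟨hfin, hnorm, hdimN⟩ := Groth.Agent.S4454.result k Y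
    (fun x hx => W7Nef.ringKrullDim_stalk_of_isClosed hdimY' hx)
    Y.functionField (RingHom.id _) (RingHom.Finite.id _) g (by
      rw [show CommRingCat.ofHom (RingHom.id Y.functionField) = 𝟙 _ from rfl]
      exact ((congrArg (· ≫ g) (Spec.map_id _)).trans (Category.id_comp g)).symm)
  haveI : IsFinite (Curv2.normalizationι Y) := hfin
  haveI : IsIntegral (Spec (CommRingCat.of Y.functionField)) := inferInstance
  let X := g.normalization
  let ν : X ⟶ Y := g.fromNormalization
  haveI : IsFinite ν := hfin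
  haveI : IsIntegral X := inferInstanceAs (IsIntegral g.normalization)
  haveI : IsProper (ν ≫ fY) := inferInstance
  haveI : LocallyOfFiniteType (ν ≫ fY) := inferInstance
  haveI : IsLocallyNoetherian X := LocallyOfFiniteType.isLocallyNoetherian (ν ≫ fY)
  have hdimX : topologicalKrullDim X ≤ 1 := (S9683.result ν).1.trans hdimY
  have hreg : ∀ x : X, IsClosed ({x} : Set X) → ∃ t, maximalIdeal (X.presheaf.stalk x) = Ideal.span {t} := by
    intro x hx
    haveI := (hnorm x).1
    haveI := (hnorm x).2
    haveI : IsRegularLocalRing (X.presheaf.stalk x) := Catenary.isRegularLocalRing_of_normal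
      ((RegDual.ringKrullDim_stalk_le_topologicalKrullDim x).trans hdimX)
    exact exists_maximalIdeal_eq_span (hdimN x hx)
  -- the open over the curve
  let O : Y.Opens := j.opensRange
  let W : X.Opens := ν ⁻¹ᵁ O
  obtain ⟨D, hD, hDiso⟩ := BMCoh.exists_isIso_normalizationι Y
  haveI : IsIso (ν ∣_ D) := hDiso
  have hηD : genericPoint Y ∈ D := (genericPoint_specializes (hD.some)).mem_open D.2 hD.some_mem
  have hηO : genericPoint Y ∈ O :=
    (genericPoint_specializes (j (genericPoint C))).mem_open O.2 ⟨genericPoint C, rfl⟩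
  have hjη : j (genericPoint C) = genericPoint Y := by
    refine (Specializes.antisymm ?_ (genericPoint_specializes _)).eq
    obtain ⟨u', hu⟩ := DomLib.exists_specializes j (y := genericPoint Y) (hjd _)
    exact (((genericPoint_specializes u').map j.continuous).trans hu)
  -- the map to the curve
  let π : (W : Scheme.{u}) ⟶ C := (ν ∣_ O) ≫ j.isoOpensRange.inv
  haveI : IsFinite (ν ∣_ O) := inferInstance
  haveI : IsFinite π := inferInstance
  have hπj : π ≫ j = W.ι ≫ ν := by
    rw [Category.assoc, Scheme.Hom.isoOpensRange_inv_comp, morphismRestrict_ι]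
  haveI : IsAffine (W : Scheme.{u}) := isAffine_of_isAffineHom π
  -- a point outside
  obtain ⟨w₀, hw₀⟩ := (asIso (ν ∣_ D)).hom.surjective ⟨genericPoint Y, hηD⟩
  let w₁ : X := (ν ⁻¹ᵁ D).ι w₀
  have hw₁ : ν w₁ = genericPoint Y := by
    rw [← Scheme.Hom.comp_apply, ← morphismRestrict_ι, Scheme.Hom.comp_apply]
    exact congrArg D.ι hw₀
  obtain ⟨y, hyW⟩ : ∃ y : X, y ∉ W := by
    by_contra hne
    push Not at hne
    have hW : W = ⊤ := eq_top_iff.2 fun z _ => hne z
    haveI : IsAffine X := by
      haveI : IsIso W.ι := isIso_of_isOpenImmersion_of_opensRange_eq_top _ (by rw [Scheme.Opens.opensRange_ι, hW])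
      exact IsAffine.of_isIso (inv W.ι)
    haveI : IsFinite (ν ≫ fY) := IsFinite.iff_isProper_and_isAffineHom.2 ⟨inferInstance, isAffineHom_of_isAffine _⟩
    have h0 : topologicalKrullDim X ≤ topologicalKrullDim (Spec (CommRingCat.of k)) := (S9683.result (ν ≫ fY)).1
    have hsurj : Surjective ν := by
      refine ⟨fun z => ?_⟩
      have hclosed : IsClosed (Set.range ν) := ν.isClosedMap.isClosed_range
      exact (genericPoint_specializes z).mem_closed hclosed ⟨w₁, hw₁⟩
    have h1 := ((S9683.result ν).2 hsurj).trans hdimY'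
    rw [h1, show topologicalKrullDim ↥(Spec (CommRingCat.of k)) = 0 from
      (PrimeSpectrum.topologicalKrullDim_eq_ringKrullDim (R := k)).trans (ringKrullDim_eq_zero_of_field k)] at h0
    exact absurd h0 (by norm_num)
  have hyc : IsClosed ({y} : Set X) := by
    by_contra hy
    have h1 := (isMaxPt_iff_eq_genericPoint (ν ≫ fY) hdimX y).1 (isMaxPt_of_not_closed hdimX hy)
    have hgen : ν (genericPoint X) = genericPoint Y := by
      refine ((genericPoint_specializes _).antisymm ?_).eq.symm
      rw [← hw₁]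
      exact (genericPoint_specializes _).map ν.continuous
    exact hyW (show ν y ∈ O by rw [h1, hgen]; exact hηO)
  -- transfer
  have hW2 := subsingleton_H2_open (ν ≫ fY) hdimX hreg hℓk W hyc hyW
  refine (subsingleton_H_iff_of_isoAt hsep ((EtCoh.pullPushAdj π).unit.app (EtCoh.const C (ZMod ℓ)))
    (fun x hx => ?_) 2 le_rfl).2 ?_
  swap
  · refine (subsingleton_H_iff_push π _ (fun m => EtIntegral.Rpush_succ_isZero π _ m) 2).2 ?_
    exact subsingleton_H_of_iso (EtCons.pullConstM π (ZMod ℓ)).symm 2 hW2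
  obtain rfl : x = genericPoint C :=
    ((isMaxPt_of_not_closed hdim hx) _ (genericPoint_specializes x)).symm
  -- the open over which `π` is an isomorphism
  let V : (W : Scheme.{u}).Opens := W.ι ⁻¹ᵁ (ν ⁻¹ᵁ D)
  have hlift : Set.range (V.ι ≫ W.ι) ⊆ Set.range (ν ⁻¹ᵁ D).ι := by
    rw [Scheme.Opens.range_ι]
    rintro _ ⟨t, rfl⟩
    exact t.2
  haveI : IsOpenImmersion (V.ι ≫ π) := by
    let l := IsOpenImmersion.lift (ν ⁻¹ᵁ D).ι (V.ι ≫ W.ι) hlift
    have hl : l ≫ (ν ⁻¹ᵁ D).ι = V.ι ≫ W.ι := IsOpenImmersion.lift_fac _ _ _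
    haveI : IsOpenImmersion (l ≫ (ν ⁻¹ᵁ D).ι) := by rw [hl]; infer_instance
    haveI : IsOpenImmersion l := IsOpenImmersion.of_comp l (ν ⁻¹ᵁ D).ι
    haveI : IsOpenImmersion ((V.ι ≫ π) ≫ j) := by
      rw [Category.assoc, hπj, ← Category.assoc, ← hl, Category.assoc, ← morphismRestrict_ι]
      infer_instance
    exact IsOpenImmersion.of_comp (V.ι ≫ π) j
  have hw₁W : w₁ ∈ W := show ν w₁ ∈ O by rw [hw₁]; exact hηO
  have hw₁V : (⟨w₁, hw₁W⟩ : (W : Scheme.{u})) ∈ V := show ν w₁ ∈ D by rw [hw₁]; exact hηD
  obtain ⟨Ω, _, _, ζ, hζ⟩ := exists_geomPt (X := (V : Scheme.{u})) ⟨⟨w₁, hw₁W⟩, hw₁V⟩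
  have hb := bijective_stalk_unit π (EtCoh.const C (ZMod ℓ)) (ζ ≫ V.ι)
    (injective_stalkPushHom_of_open π V.ι (fun γ hγ => by
      rw [Scheme.Opens.range_ι]
      obtain ⟨t, ht⟩ := hγ
      have h1 : ν (W.ι γ) = ν (W.ι (V.ι t)) := by
        rw [← Scheme.Hom.comp_apply, ← hπj, Scheme.Hom.comp_apply, ← ht, ← Scheme.Hom.comp_apply _ ν, ← hπj]
        rfl
      show ν (W.ι γ) ∈ D
      rw [h1]
      exact t.2) ζ _)
  refine (isoAt_iff ?_ _).2 hb
  show π (V.ι (ζ default)) = genericPoint C
  rw [hζ]
  apply j.injective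
  show j (π (⟨w₁, hw₁W⟩ : (W : Scheme.{u}))) = j (genericPoint C)
  rw [hjη, ← Scheme.Hom.comp_apply, hπj]
  exact hw₁

/-- **affine curves** -/
theorem cohDimLE_affine_curve (X : Scheme.{u}) [IsAffine X]
    (f : X ⟶ Spec (CommRingCat.of k)) [LocallyOfFiniteType f] (hdim : topologicalKrullDim X ≤ 1) :
    EtCoh.CohDimLE X 1 := cohDimLE_affine_curve_of intConstVan X f hdim

end Groth.Agent.EtPBC
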