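import Groth.Agent.EtPBC.FieldDescent
import Groth.Agent.EtPBC.CdLeray
import Groth.Agent.EtPBC.RpushVan
import Mathlib

/-!
# Leray: vanishing from the terms of the second page; composites
-/
set_option autoImplicit false
set_option backward.isDefEq.respectTransparency false
set_option backward.isDefEq.respectTransparency.types false
set_option linter.auxLemma false
set_option linter.style.haveILetI false
set_option linter.unusedSectionVars false
set_option maxHeartbeats 1000000

universe u

open CategoryTheory CategoryTheory.Limits CategoryTheory.Abelian AlgebraicGeometry Opposite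

noncomputable section

namespace Groth.Agent.EtPBC

attribute [local instance 100000] EtCoh.H._proof_1 EtMV.hext
attribute [local instance 200000] EtMV.hextAb

variable {X Y : Scheme.{u}}

/-- vanishing from the second page of the Leray spectral sequence -/
theorem subsingleton_H_of_Rpush_terms (f : X ⟶ Y) {m : ℕ} (hm : 0 < m) : ∀ (a : ℕ) (F : EtCoh.Ab X), Killed m F →
    (∀ q : ℕ, a < q → IsZero ((EtCoh.Rpush f q).obj F)) → ∀ n : ℕ, a < n →
    Subsingleton (EtCoh.H Y ((EtCoh.push f).obj F) n) →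
    (∀ p q : ℕ, 0 < q → q ≤ a → p + q = n → Subsingleton (EtCoh.H Y ((EtCoh.Rpush f q).obj F) p)) →
    Subsingleton (EtCoh.H X F n) := by
  intro a
  induction a with
  | zero => exact fun F hF hR n _ h _ => (subsingleton_H_iff_push f F (fun q => hR (q + 1) q.succ_pos) n).1 h
  | succ a ih =>
    intro F hF hR n hn h hRH
    obtain ⟨J, hJ, i, hi⟩ := EtAcycX.exists_hullKd (m := m) ((killed_iff m F).1 hF)
    let S := ShortComplex.mk i (cokernel.π i) (cokernel.condition i)
    have hS : S.ShortExact := { exact := ShortComplex.exact_of_g_is_cokernel _ (cokernelIsCokernel i) }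
    have hC : Killed m (cokernel i) := killed_of_epi (cokernel.π i) ((killed_iff m _).2 (EtAcycX.kd_tor J m))
    obtain ⟨k, rfl⟩ : ∃ k, n = k + 2 := ⟨n - 2, by omega⟩
    let Rd := RDerLib.derivedLES (EtCoh.push f)
    have hiso : ∀ q : ℕ, IsIso (Rd.δ S hS (q + 1) (q + 2) rfl) := fun q => by
      haveI := (Rd.exact₃ S hS (q + 1) (q + 2) rfl).mono_g ((EtAcycX.isZero_rpush_tor f J hm q).eq_of_src _ _)
      haveI := (Rd.exact₁ S hS (q + 1) (q + 2) rfl).epi_f
        ((EtAcycX.isZero_rpush_tor f J hm (q + 1)).eq_of_tgt _ _)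
      exact isIso_of_mono_of_epi _
    have hR' : ∀ q : ℕ, a < q → IsZero ((EtCoh.Rpush f q).obj (cokernel i)) := by
      intro q hq
      obtain ⟨q, rfl⟩ : ∃ j, q = j + 1 := ⟨q - 1, by omega⟩
      haveI := hiso q
      exact (hR (q + 2) (by omega)).of_iso (asIso (Rd.δ S hS (q + 1) (q + 2) rfl))
    have hI : Subsingleton (EtCoh.H Y ((EtCoh.push f).obj (EtColimH.tor J m)) (k + 1)) :=
      (subsingleton_H_iff_push f _ (EtAcycX.isZero_rpush_tor f J hm) (k + 1)).2
        (EtAcycX.subsingleton_H_tor J hm k)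
    haveI : PreservesFiniteLimits (EtCoh.push f) :=
      haveI : (EtCoh.push f).IsRightAdjoint := (EtCoh.pullPushAdj f).isRightAdjoint
      inferInstance
    haveI : Mono ((EtCoh.push f).map i) := inferInstance
    let v : cokernel ((EtCoh.push f).map i) ⟶ (EtCoh.push f).obj (cokernel i) :=
      cokernel.desc _ ((EtCoh.push f).map (cokernel.π i))
        (by rw [← Functor.map_comp, cokernel.condition, Functor.map_zero])
    haveI : Mono v := mono_desc_map (EtCoh.push f) hS _
    let S₁ := ShortComplex.mk ((EtCoh.push f).map i) (cokernel.π _) (cokernel.condition _)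
    have hS₁ : S₁.ShortExact := { exact := ShortComplex.exact_of_g_is_cokernel _ (cokernelIsCokernel _) }
    let S₂ := ShortComplex.mk v (cokernel.π v) (cokernel.condition v)
    have hS₂ : S₂.ShortExact := { exact := ShortComplex.exact_of_g_is_cokernel _ (cokernelIsCokernel v) }
    let η := fun (G : EtCoh.Ab X) => pushZeroIso f G
    have hnat : (EtCoh.Rpush f 0).map (cokernel.π i) ≫ (η _).hom = (η _).hom ≫ (EtCoh.push f).map (cokernel.π i) :=
      (EtCoh.push f).rightDerivedZeroIsoSelf.hom.naturality _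
    let d : (EtCoh.push f).obj (cokernel i) ⟶ (EtCoh.Rpush f 1).obj F := (η _).inv ≫ Rd.δ S hS 0 1 rfl
    haveI : Epi d := by
      haveI := (Rd.exact₁ S hS 0 1 rfl).epi_f ((EtAcycX.isZero_rpush_tor f J hm 0).eq_of_tgt _ _)
      exact epi_comp _ _
    have hd0 : (EtCoh.push f).map (cokernel.π i) ≫ d = 0 := by
      rw [← cancel_epi (η (EtColimH.tor J m)).hom, ← Category.assoc, ← hnat, Category.assoc, Iso.hom_inv_id_assoc,
          Rd.comp_δ S hS 0 1 rfl, comp_zero]
    have hd : (ShortComplex.mk ((EtCoh.push f).map (cokernel.π i)) d hd0).Exact := by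
      refine (ShortComplex.exact_iff_of_iso ?_).1 (Rd.exact₃ S hS 0 1 rfl)
      exact ShortComplex.isoMk (η _) (η _) (Iso.refl _) hnat.symm
        ((Category.comp_id _).trans (Iso.hom_inv_id_assoc (η _) _).symm).symm
    have hvd : v ≫ d = 0 := by
      rw [← cancel_epi (cokernel.π ((EtCoh.push f).map i)), cokernel.π_desc_assoc, comp_zero]
      exact hd0
    have hcok : IsIso (cokernel.desc v d hvd) := by
      let w : cokernel v ⟶ (EtCoh.Rpush f 1).obj F := cokernel.desc v d hvd
      haveI : Epi w := epi_of_epi_fac (cokernel.π_desc v d hvd)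
      let g' := hd.gIsCokernel
      let w' : (EtCoh.Rpush f 1).obj F ⟶ cokernel v := g'.desc (CokernelCofork.ofπ (cokernel.π v) (by
        show (EtCoh.push f).map (cokernel.π i) ≫ cokernel.π v = 0
        rw [← cokernel.π_desc ((EtCoh.push f).map i) ((EtCoh.push f).map (cokernel.π i))
          (by rw [← Functor.map_comp, cokernel.condition, Functor.map_zero]), Category.assoc]
        exact (congrArg (cokernel.π _ ≫ ·) (cokernel.condition v)).trans comp_zero))
      have h1 : d ≫ w' = cokernel.π v := g'.fac _ WalkingParallelPair.one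
      refine ⟨w', ?_, ?_⟩
      · rw [← cancel_epi (cokernel.π v), ← Category.assoc, cokernel.π_desc, h1, Category.comp_id]
      · rw [← cancel_epi d, ← Category.assoc, h1, cokernel.π_desc, Category.comp_id]
    have hB : Subsingleton (EtCoh.H Y (cokernel ((EtCoh.push f).map i)) (k + 1)) :=
      subsingleton_H_X₃ hS₁ (k + 1) hI h
    have hP : Subsingleton (EtCoh.H Y ((EtCoh.push f).obj (cokernel i)) (k + 1)) :=
      subsingleton_H_X₂ hS₂ (k + 1) hB
        (subsingleton_H_of_iso (@asIso _ _ _ _ _ hcok).symm (k + 1) (hRH (k + 1) 1 one_pos (by omega) (by omega)))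
    have hCX : Subsingleton (EtCoh.H X (cokernel i) (k + 1)) :=
      ih (cokernel i) hC hR' (k + 1) (by omega) hP fun p q hq hqa hpq => by
        obtain ⟨q, rfl⟩ : ∃ j, q = j + 1 := ⟨q - 1, by omega⟩
        haveI := hiso q
        exact subsingleton_H_of_iso (asIso (Rd.δ S hS (q + 1) (q + 2) rfl)).symm p
          (hRH p (q + 2) (by omega) (by omega) (by omega))
    exact subsingleton_H_X₁ hS (k + 1) hCX (EtAcycX.subsingleton_H_tor J hm (k + 1))

section Comp

variable {Z : Scheme.{u}}

theorem zeroAt_middle {S : ShortComplex (EtCoh.Ab X)} (hS : S.Exact) {x : X} (h₁ : ZeroAt S.X₁ x)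
    (h₃ : ZeroAt S.X₃ x) : ZeroAt S.X₂ x := by
  obtain ⟨Ω, _, _, ξ, hξ⟩ := exists_geomPt x
  haveI : (EtCoh.stalk ξ).PreservesZeroMorphisms := inferInstance
  rw [← isZero_stalk_iff_zeroAt hξ] at h₁ h₃ ⊢
  exact (hS.map (EtCoh.stalk ξ)).isZero_of_both_zeros (h₁.eq_of_src _ _) (h₃.eq_of_tgt _ _)

/-- sections of a direct image surject where the first higher direct image vanishes -/
theorem zeroAt_cokernel_push_map (p : Z ⟶ Y) {S : ShortComplex (EtCoh.Ab Z)} (hS : S.ShortExact) {y : Y}
    (h : ZeroAt ((EtCoh.Rpush p 1).obj S.X₁) y) : ZeroAt (cokernel ((EtCoh.push p).map S.g)) y := by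
  let Rd := RDerLib.derivedLES (EtCoh.push p)
  have hex := Rd.exact₁ S hS 0 1 rfl
  have hw : (EtCoh.push p).map S.g ≫ (pushZeroIso p S.X₃).inv ≫ Rd.δ S hS 0 1 rfl = 0 := by
    have hnat : (EtCoh.Rpush p 0).map S.g ≫ (pushZeroIso p S.X₃).hom =
        (pushZeroIso p S.X₂).hom ≫ (EtCoh.push p).map S.g :=
      haveI : PreservesFiniteLimits (EtCoh.push p) :=
        haveI : (EtCoh.push p).IsRightAdjoint := (EtCoh.pullPushAdj p).isRightAdjoint
        inferInstance
      (EtCoh.push p).rightDerivedZeroIsoSelf.hom.naturality _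
    rw [← cancel_epi (pushZeroIso p S.X₂).hom, ← Category.assoc, ← hnat, Category.assoc, Iso.hom_inv_id_assoc,
      comp_zero]
    exact Rd.comp_δ S hS 0 1 rfl
  let d := cokernel.desc _ _ hw
  have : Mono d := by
    refine (ShortComplex.exact_iff_mono_cokernel_desc (ShortComplex.mk _ _ hw)).1 ?_
    refine (ShortComplex.exact_iff_of_iso ?_).1 (Rd.exact₃ S hS 0 1 rfl)
    exact ShortComplex.isoMk (pushZeroIso p S.X₂) (pushZeroIso p S.X₃) (Iso.refl _)
      (by
        haveI : PreservesFiniteLimits (EtCoh.push p) :=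
          haveI : (EtCoh.push p).IsRightAdjoint := (EtCoh.pullPushAdj p).isRightAdjoint
          inferInstance
        exact ((EtCoh.push p).rightDerivedZeroIsoSelf.hom.naturality S.g).symm)
      ((Category.comp_id _).trans (Iso.hom_inv_id_assoc (pushZeroIso p S.X₃) _).symm).symm
  exact zeroAt_of_mono d h

theorem zeroAt_cokernel_comp {F G K : EtCoh.Ab X} (a : F ⟶ G) (b : G ⟶ K) {x : X}
    (ha : ZeroAt (cokernel a) x) (hb : ZeroAt (cokernel b) x) : ZeroAt (cokernel (a ≫ b)) x := by
  obtain ⟨Ω, _, _, ξ, hξ⟩ := exists_geomPt x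
  have key : ∀ {A B : EtCoh.Ab X} (c : A ⟶ B), ZeroAt (cokernel c) x ↔ Function.Surjective ((EtCoh.stalk ξ).map c) :=
    fun c => ⟨fun h => (AddCommGrpCat.epi_iff_surjective _).1 (Preadditive.epi_of_isZero_cokernel _
      (((isZero_stalk_iff_zeroAt hξ _).2 h).of_iso (PreservesCokernel.iso (EtCoh.stalk ξ) c).symm)),
      zeroAt_cokernel hξ c⟩
  rw [key] at ha hb ⊢
  rw [Functor.map_comp]
  exact hb.comp ha

/-- `m`-torsion of an injective stays acyclic after a direct image -/
theorem isZero_rpush_push_tor (j : X ⟶ Z) (p : Z ⟶ Y) (J : EtCoh.Ab X) [Injective J] {m : ℕ} (hm : 0 < m) (q : ℕ) :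
    IsZero ((EtCoh.Rpush p (q + 1)).obj ((EtCoh.push j).obj (EtColimH.tor J m))) := by
  haveI := EtPullExact.pull_preservesFiniteLimits j
  haveI : (EtCoh.pull j).PreservesMonomorphisms := inferInstance
  haveI : Injective ((EtCoh.push j).obj J) := Injective.injective_of_adjoint (EtCoh.pullPushAdj j) J
  haveI : PreservesFiniteLimits (EtCoh.push j) :=
    haveI : (EtCoh.push j).IsRightAdjoint := (EtCoh.pullPushAdj j).isRightAdjoint
    inferInstance
  refine (EtAcycX.isZero_rpush_tor p ((EtCoh.push j).obj J) hm q).of_iso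
    ((EtCoh.Rpush p (q + 1)).mapIso ?_)
  exact PreservesKernel.iso (EtCoh.push j) (m • 𝟙 J) ≪≫
    kernelIsoOfEq (by rw [Functor.map_nsmul, CategoryTheory.Functor.map_id])

/-- the cokernel of `coker (f_* i) → f_* C` is the first higher direct image -/
theorem nonempty_cok_iso (f : X ⟶ Z) {S : ShortComplex (EtCoh.Ab X)} (hS : S.ShortExact)
    (h₂ : IsZero ((EtCoh.Rpush f 1).obj S.X₂))
    (w : (EtCoh.push f).map S.f ≫ (EtCoh.push f).map S.g = 0) :
    Nonempty (cokernel (cokernel.desc ((EtCoh.push f).map S.f) ((EtCoh.push f).map S.g) w) ≅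
      (EtCoh.Rpush f 1).obj S.X₁) := by
  let Rd := RDerLib.derivedLES (EtCoh.push f)
  haveI : PreservesFiniteLimits (EtCoh.push f) :=
    haveI : (EtCoh.push f).IsRightAdjoint := (EtCoh.pullPushAdj f).isRightAdjoint
    inferInstance
  let d : (EtCoh.push f).obj S.X₃ ⟶ (EtCoh.Rpush f 1).obj S.X₁ := (pushZeroIso f _).inv ≫ Rd.δ S hS 0 1 rfl
  haveI : Epi d := by
    haveI := (Rd.exact₁ S hS 0 1 rfl).epi_f (h₂.eq_of_tgt _ _)
    exact epi_comp _ _
  have hnat : (EtCoh.Rpush f 0).map S.g ≫ (pushZeroIso f S.X₃).hom =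
      (pushZeroIso f S.X₂).hom ≫ (EtCoh.push f).map S.g :=
    (EtCoh.push f).rightDerivedZeroIsoSelf.hom.naturality _
  have hd0 : (EtCoh.push f).map S.g ≫ d = 0 := by
    rw [← cancel_epi (pushZeroIso f S.X₂).hom, ← Category.assoc, ← hnat, Category.assoc, Iso.hom_inv_id_assoc,
      comp_zero]
    exact Rd.comp_δ S hS 0 1 rfl
  have hd : (ShortComplex.mk ((EtCoh.push f).map S.g) d hd0).Exact := by
    refine (ShortComplex.exact_iff_of_iso ?_).1 (Rd.exact₃ S hS 0 1 rfl)
    exact ShortComplex.isoMk (pushZeroIso f _) (pushZeroIso f _) (Iso.refl _) hnat.symm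
      ((Category.comp_id _).trans (Iso.hom_inv_id_assoc (pushZeroIso f _) _).symm).symm
  exact ⟨(cokernelEpiComp (cokernel.π ((EtCoh.push f).map S.f)) _).symm ≪≫
    cokernelIsoOfEq (cokernel.π_desc _ _ w) ≪≫
    IsColimit.coconePointUniqueUpToIso (cokernelIsCokernel _) hd.gIsCokernel⟩

/-- **higher direct images of a composite vanish where all terms of the second page vanish** -/
theorem zeroAt_Rpush_comp (j : X ⟶ Z) (p : Z ⟶ Y) {m : ℕ} (hm : 0 < m) (y : Y) :
    ∀ (q : ℕ) (F : EtCoh.Ab X), Killed m F → ZeroAt ((EtCoh.Rpush p (q + 1)).obj ((EtCoh.push j).obj F)) y →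
      (∀ a t : ℕ, a + t = q → ZeroAt ((EtCoh.Rpush p a).obj ((EtCoh.Rpush j (t + 1)).obj F)) y) →
      ZeroAt ((EtCoh.Rpush (j ≫ p) (q + 1)).obj F) y := by
  intro q
  induction q with
  | zero =>
    intro F hF h0 hat
    obtain ⟨J, hJ, i, hi⟩ := EtAcycX.exists_hullKd (m := m) ((killed_iff m F).1 hF)
    let S := ShortComplex.mk i (cokernel.π i) (cokernel.condition i)
    have hS : S.ShortExact := { exact := ShortComplex.exact_of_g_is_cokernel _ (cokernelIsCokernel i) }
    let Rg := RDerLib.derivedLES (EtCoh.push (j ≫ p))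
    let Rj := RDerLib.derivedLES (EtCoh.push j)
    haveI : Epi (Rg.δ S hS 0 1 rfl) :=
      (Rg.exact₁ S hS 0 1 rfl).epi_f ((EtAcycX.isZero_rpush_tor (j ≫ p) J hm 0).eq_of_tgt _ _)
    haveI : PreservesFiniteLimits (EtCoh.push j) :=
      haveI : (EtCoh.push j).IsRightAdjoint := (EtCoh.pullPushAdj j).isRightAdjoint
      inferInstance
    haveI : PreservesFiniteLimits (EtCoh.push p) :=
      haveI : (EtCoh.push p).IsRightAdjoint := (EtCoh.pullPushAdj p).isRightAdjoint
      inferInstance
    let v : cokernel ((EtCoh.push j).map i) ⟶ (EtCoh.push j).obj (cokernel i) :=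
      cokernel.desc _ ((EtCoh.push j).map (cokernel.π i))
        (by rw [← Functor.map_comp, cokernel.condition, Functor.map_zero])
    haveI : Mono v := mono_desc_map (EtCoh.push j) hS _
    haveI : Mono ((EtCoh.push j).map i) := inferInstance
    let S₁ := ShortComplex.mk ((EtCoh.push j).map i) (cokernel.π _) (cokernel.condition _)
    have hS₁ : S₁.ShortExact := { exact := ShortComplex.exact_of_g_is_cokernel _ (cokernelIsCokernel _) }
    let S₂ := ShortComplex.mk v (cokernel.π v) (cokernel.condition v)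
    have hS₂ : S₂.ShortExact := { exact := ShortComplex.exact_of_g_is_cokernel _ (cokernelIsCokernel v) }
    have hc1 : ZeroAt (cokernel ((EtCoh.push p).map (cokernel.π ((EtCoh.push j).map i)))) y :=
      zeroAt_cokernel_push_map p hS₁ h0
    have hcv : ZeroAt (cokernel ((EtCoh.push p).map v)) y := by
      have hsurj : ZeroAt ((EtCoh.push p).obj (cokernel v)) y := by
        have hR1 : ZeroAt ((EtCoh.push p).obj ((EtCoh.Rpush j 1).obj F)) y :=
          zeroAt_of_iso (pushZeroIso p _) (hat 0 0 rfl)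
        obtain ⟨w⟩ := nonempty_cok_iso j hS (EtAcycX.isZero_rpush_tor j J hm 0) _
        exact zeroAt_of_iso ((EtCoh.push p).mapIso w).symm hR1
      let v' := cokernel.desc ((EtCoh.push p).map v) ((EtCoh.push p).map (cokernel.π v))
        (by rw [← Functor.map_comp, cokernel.condition, Functor.map_zero])
      haveI : Mono v' := mono_desc_map (EtCoh.push p) hS₂ _
      exact zeroAt_of_mono v' hsurj
    have hc : ZeroAt (cokernel ((EtCoh.push (j ≫ p)).map (cokernel.π i))) y := by
      have h1 := zeroAt_cokernel_comp _ _ hc1 hcv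
      rw [← Functor.map_comp, cokernel.π_desc] at h1
      refine zeroAt_of_iso (cokernel.mapIso _ _ ((EtCoh.pushComp p j).app _) ((EtCoh.pushComp p j).app _)
        ((EtCoh.pushComp p j).hom.naturality _)) h1
    let d : (EtCoh.push (j ≫ p)).obj (cokernel i) ⟶ (EtCoh.Rpush (j ≫ p) 1).obj F :=
      (pushZeroIso (j ≫ p) _).inv ≫ Rg.δ S hS 0 1 rfl
    haveI : PreservesFiniteLimits (EtCoh.push (j ≫ p)) :=
      haveI : (EtCoh.push (j ≫ p)).IsRightAdjoint := (EtCoh.pullPushAdj (j ≫ p)).isRightAdjoint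
      inferInstance
    have hd : (EtCoh.push (j ≫ p)).map (cokernel.π i) ≫ d = 0 := by
      rw [← cancel_epi (pushZeroIso (j ≫ p) (EtColimH.tor J m)).hom, ← Category.assoc,
        show (pushZeroIso (j ≫ p) (EtColimH.tor J m)).hom ≫ (EtCoh.push (j ≫ p)).map (cokernel.π i) =
          (EtCoh.Rpush (j ≫ p) 0).map (cokernel.π i) ≫ (pushZeroIso (j ≫ p) _).hom from
          ((EtCoh.push (j ≫ p)).rightDerivedZeroIsoSelf.hom.naturality _).symm, Category.assoc,
        Iso.hom_inv_id_assoc, comp_zero]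
      exact Rg.comp_δ S hS 0 1 rfl
    haveI : Epi d := epi_comp _ _
    haveI : Epi (cokernel.desc _ d hd) := epi_of_epi_fac (cokernel.π_desc _ d hd)
    exact zeroAt_of_epi (cokernel.desc _ d hd) hc
  | succ q ih =>
    intro F hF h0 hat
    obtain ⟨J, hJ, i, hi⟩ := EtAcycX.exists_hullKd (m := m) ((killed_iff m F).1 hF)
    let S := ShortComplex.mk i (cokernel.π i) (cokernel.condition i)
    have hS : S.ShortExact := { exact := ShortComplex.exact_of_g_is_cokernel _ (cokernelIsCokernel i) }
    have hC : Killed m (cokernel i) := killed_of_epi (cokernel.π i) ((killed_iff m _).2 (EtAcycX.kd_tor J m))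
    let Rg := RDerLib.derivedLES (EtCoh.push (j ≫ p))
    let Rj := RDerLib.derivedLES (EtCoh.push j)
    let Rp := RDerLib.derivedLES (EtCoh.push p)
    haveI : Epi (Rg.δ S hS (q + 1) (q + 2) rfl) :=
      (Rg.exact₁ S hS (q + 1) (q + 2) rfl).epi_f ((EtAcycX.isZero_rpush_tor (j ≫ p) J hm (q + 1)).eq_of_tgt _ _)
    refine zeroAt_of_epi (Rg.δ S hS (q + 1) (q + 2) rfl) (ih (cokernel i) hC ?_ fun a t hat' => ?_)
    swap
    · haveI := (Rj.exact₁ S hS (t + 1) (t + 2) rfl).epi_f ((EtAcycX.isZero_rpush_tor j J hm (t + 1)).eq_of_tgt _ _)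
      haveI := (Rj.exact₃ S hS (t + 1) (t + 2) rfl).mono_g ((EtAcycX.isZero_rpush_tor j J hm t).eq_of_src _ _)
      haveI : IsIso (Rj.δ S hS (t + 1) (t + 2) rfl) := isIso_of_mono_of_epi _
      exact zeroAt_of_iso ((EtCoh.Rpush p a).mapIso (asIso (Rj.δ S hS (t + 1) (t + 2) rfl))).symm
        (hat a (t + 1) (by omega))
    haveI : PreservesFiniteLimits (EtCoh.push j) :=
      haveI : (EtCoh.push j).IsRightAdjoint := (EtCoh.pullPushAdj j).isRightAdjoint
      inferInstance
    let v : cokernel ((EtCoh.push j).map i) ⟶ (EtCoh.push j).obj (cokernel i) :=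
      cokernel.desc _ ((EtCoh.push j).map (cokernel.π i))
        (by rw [← Functor.map_comp, cokernel.condition, Functor.map_zero])
    haveI : Mono v := mono_desc_map (EtCoh.push j) hS _
    haveI : Mono ((EtCoh.push j).map i) := inferInstance
    let S₁ := ShortComplex.mk ((EtCoh.push j).map i) (cokernel.π _) (cokernel.condition _)
    have hS₁ : S₁.ShortExact := { exact := ShortComplex.exact_of_g_is_cokernel _ (cokernelIsCokernel _) }
    let S₂ := ShortComplex.mk v (cokernel.π v) (cokernel.condition v)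
    have hS₂ : S₂.ShortExact := { exact := ShortComplex.exact_of_g_is_cokernel _ (cokernelIsCokernel v) }
    have him : ZeroAt ((EtCoh.Rpush p (q + 1)).obj (cokernel ((EtCoh.push j).map i))) y := by
      haveI := (Rp.exact₃ S₁ hS₁ (q + 1) (q + 2) rfl).mono_g ((isZero_rpush_push_tor j p J hm q).eq_of_src _ _)
      exact zeroAt_of_mono (Rp.δ S₁ hS₁ (q + 1) (q + 2) rfl) h0
    have hcok : ZeroAt ((EtCoh.Rpush p (q + 1)).obj (cokernel v)) y := by
      refine zeroAt_of_iso ((EtCoh.Rpush p (q + 1)).mapIso ?_).symm (hat (q + 1) 0 (by omega))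
      exact (nonempty_cok_iso j hS (EtAcycX.isZero_rpush_tor j J hm 0) _).some
    exact zeroAt_middle (Rp.exact₂ S₂ hS₂ (q + 1)) him hcok

end Comp

end Groth.Agent.EtPBC
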