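import Groth.Agent.EtPBC.AffineLefDim
import Groth.Agent.EtPBC.CdLerayEdge
import Groth.Agent.EtPBC.AffineCurve
import Groth.Agent.EtPBC.CdModel
import Groth.Agent.REqP1.Link
import Mathlib

/-!
# Affine Lefschetz: affine schemes of dimension `n` over separably closed fields have `cd ≤ n`
-/

set_option autoImplicit false
set_option backward.isDefEq.respectTransparency false
set_option backward.isDefEq.respectTransparency.types false
set_option linter.auxLemma false
set_option linter.style.haveILetI false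
set_option linter.unusedSectionVars false
set_option maxHeartbeats 2000000

universe u

open CategoryTheory CategoryTheory.Limits CategoryTheory.Abelian AlgebraicGeometry Opposite TopologicalSpace IsLocalRing

noncomputable section

namespace Groth.Agent.EtPBC

attribute [local instance 100000] EtCoh.H._proof_1 EtMV.hext
attribute [local instance 200000] EtMV.hextAb

theorem isAffine_pullback_of_affine {X T S : Scheme.{u}} (a : X ⟶ S) (ω : T ⟶ S) [IsAffine X] [IsAffine T]
    [IsAffine S] : IsAffine (pullback a ω) := by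
  haveI : IsAffineHom ω := isAffineHom_of_isAffine ω
  exact isAffine_of_isAffineHom (pullback.fst a ω)

/-- affine schemes of dimension `n` over separably closed fields have `cd ≤ n` -/
def AffVan (n : ℕ) : Prop :=
  ∀ (k : Type u) [Field k] [IsSepClosed k] (X : Scheme.{u}) [IsAffine X] (c : X ⟶ Spec (CommRingCat.of k))
    [LocallyOfFiniteType c], topologicalKrullDim X ≤ n → KVan X n

theorem affVan_field {n : ℕ} (hA : AffVan.{u} n) {K : Type u} [Field K] {X : Scheme.{u}} [IsAffine X]
    (f : X ⟶ Spec (CommRingCat.of K)) [LocallyOfFiniteType f] (hn : topologicalKrullDim X ≤ n) {e : ℕ}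
    (hK : KVanOn Set.univ (Spec (CommRingCat.of K)) e) : KVanOn Set.univ X (n + e) :=
  kVanOn_of_sepClosure f hK fun Ω _ _ φ hφ => by
    haveI : IsAffine (pullback f (Spec.map (CommRingCat.ofHom φ))) :=
      isAffine_of_isAffineHom (pullback.fst f (Spec.map (CommRingCat.ofHom φ)))
    exact (hA Ω _ (pullback.snd f _) (topologicalKrullDim_sepBase f hn φ hφ)).on _

/-- the stages -/
theorem cohDimLE_stage {d₀ : ℕ} (hA : AffVan.{u} d₀) {K : Type u} [Field K] {X : Scheme.{u}} [IsAffine X]
    (c : X ⟶ Spec (CommRingCat.of K)) [LocallyOfFiniteType c] (hn : topologicalKrullDim X ≤ d₀) {e : ℕ}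
    (hK : KVanOn Set.univ (Spec (CommRingCat.of K)) e) (W : Scheme.{u}) (t : W ⟶ X) (hW : IsAffine W)
    (ht : Etale t) : EtCoh.CohDimLE W (d₀ + e) := by
  haveI := hW
  haveI := ht
  haveI : IsAffineHom t := isAffineHom_of_isAffine t
  exact cohDimLE_of_kVanOn (affVan_field hA (t ≫ c) (dim_le_of_etale c hn t) hK)

theorem affVan_zero : AffVan.{u} 0 := by
  intro k _ _ X _ c _ hn
  exact kVan_resDim_zero c fun x => resDim_of_dim_le c hn x

theorem affVan_one : AffVan.{u} 1 := by
  intro k _ _ X _ c _ hn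
  let Ω := AlgebraicClosure k
  let i := Spec.map (CommRingCat.ofHom (algebraMap k Ω))
  haveI := EtAcycX.universallyInjective_specMap k Ω
  haveI : IsIntegralHom i := IsIntegralHom.SpecMap_iff.2 (algebraMap_isIntegral_iff.2 inferInstance)
  haveI : Surjective i := ⟨fun z => ⟨default, @Subsingleton.elim (Spec (CommRingCat.of k)) _ _ z⟩⟩
  haveI : IsAffine (pullback c i) := isAffine_of_isAffineHom (pullback.fst c i)
  have h := kVanOn_of_cohDimLE (L := Set.univ) (cohDimLE_affine_curve (pullback c i) (pullback.snd c i)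
    (topologicalKrullDim_sepBase c hn (algebraMap k Ω) (algebraMap_isIntegral_iff.2 inferInstance)))
  haveI : UniversallyInjective (pullback.fst c i) := MorphismProperty.pullback_fst _ _ inferInstance
  haveI : Surjective (pullback.fst c i) := MorphismProperty.pullback_fst _ _ ‹Surjective i›
  haveI : IsIntegralHom (pullback.fst c i) := MorphismProperty.pullback_fst _ _ ‹IsIntegralHom i›
  intro m hm F hF q hq
  exact subsingleton_H_of_univHomeo (pullback.fst c i) F q
    (h.univ m hm _ (killed_pull (pullback.fst c i) hF) q hq)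

/-- the closed point of a strict localisation lies over the point -/
theorem specOf_closedPoint {X : Scheme.{u}} (x : X) (R : Type u) [CommRing R] [IsLocalRing R]
    [Algebra (X.presheaf.stalk x) R] [IsLocalHom (algebraMap (X.presheaf.stalk x) R)] :
    Hens2.specOf X x R (closedPoint R) = x := by
  rw [Hens2.specOf, Scheme.Hom.comp_apply]
  refine (congrArg (X.fromSpecStalk x) ?_).trans Scheme.fromSpecStalk_closedPoint
  exact IsLocalRing.comap_closedPoint (algebraMap (X.presheaf.stalk x) R)

section Indep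

variable {k : Type u} [Field k] (B : Type u) [CommRing B] [Algebra k B] [Algebra.FiniteType k B]

/-- points with residue fields of large transcendence degree carry independent functions -/
theorem exists_indep (y : Spec (CommRingCat.of B)) {j : ℕ}
    (h : ¬ ResDim (Spec.map (CommRingCat.ofHom (algebraMap k B))) y j) :
    ∃ b : Fin (j + 1) → B, AlgebraicIndependent k (fun i => Ideal.Quotient.mk y.asIdeal (b i)) := by
  let P := y.asIdeal
  have e : kStr (Spec.map (CommRingCat.ofHom (algebraMap k B))) y =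
      ((Scheme.Spec.residueFieldIso (CommRingCat.of B) y).inv).hom.comp (algebraMap k P.ResidueField) := by
    have hh : CommRingCat.ofHom (kStr (Spec.map (CommRingCat.ofHom (algebraMap k B))) y) =
        CommRingCat.ofHom (algebraMap k P.ResidueField) ≫ (Scheme.Spec.residueFieldIso (CommRingCat.of B) y).inv := by
      apply Spec.map_injective
      rw [kStr_spec, Spec.map_comp, ← Scheme.Spec.map_residueFieldIso_inv_eq_fromSpecResidueField, Category.assoc,
        ← Spec.map_comp (f := CommRingCat.ofHom (algebraMap k B))]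
      rfl
    exact congrArg CommRingCat.Hom.hom hh
  have h1 : trdg (kStr (Spec.map (CommRingCat.ofHom (algebraMap k B))) y) = Algebra.trdeg k (B ⧸ P) := by
    rw [e, trdg_comp_integral_right _ _ (RingHom.isIntegral_of_surjective _
      (ConcreteCategory.bijective_of_isIso (Scheme.Spec.residueFieldIso (CommRingCat.of B) y).inv).2)]
    show @Algebra.trdeg k P.ResidueField _ _ (algebraMap k P.ResidueField).toAlgebra = _
    rw [show (algebraMap k P.ResidueField).toAlgebra = (inferInstance : Algebra k P.ResidueField) from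
      Algebra.algebra_ext _ _ fun _ => rfl]
    haveI : FaithfulSMul (B ⧸ P) P.ResidueField :=
      (faithfulSMul_iff_algebraMap_injective _ _).2 (IsFractionRing.injective _ _)
    haveI : FaithfulSMul k (B ⧸ P) :=
      (faithfulSMul_iff_algebraMap_injective _ _).2 (algebraMap k (B ⧸ P)).injective
    haveI : Algebra.IsAlgebraic (B ⧸ P) P.ResidueField := IsLocalization.isAlgebraic _ (nonZeroDivisors (B ⧸ P))
    rw [← trdeg_add_eq k (B ⧸ P) (A := P.ResidueField), trdeg_eq_zero (R := B ⧸ P) (A := P.ResidueField), add_zero]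
  haveI : LocallyOfFiniteType (Spec.map (CommRingCat.ofHom (algebraMap k B))) :=
    (HasRingHomProperty.Spec_iff (P := @LocallyOfFiniteType)).2
      (RingHom.finiteType_algebraMap.2 (inferInstance : Algebra.FiniteType k B))
  have h2 : ((j + 1 : ℕ) : Cardinal.{u}) ≤ Algebra.trdeg k (B ⧸ P) := by
    obtain ⟨d, hd, -⟩ := exists_trdg_eq (Spec.map (CommRingCat.ofHom (algebraMap k B))) y
    rw [← h1, hd, Nat.cast_le]
    refine Nat.succ_le_of_lt (Nat.lt_of_not_le fun hle => h ?_)
    show trdg (kStr _ y) ≤ _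
    rw [hd]
    exact Nat.cast_le.2 hle
  haveI : FaithfulSMul k (B ⧸ P) :=
    (faithfulSMul_iff_algebraMap_injective _ _).2 (algebraMap k (B ⧸ P)).injective
  obtain ⟨ι, v, hv⟩ := exists_isTranscendenceBasis' k (B ⧸ P)
  rw [← hv.cardinalMk_eq_trdeg, ← Cardinal.lift_natCast.{0}] at h2
  obtain ⟨φ⟩ : Nonempty (Fin (j + 1) ↪ ι) := by
    rw [← Cardinal.lift_mk_le', Cardinal.mk_fin]
    simpa using h2
  choose b hb using fun i => Ideal.Quotient.mk_surjective (v (φ i))
  refine ⟨b, ?_⟩
  rw [show (fun i => Ideal.Quotient.mk y.asIdeal (b i)) = v ∘ φ from funext hb]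
  exact hv.1.comp φ φ.injective

end Indep

variable {k : Type u} [Field k] [IsSepClosed k]

/-- sheaves supported in small dimension -/
theorem subsingleton_H_of_resDim_affine {j : ℕ} (hA : AffVan.{u} j) {X : Scheme.{u}} [IsAffine X]
    (c : X ⟶ Spec (CommRingCat.of k)) [LocallyOfFiniteType c] (G : EtCoh.Ab X) {N : ℕ} (hN : 0 < N)
    (hG : Killed N G) (h0 : ∀ x, ¬ ResDim c x j → ZeroAt G x) (q : ℕ) (hq : j < q) :
    Subsingleton (EtCoh.H X G q) := by
  haveI := isNoetherian_of_field c
  refine subsingleton_H_of_suppPred G (fun x y hxy hx => hx.of_specializes c hxy) h0 q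
    fun C hC K i hi hK => ?_
  let ι := (Scheme.IdealSheafData.vanishingIdeal C).subschemeι
  have hr : Set.range ι = (C : Set X) := by
    show Set.range (Scheme.IdealSheafData.vanishingIdeal C).subschemeι = _
    rw [Scheme.IdealSheafData.range_subschemeι, Scheme.IdealSheafData.coe_support_vanishingIdeal]
  haveI := hi
  have hK' : Killed N K := killed_of_mono i hG
  refine subsingleton_H_of_closedImmersion ι K hN hK' (fun x hx => hK x fun h => hx (hr.symm ▸ h)) q ?_
  haveI : IsAffine (Scheme.IdealSheafData.vanishingIdeal C).subscheme := isAffine_of_isAffineHom ι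
  refine hA k _ (ι ≫ c) (dim_le_of_resDim (ι ≫ c) fun z => ?_) N hN _ (killed_pull ι hK') q hq
  rw [resDim_closedImmersion]
  exact hC _ (hr.le ⟨z, rfl⟩)

theorem trdeg_functionField (r : ℕ) :
    Algebra.trdeg k (FractionRing (MvPolynomial (Fin r) k)) = r := by
  haveI : FaithfulSMul k (MvPolynomial (Fin r) k) :=
    (faithfulSMul_iff_algebraMap_injective _ _).2 (algebraMap k _).injective
  haveI : FaithfulSMul (MvPolynomial (Fin r) k) (FractionRing (MvPolynomial (Fin r) k)) :=
    (faithfulSMul_iff_algebraMap_injective _ _).2 (IsFractionRing.injective _ _)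
  haveI : Algebra.IsAlgebraic (MvPolynomial (Fin r) k) (FractionRing (MvPolynomial (Fin r) k)) :=
    IsLocalization.isAlgebraic _ (nonZeroDivisors (MvPolynomial (Fin r) k))
  rw [← trdeg_add_eq k (MvPolynomial (Fin r) k) (A := FractionRing (MvPolynomial (Fin r) k)),
    MvPolynomial.trdeg_of_isDomain,
    trdeg_eq_zero (R := MvPolynomial (Fin r) k) (A := FractionRing (MvPolynomial (Fin r) k)), add_zero]
  simp

theorem kVan_fibre_line {Y : Scheme.{u}} {Ω : Type u} [Field Ω] [IsSepClosed Ω]
    (ξ : Spec (CommRingCat.of Ω) ⟶ Y) : KVan (pullback (CohB1.ProjSpaceOver.toBase 1 Y) ξ) 2 := by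
  intro m hm F hF q hq
  let e := (P1FinClopen.toP1_pullbackSquare ξ).isoPullback
  haveI := EtPullExact.pull_preservesFiniteLimits e.hom
  haveI := kVan_line (Ω := Ω) m hm _ (killed_pull e.hom hF) q hq
  exact (bijective_Hpull_of_isIso e.hom F q).1.subsingleton

variable (B : Type u) [CommRing B] [Algebra k B] [Algebra.FiniteType k B]

/-- the base -/
local notation "YB" => Spec (CommRingCat.of B)
/-- the line over the base -/
local notation "UB" => Spec (CommRingCat.of (Polynomial B))
/-- the projection -/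
local notation "gB" => Spec.map (CommRingCat.ofHom (Polynomial.C : B →+* Polynomial B))

/-- **the projection of the affine line: points of positive transcendence degree** -/
theorem zeroAt_Rpush_line_pos (y : YB) {r : ℕ} (b : Fin r → B)
    (hb : AlgebraicIndependent k (fun i => Ideal.Quotient.mk y.asIdeal (b i))) {n : ℕ}
    (hn : topologicalKrullDim UB ≤ n) (hA : AffVan.{u} (n - r)) (F : EtCoh.Ab UB) {m : ℕ} (hm : 0 < m)
    (hF : Killed m F) (q : ℕ) (hq : n - r < q) : ZeroAt ((EtCoh.Rpush gB q).obj F) y := by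
  let P := MvPolynomial (Fin r) k
  let θ : P →ₐ[k] B := MvPolynomial.aeval b
  let b₀ : YB ⟶ affSp k r := Spec.map (CommRingCat.ofHom θ.toRingHom)
  have hgen : ∀ p : P, θ p ∈ y.asIdeal → p = 0 := by
    intro p hp
    have h0 : MvPolynomial.aeval (fun i => Ideal.Quotient.mk y.asIdeal (b i)) p = 0 := by
      have e : (Ideal.Quotient.mkₐ k y.asIdeal).comp θ =
          MvPolynomial.aeval (fun i => Ideal.Quotient.mk y.asIdeal (b i)) :=
        MvPolynomial.algHom_ext fun i => by simp [θ]
      rw [← e]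
      exact Ideal.Quotient.eq_zero_iff_mem.2 hp
    exact hb.eq_zero_of_aeval_eq_zero p h0
  obtain ⟨R, _, _, _, _, hR⟩ := EtBCQ.exists_sh ((YB).presheaf.stalk y)
  haveI : HenselianLocalRing R := hR.henselian
  haveI : IsSepClosed (ResidueField R) := hR.isSepClosure.1
  let τ : P →+* R := (Spec.preimage (Hens2.specOf YB y R ≫ b₀)).hom
  have hτ : Spec.map (CommRingCat.ofHom τ) = Hens2.specOf YB y R ≫ b₀ := Spec.map_preimage _
  have hcl : Hens2.specOf YB y R (closedPoint R) = y := specOf_closedPoint y R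
  have hunit : ∀ p : nonZeroDivisors P, IsUnit (τ p) := fun p => by
    by_contra hu
    have h1 : (p : P) ∈ ((Spec.map (CommRingCat.ofHom τ)) (closedPoint R)).asIdeal := hu
    rw [hτ, Scheme.Hom.comp_apply, hcl] at h1
    exact nonZeroDivisors.ne_zero p.2 (hgen _ h1)
  let K₀ := FractionRing P
  let τ₀ : K₀ →+* R := IsLocalization.lift hunit
  obtain ⟨Ω, _, _, _, _, ι, hι⟩ := exists_sepClosure_hom (K := K₀) (R := R) τ₀
  letI : Algebra P Ω := ((algebraMap K₀ Ω).comp (algebraMap P K₀)).toAlgebra
  haveI : IsScalarTower P K₀ Ω := IsScalarTower.of_algebraMap_eq fun _ => rfl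
  let rω : Spec (CommRingCat.of R) ⟶ Spec (CommRingCat.of Ω) := Spec.map (CommRingCat.ofHom ι)
  have hrω : rω ≫ affPt (k := k) (r := r) Ω = Hens2.specOf YB y R ≫ b₀ := by
    rw [← hτ, ← Spec.map_comp]
    refine congrArg Spec.map (CommRingCat.hom_ext (RingHom.ext fun p => ?_))
    show ι (algebraMap K₀ Ω (algebraMap P K₀ p)) = τ p
    rw [← RingHom.comp_apply ι, hι]
    exact IsLocalization.lift_eq hunit p
  let cU : UB ⟶ Spec (CommRingCat.of k) := Spec.map (CommRingCat.ofHom (algebraMap k (Polynomial B)))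
  haveI : LocallyOfFiniteType cU :=
    (HasRingHomProperty.Spec_iff (P := @LocallyOfFiniteType)).2
      (RingHom.finiteType_algebraMap.2 (inferInstance : Algebra.FiniteType k (Polynomial B)))
  haveI : IsAffineHom gB := isAffineHom_of_isAffine _
  let a₀ : UB ⟶ affSp k r := gB ≫ b₀
  have ha : a₀ ≫ affSpC k r = cU := by
    show (gB ≫ b₀) ≫ _ = _
    rw [← Spec.map_comp, ← Spec.map_comp]
    refine congrArg Spec.map (CommRingCat.hom_ext (RingHom.ext fun c => ?_))
    show Polynomial.C (θ (algebraMap k P c)) = algebraMap k (Polynomial B) c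
    rw [θ.commutes]
    rfl
  haveI : IsAffine (pullback a₀ (affPt (k := k) (r := r) Ω)) := isAffine_pullback_of_affine _ _
  haveI : LocallyOfFiniteType (a₀ ≫ affSpC k r) := by rw [ha]; infer_instance
  haveI : LocallyOfFiniteType a₀ := locallyOfFiniteType_of_comp a₀ (affSpC k r)
  have hk := kVanOn_xR_of gB y R a₀ (affPt (k := k) (r := r) Ω) (pullback.snd gB (Hens2.specOf YB y R) ≫ rω)
    (by rw [Category.assoc, hrω, ← Category.assoc, ← pullback.condition, Category.assoc]) (n - r + 0)
    (cohDimLE_stage hA (pullback.snd a₀ _) (dim_pullback_affPt cU a₀ ha Ω hn) (kVanOn_sepClosed Ω))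
  refine (isZero_stalk_iff_zeroAt (EtBCQ.geomPt_apply y R) _).1 ?_
  obtain ⟨e⟩ := EtStrictLoc.nonempty_stalkRpush gB y R q
  exact (@AddCommGrpCat.isZero_of_subsingleton _ (hk.univ m hm _ (killed_pull _ hF) q hq)).of_iso (e.app F)

variable [Algebra P1.R0.{u} B]

/-- the affine line inside the projective line -/
def lineJ : UB ⟶ CohB1.ProjSpaceOver 1 YB :=
  let e : REqP1.ChartOver B ≃+* Polynomial B := REqP1.chartOverEquiv B
  let φ : CommRingCat.of (REqP1.ChartOver B) ≅ CommRingCat.of (Polynomial B) :=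
    RingEquiv.toCommRingCatIso (R := REqP1.ChartOver B) (S := Polynomial B) e
  Spec.map φ.hom ≫ REqP1.chartOver B 0

instance : IsOpenImmersion (lineJ B) := by
  unfold lineJ
  infer_instance

theorem lineJ_toBase : lineJ B ≫ CohB1.ProjSpaceOver.toBase 1 YB = gB := by
  rw [lineJ, Category.assoc, REqP1.chartOver_toBase, ← Spec.map_comp]
  exact congrArg Spec.map (CommRingCat.hom_ext (RingHom.ext fun a => chartOverEquiv_includeRight B a))

instance : IsAffineHom (lineJ B) := by
  haveI : IsAffineHom (lineJ B ≫ CohB1.ProjSpaceOver.toBase 1 YB) := by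
    rw [lineJ_toBase]; exact isAffineHom_of_isAffine _
  exact IsAffineHom.of_comp (lineJ B) (CohB1.ProjSpaceOver.toBase 1 YB)

/-- an open immersion has no higher direct images over its image -/
theorem zeroAt_Rpush_openImmersion {U Z : Scheme.{u}} (j : U ⟶ Z) [IsOpenImmersion j] [QuasiCompact j]
    (F : EtCoh.Ab U) (t : ℕ) {z : Z} (hz : z ∈ Set.range j) : ZeroAt ((EtCoh.Rpush j (t + 1)).obj F) z := by
  obtain ⟨R, _, _, _, _, hR⟩ := EtBCQ.exists_sh (Z.presheaf.stalk z)
  haveI : HenselianLocalRing R := hR.henselian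
  haveI : IsSepClosed (ResidueField R) := hR.isSepClosure.1
  refine (isZero_stalk_iff_zeroAt (EtBCQ.geomPt_apply z R) _).1 ?_
  obtain ⟨e⟩ := EtStrictLoc.nonempty_stalkRpush j z R (t + 1)
  let s := Hens2.specOf Z z R
  have hz' : ∀ w : Spec (CommRingCat.of R), s w ∈ Set.range j := fun w => by
    have h2 : s (closedPoint R) = z := specOf_closedPoint z R
    exact ((IsLocalRing.specializes_closedPoint w).map s.continuous).mem_open j.isOpenEmbedding.isOpen_range (h2 ▸ hz)
  haveI : IsIso (pullback.snd j s) := by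
    refine isIso_of_isOpenImmersion_of_opensRange_eq_top _ (Opens.ext ?_)
    show Set.range (pullback.snd j s) = Set.univ
    rw [Scheme.Pullback.range_snd]
    exact Set.eq_univ_of_forall hz'
  haveI := subsingleton_H_strictLocal R
    ((EtCoh.pull (inv (pullback.snd j s))).obj ((EtCoh.pull (pullback.fst j s)).obj F)) (t + 1) t.succ_pos
  haveI := EtPullExact.pull_preservesFiniteLimits (inv (pullback.snd j s))
  refine (@AddCommGrpCat.isZero_of_subsingleton _ ?_).of_iso (e.app F)
  exact (bijective_Hpull_of_isIso (inv (pullback.snd j s)) ((EtCoh.pull (pullback.fst j s)).obj F) (t + 1)).1.subsingleton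

variable (k) {B}

include k in
/-- **the open line inside the projective line** -/
theorem isZero_Rpush_lineJ {n : ℕ} (hn : topologicalKrullDim UB ≤ n) (hn1 : 1 ≤ n) (hA : AffVan.{u} (n - 1))
    (F : EtCoh.Ab UB) {m : ℕ} (hm : 0 < m) (hF : Killed m F) (t : ℕ) (ht : n < t) :
    IsZero ((EtCoh.Rpush (lineJ B) t).obj F) := by
  obtain ⟨t, rfl⟩ : ∃ s, t = s + 1 := ⟨t - 1, by omega⟩
  refine isZero_of_zeroAt _ fun z => ?_
  by_cases hzU : z ∈ Set.range (lineJ B)
  · exact zeroAt_Rpush_openImmersion (lineJ B) F t hzU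
  let Zp := CohB1.ProjSpaceOver 1 YB
  let p := CohB1.ProjSpaceOver.toBase 1 YB
  obtain ⟨R, _, _, _, _, hR⟩ := EtBCQ.exists_sh (Zp.presheaf.stalk z)
  haveI : HenselianLocalRing R := hR.henselian
  haveI : IsSepClosed (ResidueField R) := hR.isSepClosure.1
  let P := MvPolynomial (Fin 1) k
  let θ : P →ₐ[k] Polynomial B := MvPolynomial.aeval fun _ => (Polynomial.X : Polynomial B)
  let a₀ : UB ⟶ affSp k 1 := Spec.map (CommRingCat.ofHom θ.toRingHom)
  let s := Hens2.specOf Zp z R
  have hcl : s (closedPoint R) = z := specOf_closedPoint z R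
  let W := EtStrictLoc.xR (lineJ B) z R
  haveI : IsAffine W := isAffine_of_isAffineHom (pullback.snd (lineJ B) s)
  let τ : P →+* Γ(W, ⊤) := (Spec.preimage (W.isoSpec.inv ≫ pullback.fst (lineJ B) s ≫ a₀)).hom
  have hτ : Spec.map (CommRingCat.ofHom τ) = W.isoSpec.inv ≫ pullback.fst (lineJ B) s ≫ a₀ := Spec.map_preimage _
  have hunit : ∀ p : nonZeroDivisors P, IsUnit (τ p) := fun p => by
    by_contra hu
    obtain ⟨M, hM, hpM⟩ := exists_max_ideal_of_mem_nonunits (show τ p ∈ nonunits Γ(W, ⊤) from hu)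
    let w : W := W.isoSpec.inv ⟨M, hM.isPrime⟩
    let v : UB := pullback.fst (lineJ B) s w
    have hv : θ (p : P) ∈ v.asIdeal := by
      have h1 : (p : P) ∈ ((Spec.map (CommRingCat.ofHom τ)) ⟨M, hM.isPrime⟩).asIdeal := hpM
      rw [hτ] at h1
      exact h1
    let e₁ : P ≃ₐ[k] Polynomial k := MvPolynomial.uniqueAlgEquiv k (Fin 1)
    have hθ : θ (p : P) = Polynomial.map (algebraMap k B) (e₁ p) := by
      have e : θ = (Polynomial.mapAlgHom (Algebra.ofId k B)).comp e₁.toAlgHom :=
        MvPolynomial.algHom_ext fun i => by simp [θ, e₁]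
      rw [e]
      rfl
    have hne : e₁ (p : P) ≠ 0 := fun h => nonZeroDivisors.ne_zero p.2 (by simpa using h)
    let Q := Polynomial.map (algebraMap k B) (e₁ p * Polynomial.C (e₁ p).leadingCoeff⁻¹)
    have hQ : Q.Monic := (Polynomial.monic_mul_leadingCoeff_inv hne).map _
    have hQv : Q ∈ v.asIdeal := by
      show Polynomial.map _ _ ∈ _
      rw [Polynomial.map_mul, ← hθ]
      exact v.asIdeal.mul_mem_right _ hv
    let π : CommRingCat.of (Polynomial B) ⟶ CommRingCat.of (Polynomial B ⧸ Ideal.span {Q}) :=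
      CommRingCat.ofHom (Ideal.Quotient.mk _)
    let i := Spec.map π
    haveI : IsFinite ((i ≫ lineJ B) ≫ CohB1.ProjSpaceOver.toBase 1 YB) := by
      rw [Category.assoc, lineJ_toBase, ← Spec.map_comp]
      refine (IsFinite.SpecMap_iff _).2 ?_
      haveI := hQ.finite_quotient
      exact RingHom.finite_algebraMap.2 (inferInstance : Module.Finite B (Polynomial B ⧸ Ideal.span {Q}))
    haveI : IsProper (i ≫ lineJ B) := IsProper.of_comp (i ≫ lineJ B) (CohB1.ProjSpaceOver.toBase 1 YB)
    obtain ⟨v', hv'⟩ : v ∈ Set.range i := by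
      show v ∈ Set.range (PrimeSpectrum.comap π.hom)
      erw [range_comap_of_surjective _ _ Ideal.Quotient.mk_surjective]
      show (RingHom.ker (Ideal.Quotient.mk (Ideal.span {Q})) : Set (Polynomial B)) ⊆ v.asIdeal
      rw [Ideal.mk_ker]
      exact (Ideal.span_singleton_le_iff_mem _).2 hQv
    have hclosed : IsClosed (Set.range (i ≫ lineJ B)) := (i ≫ lineJ B).isClosedMap.isClosed_range
    have hjv : lineJ B v = s (pullback.snd (lineJ B) s w) := congr($(pullback.condition (f := lineJ B) (g := s)) w)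
    have hspec : lineJ B v ⤳ z := by
      rw [hjv, ← hcl]
      exact (IsLocalRing.specializes_closedPoint _).map s.continuous
    obtain ⟨v'', hv''⟩ := hspec.mem_closed hclosed ⟨v', by rw [Scheme.Hom.comp_apply, hv']⟩
    exact hzU ⟨i v'', by rw [← hv'', Scheme.Hom.comp_apply]⟩
  let K₀ := FractionRing P
  let τ₀ : K₀ →+* Γ(W, ⊤) := IsLocalization.lift hunit
  let σ : W ⟶ Spec (CommRingCat.of K₀) := W.isoSpec.hom ≫ Spec.map (CommRingCat.ofHom τ₀)
  have hσ : σ ≫ affPt (k := k) (r := 1) K₀ = pullback.fst (lineJ B) s ≫ a₀ := by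
    rw [Category.assoc, ← Spec.map_comp]
    refine (congrArg (W.isoSpec.hom ≫ ·) ?_).trans
      ((congrArg (W.isoSpec.hom ≫ ·) hτ).trans (Iso.hom_inv_id_assoc _ _))
    exact congrArg Spec.map (CommRingCat.hom_ext (RingHom.ext fun x => IsLocalization.lift_eq hunit x))
  let cU : UB ⟶ Spec (CommRingCat.of k) := Spec.map (CommRingCat.ofHom (algebraMap k (Polynomial B)))
  haveI : LocallyOfFiniteType cU :=
    (HasRingHomProperty.Spec_iff (P := @LocallyOfFiniteType)).2
      (RingHom.finiteType_algebraMap.2 (inferInstance : Algebra.FiniteType k (Polynomial B)))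
  have ha : a₀ ≫ affSpC k 1 = cU := by
    rw [← Spec.map_comp]
    exact congrArg Spec.map (CommRingCat.hom_ext (RingHom.ext fun c => θ.commutes c))
  haveI : IsAffine (pullback a₀ (affPt (k := k) (r := 1) K₀)) := isAffine_pullback_of_affine _ _
  haveI : LocallyOfFiniteType (a₀ ≫ affSpC k 1) := by rw [ha]; infer_instance
  haveI : LocallyOfFiniteType a₀ := locallyOfFiniteType_of_comp a₀ (affSpC k 1)
  have hK₀ : KVanOn Set.univ (Spec (CommRingCat.of K₀)) (0 + 1) :=
    kVanOn_of_trdeg_le 1 (kVanOn_sepClosed k) K₀ (by rw [trdeg_functionField])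
  have hk := kVanOn_xR_of (lineJ B) z R a₀ (affPt (k := k) (r := 1) K₀) σ hσ (n - 1 + (0 + 1))
    (cohDimLE_stage hA (pullback.snd a₀ _) (dim_pullback_fractionRing cU a₀ ha hn) hK₀)
  refine (isZero_stalk_iff_zeroAt (EtBCQ.geomPt_apply z R) _).1 ?_
  obtain ⟨e⟩ := EtStrictLoc.nonempty_stalkRpush (lineJ B) z R (t + 1)
  exact (@AddCommGrpCat.isZero_of_subsingleton _ (hk.univ m hm _ (killed_pull _ hF) (t + 1) (by omega))).of_iso
    (e.app F)

include k in
/-- the fibres of the projection: sheaves supported off the open line live at finitely many points -/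
theorem suppClosed_fibre {Ω : Type u} [Field Ω] [IsSepClosed Ω] (ξ : Spec (CommRingCat.of Ω) ⟶ YB)
    (K : EtCoh.Ab (CohB1.ProjSpaceOver 1 YB)) (hK : ∀ z, z ∈ Set.range (lineJ B) → ZeroAt K z) :
    SuppClosed ((EtCoh.pull (pullback.fst (CohB1.ProjSpaceOver.toBase 1 YB) ξ)).obj K) := by
  intro z hz
  let p := CohB1.ProjSpaceOver.toBase 1 YB
  refine zeroAt_pull _ K z (hK _ ?_)
  let e := (P1FinClopen.toP1_pullbackSquare ξ).isoPullback
  haveI : IsIntegral (CohB1.ProjSpaceOver 1 (Spec (CommRingCat.of Ω))) :=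
    Groth.Agent.REqP1.isIntegral_over' (Spec (CommRingCat.of Ω))
  haveI : IrreducibleSpace ↥(pullback p ξ) :=
    (Homeomorph.irreducibleSpace_iff (TopCat.homeoOfIso (asIso e.hom.base))).1 inferInstance
  have hdim : topologicalKrullDim ↥(pullback p ξ) ≤ 1 := by
    obtain ⟨e', -⟩ := ProjOverIso.exists_iso 1 Ω
    exact (e.inv ≫ e'.hom).isOpenEmbedding.isInducing.topologicalKrullDim_le.trans (Groth.Agent.S10829.result Ω 1).le
  have hgen : z = genericPoint ↥(pullback p ξ) :=
    ((isMaxPt_of_not_closed hdim hz) _ (genericPoint_specializes z)).symm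
  -- a point of the open line over the base point
  let y₀ := ξ (default : ↥(Spec (CommRingCat.of Ω)))
  obtain ⟨u₀, hu₀⟩ : ∃ u₀ : UB, gB u₀ = y₀ := by
    refine ⟨Spec.map (CommRingCat.ofHom (Polynomial.evalRingHom (0 : B))) y₀, ?_⟩
    rw [← Scheme.Hom.comp_apply, ← Spec.map_comp, ← CommRingCat.ofHom_comp,
      show (Polynomial.evalRingHom (0 : B)).comp Polynomial.C = RingHom.id B from RingHom.ext fun b => by simp]
    rw [CommRingCat.ofHom_id, Spec.map_id]
    rfl
  obtain ⟨q, hq, -⟩ := Scheme.Pullback.exists_preimage_pullback (f := p) (g := ξ) (lineJ B u₀)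
    (default : ↥(Spec (CommRingCat.of Ω))) (by
      rw [← Scheme.Hom.comp_apply, lineJ_toBase]
      exact hu₀)
  let O : (pullback p ξ).Opens := (pullback.fst p ξ) ⁻¹ᵁ (lineJ B).opensRange
  have hzO : z ∈ O := hgen ▸ (genericPoint_specializes q).mem_open O.2 (show _ ∈ Set.range (lineJ B) from hq ▸ ⟨u₀, rfl⟩)
  exact hzO

variable [LocallyOfFiniteType (Spec.map (CommRingCat.ofHom (algebraMap k B)))]

include k in
/-- **higher direct images along the projection of the affine line** -/
theorem isZero_Rpush_line {n : ℕ} (hn : topologicalKrullDim UB ≤ n) (hn2 : 2 ≤ n) (hA : AffVan.{u} (n - 1))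
    (F : EtCoh.Ab UB) {m : ℕ} (hm : 0 < m) (hF : Killed m F) (q : ℕ) (hq : n < q) :
    IsZero ((EtCoh.Rpush gB q).obj F) := by
  obtain ⟨q, rfl⟩ : ∃ s, q = s + 1 := ⟨q - 1, by omega⟩
  let p := CohB1.ProjSpaceOver.toBase 1 YB
  haveI : QuasiCompact (lineJ B) := inferInstance
  suffices h : ∀ y, ZeroAt ((EtCoh.Rpush (lineJ B ≫ p) (q + 1)).obj F) y by
    rw [lineJ_toBase] at h
    exact isZero_of_zeroAt _ h
  intro y
  refine zeroAt_Rpush_comp (lineJ B) p hm y q F hF ?_ fun a t hat => ?_
  · obtain ⟨Ω, _, _, ξ, hξ⟩ := exists_geomPt y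
    refine (isZero_stalk_iff_zeroAt hξ _).1 ?_
    refine isZero_stalk_Rpush p _ (isLTorsion_univ_of_killed hm (killed_push (lineJ B) hF)) ξ (q + 1) ?_
    exact kVan_fibre_line ξ m hm _ (killed_pull _ (killed_push (lineJ B) hF)) (q + 1) (by omega)
  · have hKk : Killed m ((EtCoh.Rpush (lineJ B) (t + 1)).obj F) := killed_Rpush (lineJ B) (t + 1) hF
    cases a with
    | zero =>
      obtain ⟨Ω, _, _, ξ, hξ⟩ := exists_geomPt y
      refine (isZero_stalk_iff_zeroAt hξ _).1 ?_
      exact Functor.map_isZero _ (Functor.map_isZero _ (isZero_Rpush_lineJ k hn (by omega) hA F hm hF (t + 1) (by omega)))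
    | succ a =>
      obtain ⟨Ω, _, _, ξ, hξ⟩ := exists_geomPt y
      refine (isZero_stalk_iff_zeroAt hξ _).1 ?_
      refine isZero_stalk_Rpush p _ (isLTorsion_univ_of_killed hm hKk) ξ (a + 1) ?_
      haveI := isNoetherian_of_field (pullback.snd p ξ)
      exact subsingleton_H_of_suppClosed (isSepClosed_of_isClosed (pullback.snd p ξ)) _
        (suppClosed_fibre k ξ _ fun z hz => zeroAt_Rpush_openImmersion (lineJ B) F t hz) (a + 1) a.succ_pos

include k in
/-- **the induction step: the affine line over an affine scheme** -/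
theorem kVan_line_affine {n : ℕ} (hn : topologicalKrullDim UB ≤ n) (hn2 : 2 ≤ n)
    (hY : topologicalKrullDim YB ≤ ((n - 1 : ℕ) : ℕ)) (hA : ∀ j < n, AffVan.{u} j) : KVan UB n := by
  let cY : YB ⟶ Spec (CommRingCat.of k) := Spec.map (CommRingCat.ofHom (algebraMap k B))
  intro m hm F hF b hb
  refine subsingleton_H_of_Rpush_terms gB hm n F hF
    (fun q hq => isZero_Rpush_line k hn hn2 (hA _ (by omega)) F hm hF q hq) b hb
    (hA _ (by omega) k YB cY hY m hm _ (killed_push gB hF) b (by omega)) fun p q hq0 hqn hpq => ?_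
  have hKk : Killed m ((EtCoh.Rpush gB q).obj F) := killed_Rpush gB q hF
  rcases Nat.lt_or_ge q 2 with h1 | h2
  · exact hA _ (by omega) k YB cY hY m hm _ hKk p (by omega)
  refine subsingleton_H_of_resDim_affine (j := n - q) (hA _ (by omega)) cY _ hm hKk (fun y hy => ?_) p (by omega)
  obtain ⟨f, hf⟩ := exists_indep B y hy
  exact zeroAt_Rpush_line_pos B y f hf hn (hA _ (by omega)) F hm hF q (by omega)

end Groth.Agent.EtPBC
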