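import Groth.Agent.EtPBC.CdPPinch
import Groth.Agent.EtPBC.ArtinSchreier
import Groth.Agent.EtPBC.FieldTrdeg
import Groth.Agent.EtCons.IndCons
import Groth.Agent.EtColimH.Main
import Groth.Agent.S0110
import Groth.Agent.S1477
import Groth.Agent.S0140
import Mathlib

/-!
# `cd_p ≤ cd_qc + 1` in characteristic `p`, given an a priori bound
-/

set_option autoImplicit false
set_option backward.isDefEq.respectTransparency false
set_option backward.isDefEq.respectTransparency.types false
set_option linter.auxLemma false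
set_option linter.style.haveILetI false
set_option linter.unusedSectionVars false
set_option maxHeartbeats 1000000

universe u

open CategoryTheory CategoryTheory.Limits CategoryTheory.Abelian AlgebraicGeometry Opposite

noncomputable section

namespace Groth.Agent.EtPBC

attribute [local instance 100000] EtCoh.H._proof_1 EtMV.hext
attribute [local instance 200000] EtMV.hextAb

/-- the structure sheaves of all finite schemes over `X` have no cohomology above `d` -/
def FinQCVan (X : Scheme.{u}) (d : ℕ) : Prop :=
  ∀ (T : Scheme.{u}) (g : T ⟶ X), IsFinite g → ∀ q : ℕ, d < q →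
    Subsingleton (Coh.HH T (Coh.structureModule T) q)

variable (p : ℕ) [hpp : Fact p.Prime] {X : Scheme.{u}}

theorem natCast_eq_zero_of_hom {T : Scheme.{u}} (g : T ⟶ X) (h0 : (p : Γ(X, ⊤)) = 0) : (p : Γ(T, ⊤)) = 0 := by
  rw [← map_natCast g.appTop.hom, h0, map_zero]

/-- constants -/
theorem subsingleton_H_zmod_of_qc {T : Scheme.{u}} (h0 : (p : Γ(T, ⊤)) = 0) {d : ℕ}
    (h : ∀ q : ℕ, d < q → Subsingleton (Coh.HH T (Coh.structureModule T) q)) (q : ℕ) (hq : d + 1 < q) :
    Subsingleton (EtCoh.H T (EtCoh.const T (ZMod p)) q) := by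
  obtain ⟨n, rfl⟩ : ∃ n, q = n + 1 := ⟨q - 1, by omega⟩
  have hGa : ∀ m : ℕ, d < m → Subsingleton (EtCoh.H T (EtCoh.Ga T) m) := fun m hm => by
    obtain ⟨e⟩ := Groth.Agent.S0110.result T m
    haveI := h m hm
    exact e.toEquiv.subsingleton
  refine subsingleton_of_forall_eq 0 fun x => ?_
  obtain ⟨y, hy⟩ := Ext.covariant_sequence_exact₁ _ (as_shortExact p h0) x
    (@Subsingleton.elim _ (hGa (n + 1) (by omega)) _ _) (n₀ := n) rfl
  rw [← hy, show y = 0 from @Subsingleton.elim _ (hGa n (by omega)) _ _, Ext.zero_comp]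

/-- the constant sheaves `ℤ/p` of all finite schemes over `X` have no cohomology above `e` -/
def FinVan (X : Scheme.{u}) (e : ℕ) : Prop :=
  ∀ (T : Scheme.{u}) (g : T ⟶ X), IsFinite g → ∀ q : ℕ, e < q →
    Subsingleton (EtCoh.H T (EtCoh.const T (ZMod p)) q)

theorem finVan_of_finQCVan (h0 : (p : Γ(X, ⊤)) = 0) {d : ℕ} (hd : FinQCVan X d) : FinVan p X (d + 1) :=
  fun T g hg q hq => subsingleton_H_zmod_of_qc p (natCast_eq_zero_of_hom p g h0) (hd T g hg) q hq

variable [IsNoetherian X] {e : ℕ} (he : FinVan p X e)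

include he in
/-- extensions by zero of `ℤ/p` from affine étale schemes -/
theorem subsingleton_H_extZeroConst_finVan (U : X.Etale) [IsAffine U.left] (q : ℕ) (hq : e < q) :
    Subsingleton (EtCoh.H X (EtPBC.extZeroConst U (ZMod p)) q) := by
  haveI : Etale U.hom := U.prop
  haveI : QuasiSeparated (terminal.from X) := (quasiSeparatedSpace_iff_quasiSeparated X).1 inferInstance
  haveI : IsSeparated (terminal.from U.left) :=
    (inferInstance : (U.left : Scheme.{u}).IsSeparated).isSeparated_terminal_from
  haveI : QuasiCompact (terminal.from U.left) :=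
    HasAffineProperty.iff_of_isAffine.2 (inferInstance : CompactSpace (U.left : Scheme.{u}))
  haveI : IsSeparated U.hom := by
    haveI : IsSeparated (U.hom ≫ terminal.from X) := by
      rw [show U.hom ≫ terminal.from X = terminal.from U.left from Subsingleton.elim _ _]; infer_instance
    exact IsSeparated.of_comp U.hom (terminal.from X)
  haveI : QuasiCompact U.hom := by
    haveI : QuasiCompact (U.hom ≫ terminal.from X) := by
      rw [show U.hom ≫ terminal.from X = terminal.from U.left from Subsingleton.elim _ _]; infer_instance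
    exact QuasiCompact.of_comp U.hom (terminal.from X)
  haveI : LocallyQuasiFinite U.hom := Groth.Agent.FpqcDescent.locallyQuasiFinite_of_etale U.hom
  haveI : LocallyOfFinitePresentation U.hom := inferInstance
  obtain ⟨T, j, π, hj, -, hπ, -, hw⟩ := Groth.Agent.S1477.result (S := X) (U.hom : U.left ⟶ X)
  let C : TopologicalSpace.Closeds T := ⟨(Set.range j)ᶜ, j.isOpenEmbedding.isOpen_range.isClosed_compl⟩
  let i := (Scheme.IdealSheafData.vanishingIdeal C).subschemeι
  have hr : Set.range i = (Set.range j)ᶜ := by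
    simp [i, C, Scheme.IdealSheafData.range_subschemeι, Scheme.IdealSheafData.coe_support_vanishingIdeal]
  obtain ⟨ι⟩ := exists_extZeroConst_iso (ZMod p) U j π hw i (by rw [hr, compl_compl]; rfl)
  haveI : IsLocallyNoetherian T := LocallyOfFiniteType.isLocallyNoetherian π
  refine subsingleton_H_of_iso ι.symm q ((subsingleton_H_iff_push π _ (fun k => EtIntegral.Rpush_succ_isZero π _ k) q).2 ?_)
  refine subsingleton_H_Kc (ZMod p) i q fun W r hr => he W (r ≫ π) inferInstance q hq

include he in
/-- one step of the descending induction, for constructible sheaves -/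
theorem subsingleton_H_constructible_finVan (q : ℕ) (hq : e < q)
    (hsucc : ∀ K : EtCoh.Ab X, Killed p K → Subsingleton (EtCoh.H X K (q + 1)))
    (F : EtCoh.Ab X) (hF : EtPBC.IsConstructible F) (hFp : Killed p F) : Subsingleton (EtCoh.H X F q) := by
  obtain ⟨b, U, hU, f, hf⟩ := EtCons.exists_generators_killed F hF p hpp.out.pos hFp
  haveI := hf
  let S := ShortComplex.mk (kernel.ι f) f (kernel.condition f)
  have hS : S.ShortExact := { exact := ShortComplex.exact_of_f_is_kernel _ (kernelIsKernel f) }
  let A : Fin b → EtCoh.Ab X := fun i => EtPBC.extZeroConst (U i) (ZMod p)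
  have hmid : ∀ z : EtCoh.H X (⨁ A) q, z = 0 := fun z => by
    let φ : (⨁ A ⟶ ⨁ A) →+ EtCoh.H X (⨁ A) q := AddMonoidHom.mk' (fun g => Ext.comp z (Ext.mk₀ g) (add_zero q))
      fun g g' => by rw [Ext.mk₀_add, Ext.comp_add]
    calc z = φ (𝟙 _) := (Ext.comp_mk₀_id z).symm
      _ = φ (∑ i, biproduct.π A i ≫ biproduct.ι A i) := congrArg φ biproduct.total.symm
      _ = ∑ i, φ (biproduct.π A i ≫ biproduct.ι A i) := map_sum φ _ _
      _ = 0 := Finset.sum_eq_zero fun i _ => by
          haveI := hU i
          show Ext.comp z (Ext.mk₀ (biproduct.π A i ≫ biproduct.ι A i)) (add_zero q) = 0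
          rw [← Ext.mk₀_comp_mk₀, ← Ext.comp_assoc z _ _ (add_zero q) (zero_add 0) (by omega),
            @Subsingleton.elim _ (subsingleton_H_extZeroConst_finVan p he (U i) q hq)
              (Ext.comp z (Ext.mk₀ (biproduct.π A i)) (add_zero q)) 0, Ext.zero_comp]
  refine subsingleton_of_forall_eq 0 fun x => ?_
  obtain ⟨y, hy⟩ := Ext.covariant_sequence_exact₃ _ hS x (n₁ := q + 1) rfl
    (@Subsingleton.elim _ (hsucc _ (EtCons.killedBy_of_mono (kernel.ι f) (EtCons.killedBy_biproduct _ p fun i =>
      EtCons.killedBy_extConst (U i) p))) _ _)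
  rw [← hy, hmid y, Ext.zero_comp]

include he in
/-- **descending induction from an a priori bound** -/
theorem kVanOn_of_finVan {N : ℕ} (hN : KVanOn {p} X N) : KVanOn {p} X e := by
  have step : ∀ (k q : ℕ), e < q → N < q + k → ∀ F : EtCoh.Ab X, Killed p F →
      Subsingleton (EtCoh.H X F q) := by
    intro k
    induction k with
    | zero =>
      exact fun q _ hk F hF =>
        hN p ⟨hpp.out.pos, fun l hl hd' => (Nat.prime_dvd_prime_iff_eq hl hpp.out).1 hd'⟩ F hF q (by omega)
    | succ k ih =>
      intro q hq hk F hF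
      let Q : EtCoh.Ab X → Prop := fun G => Killed p G
      have hT : EtCoh.IsTorsion F := fun V s v => ⟨V, 𝟙 V, ⟨v, rfl⟩,
        isOfFinAddOrder_iff_nsmul_eq_zero.2 ⟨p, hpp.out.pos, by rw [op_id, CategoryTheory.Functor.map_id]; exact hF V s⟩⟩
      obtain ⟨hfil, ⟨hc⟩, hQ⟩ := EtCons.nonempty_isColimit_consCocone Q F
        (fun {A B} e hA => killed_of_mono e.inv hA)
        (fun {A B} _ _ hA hB => (killed_iff p _).2 (by
          apply biprod.hom_ext'
          · rw [Preadditive.comp_nsmul, Category.comp_id, ← Category.id_comp (biprod.inl : A ⟶ A ⊞ B),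
              ← Preadditive.nsmul_comp, (killed_iff p A).1 hA, zero_comp, comp_zero]
          · rw [Preadditive.comp_nsmul, Category.comp_id, ← Category.id_comp (biprod.inr : B ⟶ A ⊞ B),
              ← Preadditive.nsmul_comp, (killed_iff p B).1 hB, zero_comp, comp_zero]))
        (fun {A B} φ _ _ hB => (killed_iff p _).2 (by
          rw [← cancel_epi (cokernel.π φ), Preadditive.comp_nsmul, comp_zero, Category.comp_id,
            ← Category.id_comp (cokernel.π φ), ← Preadditive.nsmul_comp, (killed_iff p B).1 hB, zero_comp]))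
        ⟨_, EtCons.isConstructible_biproduct (fun i : Fin 0 => EtPBC.extZeroConst (i.elim0 : X.Etale) (ZMod p)) fun i => i.elim0,
          EtCons.killedBy_biproduct _ p fun i => i.elim0⟩ hT
        (fun U t x => by
          obtain ⟨O, hO, hxO, -⟩ := exists_isAffineOpen_mem_and_subset (X := U.left) (x := x) (U := ⊤) trivial
          haveI := U.prop
          let W : X.Etale := Scheme.Etale.mk (O.ι ≫ U.hom)
          let g : W ⟶ U := MorphismProperty.Over.homMk O.ι rfl
          haveI : IsAffine W.left := hO
          exact ⟨W, g, ⟨⟨x, hxO⟩, rfl⟩, _, EtCons.isConstructible_extConst W p hpp.out.pos,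
            EtCons.killedBy_extConst W p, EtCons.extHom W p _ (hF W _), EtCons.gen W p,
            EtCons.extHom_gen W p _ (hF W _)⟩)
      haveI := hfil
      haveI := EtColimH.preservesColimitsOfShape_HF (X := X) q (EtCons.ConsOver Q F)
      refine subsingleton_of_forall_eq 0 fun c => ?_
      obtain ⟨j, cj, rfl⟩ := Concrete.isColimit_exists_rep _ (isColimitOfPreserves (EtCoh.HF X q) hc) c
      rw [show cj = 0 from @Subsingleton.elim (EtCoh.H X ((EtCons.consDiagram Q F).obj j) q)
        (subsingleton_H_constructible_finVan p he q hq (fun K hK => ih (q + 1) (by omega) (by omega) K hK) _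
          (hQ j).1 (hQ j).2) _ _]
      exact map_zero _
  intro m hm F hF q hq
  induction m using Nat.strong_induction_on generalizing F with
  | _ m ih =>
    rcases Nat.lt_or_ge m 2 with h1 | h2
    · refine subsingleton_H_of_isZero (IsZero.iff_id_eq_zero _ |>.2 ?_) q
      obtain rfl : m = 1 := by have := hm.1; omega
      simpa using (killed_iff 1 F).1 hF
    obtain ⟨l, hl, hlm⟩ := Nat.exists_prime_and_dvd (show m ≠ 1 by omega)
    obtain rfl : l = p := hm.2 l hl hlm
    obtain ⟨M, rfl⟩ := hlm
    have hM : 0 < M := Nat.pos_of_mul_pos_left hm.1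
    let μ : F ⟶ F := l • 𝟙 F
    have hA : (ShortComplex.mk (kernel.ι μ) (cokernel.π (kernel.ι μ)) (cokernel.condition _)).ShortExact :=
      { exact := ShortComplex.exact_of_g_is_cokernel _ (cokernelIsCokernel _) }
    have hK : Killed l (kernel μ) := (killed_iff _ _).2 (by
      rw [← cancel_mono (kernel.ι μ), zero_comp, Preadditive.nsmul_comp, Category.id_comp,
        ← Category.comp_id (kernel.ι μ), ← Preadditive.comp_nsmul]
      exact kernel.condition μ)
    have hI : Killed M (cokernel (kernel.ι μ)) := by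
      let v : cokernel (kernel.ι μ) ⟶ F := cokernel.desc _ μ (kernel.condition μ)
      haveI : Mono v := (ShortComplex.exact_iff_mono_cokernel_desc
        (ShortComplex.mk (kernel.ι μ) μ (kernel.condition μ))).1
        (ShortComplex.exact_of_f_is_kernel _ (kernelIsKernel μ))
      refine (killed_iff _ _).2 ?_
      rw [← cancel_mono v, zero_comp, Preadditive.nsmul_comp, Category.id_comp,
        ← cancel_epi (cokernel.π (kernel.ι μ)), comp_zero, Preadditive.comp_nsmul, cokernel.π_desc]
      show M • l • 𝟙 F = 0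
      rw [← mul_nsmul', mul_comm]
      exact (killed_iff _ _).1 hF
    refine subsingleton_of_forall_eq 0 fun x => ?_
    obtain ⟨y, hy⟩ := Ext.covariant_sequence_exact₂ _ hA x (@Subsingleton.elim _
      (ih M (lt_mul_left hM hl.one_lt) ⟨hM, fun r hr hd' => hm.2 r hr (hd'.mul_left l)⟩ _ hI) _ _)
    rw [← hy, @Subsingleton.elim _ (step (N + 1) q hq (by omega) _ hK) y 0, Ext.zero_comp]

omit he in
theorem kVanOn_of_finQCVan (h0 : (p : Γ(X, ⊤)) = 0) {d : ℕ} (hd : FinQCVan X d) {N : ℕ} (hN : KVanOn {p} X N) :
    KVanOn {p} X (d + 1) :=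
  kVanOn_of_finVan p (finVan_of_finQCVan p h0 hd) hN

end Groth.Agent.EtPBC
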