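import Groth.Agent.EtMV.MVOpens
import Groth.Agent.EtMV.Base
import Groth.Agent.EtFLC.Site
import Mathlib

/-!
# Classes in degree one glued from two opens
-/

set_option autoImplicit false
set_option backward.isDefEq.respectTransparency false
set_option backward.isDefEq.respectTransparency.types false
set_option linter.auxLemma false
set_option linter.style.haveILetI false

universe u

open CategoryTheory CategoryTheory.Limits CategoryTheory.Abelian AlgebraicGeometry Opposite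
open Groth.Agent.EtFLC (res res_res res_id)

noncomputable section

namespace Groth.Agent.EtPBC

attribute [local instance 100000] EtCoh.H._proof_1 EtMV.hext
attribute [local instance 200000] EtMV.hextAb

variable {X : Scheme.{u}} {G : EtCoh.Ab X}

/-- the morphism out of a free sheaf given by a section -/
abbrev secHom {o : X.Etale} (s : EtCoh.sect G o) : (EtMV.P X).obj o ⟶ G := EtMV.σ.symm s

theorem secHom_add {o : X.Etale} (s t : EtCoh.sect G o) : secHom (s + t) = secHom s + secHom t :=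
  EtMV.σ.injective (by rw [EtMV.σ_add, Equiv.apply_symm_apply, Equiv.apply_symm_apply, Equiv.apply_symm_apply])

theorem map_secHom {o o' : X.Etale} (f : o' ⟶ o) (s : EtCoh.sect G o) :
    (EtMV.P X).map f ≫ secHom s = secHom (res G f s) :=
  EtMV.σ.injective (by rw [EtMV.σ_map, Equiv.apply_symm_apply, Equiv.apply_symm_apply])

theorem secHom_comp {o : X.Etale} {G' : EtCoh.Ab X} (s : EtCoh.sect G o) (f : G ⟶ G') :
    secHom s ≫ f = secHom (f.hom.app (op o) s) :=
  EtMV.σ.injective (by rw [EtMV.σ_comp, Equiv.apply_symm_apply, Equiv.apply_symm_apply])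

/-- **the class glued from a section on an overlap** -/
def gcls {U V W : X.Opens} (hU : U ≤ W) (hV : V ≤ W) (hc : W ≤ U ⊔ V)
    (s : EtCoh.sect G (EtMV.oo (U ⊓ V))) : Ext ((EtMV.P X).obj (EtMV.oo W)) G 1 :=
  (EtMV.sc'_shortExact hU hV hc).extClass.comp (Ext.mk₀ (secHom s)) (add_zero 1)

theorem gcls_add {U V W : X.Opens} (hU : U ≤ W) (hV : V ≤ W) (hc : W ≤ U ⊔ V)
    (s t : EtCoh.sect G (EtMV.oo (U ⊓ V))) : gcls hU hV hc (s + t) = gcls hU hV hc s + gcls hU hV hc t := by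
  rw [gcls, gcls, gcls, secHom_add, Ext.mk₀_add, Ext.comp_add]

/-- a glued class is trivial on the two opens -/
theorem res_left_gcls {U V W : X.Opens} (hU : U ≤ W) (hV : V ≤ W) (hc : W ≤ U ⊔ V)
    (s : EtCoh.sect G (EtMV.oo (U ⊓ V))) :
    (Ext.mk₀ ((EtMV.P X).map (EtMV.res hU))).comp (gcls hU hV hc s) (zero_add 1) = 0 := by
  have h := (EtMV.sc'_shortExact hU hV hc).comp_extClass
  have e : (EtMV.P X).map (EtMV.res hU) = biprod.inl ≫ (EtMV.sc' hU hV).g := (biprod.inl_desc _ _).symm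
  rw [e, ← Ext.mk₀_comp_mk₀, Ext.comp_assoc (Ext.mk₀ _) (Ext.mk₀ _) (gcls hU hV hc s) (add_zero 0) (zero_add 1) rfl,
    gcls, ← Ext.comp_assoc (Ext.mk₀ (EtMV.sc' hU hV).g) _ _ (zero_add 1) (add_zero 1) rfl, h, Ext.zero_comp,
    Ext.comp_zero]

theorem res_right_gcls {U V W : X.Opens} (hU : U ≤ W) (hV : V ≤ W) (hc : W ≤ U ⊔ V)
    (s : EtCoh.sect G (EtMV.oo (U ⊓ V))) :
    (Ext.mk₀ ((EtMV.P X).map (EtMV.res hV))).comp (gcls hU hV hc s) (zero_add 1) = 0 := by
  have h := (EtMV.sc'_shortExact hU hV hc).comp_extClass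
  have e : (EtMV.P X).map (EtMV.res hV) = biprod.inr ≫ (EtMV.sc' hU hV).g := (biprod.inr_desc _ _).symm
  rw [e, ← Ext.mk₀_comp_mk₀, Ext.comp_assoc (Ext.mk₀ _) (Ext.mk₀ _) (gcls hU hV hc s) (add_zero 0) (zero_add 1) rfl,
    gcls, ← Ext.comp_assoc (Ext.mk₀ (EtMV.sc' hU hV).g) _ _ (zero_add 1) (add_zero 1) rfl, h, Ext.zero_comp,
    Ext.comp_zero]

/-- a class trivial on the two opens is glued -/
theorem exists_gcls {U V W : X.Opens} (hU : U ≤ W) (hV : V ≤ W) (hc : W ≤ U ⊔ V)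
    (x : Ext ((EtMV.P X).obj (EtMV.oo W)) G 1)
    (hxU : (Ext.mk₀ ((EtMV.P X).map (EtMV.res hU))).comp x (zero_add 1) = 0)
    (hxV : (Ext.mk₀ ((EtMV.P X).map (EtMV.res hV))).comp x (zero_add 1) = 0) :
    ∃ s : EtCoh.sect G (EtMV.oo (U ⊓ V)), x = gcls hU hV hc s := by
  have h2 : (Ext.mk₀ (EtMV.sc' hU hV).g).comp x (zero_add 1) = 0 := by
    refine Ext.biprod_ext ?_ ?_
    · rw [Ext.comp_zero, ← Ext.comp_assoc (Ext.mk₀ _) (Ext.mk₀ _) x (add_zero 0) (zero_add 1) rfl,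
        Ext.mk₀_comp_mk₀]
      exact (congrArg (fun m => (Ext.mk₀ m).comp x (zero_add 1)) (biprod.inl_desc _ _)).trans hxU
    · rw [Ext.comp_zero, ← Ext.comp_assoc (Ext.mk₀ _) (Ext.mk₀ _) x (add_zero 0) (zero_add 1) rfl,
        Ext.mk₀_comp_mk₀]
      exact (congrArg (fun m => (Ext.mk₀ m).comp x (zero_add 1)) (biprod.inr_desc _ _)).trans hxV
  obtain ⟨y, hy⟩ := Ext.contravariant_sequence_exact₃ (EtMV.sc'_shortExact hU hV hc) G x h2 (n₀ := 0) (by omega)
  obtain ⟨φ, rfl⟩ := (Ext.mk₀_bijective _ _).2 y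
  refine ⟨EtMV.σ φ, ?_⟩
  rw [← hy, gcls]
  exact congrArg (fun m => (EtMV.sc'_shortExact hU hV hc).extClass.comp (Ext.mk₀ m) (add_zero 1))
    (EtMV.σ.symm_apply_apply φ).symm

/-- **glued classes restrict to glued classes** -/
theorem res_gcls {U V W U' V' W' : X.Opens} (hU : U ≤ W) (hV : V ≤ W) (hc : W ≤ U ⊔ V)
    (hU' : U' ≤ W') (hV' : V' ≤ W') (hc' : W' ≤ U' ⊔ V') (hUU : U' ≤ U) (hVV : V' ≤ V) (hWW : W' ≤ W)
    (s : EtCoh.sect G (EtMV.oo (U ⊓ V))) :
    (Ext.mk₀ ((EtMV.P X).map (EtMV.res hWW))).comp (gcls hU hV hc s) (zero_add 1) =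
      gcls hU' hV' hc' (res G (EtMV.res (inf_le_inf hUU hVV)) s) := by
  let ψ : EtMV.sc' hU' hV' ⟶ EtMV.sc' hU hV :=
    { τ₁ := (EtMV.P X).map (EtMV.res (inf_le_inf hUU hVV))
      τ₂ := biprod.map ((EtMV.P X).map (EtMV.res hUU)) ((EtMV.P X).map (EtMV.res hVV))
      τ₃ := (EtMV.P X).map (EtMV.res hWW)
      comm₁₂ := by
        apply biprod.hom_ext
        · simp only [EtMV.sc', Category.assoc, biprod.lift_fst, biprod.map_fst, biprod.lift_fst_assoc,
            ← Functor.map_comp]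
          exact congrArg _ (EtMV.hom_oo_ext _ _)
        · simp only [EtMV.sc', Category.assoc, biprod.lift_snd, biprod.map_snd, biprod.lift_snd_assoc,
            Preadditive.neg_comp, Preadditive.comp_neg, ← Functor.map_comp]
          exact congrArg _ (congrArg _ (EtMV.hom_oo_ext _ _))
      comm₂₃ := by
        apply biprod.hom_ext'
        · simp only [EtMV.sc', biprod.inl_map_assoc, biprod.inl_desc_assoc, biprod.inl_desc, ← Functor.map_comp]
          exact congrArg _ (EtMV.hom_oo_ext _ _)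
        · simp only [EtMV.sc', biprod.inr_map_assoc, biprod.inr_desc_assoc, biprod.inr_desc, ← Functor.map_comp]
          exact congrArg _ (EtMV.hom_oo_ext _ _) }
  rw [gcls, gcls, ← map_secHom, ← Ext.mk₀_comp_mk₀,
    ← Ext.comp_assoc (Ext.mk₀ ((EtMV.P X).map (EtMV.res hWW))) _ _ (zero_add 1) (add_zero 1) rfl,
    ← Ext.comp_assoc_of_second_deg_zero]
  exact congrArg (fun m => Ext.comp m (Ext.mk₀ (secHom s)) (add_zero 1))
    (ShortComplex.ShortExact.extClass_naturality (EtMV.sc'_shortExact hU' hV' hc') (EtMV.sc'_shortExact hU hV hc) ψ).symm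

variable {Z : Scheme.{u}} (i : Z ⟶ X) [PreservesFiniteLimits (EtCoh.pull i)]

/-- free sheaves map to pulled back free sheaves -/
def pc' {o : X.Etale} {o' : Z.Etale} (δ : o' ⟶ (EtCoh.bc i).obj o) :
    (EtMV.P Z).obj o' ⟶ (EtCoh.pull i).obj ((EtMV.P X).obj o) :=
  secHom (EtMV.r i δ _ (EtMV.uel o))

omit [PreservesFiniteLimits (EtCoh.pull i)] in
theorem pc'_map {o : X.Etale} {o' : Z.Etale} (δ : o' ⟶ (EtCoh.bc i).obj o) (s : EtCoh.sect G o) :
    pc' i δ ≫ (EtCoh.pull i).map (secHom s) = secHom (EtMV.r i δ G s) := by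
  rw [pc', secHom_comp, EtMV.r_natural, ← EtMV.σ_eq, Equiv.apply_symm_apply]

omit [PreservesFiniteLimits (EtCoh.pull i)] in
theorem pc'_comm {o o₁ : X.Etale} {o' o₁' : Z.Etale} (δ : o' ⟶ (EtCoh.bc i).obj o)
    (δ₁ : o₁' ⟶ (EtCoh.bc i).obj o₁) (g : o₁ ⟶ o) (g' : o₁' ⟶ o') (h : EtMV.Thin o) :
    (EtMV.P Z).map g' ≫ pc' i δ = pc' i δ₁ ≫ (EtCoh.pull i).map ((EtMV.P X).map g) := by
  have e1 : (EtMV.P X).map g = secHom (res ((EtMV.P X).obj o) g (EtMV.uel o)) := by
    rw [← map_secHom, EtMV.uel, secHom, Equiv.symm_apply_apply, Category.comp_id]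
  rw [pc', map_secHom, e1, pc'_map]
  refine congrArg secHom ?_
  rw [show res ((EtCoh.pull i).obj ((EtMV.P X).obj o)) g' (EtMV.r i δ _ (EtMV.uel o)) =
    EtMV.r i (g' ≫ δ) _ (EtMV.uel o) from res_res _ g' δ _]
  exact (EtMV.r_res i (g' ≫ δ) δ₁ g h _ _).symm

/-- the open of `Z` over an open of `X`, as an étale scheme mapping to the base change -/
def pbo (U : X.Opens) : EtMV.oo (i ⁻¹ᵁ U) ⟶ (EtCoh.bc i).obj (EtMV.oo U) :=
  MorphismProperty.Over.homMk (pullback.lift (i ∣_ U) (i ⁻¹ᵁ U).ι (morphismRestrict_ι i U))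
    (pullback.lift_snd _ _ _)

/-- **glued classes pull back to glued classes** -/
theorem T_gcls {U V W : X.Opens} (hU : U ≤ W) (hV : V ≤ W) (hc : W ≤ U ⊔ V)
    (hcZ : i ⁻¹ᵁ W ≤ i ⁻¹ᵁ U ⊔ i ⁻¹ᵁ V)
    (s : EtCoh.sect G (EtMV.oo (U ⊓ V))) :
    EtMV.T (EtCoh.pull i) (pc' i (pbo i W)) G 1 (gcls hU hV hc s) =
      gcls (i.preimage_mono hU) (i.preimage_mono hV) hcZ
        (EtMV.r i (pbo i (U ⊓ V)) G s) := by
  have hpS := (EtMV.sc'_shortExact hU hV hc).map_of_exact (EtCoh.pull i)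
  let F := EtCoh.pull i
  haveI : (EtCoh.pull i).Additive := (EtCoh.pullPushAdj i).left_adjoint_additive
  let ψ : EtMV.sc' (i.preimage_mono hU) (i.preimage_mono hV) ⟶ (EtMV.sc' hU hV).map (EtCoh.pull i) :=
    { τ₁ := pc' i (pbo i (U ⊓ V))
      τ₂ := biprod.desc (pc' i (pbo i U) ≫ F.map biprod.inl) (pc' i (pbo i V) ≫ F.map biprod.inr)
      τ₃ := pc' i (pbo i W)
      comm₁₂ := by
        show pc' i (pbo i (U ⊓ V)) ≫ F.map (biprod.lift _ _) = biprod.lift _ _ ≫ biprod.desc _ _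
        rw [biprod.lift_desc, biprod.lift_eq, Functor.map_add, Preadditive.comp_add, F.map_comp, F.map_comp,
          F.map_neg]
        simp only [Preadditive.neg_comp, Preadditive.comp_neg, ← Category.assoc]
        rw [pc'_comm i (pbo i U) (pbo i (U ⊓ V)) (EtMV.res inf_le_left) (EtMV.res (i.preimage_mono inf_le_left)) (EtMV.thin_oo U),
          pc'_comm i (pbo i V) (pbo i (U ⊓ V)) (EtMV.res inf_le_right) (EtMV.res (i.preimage_mono inf_le_right)) (EtMV.thin_oo V)]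
      comm₂₃ := by
        show biprod.desc _ _ ≫ F.map (biprod.desc _ _) = biprod.desc _ _ ≫ pc' i (pbo i W)
        apply biprod.hom_ext'
        · simp only [biprod.inl_desc_assoc, Category.assoc, ← F.map_comp, biprod.inl_desc]
          exact (pc'_comm i (pbo i W) (pbo i U) (EtMV.res hU) (EtMV.res _) (EtMV.thin_oo W)).symm
        · simp only [biprod.inr_desc_assoc, Category.assoc, ← F.map_comp, biprod.inr_desc]
          exact (pc'_comm i (pbo i W) (pbo i V) (EtMV.res hV) (EtMV.res _) (EtMV.thin_oo W)).symm }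
  have hn := ShortComplex.ShortExact.extClass_naturality
    (EtMV.sc'_shortExact (i.preimage_mono hU) (i.preimage_mono hV) hcZ) hpS ψ
  rw [gcls, EtMV.T_comp_mk₀, gcls, ← pc'_map, ← Ext.mk₀_comp_mk₀, ← Ext.comp_assoc_of_second_deg_zero]
  refine congrArg (fun m => Ext.comp m (Ext.mk₀ ((EtCoh.pull i).map (secHom s))) (add_zero 1)) ?_
  rw [EtMV.T_apply]
  refine (congrArg (fun m => (Ext.mk₀ (pc' i (pbo i W))).comp m (zero_add 1)) ?_).trans hn.symm
  exact Ext.mapExactFunctor_extClass _ _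

end Groth.Agent.EtPBC
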