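import Groth.Agent.EtPBC.Curve
import Groth.Agent.EtPBC.Glue
import Groth.Agent.EtPicLib.Local
import Groth.Agent.EtPicLib.Units
import Groth.Agent.EtStalk.Applications
import Mathlib

/-!
# On one-dimensional schemes classes of the units are generated by point classes
-/

set_option autoImplicit false
set_option backward.isDefEq.respectTransparency false
set_option backward.isDefEq.respectTransparency.types false
set_option linter.auxLemma false
set_option linter.style.haveILetI false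

universe u

open CategoryTheory CategoryTheory.Limits CategoryTheory.Abelian AlgebraicGeometry Opposite TopologicalSpace
open Groth.Agent.EtFLC (res res_res res_id)
open Groth.Agent.EtPicLib (oval oval_rr exists_oval oval_injective oval_add ofO oval_ofO)

noncomputable section

namespace Groth.Agent.EtPBC

attribute [local instance 100000] EtCoh.H._proof_1 EtMV.hext
attribute [local instance 200000] EtMV.hextAb

variable {X : Scheme.{u}}

theorem oval_zero' (U : X.Opens) : oval (0 : EtCoh.sect (EtCoh.Gm X) (EtMV.oo U)) = 1 := by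
  rw [oval, EtPicLib.uval_zero, map_one]

/-- restriction of a class to a smaller open -/
abbrev cRes {G : EtCoh.Ab X} {U W : X.Opens} (h : U ≤ W) (c : Ext ((EtMV.P X).obj (EtMV.oo W)) G 1) :
    Ext ((EtMV.P X).obj (EtMV.oo U)) G 1 :=
  (Ext.mk₀ ((EtMV.P X).map (EtMV.res h))).comp c (zero_add 1)

theorem cRes_cRes {G : EtCoh.Ab X} {U V W : X.Opens} (h' : U ≤ V) (h : V ≤ W)
    (c : Ext ((EtMV.P X).obj (EtMV.oo W)) G 1) : cRes h' (cRes h c) = cRes (h'.trans h) c := by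
  rw [cRes, cRes, cRes, Ext.mk₀_comp_mk₀_assoc, ← Functor.map_comp]
  exact congrArg (fun m => (Ext.mk₀ ((EtMV.P X).map m)).comp c (zero_add 1)) (EtMV.hom_oo_ext _ _)

theorem cRes_self {G : EtCoh.Ab X} {W : X.Opens} (c : Ext ((EtMV.P X).obj (EtMV.oo W)) G 1) :
    cRes (le_refl W) c = c := by
  rw [cRes, show EtMV.res (le_refl W) = 𝟙 _ from EtMV.hom_oo_ext _ _, CategoryTheory.Functor.map_id, Ext.mk₀_id_comp]

theorem cRes_zero {G : EtCoh.Ab X} {U W : X.Opens} (h : U ≤ W) :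
    cRes h (0 : Ext ((EtMV.P X).obj (EtMV.oo W)) G 1) = 0 := Ext.comp_zero _ _ _ _ _

/-- classes of the units are trivial near each point -/
theorem exists_nhd_cRes_eq_zero (c : Ext ((EtMV.P X).obj (EtMV.oo (⊤ : X.Opens))) (EtCoh.Gm X) 1) (x : X) :
    ∃ V : X.Opens, x ∈ V ∧ cRes (le_top : V ≤ ⊤) c = 0 := by
  obtain ⟨z, hz⟩ := Ext.covariant_sequence_exact₁ _ (EtMV.injSeq_shortExact (EtCoh.Gm X)) c
    (Ext.eq_zero_of_injective _) (n₀ := 0) (zero_add 1)
  obtain ⟨φ, rfl⟩ := (Ext.mk₀_bijective _ _).2 z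
  obtain ⟨e⟩ := EtMV.exists_lift (T := EtCoh.top X) (U := (⊤ : X.Opens)) (Set.subset_univ _)
  obtain ⟨V, y, hxV, hy⟩ := EtPicLib.exists_lift_nhd (res (EtMV.injSeq (EtCoh.Gm X)).X₃ e (EtMV.σ φ)) x
  refine ⟨V, hxV, ?_⟩
  have e1 : (EtMV.P X).map (EtMV.res (le_top : V ≤ ⊤)) ≫ φ =
      secHom y ≫ (EtMV.injSeq (EtCoh.Gm X)).g := by
    rw [secHom_comp]
    refine (congrArg ((EtMV.P X).map (EtMV.res (le_top : V ≤ ⊤)) ≫ ·) (EtMV.σ.symm_apply_apply φ).symm).trans ?_
    refine (map_secHom _ _).trans (congrArg secHom ?_)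
    rw [hy, res_res]
    exact congrArg (fun m => res _ m (EtMV.σ φ)) (EtMV.hom_oo_ext _ _)
  rw [cRes, ← hz, ← Ext.comp_assoc (Ext.mk₀ _) (Ext.mk₀ φ) _ (add_zero 0) (zero_add 1) rfl, Ext.mk₀_comp_mk₀, e1,
    ← Ext.mk₀_comp_mk₀, Ext.comp_assoc (Ext.mk₀ _) (Ext.mk₀ _) _ (add_zero 0) (zero_add 1) rfl,
    ShortComplex.ShortExact.comp_extClass, Ext.comp_zero]

/-- classes trivial on two disjoint opens are trivial on their union -/
theorem cRes_sup_eq_zero {G : EtCoh.Ab X} {U V W : X.Opens} (hU : U ≤ W) (hV : V ≤ W) (hd : U ⊓ V = ⊥)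
    (c : Ext ((EtMV.P X).obj (EtMV.oo W)) G 1) (h1 : cRes hU c = 0) (h2 : cRes hV c = 0) :
    cRes (sup_le hU hV) c = 0 := by
  obtain ⟨s, hs⟩ := exists_gcls (le_sup_left : U ≤ U ⊔ V) (le_sup_right : V ≤ U ⊔ V) le_rfl (cRes (sup_le hU hV) c)
    ((cRes_cRes _ _ c).trans h1) ((cRes_cRes _ _ c).trans h2)
  haveI : IsEmpty (EtMV.oo (U ⊓ V)).left := ⟨fun z => by
    have h := (hd ▸ z.2 : z.1 ∈ (⊥ : X.Opens))
    exact h⟩
  haveI := EtStalk.subsingleton_of_isEmpty G (EtMV.oo (U ⊓ V)) inferInstance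
  rw [hs, Subsingleton.elim (α := EtCoh.sect G (EtMV.oo (U ⊓ V))) s 0]
  have := gcls_add (le_sup_left : U ≤ U ⊔ V) (le_sup_right : V ≤ U ⊔ V) le_rfl (0 : EtCoh.sect G (EtMV.oo (U ⊓ V))) 0
  rw [add_zero] at this
  exact left_eq_add.1 this

/-- the complement of a closed point -/
abbrev compl₁ {x : X} (hx : IsClosed ({x} : Set X)) : X.Opens := ⟨{x}ᶜ, hx.isOpen_compl⟩

theorem compl₁_cover {x : X} (hx : IsClosed ({x} : Set X)) {V : X.Opens} (hxV : x ∈ V) :
    (⊤ : X.Opens) ≤ compl₁ hx ⊔ V := fun z _ => by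
  by_cases h : z = x
  · exact Or.inr (h ▸ hxV)
  · exact Or.inl h

/-- every point is a specialisation of a point without generalisations -/
theorem exists_isMaxPt (z : X) : ∃ η : X, IsMaxPt η ∧ η ⤳ z := by
  obtain ⟨Z, hZ, hzZ⟩ := exists_mem_irreducibleComponents_subset_of_isIrreducible {z} isIrreducible_singleton
  obtain ⟨η, hη⟩ := QuasiSober.sober hZ.1 (isClosed_of_mem_irreducibleComponents Z hZ)
  refine ⟨η, fun y hy => ?_, specializes_iff_mem_closure.2 (hη.def.symm ▸ hzZ rfl)⟩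
  have hle : Z ⊆ closure ({y} : Set X) := by
    rw [← hη.def]
    exact specializes_iff_closure_subset.1 hy
  have hyZ : closure ({y} : Set X) ⊆ Z := hZ.2 isIrreducible_singleton.closure hle
  exact (hy.antisymm (specializes_iff_mem_closure.2 (hη.def.symm ▸ hyZ (subset_closure rfl)))).eq

/-- a closed set of closed points is finite -/
theorem finite_closed_of_closedPts (Y : Scheme.{u}) [NoetherianSpace Y] (A : Set Y) (hA : IsClosed A)
    (h : ∀ z ∈ A, IsClosed ({z} : Set Y)) : A.Finite :=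
  finite_of_all_closed A hA fun c hc d _ hcd =>
    (Set.mem_singleton_iff.1 ((h c hc).closure_eq ▸ specializes_iff_mem_closure.1 hcd)).symm

variable [IsNoetherian X] (hdim : topologicalKrullDim X ≤ 1)
include hdim

theorem exists_dense_trivial (c : Ext ((EtMV.P X).obj (EtMV.oo (⊤ : X.Opens))) (EtCoh.Gm X) 1) :
    ∃ U : X.Opens, (∀ z : X, ¬ IsClosed ({z} : Set X) → z ∈ U) ∧ cRes (le_top : U ≤ ⊤) c = 0 := by
  classical
  suffices h : ∀ T : Finset X, (∀ t ∈ T, IsMaxPt t) →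
      ∃ U : X.Opens, (∀ t ∈ T, t ∈ U) ∧ cRes (le_top : U ≤ ⊤) c = 0 by
    obtain ⟨U, hU, hc⟩ := h (finite_isMaxPt X).toFinset fun t ht => (finite_isMaxPt X).mem_toFinset.1 ht
    exact ⟨U, fun z hz => hU z ((finite_isMaxPt X).mem_toFinset.2 (isMaxPt_of_not_closed hdim hz)), hc⟩
  intro T
  induction T using Finset.induction with
  | empty =>
    intro _
    refine ⟨⊥, fun t ht => absurd ht (Finset.notMem_empty t), ?_⟩
    haveI : IsEmpty (EtMV.oo (⊥ : X.Opens)).left := ⟨fun z => z.2⟩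
    have e : (EtMV.P X).map (EtMV.res (le_top : (⊥ : X.Opens) ≤ ⊤)) = 0 := EtMV.σ.injective
      (@Subsingleton.elim _ (EtStalk.subsingleton_of_isEmpty ((EtMV.P X).obj (EtMV.oo ⊤)) (EtMV.oo ⊥) inferInstance) _ _)
    rw [cRes, e, Ext.mk₀_zero, Ext.zero_comp]
  | @insert x T hxT ih =>
    intro hT
    have hx : IsMaxPt x := hT x (Finset.mem_insert_self x T)
    obtain ⟨U, hU, hUc⟩ := ih fun t ht => hT t (Finset.mem_insert_of_mem ht)
    obtain ⟨V, hxV, hVc⟩ := exists_nhd_cRes_eq_zero c x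
    let S : Set X := ⋃ z ∈ ({z | IsMaxPt z} \ {x} : Set X), closure {z}
    have hS : IsClosed S := ((finite_isMaxPt X).sdiff).isClosed_biUnion fun _ _ => isClosed_closure
    let U' : X.Opens := U ⊓ ⟨(closure ({x} : Set X))ᶜ, isClosed_closure.isOpen_compl⟩
    let V' : X.Opens := V ⊓ ⟨Sᶜ, hS.isOpen_compl⟩
    have hd : U' ⊓ V' = ⊥ := by
      refine eq_bot_iff.2 fun z hz => ?_
      obtain ⟨η, hη, hηz⟩ := exists_isMaxPt z
      have hmem : z ∈ closure ({η} : Set X) := specializes_iff_mem_closure.1 hηz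
      by_cases h : η = x
      · subst h
        exact hz.1.2 hmem
      · exact hz.2.2 (Set.mem_biUnion (s := ({z | IsMaxPt z} \ {x} : Set X)) ⟨hη, h⟩ hmem)
    refine ⟨U' ⊔ V', fun t ht => ?_, ?_⟩
    · rcases Finset.mem_insert.1 ht with rfl | ht'
      · refine Or.inr ⟨hxV, fun h => ?_⟩
        obtain ⟨z, hz, htz⟩ := Set.mem_iUnion₂.1 h
        exact hz.2 (hx z (specializes_iff_mem_closure.2 htz))
      · refine Or.inl ⟨hU t ht', fun h => ?_⟩
        exact hxT ((hT t (Finset.mem_insert_of_mem ht')) x (specializes_iff_mem_closure.2 h) ▸ ht')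
    · refine cRes_sup_eq_zero (le_top : U' ≤ ⊤) (le_top : V' ≤ ⊤) hd c ?_ ?_
      · rw [← cRes_cRes (inf_le_left : U' ≤ U) le_top, hUc, cRes_zero]
      · rw [← cRes_cRes (inf_le_left : V' ≤ V) le_top, hVc, cRes_zero]

/-- **classes of the units are combinations of point classes** -/
theorem eq_top_of_point_classes (P : AddSubgroup (Ext ((EtMV.P X).obj (EtMV.oo (⊤ : X.Opens))) (EtCoh.Gm X) 1))
    (hP : ∀ (x : X) (hx : IsClosed ({x} : Set X)) (V : X.Opens) (hxV : x ∈ V) (a : Γ(X, V))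
      (hu : IsUnit (X.presheaf.map (homOfLE (inf_le_right : compl₁ hx ⊓ V ≤ V)).op a)),
      ∃ (V' : X.Opens) (hVV : V' ≤ V) (hxV' : x ∈ V'),
        gcls (le_top : compl₁ hx ≤ ⊤) (le_top : V' ≤ ⊤) (compl₁_cover hx hxV')
          (res (EtCoh.Gm X) (EtMV.res (inf_le_inf le_rfl hVV)) (ofO hu)) ∈ P) : P = ⊤ := by
  classical
  have hP' : ∀ (x : X) (hx : IsClosed ({x} : Set X)) (V : X.Opens) (hxV : x ∈ V) (a : Γ(X, V))
      (hu : IsUnit (X.presheaf.map (homOfLE (inf_le_right : compl₁ hx ⊓ V ≤ V)).op a)),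
      gcls (le_top : compl₁ hx ≤ ⊤) (le_top : V ≤ ⊤) (compl₁_cover hx hxV) (ofO hu) ∈ P := by
    intro x hx V hxV a hu
    obtain ⟨V', hVV, hxV', hmem⟩ := hP x hx V hxV a hu
    have h := res_gcls (le_top : compl₁ hx ≤ ⊤) (le_top : V ≤ ⊤) (compl₁_cover hx hxV)
      (le_top : compl₁ hx ≤ ⊤) (le_top : V' ≤ ⊤) (compl₁_cover hx hxV') le_rfl hVV le_rfl (ofO hu)
    rw [← h] at hmem
    rwa [show (Ext.mk₀ ((EtMV.P X).map (EtMV.res (le_refl (⊤ : X.Opens))))).comp
      (gcls (le_top : compl₁ hx ≤ ⊤) (le_top : V ≤ ⊤) (compl₁_cover hx hxV) (ofO hu)) (zero_add 1) = _ from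
        cRes_self (G := EtCoh.Gm X) _] at hmem
  refine eq_top_iff.2 fun c _ => ?_
  obtain ⟨U₀, hU₀, hc₀⟩ := exists_dense_trivial hdim c
  suffices h : ∀ (n : ℕ) (U : X.Opens), (∀ z : X, ¬ IsClosed ({z} : Set X) → z ∈ U) →
      ∀ c' : Ext ((EtMV.P X).obj (EtMV.oo (⊤ : X.Opens))) (EtCoh.Gm X) 1, cRes (le_top : U ≤ ⊤) c' = 0 →
      ∀ hf : ((U : Set X)ᶜ).Finite, hf.toFinset.card ≤ n → c' ∈ P by
    have hfin : ((U₀ : Set X)ᶜ).Finite := finite_closed_of_closedPts X _ U₀.isOpen.isClosed_compl fun z hz => by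
      by_contra h
      exact hz (hU₀ z h)
    exact h _ U₀ hU₀ c hc₀ hfin le_rfl
  intro n
  induction n with
  | zero =>
    intro U _ c' hc' hf hn
    have hUtop : U = ⊤ := by
      refine TopologicalSpace.Opens.ext (Set.compl_empty_iff.1 ?_)
      simpa using hn
    subst hUtop
    rw [← cRes_self c', hc']
    exact P.zero_mem
  | succ n ih =>
    intro U hU c' hc' hf hn
    by_cases h0 : hf.toFinset = ∅
    · exact ih U hU c' hc' hf (by simp [h0])
    obtain ⟨x, hxS⟩ := Finset.nonempty_iff_ne_empty.2 h0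
    have hxU : x ∉ U := (hf.mem_toFinset.1 hxS)
    have hx : IsClosed ({x} : Set X) := by
      by_contra h
      exact hxU (hU x h)
    obtain ⟨V₀, hxV₀, hV₀c⟩ := exists_nhd_cRes_eq_zero c' x
    have hcl : IsClosed ((U : Set X)ᶜ \ {x}) := by
      rw [← Set.biUnion_of_singleton ((U : Set X)ᶜ \ {x})]
      exact hf.sdiff.isClosed_biUnion fun z hz => by
        by_contra h
        exact hz.1 (hU z h)
    obtain ⟨V₁, hV₁, hxV₁, hV₁le⟩ := exists_isAffineOpen_mem_and_subset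
      (U := V₀ ⊓ ⟨((U : Set X)ᶜ \ {x})ᶜ, hcl.isOpen_compl⟩) (x := x) ⟨hxV₀, fun h => h.2 rfl⟩
    -- a function vanishing at `x` and at no point which is not closed
    let F : Finset X := (finite_isMaxPt X).toFinset.filter fun z => ¬ IsClosed ({z} : Set X) ∧ z ∈ V₁
    let pz : ↥(V₁ : Scheme.{u}) → Ideal Γ(X, V₁) := fun z => (hV₁.primeIdealOf ⟨z.1, z.2⟩).asIdeal
    obtain ⟨t, ht, htF⟩ : ∃ t ∈ pz ⟨x, hxV₁⟩, ∀ z (hz : z ∈ V₁), ¬ IsClosed ({z} : Set X) → t ∉ pz ⟨z, hz⟩ := by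
      by_contra hcon
      push Not at hcon
      have hsub : ((pz ⟨x, hxV₁⟩ : Ideal Γ(X, V₁)) : Set Γ(X, V₁)) ⊆
          ⋃ z ∈ ({z | z.1 ∈ F} : Set ↥(V₁ : Scheme.{u})), (pz z : Set Γ(X, V₁)) := fun t ht => by
        obtain ⟨z, hz, hzc, hzt⟩ := hcon t ht
        refine Set.mem_biUnion (x := (⟨z, hz⟩ : ↥(V₁ : Scheme.{u}))) ?_ hzt
        simp only [Set.mem_setOf_eq, F, Finset.mem_filter, Set.Finite.mem_toFinset]
        exact ⟨isMaxPt_of_not_closed hdim hzc, hzc, hz⟩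
      have hfin : ({z | z.1 ∈ F} : Set ↥(V₁ : Scheme.{u})).Finite :=
        F.finite_toSet.preimage Subtype.val_injective.injOn
      rw [← hfin.coe_toFinset] at hsub
      obtain ⟨z, hz, hle⟩ := (Ideal.subset_union_prime (f := pz) ⟨x, hxV₁⟩ ⟨x, hxV₁⟩
        (fun i _ _ _ => (hV₁.primeIdealOf ⟨i.1, i.2⟩).isPrime)).1 hsub
      simp only [Set.Finite.mem_toFinset, Set.mem_setOf_eq, F, Finset.mem_filter] at hz
      -- inclusion of primes is a generalisation
      have hsp : hV₁.primeIdealOf ⟨x, hxV₁⟩ ⤳ hV₁.primeIdealOf ⟨z.1, z.2⟩ :=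
        (PrimeSpectrum.le_iff_specializes _ _).1 hle
      have hsp' := hsp.map hV₁.fromSpec.continuous
      rw [hV₁.fromSpec_primeIdealOf, hV₁.fromSpec_primeIdealOf] at hsp'
      have hzx : z.1 ∈ ({x} : Set X) := hx.closure_eq ▸ specializes_iff_mem_closure.1 hsp'
      exact hz.2.1 ((Set.mem_singleton_iff.1 hzx).symm ▸ hx)
    have hbo : ∀ z (hz : z ∈ V₁), z ∈ X.basicOpen t ↔ t ∉ pz ⟨z, hz⟩ := fun z hz => by
      have h2 : hV₁.fromSpec (hV₁.primeIdealOf ⟨z, hz⟩) = z := hV₁.fromSpec_primeIdealOf ⟨z, hz⟩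
      conv_lhs => rw [← h2]
      show hV₁.primeIdealOf ⟨z, hz⟩ ∈ hV₁.fromSpec ⁻¹ᵁ X.basicOpen t ↔ _
      rw [hV₁.fromSpec_preimage_basicOpen]
      rfl
    have hle : X.basicOpen t ≤ V₁ := X.basicOpen_le t
    have hxD : x ∉ X.basicOpen t := fun h => (hbo x hxV₁).1 h ht
    -- the other zeros of the function
    let Zt : Set X := ((V₁ : Set X) \ (X.basicOpen t : Set X)) \ {x}
    have hZt : Zt.Finite := by
      haveI : NoetherianSpace ↥(V₁ : Scheme.{u}) := inferInstanceAs (NoetherianSpace ↥(V₁ : Set X))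
      have hA := finite_closed_of_closedPts (V₁ : Scheme.{u}) (Subtype.val ⁻¹' (X.basicOpen t : Set X)ᶜ)
        ((X.basicOpen t).isOpen.isClosed_compl.preimage continuous_subtype_val) fun z hz => by
          have hzc : IsClosed ({z.1} : Set X) := by
            by_contra h
            exact hz ((hbo z.1 z.2).2 (htF z.1 z.2 h))
          have e : ({z} : Set ↥(V₁ : Scheme.{u})) = Subtype.val ⁻¹' {z.1} := by
            ext w
            exact Subtype.ext_iff
          rw [e]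
          exact hzc.preimage continuous_subtype_val
      exact (hA.image Subtype.val).subset fun z hz => ⟨⟨z, hz.1.1⟩, hz.1.2, rfl⟩
    have hZtc : IsClosed Zt := by
      rw [← Set.biUnion_of_singleton Zt]
      exact hZt.isClosed_biUnion fun z hz => by
        by_contra h
        exact hz.1.2 ((hbo z hz.1.1).2 (htF z hz.1.1 h))
    let V₂ : X.Opens := V₁ ⊓ ⟨Ztᶜ, hZtc.isOpen_compl⟩
    have hxV₂ : x ∈ V₂ := ⟨hxV₁, fun h => h.2 rfl⟩
    have hV₂U : U ⊓ V₂ ≤ compl₁ hx ⊓ V₂ := fun z hz => ⟨fun h => hxU (Set.mem_singleton_iff.1 h ▸ hz.1), hz.2⟩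
    have hcover : U ⊔ V₂ ≤ ⊤ := le_top
    have hpunct : compl₁ hx ⊓ V₂ ≤ X.basicOpen t := fun z hz => by
      by_contra h
      exact hz.2.2 ⟨⟨hz.2.1, h⟩, hz.1⟩
    have hpU : compl₁ hx ⊓ V₂ ≤ U := fun z hz => by
      by_contra h
      exact (hV₁le hz.2.1).2 ⟨h, hz.1⟩
    have hDle : X.basicOpen t ≤ compl₁ hx ⊓ V₂ := fun z hz =>
      ⟨fun h => hxD (Set.mem_singleton_iff.1 h ▸ hz), hle hz, fun h => h.1.2 hz⟩
    have hV₂c : cRes (le_top : V₂ ≤ ⊤) c' = 0 := by
      rw [← cRes_cRes (show V₂ ≤ V₀ from fun z hz => (hV₁le hz.1).1) le_top, hV₀c, cRes_zero]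
    obtain ⟨s, hs⟩ := exists_gcls (le_sup_left : U ≤ U ⊔ V₂) (le_sup_right : V₂ ≤ U ⊔ V₂) le_rfl
      (cRes hcover c') ((cRes_cRes _ _ c').trans hc') ((cRes_cRes _ _ c').trans hV₂c)
    let s' : EtCoh.sect (EtCoh.Gm X) (EtMV.oo (compl₁ hx ⊓ V₂)) :=
      res (EtCoh.Gm X) (EtMV.res (le_inf hpU inf_le_right)) s
    haveI : IsLocalization.Away t Γ(X, X.basicOpen t) := hV₁.isLocalization_basicOpen t
    obtain ⟨⟨a, _, m, rfl⟩, ha⟩ := IsLocalization.surj (Submonoid.powers t)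
      (X.presheaf.map (homOfLE hDle).op (oval s'))
    have hres : ∀ {O : X.Opens} (h₁ : O ≤ V₂) (h₂ : O ≤ V₁) (b : Γ(X, V₁)),
        X.presheaf.map (homOfLE h₁).op (X.presheaf.map (homOfLE (inf_le_left : V₂ ≤ V₁)).op b) =
          X.presheaf.map (homOfLE h₂).op b := fun h₁ h₂ b => by
      rw [← ConcreteCategory.comp_apply, ← Functor.map_comp]
      rfl
    let r : Γ(X, V₁) → Γ(X, compl₁ hx ⊓ V₂) := fun b =>
      X.presheaf.map (homOfLE (show compl₁ hx ⊓ V₂ ≤ V₁ from fun z hz => hz.2.1)).op b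
    have hu0 : IsUnit (r t) := by
      have h1 : IsUnit (X.presheaf.map (homOfLE hle).op t) := RingedSpace.isUnit_res_basicOpen _ t
      have h2 := h1.map (X.presheaf.map (homOfLE hpunct).op).hom
      rwa [← ConcreteCategory.comp_apply, ← Functor.map_comp] at h2
    have ha' : oval s' * r t ^ m = r a := by
      have h2 := congrArg (X.presheaf.map (homOfLE hpunct).op) ha
      simp only [RingHom.algebraMap_toAlgebra, map_mul, map_pow] at h2
      simp only [← ConcreteCategory.comp_apply, ← Functor.map_comp] at h2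
      refine Eq.trans ?_ (h2.trans ?_)
      · refine congrArg₂ (· * ·) ?_ rfl
        exact (congrArg (fun f => f (oval s')) (show X.presheaf.map ((homOfLE hDle).op ≫ (homOfLE hpunct).op) = 𝟙 _
          from (congrArg X.presheaf.map (Subsingleton.elim _ (𝟙 _))).trans (X.presheaf.map_id _))).symm
      · rfl
    have hu : ∀ b : Γ(X, V₁), IsUnit (r b) →
        IsUnit (X.presheaf.map (homOfLE (inf_le_right : compl₁ hx ⊓ V₂ ≤ V₂)).op
          (X.presheaf.map (homOfLE (inf_le_left : V₂ ≤ V₁)).op b)) := fun b hb => by rwa [hres]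
    have hua : IsUnit (r a) := ha' ▸ (EtPicLib.isUnit_oval s').mul (hu0.pow m)
    let st := ofO (hu t hu0)
    let sa := ofO (hu a hua)
    have hsum : sa = s' + m • st := by
      refine oval_injective ?_
      have hpow : ∀ k : ℕ, oval (k • st) = oval st ^ k := fun k => by
        induction k with
        | zero => rw [zero_smul, pow_zero]; exact oval_zero' _
        | succ k ihk => rw [succ_nsmul, oval_add, ihk, pow_succ]
      rw [oval_add, hpow, oval_ofO, oval_ofO, hres, hres]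
      exact ha'.symm
    let d := gcls (le_top : compl₁ hx ≤ ⊤) (le_top : V₂ ≤ ⊤) (compl₁_cover hx hxV₂) s'
    have hd : d ∈ P := by
      let Φ : EtCoh.sect (EtCoh.Gm X) (EtMV.oo (compl₁ hx ⊓ V₂)) →+
          Ext ((EtMV.P X).obj (EtMV.oo (⊤ : X.Opens))) (EtCoh.Gm X) 1 :=
        AddMonoidHom.mk' (gcls (le_top : compl₁ hx ≤ ⊤) (le_top : V₂ ≤ ⊤) (compl₁_cover hx hxV₂)) (gcls_add _ _ _)
      show Φ s' ∈ P
      rw [show s' = sa - m • st from eq_sub_of_add_eq hsum.symm, map_sub, map_nsmul]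
      exact P.sub_mem (hP' x hx V₂ hxV₂ _ (hu a hua)) (P.nsmul_mem (hP' x hx V₂ hxV₂ _ (hu t hu0)) m)
    have hUle : U ≤ compl₁ hx := fun z hz h => hxU (Set.mem_singleton_iff.1 h ▸ hz)
    have hcd : cRes hcover c' = cRes hcover d := by
      rw [hs]
      refine ((res_gcls (le_top : compl₁ hx ≤ ⊤) (le_top : V₂ ≤ ⊤) (compl₁_cover hx hxV₂)
        (le_sup_left : U ≤ U ⊔ V₂) (le_sup_right : V₂ ≤ U ⊔ V₂) le_rfl hUle le_rfl hcover s').trans ?_).symm
      refine congrArg _ ?_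
      show res _ _ (res _ _ s) = s
      rw [res_res]
      exact (congrArg (fun m => res (EtCoh.Gm X) m s) (EtMV.hom_oo_ext _ (𝟙 _))).trans (res_id _ _)
    have hdiff : cRes hcover (c' - d) = 0 := by
      show (Ext.mk₀ _).comp (c' - d) (zero_add 1) = 0
      rw [sub_eq_add_neg, Ext.comp_add, Ext.comp_neg, ← sub_eq_add_neg, sub_eq_zero]
      exact hcd
    have hf' : (((U ⊔ V₂ : X.Opens) : Set X)ᶜ).Finite := hf.subset fun z hz h => hz (Or.inl h)
    have hlt : hf'.toFinset ⊂ hf.toFinset := by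
      refine Finset.ssubset_iff_subset_ne.2 ⟨?_, fun h => ?_⟩
      · exact Set.Finite.toFinset_subset_toFinset.2 fun z hz h => hz (Or.inl h)
      · have hx' := h.symm ▸ hxS
        exact (hf'.mem_toFinset.1 hx') (Or.inr hxV₂)
    have := ih (U ⊔ V₂) (fun z hz => Or.inl (hU z hz)) (c' - d) hdiff hf'
      (by have := Finset.card_lt_card hlt; omega)
    simpa using P.add_mem this hd

end Groth.Agent.EtPBC
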