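import Groth.Agent.EtPBC.CdPClosed
import Groth.Agent.EtPBC.CdPush
import Groth.Agent.S0432
import Groth.Agent.S7182
import Groth.Agent.S15944
import Mathlib

/-!
# The kernel of restriction is a direct summand on the doubled scheme
-/

set_option autoImplicit false
set_option backward.isDefEq.respectTransparency false
set_option linter.style.haveILetI false
set_option linter.unusedSectionVars false

universe u

open CategoryTheory CategoryTheory.Limits AlgebraicGeometry Opposite

noncomputable section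

namespace Groth.Agent.EtPBC

open Groth.Agent.EtPushStalk Groth.Agent.EtStalk

variable {X Z : Scheme.{u}} (i : Z ⟶ X) [IsClosedImmersion i] (M : Type) [AddCommGroup M]

theorem Kc.isZero_stalk {Ω : Type u} [Field Ω] [IsSepClosed Ω] (ξ : Spec (CommRingCat.of Ω) ⟶ X)
    (h : ξ (default : Spec (CommRingCat.of Ω)) ∈ Set.range i) : IsZero ((EtCoh.stalk ξ).obj (Kc i M)) := by
  obtain ⟨ζ, rfl⟩ := exists_lift_point i ξ h
  haveI := Groth.Agent.EtPullExact.pull_preservesFiniteLimits i
  have h1 : IsZero ((EtCoh.pull i).obj (Kc i M)) := by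
    refine (IsZero.iff_id_eq_zero _).2 ?_
    haveI : IsIso ((EtCoh.pull i).map (resConst i M)) := isIso_pull_unit i _
    haveI : (EtCoh.pull i).Additive := (EtCoh.pullPushAdj i).left_adjoint_additive
    have h0 : (EtCoh.pull i).map (Kc.ι i M) = 0 := by
      rw [← cancel_mono ((EtCoh.pull i).map (resConst i M)), ← Functor.map_comp, Kc.ι_comp, zero_comp]
      exact Functor.map_zero _ _ _
    rw [← cancel_mono ((EtCoh.pull i).map (Kc.ι i M)), h0]
    simp
  exact (((EtCoh.stalk ζ).map_isZero h1)).of_iso ((stalkPullIso i ζ).app _)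

theorem Kc.isIso_stalk_ι {Ω : Type u} [Field Ω] [IsSepClosed Ω] (ξ : Spec (CommRingCat.of Ω) ⟶ X)
    (h : ξ (default : Spec (CommRingCat.of Ω)) ∉ Set.range i) : IsIso ((EtCoh.stalk ξ).map (Kc.ι i M)) := by
  have hS := (Kc.shortExact i M).map_of_exact (EtCoh.stalk ξ)
  haveI := hS.mono_f
  have hzero : (EtCoh.stalk ξ).map (resConst i M) = 0 :=
    (Groth.Agent.EtStalk.isZero_stalk_push i _ ξ (disjoint_of_not_mem i ξ h)).eq_of_tgt _ _
  haveI : Epi ((EtCoh.stalk ξ).map (Kc.ι i M)) := hS.exact.epi_f hzero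
  exact isIso_of_mono_of_epi _

/-- stalkwise isomorphisms pushed along a closed immersion -/
theorem isIso_stalk_push_map {W V : Scheme.{u}} (b : V ⟶ W) [IsClosedImmersion b] {Ω : Type u} [Field Ω] [IsSepClosed Ω]
    (ζ : Spec (CommRingCat.of Ω) ⟶ V) {F G : EtCoh.Ab V} (f : F ⟶ G) (h : IsIso ((EtCoh.stalk ζ).map f)) :
    IsIso ((EtCoh.stalk (ζ ≫ b)).map ((EtCoh.push b).map f)) := by
  refine (NatIso.isIso_map_iff (stalkPullIso b ζ) _).mpr ?_
  haveI hF := isIso_counit b (liftProp_of_closedImmersion b) F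
  haveI hG := isIso_counit b (liftProp_of_closedImmersion b) G
  have e : (EtCoh.pull b).map ((EtCoh.push b).map f) = (EtCoh.pullPushAdj b).counit.app F ≫ f ≫
      inv ((EtCoh.pullPushAdj b).counit.app G) := by
    rw [← Category.assoc, IsIso.eq_comp_inv]
    exact (EtCoh.pullPushAdj b).counit.naturality f
  show IsIso ((EtCoh.stalk ζ).map ((EtCoh.pull b).map ((EtCoh.push b).map f)))
  rw [e, Functor.map_comp, Functor.map_comp]
  infer_instance

/-- the kernel on the second copy -/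
theorem nonempty_Kc_iso_push {W V Z : Scheme.{u}} (i : Z ⟶ V) [IsClosedImmersion i] (a b : V ⟶ W) [IsClosedImmersion a]
    [IsClosedImmersion b] (hw : i ≫ a = i ≫ b) (hcov : ∀ w, w ∈ Set.range a ∨ w ∈ Set.range b)
    (hint : ∀ v, b v ∈ Set.range a → v ∈ Set.range i) :
    Nonempty (Kc a M ≅ (EtCoh.push b).obj (Kc i M)) := by
  let κ : EtCoh.const W M ⟶ (EtCoh.push b).obj (EtCoh.const V M) :=
    (EtCoh.pullPushAdj b).unit.app _ ≫ (EtCoh.push b).map (EtCons.pullConstM b M).hom
  haveI : (EtCoh.push b).IsRightAdjoint := (EtCoh.pullPushAdj b).isRightAdjoint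
  haveI : (EtCoh.push b).Additive := (EtCoh.pullPushAdj b).right_adjoint_additive
  have hzero : IsZero ((EtCoh.pull i).obj ((EtCoh.pull b).obj (Kc a M))) := by
    refine Recoll.isZero_of_stalks _ fun Ω _ _ ζ => ?_
    refine IsZero.of_iso (Kc.isZero_stalk a M (ζ ≫ i ≫ b) ?_)
      (((stalkPullIso i ζ).symm.app _) ≪≫ ((stalkPullIso b (ζ ≫ i)).symm.app _) ≪≫
        eqToIso (by rw [Category.assoc]))
    rw [← hw]
    exact ⟨i (ζ (default : Spec (CommRingCat.of Ω))), rfl⟩
  have h0 : (Kc.ι a M ≫ κ) ≫ (EtCoh.push b).map (resConst i M) = 0 :=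
    ((((EtCoh.pullPushAdj b).comp (EtCoh.pullPushAdj i)).homEquiv _ _).symm).injective (hzero.eq_of_src _ _)
  let α : Kc a M ⟶ (EtCoh.push b).obj (Kc i M) :=
    (isLimitForkMapOfIsLimit' (EtCoh.push b) (Kc.ι_comp i M) (kernelIsKernel (resConst i M))).lift
      (KernelFork.ofι _ h0)
  have hα : α ≫ (EtCoh.push b).map (Kc.ι i M) = Kc.ι a M ≫ κ :=
    Fork.IsLimit.lift_ι' _ _ _
  suffices IsIso α from ⟨asIso α⟩
  refine (Groth.Agent.EtStalk.isIso_iff α).2 fun Ω _ _ ξ => ?_
  by_cases ha : ξ (default : Spec (CommRingCat.of Ω)) ∈ Set.range a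
  · refine (Kc.isZero_stalk a M ξ ha).isIso ?_ _
    by_cases hb : ξ (default : Spec (CommRingCat.of Ω)) ∈ Set.range b
    · obtain ⟨ζ, rfl⟩ := exists_lift_point b ξ hb
      haveI := isIso_counit b (liftProp_of_closedImmersion b) (Kc i M)
      refine IsZero.of_iso (Kc.isZero_stalk i M ζ (hint _ (by exact ha)))
        ((stalkPullIso b ζ).app _ ≪≫ (EtCoh.stalk ζ).mapIso (asIso ((EtCoh.pullPushAdj b).counit.app (Kc i M))))
    · exact Groth.Agent.EtStalk.isZero_stalk_push b _ ξ (disjoint_of_not_mem b ξ hb)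
  · obtain ⟨ζ, rfl⟩ := exists_lift_point b ξ ((hcov _).resolve_left ha)
    have hζ : ζ (default : Spec (CommRingCat.of Ω)) ∉ Set.range i := by
      rintro ⟨z, hz⟩
      refine ha ⟨i z, ?_⟩
      rw [← Scheme.Hom.comp_apply, hw, Scheme.Hom.comp_apply, hz]
      rfl
    have h1 := Kc.isIso_stalk_ι a M (ζ ≫ b) ha
    have h2 : IsIso ((EtCoh.stalk (ζ ≫ b)).map ((EtCoh.push b).map (Kc.ι i M))) :=
      isIso_stalk_push_map b ζ _ (Kc.isIso_stalk_ι i M ζ hζ)
    have h3 : IsIso ((EtCoh.stalk (ζ ≫ b)).map κ) := by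
      refine (NatIso.isIso_map_iff (stalkPullIso b ζ) _).mpr ?_
      show IsIso ((EtCoh.stalk ζ).map ((EtCoh.pull b).map κ))
      haveI h5 : IsIso ((EtCoh.pull b).map κ) := by
        haveI := isIso_pull_unit b (EtCoh.const W M)
        show IsIso ((EtCoh.pull b).map ((EtCoh.pullPushAdj b).unit.app (EtCoh.const W M) ≫ _))
        rw [Functor.map_comp]
        exact @IsIso.comp_isIso' _ _ _ _ _ _ _ this inferInstance
      exact @Functor.map_isIso _ _ _ _ _ _ (EtCoh.stalk ζ) _ h5
    haveI : IsIso ((EtCoh.stalk (ζ ≫ b)).map α ≫ (EtCoh.stalk (ζ ≫ b)).map ((EtCoh.push b).map (Kc.ι i M))) := by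
      rw [← Functor.map_comp, hα, Functor.map_comp]; infer_instance
    exact IsIso.of_isIso_comp_right _ ((EtCoh.stalk (ζ ≫ b)).map ((EtCoh.push b).map (Kc.ι i M)))

/-- closed immersions with a retraction: the restriction of constants splits after pushing -/
theorem exists_retraction_push {W V : Scheme.{u}} (a : V ⟶ W) [IsClosedImmersion a] (r : W ⟶ V) [IsFinite r]
    (har : a ≫ r = 𝟙 V) :
    ∃ ρ : (EtCoh.push r).obj (EtCoh.const W M) ⟶ (EtCoh.push r).obj (Kc a M),
      (EtCoh.push r).map (Kc.ι a M) ≫ ρ = 𝟙 _ := by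
  haveI hpush : (EtCoh.push a ⋙ EtCoh.push r).IsEquivalence := by
    obtain ⟨_, _⟩ := push_fullyFaithful (𝟙 V) (liftProp_of_openImmersion (𝟙 V))
    haveI : (EtCoh.push (𝟙 V)).EssSurj := ⟨fun F => (essImage_closedImmersion (𝟙 V) F).2
      fun Ω _ _ ξ h => absurd ⟨_, rfl⟩ h⟩
    haveI : (EtCoh.push (𝟙 V)).IsEquivalence := {}
    exact Functor.isEquivalence_of_iso (EtCoh.pushCongr har.symm ≪≫ (EtCoh.pushComp r a).symm)
  let adj := (EtCoh.pullPushAdj r).comp (EtCoh.pullPushAdj a)
  haveI : IsIso adj.unit := inferInstance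
  let c := EtCoh.const V M
  let κ : (EtCoh.pull r).obj c ≅ EtCoh.const W M := EtCons.pullConstM r M
  let s : c ⟶ (EtCoh.push r).obj (EtCoh.const W M) := (EtCoh.pullPushAdj r).unit.app c ≫ (EtCoh.push r).map κ.hom
  have hu : s ≫ (EtCoh.push r).map (resConst a M) =
      adj.unit.app c ≫ (EtCoh.push a ⋙ EtCoh.push r).map ((EtCoh.pull a).map κ.hom) := by
    rw [Adjunction.comp_unit_app, Functor.comp_map, Category.assoc, Category.assoc, ← Functor.map_comp,
      ← Functor.map_comp]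
    congr 2
    exact (EtCoh.pullPushAdj a).unit.naturality κ.hom
  haveI : IsIso (s ≫ (EtCoh.push r).map (resConst a M)) := by rw [hu]; infer_instance
  haveI : (EtCoh.push r).Additive := (EtCoh.pullPushAdj r).right_adjoint_additive
  haveI : (EtCoh.push r).IsRightAdjoint := (EtCoh.pullPushAdj r).isRightAdjoint
  let g := (EtCoh.push r).map (resConst a M)
  let θ := 𝟙 ((EtCoh.push r).obj (EtCoh.const W M)) - g ≫ inv (s ≫ g) ≫ s
  have hθ : θ ≫ g = 0 := by
    simp only [θ, Preadditive.sub_comp, Category.id_comp, Category.assoc, IsIso.inv_hom_id, Category.comp_id, sub_self]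
  let hk := isLimitForkMapOfIsLimit' (EtCoh.push r) (Kc.ι_comp a M) (kernelIsKernel (resConst a M))
  refine ⟨hk.lift (KernelFork.ofι θ hθ), ?_⟩
  haveI : Mono ((EtCoh.push r).map (Kc.ι a M)) := inferInstance
  rw [← cancel_mono ((EtCoh.push r).map (Kc.ι a M)), Category.assoc, Category.id_comp]
  refine (congrArg ((EtCoh.push r).map (Kc.ι a M) ≫ ·) (Fork.IsLimit.lift_ι' hk θ hθ)).trans ?_
  have h0 : (EtCoh.push r).map (Kc.ι a M) ≫ g = 0 := by
    rw [← Functor.map_comp, Kc.ι_comp, Functor.map_zero]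
  simp only [θ, Preadditive.comp_sub, Category.comp_id, reassoc_of% h0, zero_comp, sub_zero]

/-- **vanishing of the cohomology of the kernel from that of constants on the doubled scheme** -/
theorem subsingleton_H_Kc {V Z : Scheme.{u}} [IsLocallyNoetherian V] (i : Z ⟶ V) [IsClosedImmersion i] (q : ℕ)
    (h : ∀ (W : Scheme.{u}) (r : W ⟶ V), IsFinite r → Subsingleton (EtCoh.H W (EtCoh.const W M) q)) :
    Subsingleton (EtCoh.H V (Kc i M) q) := by
  obtain ⟨W, a, b, hP, hcart, _, _⟩ := Groth.Agent.S0432.result i i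
  let r : W ⟶ V := hP.desc (𝟙 V) (𝟙 V) rfl
  have har : a ≫ r = 𝟙 V := hP.inl_desc _ _ _
  have hbr : b ≫ r = 𝟙 V := hP.inr_desc _ _ _
  have hc := Pinch.hasCharts_of_closed i i
  have hp := Pinch.isPinch_of_isPushout hc hP
  have hcov : ∀ w, w ∈ Set.range a ∨ w ∈ Set.range b := fun w =>
    (Pinch.surj_of_top (Pinch.top_of_isPinch hp) w).imp (fun ⟨x, hx⟩ => ⟨x, hx⟩) fun ⟨y, hy⟩ => ⟨y, hy⟩
  have hint : ∀ v, b v ∈ Set.range a → v ∈ Set.range i := by
    rintro v ⟨v', hv⟩
    obtain ⟨z, -, hz⟩ := Scheme.exists_preimage_of_isPullback hcart v' v hv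
    exact ⟨z, hz⟩
  haveI : LocallyOfFiniteType r := by
    haveI : LocallyOfFiniteType (a ≫ r) := har ▸ inferInstance
    haveI : LocallyOfFiniteType (b ≫ r) := hbr ▸ inferInstance
    exact Pinch.locallyOfFiniteType_of_isPinch hc hp r
  haveI : IsFinite r := by
    haveI : IsAffineHom (i ≫ 𝟙 V) := inferInstance
    haveI : IsProper r := (Groth.Agent.S15944.result (𝟙 V) (𝟙 V) i i rfl (fun y => by
        obtain ⟨U, hU, hyU, -⟩ := exists_isAffineOpen_mem_and_subset (X := V) (x := y) (U := ⊤) trivial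
        exact ⟨U, hU, hyU, U, hU, le_rfl, fun z hz => hz⟩) a b hP r har hbr).2 inferInstance inferInstance
    haveI : LocallyQuasiFinite r := LocallyQuasiFinite.of_finite_preimage_singleton r fun v => by
      refine (Set.toFinite {a v, b v}).subset fun w (hw : r w = v) => ?_
      rcases hcov w with ⟨v', rfl⟩ | ⟨v', rfl⟩
      · left
        rw [← Scheme.Hom.comp_apply, har] at hw
        exact congrArg a hw
      · right
        rw [← Scheme.Hom.comp_apply, hbr] at hw
        exact congrArg b hw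
    exact IsFinite.of_isProper_of_locallyQuasiFinite r
  obtain ⟨ρ, hρ⟩ := exists_retraction_push M a r har
  obtain ⟨e⟩ := nonempty_Kc_iso_push M i a b hP.w hcov hint
  have h1 : Subsingleton (EtCoh.H W (EtCoh.const W M) q) := h W r ‹_›
  have h2 : Subsingleton (EtCoh.H V ((EtCoh.push r).obj (Kc a M)) q) := by
    haveI : Subsingleton ((EtCoh.HF V q).obj ((EtCoh.push r).obj (EtCoh.const W M))) :=
      (subsingleton_H_iff_push r (EtCoh.const W M) (fun k => EtIntegral.Rpush_succ_isZero r _ k) q).2 h1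
    refine ⟨fun x y => ?_⟩
    have key : ∀ z : EtCoh.H V ((EtCoh.push r).obj (Kc a M)) q,
        z = (EtCoh.HF V q).map ρ ((EtCoh.HF V q).map ((EtCoh.push r).map (Kc.ι a M)) z) := fun z => by
      rw [← ConcreteCategory.comp_apply, ← Functor.map_comp, hρ, CategoryTheory.Functor.map_id]
      rfl
    rw [key x, key y, Subsingleton.elim ((EtCoh.HF V q).map ((EtCoh.push r).map (Kc.ι a M)) x)]
  have h3 : Subsingleton (EtCoh.H W (Kc a M) q) :=
    (subsingleton_H_iff_push r _ (fun k => EtIntegral.Rpush_succ_isZero r _ k) q).1 h2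
  exact (subsingleton_H_iff_push b _ (fun k => EtIntegral.Rpush_succ_isZero b _ k) q).1
    (subsingleton_H_of_iso e q h3)

end Groth.Agent.EtPBC
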