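import Mathlib

/-!
# Frobenius minus one on finite-dimensional spaces and on functions on a punctured finite cover of the line
-/

set_option autoImplicit false

universe u v

open Polynomial

namespace Groth.Agent.EtPBC

variable (p : ℕ) [hp : Fact p.Prime] {k : Type u} [Field k] [CharP k p]

/-- the coefficients of the solution, as polynomials in the last one -/
noncomputable def asCoeff (a : ℕ → k) : ℕ → k[X]
  | 0 => C (a 0) * X ^ p - 1
  | i + 1 => asCoeff a i ^ p + C (a (i + 1)) * X ^ p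

omit hp in
theorem derivative_asCoeff (a : ℕ → k) : ∀ i, derivative (asCoeff p a i) = 0
  | 0 => by
    rw [asCoeff, derivative_sub, derivative_C_mul, derivative_one, derivative_X_pow, CharP.cast_eq_zero, map_zero,
      zero_mul, mul_zero, sub_zero]
  | i + 1 => by
    rw [asCoeff, derivative_add, derivative_pow, derivative_C_mul, derivative_X_pow, CharP.cast_eq_zero, map_zero,
      zero_mul, zero_mul, zero_mul, mul_zero, add_zero]

include hp in
/-- **semilinear Frobenius minus one is surjective over a separably closed field** -/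
theorem exists_frob_sub_eq [IsSepClosed k] {V : Type v} [AddCommGroup V] [Module k V] [Module.Finite k V]
    (φ : V →+ V) (hφ : ∀ (c : k) (w : V), φ (c • w) = c ^ p • φ w) (v : V) : ∃ y, φ y - y = v := by
  let f : ℕ → V := fun i => φ^[i] v
  have hf : ∀ i, φ (f i) = f (i + 1) := fun i => (Function.iterate_succ_apply' φ i v).symm
  obtain ⟨m, hm⟩ : ∃ m, f m ∈ Submodule.span k (Set.range fun i : Fin m => f i) := by
    by_contra h
    push_neg at h
    have hli : ∀ n, LinearIndependent k fun i : Fin n => f i := by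
      intro n
      induction n with
      | zero => exact linearIndependent_empty_type
      | succ n ih =>
        have : (fun i : Fin (n + 1) => f i) = Fin.snoc (fun i : Fin n => f i) (f n) := by
          funext i
          refine Fin.lastCases ?_ (fun j => ?_) i
          · simp
          · simp
        rw [this, linearIndependent_finSnoc]
        exact ⟨ih, h n⟩
    have := (hli (Module.finrank k V + 1)).fintype_card_le_finrank
    simp at this
  obtain ⟨a', ha'⟩ := Submodule.mem_span_range_iff_exists_fun k |>.1 hm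
  obtain rfl | ⟨n, rfl⟩ : m = 0 ∨ ∃ n, m = n + 1 := by
    cases m with
    | zero => exact Or.inl rfl
    | succ n => exact Or.inr ⟨n, rfl⟩
  · refine ⟨0, ?_⟩
    rw [map_zero, sub_zero]
    simpa [f] using ha'
  let a : ℕ → k := fun i => if h : i < n + 1 then a' ⟨i, h⟩ else 0
  have hrel : f (n + 1) = ∑ i ∈ Finset.range (n + 1), a i • f i := by
    rw [← ha', Finset.sum_range]
    refine Finset.sum_congr rfl fun i _ => ?_
    simp only [a, dif_pos i.isLt]
  let Q : k[X] := asCoeff p a n - X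
  have hQ' : derivative Q = -1 := by rw [derivative_sub, derivative_asCoeff, derivative_X, zero_sub]
  have hQdeg : Q.degree ≠ 0 := fun h => by
    rw [Polynomial.eq_C_of_degree_le_zero h.le, derivative_C] at hQ'
    exact one_ne_zero (neg_eq_zero.1 hQ'.symm)
  obtain ⟨r, hr⟩ := IsSepClosed.exists_root Q hQdeg (by
    rw [Polynomial.separable_def, hQ']
    exact isCoprime_one_right.neg_right)
  let c : ℕ → k := fun i => (asCoeff p a i).eval r
  have hcn : c n = r := by
    have : (asCoeff p a n).eval r - r = 0 := by simpa [Q] using hr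
    exact sub_eq_zero.1 this
  have hc0 : c 0 = a 0 * r ^ p - 1 := by simp [c, asCoeff]
  have hcs : ∀ i, c i ^ p = c (i + 1) - a (i + 1) * r ^ p := fun i => by simp [c, asCoeff]
  refine ⟨∑ i ∈ Finset.range (n + 1), c i • f i, ?_⟩
  have h1 : φ (∑ i ∈ Finset.range (n + 1), c i • f i) =
      ∑ i ∈ Finset.range n, c (i + 1) • f (i + 1) + (r ^ p * a 0) • f 0 := by
    rw [map_sum, Finset.sum_range_succ]
    simp only [hφ, hf, hcs]
    rw [← hcs n, hcn, hrel, Finset.sum_range_succ' (fun i => a i • f i), smul_add, Finset.smul_sum, ← add_assoc,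
      ← Finset.sum_add_distrib, smul_smul]
    congr 1
    refine Finset.sum_congr rfl fun i _ => ?_
    rw [smul_smul, ← add_smul, mul_comm (r ^ p), sub_add_cancel]
  rw [h1, Finset.sum_range_succ' (fun i => c i • f i), add_sub_add_left_eq_sub, ← sub_smul, hc0,
    show r ^ p * a 0 - (a 0 * r ^ p - 1) = 1 by ring, one_smul]
  rfl

variable {A₁ A₂ B : Type v} [CommRing A₁] [CommRing A₂] [CommRing B] [Algebra k A₁] [Algebra k A₂] [Algebra k B]
  (ρ₁ : A₁ →ₐ[k] B) (ρ₂ : A₂ →ₐ[k] B)

omit hp [CharP k p] in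
/-- functions regular on neither side form a finite-dimensional space -/
theorem finite_quotient_sup_range (t : A₁) (s : A₂) (hts : ρ₁ t * ρ₂ s = 1) (S : Finset A₁)
    (hS : ∀ a : A₁, ∃ q : A₁ → k[X], a = ∑ e ∈ S, aeval t (q e) * e)
    (h₁ : ∀ b : B, ∃ (n : ℕ) (a : A₁), ρ₁ a = b * ρ₁ t ^ n)
    (h₂ : ∀ b : B, ∃ (n : ℕ) (a : A₂), ρ₂ a = b * ρ₂ s ^ n) :
    Module.Finite k (B ⧸ (LinearMap.range ρ₁.toLinearMap ⊔ LinearMap.range ρ₂.toLinearMap)) := by
  classical
  let W := LinearMap.range ρ₁.toLinearMap ⊔ LinearMap.range ρ₂.toLinearMap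
  choose N a₂ ha₂ using fun e : A₁ => h₂ (ρ₁ e)
  let G : Finset B := S.biUnion fun e => (Finset.range (N e)).image fun m => ρ₁ e * ρ₂ s ^ m
  let M : Submodule k B := W ⊔ Submodule.span k (G : Set B)
  have hone : ∀ e ∈ S, ∀ m, ρ₁ e * ρ₂ s ^ m ∈ M := fun e he m => by
    by_cases hm : m < N e
    · exact Submodule.mem_sup_right (Submodule.subset_span (by
        simp only [G, Finset.coe_biUnion, Finset.coe_image, Set.mem_iUnion, Set.mem_image, Finset.mem_coe,
          Finset.mem_range]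
        exact ⟨e, he, m, hm, rfl⟩))
    · refine Submodule.mem_sup_left (Submodule.mem_sup_right ⟨a₂ e * s ^ (m - N e), ?_⟩)
      show ρ₂ (a₂ e * s ^ (m - N e)) = _
      rw [map_mul, map_pow, ha₂, mul_assoc, ← pow_add, Nat.add_sub_cancel' (not_lt.1 hm)]
  have hterm : ∀ e ∈ S, ∀ (j n : ℕ), ρ₁ t ^ j * ρ₁ e * ρ₂ s ^ n ∈ M := fun e he j n => by
    rcases le_or_gt n j with h | h
    · refine Submodule.mem_sup_left (Submodule.mem_sup_left ⟨t ^ (j - n) * e, ?_⟩)
      show ρ₁ (t ^ (j - n) * e) = _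
      obtain ⟨d, rfl⟩ := Nat.exists_eq_add_of_le h
      rw [Nat.add_sub_cancel_left, map_mul, map_pow, pow_add]
      calc ρ₁ t ^ d * ρ₁ e = (ρ₁ t * ρ₂ s) ^ n * (ρ₁ t ^ d * ρ₁ e) := by rw [hts, one_pow, one_mul]
        _ = _ := by ring
    · obtain ⟨d, rfl⟩ := Nat.exists_eq_add_of_le h.le
      have : ρ₁ t ^ j * ρ₁ e * ρ₂ s ^ (j + d) = ρ₁ e * ρ₂ s ^ d := by
        calc _ = (ρ₁ t * ρ₂ s) ^ j * (ρ₁ e * ρ₂ s ^ d) := by ring
          _ = _ := by rw [hts, one_pow, one_mul]
      rw [this]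
      exact hone e he d
  have htop : M = ⊤ := by
    refine eq_top_iff.2 fun b _ => ?_
    obtain ⟨n, a, ha⟩ := h₁ b
    obtain ⟨q, rfl⟩ := hS a
    have hb : b = ρ₁ (∑ e ∈ S, aeval t (q e) * e) * ρ₂ s ^ n := by
      rw [ha, mul_assoc, ← mul_pow, hts, one_pow, mul_one]
    rw [hb, map_sum, Finset.sum_mul]
    refine Submodule.sum_mem _ fun e he => ?_
    induction q e using Polynomial.induction_on' with
    | add f g hf hg =>
      rw [map_add, add_mul, map_add, add_mul]
      exact add_mem hf hg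
    | monomial j c =>
      rw [aeval_monomial, map_mul, map_mul, map_pow, AlgHom.commutes, ← Algebra.smul_def, smul_mul_assoc,
        smul_mul_assoc]
      exact M.smul_mem c (hterm e he j n)
  refine Module.finite_def.2 ⟨G.image W.mkQ, ?_⟩
  rw [Finset.coe_image, ← Submodule.map_span, eq_top_iff]
  rintro z -
  obtain ⟨b, rfl⟩ := W.mkQ_surjective z
  obtain ⟨w, hw, g, hg, rfl⟩ := Submodule.mem_sup.1 (htop.symm ▸ Submodule.mem_top : b ∈ M)
  exact ⟨g, hg, by
    rw [map_add, show W.mkQ w = 0 from (Submodule.Quotient.mk_eq_zero W).2 hw, zero_add]⟩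

include hp in
/-- **every function is a sum of regular ones and of `g ^ p - g`** -/
theorem exists_as_decomp [IsSepClosed k]
    (hfin : Module.Finite k (B ⧸ (LinearMap.range ρ₁.toLinearMap ⊔ LinearMap.range ρ₂.toLinearMap)))
    (b : B) : ∃ (x : A₁) (y : A₂) (g : B), b = ρ₁ x + ρ₂ y + (g ^ p - g) := by
  let W := LinearMap.range ρ₁.toLinearMap ⊔ LinearMap.range ρ₂.toLinearMap
  rcases subsingleton_or_nontrivial B with hB | hB
  · exact ⟨0, 0, 0, Subsingleton.elim _ _⟩
  haveI : CharP B p := charP_of_injective_algebraMap (algebraMap k B).injective p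
  let F : B →+ B := (frobenius B p).toAddMonoidHom
  have hFW : ∀ w ∈ W, F w ∈ W := fun w hw => by
    obtain ⟨_, ⟨x, rfl⟩, _, ⟨y, rfl⟩, rfl⟩ := Submodule.mem_sup.1 hw
    rw [map_add]
    refine add_mem (Submodule.mem_sup_left ⟨x ^ p, ?_⟩) (Submodule.mem_sup_right ⟨y ^ p, ?_⟩)
    · show ρ₁ (x ^ p) = ρ₁ x ^ p
      rw [map_pow]
    · show ρ₂ (y ^ p) = ρ₂ y ^ p
      rw [map_pow]
  let φ : B ⧸ W →+ B ⧸ W := QuotientAddGroup.map W.toAddSubgroup W.toAddSubgroup F fun w hw => hFW w hw
  have hφ : ∀ (c : k) (w : B ⧸ W), φ (c • w) = c ^ p • φ w := fun c w => by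
    induction w using Submodule.Quotient.induction_on with
    | H w =>
      show W.mkQ ((c • w) ^ p) = c ^ p • W.mkQ (w ^ p)
      rw [_root_.smul_pow, map_smul]
  obtain ⟨g', hg'⟩ := exists_frob_sub_eq p φ hφ (W.mkQ b)
  obtain ⟨g, rfl⟩ := W.mkQ_surjective g'
  have hw : b - (g ^ p - g) ∈ W := by
    rw [← Submodule.Quotient.mk_eq_zero]
    show W.mkQ (b - (g ^ p - g)) = 0
    rw [map_sub, ← hg', sub_eq_zero, map_sub]
    rfl
  obtain ⟨_, ⟨x, rfl⟩, _, ⟨y, rfl⟩, hxy⟩ := Submodule.mem_sup.1 hw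
  exact ⟨x, y, g, sub_eq_iff_eq_add.1 hxy.symm⟩

end Groth.Agent.EtPBC
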