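import Groth.Agent.EtPBC.CdPGaCompare
import Groth.Agent.EtPBC.ASFinite
import Groth.Agent.EtPBC.ArtinSchreier
import Groth.Agent.EtPBC.CdPDev
import Groth.Agent.Devissage.Piece
import Groth.Agent.S0002
import Mathlib

/-!
# Frobenius minus one on the cohomology of `𝔾ₐ` over a separably closed field
-/

set_option autoImplicit false
set_option backward.isDefEq.respectTransparency false
set_option backward.isDefEq.respectTransparency.types false
set_option linter.auxLemma false
set_option linter.style.haveILetI false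
set_option linter.unusedSectionVars false

universe u v

open CategoryTheory CategoryTheory.Limits AlgebraicGeometry Opposite Abelian

noncomputable section

namespace Groth.Agent.EtPBC

attribute [local instance 100000] EtCoh.H._proof_1 EtMV.hext
attribute [local instance 200000] EtMV.hextAb

/-- fixed vectors of a semilinear map: at most `p ^ dim` -/
theorem finite_fixed_le (p : ℕ) [hp : Fact p.Prime] {k : Type u} [Field k] {V : Type v} [AddCommGroup V] [Module k V]
    [Module.Finite k V] (φ : V →+ V) (hφ : ∀ (c : k) (w : V), φ (c • w) = c ^ p • φ w) :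
    {v | φ v = v}.Finite ∧ {v | φ v = v}.ncard ≤ p ^ Module.finrank k V := by
  classical
  let W : Set V := {v | φ v = v}
  obtain ⟨b, hbW, hspan, hli⟩ := exists_linearIndependent k W
  haveI : Finite b := hli.finite
  haveI := Fintype.ofFinite b
  let P : Polynomial k := Polynomial.X ^ p - Polynomial.X
  have hP : P ≠ 0 := (Polynomial.monic_X_pow_sub (n := p) (by
    rw [Polynomial.degree_X]; exact_mod_cast hp.out.one_lt)).ne_zero
  let R : Finset k := P.roots.toFinset
  have hR : R.card ≤ p := by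
    refine (Multiset.toFinset_card_le _).trans ((Polynomial.card_roots' P).trans ?_)
    refine Polynomial.natDegree_le_of_degree_le ((Polynomial.degree_sub_le _ _).trans ?_)
    rw [Polynomial.degree_X_pow, Polynomial.degree_X]
    exact max_le le_rfl (by exact_mod_cast hp.out.one_le)
  have hWsub : W ⊆ (fun c : b → R => ∑ e, (c e : k) • (e : V)) '' Set.univ := by
    intro w hw
    have hmem : w ∈ Submodule.span k (Set.range ((↑) : b → V)) := by
      rw [Subtype.range_coe, hspan]; exact Submodule.subset_span hw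
    obtain ⟨c, hc⟩ := Submodule.mem_span_range_iff_exists_fun k |>.1 hmem
    have hfix : ∑ e, (c e ^ p - c e) • (e : V) = 0 := by
      have h1 : φ w = ∑ e, c e ^ p • (e : V) := by
        rw [← hc, map_sum]
        exact Finset.sum_congr rfl fun e _ => by rw [hφ, show φ (e : V) = e from hbW e.2]
      simp_rw [sub_smul]
      rw [Finset.sum_sub_distrib, ← h1, hc, show φ w = w from hw, sub_self]
    have hroot : ∀ e, c e ∈ R := fun e => by
      have := linearIndependent_iff'.1 hli Finset.univ _ hfix e (Finset.mem_univ _)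
      simp only [R, Multiset.mem_toFinset, Polynomial.mem_roots hP]
      simpa [P] using this
    exact ⟨fun e => ⟨c e, hroot e⟩, trivial, hc⟩
  have hcard : Fintype.card b ≤ Module.finrank k V := hli.fintype_card_le_finrank
  refine ⟨(Set.finite_univ.image _).subset hWsub, ?_⟩
  refine (Set.ncard_le_ncard hWsub (Set.finite_univ.image _)).trans ((Set.ncard_image_le Set.finite_univ).trans ?_)
  rw [Set.ncard_univ, Nat.card_fun, Nat.card_eq_fintype_card, Nat.card_eq_fintype_card, Fintype.card_coe]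
  exact (Nat.pow_le_pow_left hR _).trans (Nat.pow_le_pow_right hp.out.pos hcard)

variable {k : Type u} [Field k] (p : ℕ) [hp : Fact p.Prime] [CharP k p] {X : Scheme.{u}}
  (f : X ⟶ Spec (CommRingCat.of k)) (h0 : (p : Γ(X, ⊤)) = 0) (q : ℕ)

theorem gaMul_one : gaMul (1 : Γ(X, ⊤)) = 𝟙 _ := by
  ext U ⟨s⟩
  exact congrArg ULift.up ((congrArg (· * (show Γ(U.unop.left, ⊤) from s)) (map_one _)).trans (one_mul _))

theorem gaMul_zero : gaMul (0 : Γ(X, ⊤)) = 0 := by
  ext U ⟨s⟩
  exact congrArg ULift.up ((congrArg (· * (show Γ(U.unop.left, ⊤) from s)) (map_zero _)).trans (zero_mul _))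

theorem gaMul_mul (a b : Γ(X, ⊤)) : gaMul (a * b) = gaMul b ≫ gaMul a := by
  ext U ⟨s⟩
  exact congrArg ULift.up
    ((congrArg (· * (show Γ(U.unop.left, ⊤) from s)) (map_mul _ _ _)).trans (mul_assoc _ _ _))

theorem gaMul_add (a b : Γ(X, ⊤)) : gaMul (a + b) = gaMul a + gaMul b := by
  ext U ⟨s⟩
  exact congrArg ULift.up
    ((congrArg (· * (show Γ(U.unop.left, ⊤) from s)) (map_add _ _ _)).trans (add_mul _ _ _))

/-- the scalars on étale cohomology of `𝔾ₐ` -/
def scalHom : k →+* AddMonoid.End (EtCoh.H X (EtCoh.Ga X) q) :=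
  { toFun := fun c => (Ext.mk₀ (gaMul (Coh.toGlobal f c))).postcomp _ (add_zero q)
    map_one' := AddMonoidHom.ext fun x => by
      show Ext.comp x (Ext.mk₀ (gaMul (Coh.toGlobal f 1))) (add_zero q) = x
      rw [map_one]
      erw [gaMul_one, Ext.comp_mk₀_id]
    map_mul' := fun a b => AddMonoidHom.ext fun x => by
      show Ext.comp x (Ext.mk₀ (gaMul (Coh.toGlobal f (a * b)))) (add_zero q) =
        Ext.comp (Ext.comp x (Ext.mk₀ (gaMul (Coh.toGlobal f b))) (add_zero q))
          (Ext.mk₀ (gaMul (Coh.toGlobal f a))) (add_zero q)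
      rw [map_mul, Ext.comp_assoc_of_second_deg_zero, Ext.mk₀_comp_mk₀]
      erw [gaMul_mul]
    map_zero' := AddMonoidHom.ext fun x => by
      show Ext.comp x (Ext.mk₀ (gaMul (Coh.toGlobal f 0))) (add_zero q) = 0
      rw [map_zero]
      erw [gaMul_zero, Ext.mk₀_zero, Ext.comp_zero]
    map_add' := fun a b => AddMonoidHom.ext fun x => by
      show Ext.comp x (Ext.mk₀ (gaMul (Coh.toGlobal f (a + b)))) (add_zero q) =
        Ext.comp x (Ext.mk₀ (gaMul (Coh.toGlobal f a))) (add_zero q) +
          Ext.comp x (Ext.mk₀ (gaMul (Coh.toGlobal f b))) (add_zero q)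
      rw [map_add, ← Ext.comp_add, ← Ext.mk₀_add]
      erw [gaMul_add] }

/-- the Frobenius of `𝔾ₐ` -/
def gaFrob : EtCoh.Ga X ⟶ EtCoh.Ga X := W4c5etcohweilstudent.artinSchreierEndo X p hp.out h0 + 𝟙 _

theorem gaMul_comp_gaFrob (c : Γ(X, ⊤)) :
    gaMul c ≫ gaFrob p h0 = gaFrob p h0 ≫ gaMul (c ^ p) := by
  ext U ⟨s⟩
  refine congrArg ULift.up ?_
  show (etScal c U.unop * (show Γ(U.unop.left, ⊤) from s)) ^ p - etScal c U.unop * (show Γ(U.unop.left, ⊤) from s) +
      etScal c U.unop * (show Γ(U.unop.left, ⊤) from s) =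
    etScal (c ^ p) U.unop * ((show Γ(U.unop.left, ⊤) from s) ^ p - (show Γ(U.unop.left, ⊤) from s) +
      (show Γ(U.unop.left, ⊤) from s))
  rw [sub_add_cancel, sub_add_cancel, mul_pow]
  congr 1
  exact (map_pow _ _ _).symm

/-- the Artin–Schreier map on cohomology -/
def asH : EtCoh.H X (EtCoh.Ga X) q →+ EtCoh.H X (EtCoh.Ga X) q :=
  (Ext.mk₀ (W4c5etcohweilstudent.artinSchreierEndo X p hp.out h0)).postcomp _ (add_zero q)

/-- the Frobenius on cohomology -/
def frobH : EtCoh.H X (EtCoh.Ga X) q →+ EtCoh.H X (EtCoh.Ga X) q :=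
  (Ext.mk₀ (gaFrob p h0)).postcomp _ (add_zero q)

theorem asH_eq (x : EtCoh.H X (EtCoh.Ga X) q) : asH p h0 q x = frobH p h0 q x - x := by
  show Ext.comp x (Ext.mk₀ (W4c5etcohweilstudent.artinSchreierEndo X p hp.out h0)) (add_zero q) =
    Ext.comp x (Ext.mk₀ (gaFrob p h0)) (add_zero q) - x
  rw [gaFrob, Ext.mk₀_add, Ext.comp_add, Ext.comp_mk₀_id, add_sub_cancel_right]

theorem frobH_smul (c : k) (x : EtCoh.H X (EtCoh.Ga X) q) :
    frobH p h0 q (scalHom f q c x) = scalHom f q (c ^ p) (frobH p h0 q x) := by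
  show Ext.comp (Ext.comp x (Ext.mk₀ (gaMul (Coh.toGlobal f c))) (add_zero q)) (Ext.mk₀ (gaFrob p h0)) (add_zero q) =
    Ext.comp (Ext.comp x (Ext.mk₀ (gaFrob p h0)) (add_zero q)) (Ext.mk₀ (gaMul (Coh.toGlobal f (c ^ p)))) (add_zero q)
  rw [Ext.comp_assoc_of_second_deg_zero, Ext.comp_assoc_of_second_deg_zero, Ext.mk₀_comp_mk₀, Ext.mk₀_comp_mk₀,
    map_pow]
  erw [gaMul_comp_gaFrob p h0 (Coh.toGlobal f c)]

/-- finite dimensionality transferred to étale cohomology -/
theorem finite_H_Ga [X.Over (Spec (CommRingCat.of k))] (hf : X ↘ Spec (CommRingCat.of k) = f)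
    (hfin : Module.Finite k (Coh.HH X (Coh.structureModule X) q)) :
    @Module.Finite k (EtCoh.H X (EtCoh.Ga X) q) _ _ (Module.compHom _ (scalHom f q)) ∧
      @Module.finrank k (EtCoh.H X (EtCoh.Ga X) q) _ _ (Module.compHom _ (scalHom f q)) =
        Module.finrank k (Coh.HH X (Coh.structureModule X) q) := by
  letI : Module k (EtCoh.H X (EtCoh.Ga X) q) := Module.compHom _ (scalHom f q)
  obtain ⟨E, hE⟩ := exists_gaEquiv X q
  let L : EtCoh.H X (EtCoh.Ga X) q ≃ₗ[k] Coh.HH X (Coh.structureModule X) q :=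
    { E with
      map_smul' := fun c x => by
        show E (scalHom f q c x) = (Coh.toGlobal (X ↘ Spec (CommRingCat.of k)) c) • E x
        rw [hf]
        exact hE (Coh.toGlobal f c) x }
  exact ⟨Module.Finite.equiv L.symm, L.finrank_eq⟩

include f in
/-- **Frobenius minus one is surjective** -/
theorem surjective_asH [IsSepClosed k] [X.Over (Spec (CommRingCat.of k))] (hf : X ↘ Spec (CommRingCat.of k) = f)
    (hfin : Module.Finite k (Coh.HH X (Coh.structureModule X) q)) : Function.Surjective (asH p h0 q) := fun x => by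
  letI : Module k (EtCoh.H X (EtCoh.Ga X) q) := Module.compHom _ (scalHom f q)
  haveI := (finite_H_Ga f q hf hfin).1
  obtain ⟨y, hy⟩ := exists_frob_sub_eq p (frobH p h0 q) (fun c w => frobH_smul p f h0 q c w) x
  exact ⟨y, (asH_eq p h0 q y).trans hy⟩

include f in
/-- **finitely many fixed classes** -/
theorem finite_ker_asH [X.Over (Spec (CommRingCat.of k))] (hf : X ↘ Spec (CommRingCat.of k) = f)
    (hfin : Module.Finite k (Coh.HH X (Coh.structureModule X) q)) :
    {x | asH p h0 q x = 0}.Finite ∧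
      {x | asH p h0 q x = 0}.ncard ≤ p ^ Module.finrank k (Coh.HH X (Coh.structureModule X) q) := by
  letI : Module k (EtCoh.H X (EtCoh.Ga X) q) := Module.compHom _ (scalHom f q)
  obtain ⟨hF, hr⟩ := finite_H_Ga f q hf hfin
  haveI := hF
  have he : {x | asH p h0 q x = 0} = {x | frobH p h0 q x = x} := Set.ext fun x => by
    show asH p h0 q x = 0 ↔ frobH p h0 q x = x
    rw [asH_eq, sub_eq_zero]
  rw [he, ← hr]
  exact finite_fixed_le p (frobH p h0 q) fun c w => frobH_smul p f h0 q c w

/-- finite dimensional coherent cohomology of proper schemes over a field -/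
theorem moduleFinite_HH_proper [X.Over (Spec (CommRingCat.of k))] [IsProper (X ↘ Spec (CommRingCat.of k))] :
    Module.Finite k (Coh.HH X (Coh.structureModule X) q) :=
  Groth.Agent.S0002.result k X _ (Devissage.isCoh_unit X) q

include f in
theorem natCast_eq_zero_of_over : (p : Γ(X, ⊤)) = 0 := by
  rw [← map_natCast (Coh.toGlobal f), CharP.cast_eq_zero, map_zero]

include f in
/-- `H^i(X, ℤ/p)` injects into the classes killed by Artin–Schreier -/
theorem injective_H_asι [IsSepClosed k] [X.Over (Spec (CommRingCat.of k))] (hf : X ↘ Spec (CommRingCat.of k) = f)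
    (hfin : ∀ m, Module.Finite k (Coh.HH X (Coh.structureModule X) m)) :
    Function.Injective ((Ext.mk₀ (asι p h0)).postcomp (EtCoh.const X ℤ) (add_zero q)) := by
  rw [injective_iff_map_eq_zero]
  intro x hx
  change Ext.comp x (Ext.mk₀ (asι p h0)) (add_zero q) = 0 at hx
  cases q with
  | zero =>
    haveI := mono_asι p h0
    obtain ⟨u, rfl⟩ := (Ext.mk₀_bijective _ _).2 x
    rw [Ext.mk₀_comp_mk₀, ← Ext.mk₀_zero] at hx
    rw [← Ext.mk₀_zero]
    exact congrArg Ext.mk₀ (zero_of_comp_mono (asι p h0) ((Ext.mk₀_bijective _ _).1 hx))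
  | succ n =>
    have hS := as_shortExact p h0
    obtain ⟨y, hy⟩ := Ext.covariant_sequence_exact₁ _ hS x hx (n₀ := n) rfl
    obtain ⟨z, hz⟩ := surjective_asH p f h0 n hf (hfin n) y
    rw [← hy, ← hz]
    show Ext.comp (Ext.comp z (Ext.mk₀ (W4c5etcohweilstudent.artinSchreierEndo X p hp.out h0)) (add_zero n))
      hS.extClass rfl = 0
    rw [Ext.comp_assoc z _ _ (add_zero n) (zero_add 1) (by omega)]
    erw [hS.comp_extClass]
    simp only [Ext.comp_zero]

include f in
/-- **finiteness of `H^i(X, ℤ/p)`** -/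
theorem finite_H_zmod [IsSepClosed k] [X.Over (Spec (CommRingCat.of k))] (hf : X ↘ Spec (CommRingCat.of k) = f)
    (hfin : ∀ m, Module.Finite k (Coh.HH X (Coh.structureModule X) m)) (h0 : (p : Γ(X, ⊤)) = 0) :
    Finite (EtCoh.H X (EtCoh.const X (ZMod p)) q) ∧ Nat.card (EtCoh.H X (EtCoh.const X (ZMod p)) q) ≤
      p ^ Module.finrank k (Coh.HH X (Coh.structureModule X) q) := by
  obtain ⟨hK, hc⟩ := finite_ker_asH p f h0 q hf (hfin q)
  haveI := hK.to_subtype
  let g : EtCoh.H X (EtCoh.const X (ZMod p)) q → {x | asH p h0 q x = 0} := fun x =>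
    ⟨Ext.comp x (Ext.mk₀ (asι p h0)) (add_zero q), by
      show Ext.comp (Ext.comp x (Ext.mk₀ (asι p h0)) (add_zero q))
        (Ext.mk₀ (W4c5etcohweilstudent.artinSchreierEndo X p hp.out h0)) (add_zero q) = 0
      rw [Ext.comp_assoc_of_second_deg_zero, Ext.mk₀_comp_mk₀, asι_comp, Ext.mk₀_zero, Ext.comp_zero]⟩
  have hg : Function.Injective g := fun a b h =>
    injective_H_asι p f h0 q hf hfin (congrArg Subtype.val h)
  exact ⟨Finite.of_injective g hg, (Nat.card_le_card_of_injective g hg).trans (le_of_eq_of_le (by rw [Nat.card_coe_set_eq]) hc)⟩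

end Groth.Agent.EtPBC
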