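import Groth.Agent.EtPBC.KummerH2
import Groth.Agent.EtPBC.GenPic
import Groth.Agent.EtPBC.PicLift
import Mathlib

/-!
# Classes of the units attached to local equations
-/

set_option autoImplicit false
set_option backward.isDefEq.respectTransparency false
set_option backward.isDefEq.respectTransparency.types false
set_option linter.auxLemma false
set_option linter.style.haveILetI false
set_option linter.unusedSectionVars false

universe u

open CategoryTheory CategoryTheory.Limits CategoryTheory.Abelian AlgebraicGeometry Opposite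
open Groth.Agent.EtFLC (res res_res res_id)
open Groth.Agent.EtPicLib (oval oval_rr exists_oval oval_injective ofO oval_ofO oval_add)

noncomputable section

namespace Groth.Agent.EtPBC

attribute [local instance 100000] EtCoh.H._proof_1 EtMV.hext
attribute [local instance 200000] EtMV.hextAb

variable {X Z : Scheme.{u}}

/-- a section of the first open glues to zero -/
theorem gcls_res_left {G : EtCoh.Ab X} {U V W : X.Opens} (hU : U ≤ W) (hV : V ≤ W) (hc : W ≤ U ⊔ V)
    (s : EtCoh.sect G (EtMV.oo U)) : gcls hU hV hc (res G (EtMV.res inf_le_left) s) = 0 := by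
  have e : (EtMV.sc' hU hV).f ≫ biprod.desc (secHom s) 0 =
      secHom (res G (EtMV.res (inf_le_left : U ⊓ V ≤ U)) s) := by
    show biprod.lift _ _ ≫ biprod.desc _ _ = _
    rw [biprod.lift_desc, comp_zero, add_zero, map_secHom]
  rw [gcls, ← e, ← Ext.mk₀_comp_mk₀,
    ← Ext.comp_assoc _ (Ext.mk₀ (EtMV.sc' hU hV).f) (Ext.mk₀ (biprod.desc (secHom s) 0))
      (add_zero 1) (add_zero 0) (by simp),
    (EtMV.sc'_shortExact hU hV hc).extClass_comp, Ext.zero_comp]

/-- a section of the second open glues to zero -/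
theorem gcls_res_right {G : EtCoh.Ab X} {U V W : X.Opens} (hU : U ≤ W) (hV : V ≤ W) (hc : W ≤ U ⊔ V)
    (s : EtCoh.sect G (EtMV.oo V)) : gcls hU hV hc (res G (EtMV.res inf_le_right) s) = 0 := by
  have e : (EtMV.sc' hU hV).f ≫ biprod.desc 0 (-secHom s) =
      secHom (res G (EtMV.res (inf_le_right : U ⊓ V ≤ V)) s) := by
    show biprod.lift _ _ ≫ biprod.desc _ _ = _
    rw [biprod.lift_desc, comp_zero, zero_add, Preadditive.neg_comp, Preadditive.comp_neg, neg_neg, map_secHom]
  rw [gcls, ← e, ← Ext.mk₀_comp_mk₀,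
    ← Ext.comp_assoc _ (Ext.mk₀ (EtMV.sc' hU hV).f) (Ext.mk₀ (biprod.desc 0 (-secHom s)))
      (add_zero 1) (add_zero 0) (by simp),
    (EtMV.sc'_shortExact hU hV hc).extClass_comp, Ext.zero_comp]

/-- an equation on `U` invertible on `V` -/
structure DivDat (X : Scheme.{u}) (V U : X.Opens) : Type u where
  cover : (⊤ : X.Opens) ≤ V ⊔ U
  a : Γ(X, U)
  unit : IsUnit (X.presheaf.map (homOfLE (inf_le_right : V ⊓ U ≤ U)).op a)

/-- its class -/
def DivDat.cls {V U : X.Opens} (D : DivDat X V U) : H1g X :=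
  gcls (le_top : V ≤ ⊤) (le_top : U ≤ ⊤) D.cover (ofO D.unit)

variable {V U : X.Opens} (D : DivDat X V U)

/-- restriction to smaller opens -/
def DivDat.restrict {V' U' : X.Opens} (hV : V' ≤ V) (hU : U' ≤ U) (hc : (⊤ : X.Opens) ≤ V' ⊔ U') : DivDat X V' U' where
  cover := hc
  a := X.presheaf.map (homOfLE hU).op D.a
  unit := by
    rw [← ConcreteCategory.comp_apply, ← Functor.map_comp]
    have := D.unit.map (X.presheaf.map (homOfLE (inf_le_inf hV hU)).op).hom
    rw [← ConcreteCategory.comp_apply, ← Functor.map_comp] at this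
    exact this

theorem DivDat.cls_restrict {V' U' : X.Opens} (hV : V' ≤ V) (hU : U' ≤ U) (hc : (⊤ : X.Opens) ≤ V' ⊔ U') :
    (D.restrict hV hU hc).cls = D.cls := by
  have h := res_gcls (le_top : V ≤ ⊤) (le_top : U ≤ ⊤) D.cover (le_top : V' ≤ ⊤) (le_top : U' ≤ ⊤) hc hV hU
    le_rfl (ofO D.unit)
  have e : res (EtCoh.Gm X) (EtMV.res (inf_le_inf hV hU)) (ofO D.unit) = ofO (D.restrict hV hU hc).unit := by
    apply oval_injective
    rw [oval_res, oval_ofO, oval_ofO, DivDat.restrict, ← ConcreteCategory.comp_apply, ← Functor.map_comp,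
      ← ConcreteCategory.comp_apply, ← Functor.map_comp]
    rfl
  rw [e] at h
  exact h.symm.trans (cRes_self (G := EtCoh.Gm X) _)

/-- product of equations -/
def DivDat.mul (D E : DivDat X V U) : DivDat X V U where
  cover := D.cover
  a := D.a * E.a
  unit := by rw [map_mul]; exact D.unit.mul E.unit

theorem DivDat.cls_mul (D E : DivDat X V U) : (D.mul E).cls = D.cls + E.cls := by
  rw [DivDat.cls, DivDat.cls, DivDat.cls, ← gcls_add]
  refine congrArg _ (oval_injective ?_)
  rw [oval_add, oval_ofO, oval_ofO, oval_ofO, DivDat.mul, map_mul]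

/-- an invertible equation has trivial class -/
theorem DivDat.cls_eq_zero (h : IsUnit D.a) : D.cls = 0 := by
  have e : ofO D.unit = res (EtCoh.Gm X) (EtMV.res (inf_le_right : V ⊓ U ≤ U)) (ofO h) := by
    apply oval_injective
    rw [oval_res, oval_ofO, oval_ofO]
  rw [DivDat.cls, e, gcls_res_right]

theorem DivDat.cls_congr (D E : DivDat X V U) (h : D.a = E.a) : D.cls = E.cls := by
  obtain ⟨_, _, _⟩ := D
  obtain ⟨_, _, _⟩ := E
  cases h
  rfl

/-- equations differing by a unit have the same class -/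
theorem DivDat.cls_eq_of_unit (D E : DivDat X V U) {v : Γ(X, U)} (hv : IsUnit v) (h : E.a = v * D.a) :
    E.cls = D.cls := by
  let F : DivDat X V U := ⟨D.cover, v, hv.map (X.presheaf.map (homOfLE inf_le_right).op).hom⟩
  rw [DivDat.cls_congr E (F.mul D) h, DivDat.cls_mul, F.cls_eq_zero hv, zero_add]

/-- pulled back equation -/
def DivDat.pull (i : Z ⟶ X) : DivDat Z (i ⁻¹ᵁ V) (i ⁻¹ᵁ U) where
  cover z _ := D.cover (Set.mem_univ (i z))
  a := i.app U D.a
  unit := by
    have h := D.unit.map (i.app (V ⊓ U)).hom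
    rw [← ConcreteCategory.comp_apply, i.naturality (homOfLE inf_le_right).op, ConcreteCategory.comp_apply] at h
    exact h

/-- **classes of equations pull back** -/
theorem DivDat.gmH_cls (i : Z ⟶ X) [PreservesFiniteLimits (EtCoh.pull i)] : gmH i D.cls = (D.pull i).cls := by
  rw [DivDat.cls, gmH_gcls i D.cover (D.pull i).cover, DivDat.cls]
  refine congrArg (gcls (le_top : i ⁻¹ᵁ V ≤ ⊤) (le_top : i ⁻¹ᵁ U ≤ ⊤) (D.pull i).cover) (oval_injective ?_)
  refine (oval_gmCmp_r i (V ⊓ U) (ofO D.unit)).trans ?_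
  rw [oval_ofO, oval_ofO, DivDat.pull, ← ConcreteCategory.comp_apply, i.naturality (homOfLE inf_le_right).op]
  rfl

end Groth.Agent.EtPBC
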