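import Groth.Agent.EtPicLib.Local
import Mathlib

/-!
# Classes of `G_m` over an open die Zariski locally
-/

set_option autoImplicit false
set_option backward.isDefEq.respectTransparency false
set_option backward.isDefEq.respectTransparency.types false
set_option linter.style.haveILetI false
set_option maxHeartbeats 1000000

universe u

open CategoryTheory CategoryTheory.Limits AlgebraicGeometry TopologicalSpace Opposite
open scoped TensorProduct
open Groth.Agent.EtFLC (res res_res res_id app_res sect_ext exists_lift_of_epi)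
open Groth.Agent.EtMV (oo hom_oo_ext injSeq injSeq_shortExact exists_lift range_subset toTop hom_top_ext)

noncomputable section

namespace Groth.Agent.EtPicLib

attribute [local instance 100000] EtCoh.H._proof_1 EtMV.hext
attribute [local instance 200000] EtMV.hextAb

variable {X : Scheme.{u}} {U : X.Opens} (hU : IsAffineOpen U)

/-- **the cocycle of a lift on an étale cover is a coboundary Zariski locally** -/
theorem exists_coboundary_unit_on {S : ShortComplex (EtCoh.Ab X)} (hS : S.ShortExact) (e : EtCoh.Gm X ⟶ S.X₁) [IsIso e]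
    (B : Type u) [CommRing B] [Algebra Γ(X, U) B] [Algebra.Etale Γ(X, U) B] [Module.FaithfullyFlat Γ(X, U) B]
    {W₀ : X.Opens} (q : EtCoh.sect S.X₃ (oo W₀)) (hm₀ : obj hU B ⟶ oo W₀) (t₀ : EtCoh.sect S.X₂ (obj hU B))
    (ht₀ : (S.g.hom.app (op (obj hU B))).hom t₀ = res S.X₃ hm₀ q) (p : PrimeSpectrum Γ(X, U)) :
    ∃ (a : Γ(X, U)) (m n : B), a ∉ p.asIdeal ∧ m * n = algebraMap Γ(X, U) B a ∧
      ∀ (T : X.Etale) (b b' : T ⟶ obj hU B), ∃ u : EtCoh.sect (EtCoh.Gm X) T,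
        (S.f.hom.app (op T)).hom ((e.hom.app (op T)).hom u) = res S.X₂ b t₀ - res S.X₂ b' t₀ ∧
          uval u * evT hU b m = evT hU b' m := by
  let B2 := B ⊗[Γ(X, U)] B
  let B3 := B2 ⊗[Γ(X, U)] B
  haveI : Algebra.Etale Γ(X, U) B2 := Algebra.Etale.comp Γ(X, U) B B2
  haveI : Algebra.Etale Γ(X, U) B3 := Algebra.Etale.comp Γ(X, U) B2 B3
  let il : B →ₐ[Γ(X, U)] B2 := Algebra.TensorProduct.includeLeft
  let ir : B →ₐ[Γ(X, U)] B2 := Algebra.TensorProduct.includeRight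
  obtain ⟨g₁, hg₁⟩ := exists_kernel hS (res S.X₂ (spm hU il) t₀ - res S.X₂ (spm hU ir) t₀) (by
    change (S.g.hom.app _).hom _ = 0
    rw [map_sub, app_res, app_res, ht₀, res_res, res_res, show res S.X₃ (spm hU il ≫ hm₀) q = res S.X₃ (spm hU ir ≫ hm₀) q from congrArg (fun m => res S.X₃ m q) (hom_oo_ext _ _),
      sub_self])
  obtain ⟨g, rfl⟩ := (ConcreteCategory.bijective_of_isIso (e.hom.app (op (obj hU B2)))).2 g₁
  have hinj : ∀ (T : X.Etale), Function.Injective fun u : EtCoh.sect (EtCoh.Gm X) T =>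
      (S.f.hom.app (op T)).hom ((e.hom.app (op T)).hom u) := fun T =>
    (f_injective hS T).comp (ConcreteCategory.bijective_of_isIso (e.hom.app (op T))).1
  have hgp : ∀ {T : X.Etale} (c : T ⟶ obj hU B2), (S.f.hom.app (op T)).hom ((e.hom.app (op T)).hom (res _ c g)) =
      res S.X₂ (c ≫ spm hU il) t₀ - res S.X₂ (c ≫ spm hU ir) t₀ := fun c => by
    rw [app_res, app_res]
    exact (congrArg (res S.X₂ c) hg₁).trans (by rw [map_sub, res_res, res_res])
  obtain ⟨Uel, hUel⟩ := (evT_id_bijective hU (C := B2)).2 (uval g)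
  have hUev : ∀ {T : X.Etale} (c : T ⟶ obj hU B2), evT hU c Uel = uval (res (EtCoh.Gm X) c g) := fun c => by
    rw [evT_eq, hUel]
    exact (uval_res c g).symm
  let el : ∀ {R : Type u} [CommRing R] [Algebra Γ(X, U) R], (B →ₐ[Γ(X, U)] R) → (B →ₐ[Γ(X, U)] R) → (B2 →ₐ[Γ(X, U)] R) :=
    fun {R} _ _ φ ψ => Algebra.TensorProduct.lift φ ψ fun _ _ => Commute.all _ _
  have hone' : el (AlgHom.id Γ(X, U) B) (AlgHom.id Γ(X, U) B) Uel = 1 := by
    let μ := el (AlgHom.id Γ(X, U) B) (AlgHom.id Γ(X, U) B)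
    have h0 : res (EtCoh.Gm X) (spm hU μ) g = 0 := hinj _ (by
      simp only
      rw [map_zero, map_zero, hgp, spm_comp, spm_comp,
        show μ.comp il = μ.comp ir from (lift_left _ _).trans (lift_right _ _).symm, sub_self])
    apply (evT_id_bijective hU (C := B)).1
    rw [map_one]
    refine ((evT_spm hU (𝟙 _) μ Uel).symm.trans (hUev _)).trans ?_
    rw [Category.id_comp, h0, uval_zero]
  let e1 : B →ₐ[Γ(X, U)] B3 := (Algebra.TensorProduct.includeLeft : B2 →ₐ[Γ(X, U)] B3).comp il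
  let e2 : B →ₐ[Γ(X, U)] B3 := (Algebra.TensorProduct.includeLeft : B2 →ₐ[Γ(X, U)] B3).comp ir
  let e3 : B →ₐ[Γ(X, U)] B3 := Algebra.TensorProduct.includeRight
  have hev3 : ∀ φ ψ : B →ₐ[Γ(X, U)] B3,
      (S.f.hom.app (op (obj hU B3))).hom ((e.hom.app (op (obj hU B3))).hom (res _ (spm hU (el φ ψ)) g)) =
      res S.X₂ (spm hU φ) t₀ - res S.X₂ (spm hU ψ) t₀ := fun φ ψ => by
    rw [hgp, spm_comp, spm_comp, show (el φ ψ).comp il = φ from lift_left φ ψ,
      show (el φ ψ).comp ir = ψ from lift_right φ ψ]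
  have hcoc' : el e1 e2 Uel * el e2 e3 Uel = el e1 e3 Uel := by
    have h0 : res (EtCoh.Gm X) (spm hU (el e1 e2)) g + res (EtCoh.Gm X) (spm hU (el e2 e3)) g =
        res (EtCoh.Gm X) (spm hU (el e1 e3)) g := hinj _ (by
      simp only
      rw [map_add, map_add, hev3, hev3, hev3, sub_add_sub_cancel])
    apply (evT_id_bijective hU (C := B3)).1
    rw [map_mul, ← evT_spm, ← evT_spm, ← evT_spm, hUev, hUev, hUev, Category.id_comp, Category.id_comp,
      Category.id_comp, ← uval_add, h0]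
  obtain ⟨a, hap, m, n, hmn, hm⟩ := LBDesc.exists_coboundary (A := Γ(X, U)) (B := B)
    (fun R _ _ _ φ ψ => el φ ψ Uel) (fun R R' _ _ _ _ _ _ θ φ ψ => congrArg (fun k => k Uel) (el_comp θ φ ψ))
    (fun R _ _ _ φ => by
      have h := congrArg (fun k => k Uel) (el_comp φ (AlgHom.id Γ(X, U) B) (AlgHom.id Γ(X, U) B))
      simp only [AlgHom.comp_id, AlgHom.comp_apply] at h
      exact h.symm.trans ((congrArg φ hone').trans (map_one φ)))
    (fun R _ _ _ φ ψ χ => by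
      let θ : B3 →ₐ[Γ(X, U)] R := Algebra.TensorProduct.lift (el φ ψ) χ fun _ _ => Commute.all _ _
      have h0 : θ.comp (Algebra.TensorProduct.includeLeft : B2 →ₐ[Γ(X, U)] B3) = el φ ψ :=
        Algebra.TensorProduct.lift_comp_includeLeft _ _ _
      have h1 : θ.comp e1 = φ :=
        ((AlgHom.comp_assoc θ _ il).symm.trans (congrArg (fun k => k.comp il) h0)).trans (lift_left φ ψ)
      have h2 : θ.comp e2 = ψ :=
        ((AlgHom.comp_assoc θ _ ir).symm.trans (congrArg (fun k => k.comp ir) h0)).trans (lift_right φ ψ)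
      have h3 : θ.comp e3 = χ := AlgHom.ext fun x => by
        change Algebra.TensorProduct.lift (el φ ψ) χ (fun _ _ => Commute.all _ _) ((1 : B2) ⊗ₜ[Γ(X, U)] x) = χ x
        rw [Algebra.TensorProduct.lift_tmul, map_one, _root_.one_mul]
      have h := congrArg θ hcoc'
      rw [map_mul] at h
      have k : ∀ φ' ψ' : B →ₐ[Γ(X, U)] B3, θ (el φ' ψ' Uel) = el (θ.comp φ') (θ.comp ψ') Uel := fun φ' ψ' =>
        congrArg (fun k => k Uel) (el_comp θ φ' ψ')
      rw [k, k, k, h1, h2, h3] at h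
      exact h) p
  have hm' : Uel * (m ⊗ₜ 1) = (1 : B) ⊗ₜ[Γ(X, U)] m := by
    have e' : el il ir = AlgHom.id Γ(X, U) B2 :=
      Algebra.TensorProduct.ext ((lift_left il ir).trans (AlgHom.id_comp il).symm) ((lift_right il ir).trans (AlgHom.id_comp ir).symm)
    have hm'' : el il ir Uel * (m ⊗ₜ 1) = (1 : B) ⊗ₜ[Γ(X, U)] m := hm
    rwa [e'] at hm''
  refine ⟨a, m, n, hap, hmn, fun T b b' => ?_⟩
  obtain ⟨c, hc1, hc2⟩ := exists_fac hU b b'
  refine ⟨res _ c g, by rw [hgp, hc1, hc2], ?_⟩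
  have h := congrArg (evT hU c) hm'
  rw [map_mul, show m ⊗ₜ (1 : B) = il m from rfl, show (1 : B) ⊗ₜ[Γ(X, U)] m = ir m from rfl,
    ← evT_spm, ← evT_spm, hc1, hc2, hUev] at h
  exact h

/-- an étale faithfully flat algebra with a lift -/
theorem exists_algebra_lift_on {S : ShortComplex (EtCoh.Ab X)} (hS : S.ShortExact) {W₀ : X.Opens}
    (q : EtCoh.sect S.X₃ (oo W₀)) (p : X) (hp : p ∈ W₀) :
    ∃ (U : X.Opens) (hU : IsAffineOpen U) (B : Type u) (_ : CommRing B) (_ : Algebra Γ(X, U) B)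
      (_ : Algebra.Etale Γ(X, U) B) (_ : Module.FaithfullyFlat Γ(X, U) B) (t : EtCoh.sect S.X₂ (obj hU B)) (hm₀ : obj hU B ⟶ oo W₀),
      U ≤ W₀ ∧ p ∈ U ∧ (S.g.hom.app (op (obj hU B))).hom t = res S.X₃ hm₀ q := by
  haveI := hS.epi_g
  obtain ⟨o, h, w, t, hw, ht⟩ := exists_lift_of_epi S.g q (⟨p, hp⟩ : (oo W₀).left)
  have hop : IsOpenMap o.hom := o.hom.isOpenMap
  have hwp : o.hom w = p := (congrArg (fun m : o.left ⟶ X => m w) (MorphismProperty.Over.w h)).symm.trans (congrArg Subtype.val hw)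
  obtain ⟨U₀, hU₀, hpU₀, hU₀W⟩ := exists_isAffineOpen_mem_and_subset (X := X) (x := p) (U := W₀) hp
  obtain ⟨W, hW, hwW, hWU⟩ := exists_isAffineOpen_mem_and_subset (X := o.left) (x := w) (U := o.hom ⁻¹ᵁ U₀)
    (show o.hom w ∈ U₀ by rw [hwp]; exact hpU₀)
  obtain ⟨f, hf, hpf⟩ := hU₀.exists_basicOpen_le (V := ⟨o.hom '' (W : Set o.left), hop _ W.2⟩) ⟨p, w, hwW, hwp⟩ hpU₀
  let U : X.Opens := X.basicOpen f
  have hU : IsAffineOpen U := hU₀.basicOpen f
  let W' : o.left.Opens := o.left.basicOpen (o.hom.appLE U₀ W hWU f)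
  have hW' : IsAffineOpen W' := hW.basicOpen _
  have hW'eq : W' = W ⊓ o.hom ⁻¹ᵁ U := by
    change o.left.basicOpen ((o.left.presheaf.map (homOfLE hWU).op) (o.hom.app U₀ f)) = _
    exact (Scheme.basicOpen_res _ _ _).trans (congrArg (W ⊓ ·) (Scheme.preimage_basicOpen o.hom f).symm)
  have hle : W' ≤ o.hom ⁻¹ᵁ U := hW'eq.le.trans inf_le_right
  letI : Algebra Γ(X, U) Γ(o.left, W') := (o.hom.appLE U W' hle).hom.toAlgebra
  haveI : Algebra.Etale Γ(X, U) Γ(o.left, W') := RingHom.etale_algebraMap.1 (o.hom.etale_appLE hU hW' hle)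
  have hB : hW'.fromSpec ≫ o.hom = spS hU Γ(o.left, W') := (IsAffineOpen.SpecMap_appLE_fromSpec o.hom hU hW' hle).symm
  have hsurj : Function.Surjective (PrimeSpectrum.comap (algebraMap Γ(X, U) Γ(o.left, W'))) := fun x => by
    obtain ⟨v, hv, hvx⟩ := hf (show hU.fromSpec x ∈ U from hU.range_fromSpec.le ⟨x, rfl⟩)
    have hvW : v ∈ W' := hW'eq.ge ⟨hv, show o.hom v ∈ U by rw [hvx]; exact hU.range_fromSpec.le ⟨x, rfl⟩⟩
    obtain ⟨z, hz⟩ := hW'.range_fromSpec.ge hvW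
    refine ⟨z, hU.fromSpec.isOpenEmbedding.injective (?_ : spS hU Γ(o.left, W') z = hU.fromSpec x)⟩
    rw [← hB]
    exact (congrArg o.hom hz).trans hvx
  haveI : Module.FaithfullyFlat Γ(X, U) Γ(o.left, W') := Module.FaithfullyFlat.of_comap_surjective hsurj
  refine ⟨U, hU, Γ(o.left, W'), inferInstance, inferInstance, inferInstance, inferInstance,
    res S.X₂ (MorphismProperty.Over.homMk hW'.fromSpec hB : obj hU Γ(o.left, W') ⟶ o) t,
    MorphismProperty.Over.homMk hW'.fromSpec hB ≫ h, (X.basicOpen_le f).trans hU₀W, hpf, ?_⟩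
  rw [app_res, ht, res_res]

/-- **local lifts on a Zariski neighbourhood** -/
theorem exists_lift_nhd_on {W₀ : X.Opens}
    (q : EtCoh.sect (injSeq (EtCoh.Gm X)).X₃ (oo W₀)) (p : X) (hp : p ∈ W₀) :
    ∃ (V : X.Opens) (hV : V ≤ W₀) (y : EtCoh.sect (injSeq (EtCoh.Gm X)).X₂ (oo V)), p ∈ V ∧
      ((injSeq (EtCoh.Gm X)).g.hom.app (op (oo V))).hom y = res _ (EtMV.res hV) q := by
  let S := injSeq (EtCoh.Gm X)
  have hS : S.ShortExact := injSeq_shortExact _
  obtain ⟨U, hU, B, _, _, _, _, t₀, hm₀, hUW, hpU, ht₀⟩ := exists_algebra_lift_on hS q p hp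
  obtain ⟨a, m, n, hap, hmn, key⟩ := exists_coboundary_unit_on hU hS (𝟙 _) B q hm₀ t₀ ht₀ (hU.primeIdealOf ⟨p, hpU⟩)
  let Bf : Type u := Localization.Away (algebraMap Γ(X, U) B a)
  haveI : Algebra.Etale B Bf := Algebra.Etale.of_isLocalizationAway (algebraMap Γ(X, U) B a)
  haveI : Algebra.Etale Γ(X, U) Bf := Algebra.Etale.comp Γ(X, U) B Bf
  let loc : B →ₐ[Γ(X, U)] Bf := IsScalarTower.toAlgHom Γ(X, U) B Bf
  have hunit : IsUnit (algebraMap Γ(X, U) Bf a) := by
    rw [IsScalarTower.algebraMap_apply Γ(X, U) B Bf]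
    exact IsLocalization.Away.algebraMap_isUnit _
  let V : X.Opens := X.basicOpen a
  have hpV : p ∈ V := by
    have h1 : hU.fromSpec (hU.primeIdealOf ⟨p, hpU⟩) = p := hU.fromSpec_primeIdealOf ⟨p, hpU⟩
    have h2 : hU.primeIdealOf ⟨p, hpU⟩ ∈ PrimeSpectrum.basicOpen a := hap
    rw [← hU.fromSpec_preimage_basicOpen a] at h2
    rw [← h1]
    exact h2
  have hrange : Set.range (obj hU Bf).hom ⊆ (V : Set X) := by
    rintro _ ⟨z, rfl⟩
    change Spec.map (CommRingCat.ofHom (algebraMap Γ(X, U) Bf)) z ∈ hU.fromSpec ⁻¹ᵁ X.basicOpen a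
    rw [hU.fromSpec_preimage_basicOpen]
    intro hz
    exact z.2.ne_top (Ideal.eq_top_of_isUnit_mem _ (hz : algebraMap Γ(X, U) Bf a ∈ z.asIdeal) hunit)
  obtain ⟨π⟩ := exists_lift (U := V) hrange
  have hπ : ∀ v : (oo V).left, ∃ z : (obj hU Bf).left, π.left z = v := fun v => by
    obtain ⟨z, hz⟩ := exists_point hU (B := B) (PrimeSpectrum.comap_surjective_of_faithfullyFlat (A := Γ(X, U)) (B := B)) a v.2
    exact ⟨z, Subtype.ext ((congrArg (fun k : (obj hU Bf).left ⟶ X => k z) (MorphismProperty.Over.w π)).trans hz)⟩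
  obtain ⟨ms, hms⟩ := exists_uval (T := obj hU Bf) (x := evT hU (𝟙 _) (loc m)) (by
    refine IsUnit.map _ (isUnit_of_mul_isUnit_left (y := loc n) ?_)
    rw [← map_mul, hmn]
    exact IsLocalization.Away.algebraMap_isUnit _)
  obtain ⟨y, hy⟩ := exists_glue S.X₂ (κ := PUnit.{1}) (o' := oo V) (fun _ => obj hU Bf) (fun _ => π)
    (fun v => ⟨PUnit.unit, hπ v⟩) (fun _ => res S.X₂ (spm hU loc) t₀ + (S.f.hom.app (op _)).hom ms) (by
      rintro ⟨⟩ ⟨⟩ T b b' -
      obtain ⟨u, hu, hu'⟩ := key T (b ≫ spm hU loc) (b' ≫ spm hU loc)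
      have hval : u + res (EtCoh.Gm X) b ms = res (EtCoh.Gm X) b' ms := by
        apply uval_injective
        rw [uval_add, uval_res, uval_res, hms, ← evT_eq, ← evT_eq, ← evT_spm, ← evT_spm]
        exact hu'
      have h := congrArg (S.f.hom.app (op T)).hom hval
      have hu2 : (S.f.hom.app (op T)).hom u = res S.X₂ (b ≫ spm hU loc) t₀ - res S.X₂ (b' ≫ spm hU loc) t₀ := hu
      rw [map_add, hu2] at h
      erw [app_res, app_res] at h
      rw [map_add, map_add, res_res, res_res, ← h]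
      abel)
  refine ⟨V, (X.basicOpen_le a).trans hUW, y, hpV, sect_ext S.X₃ fun v => ?_⟩
  obtain ⟨z, hz⟩ := hπ v
  refine ⟨_, π, z, hz, ?_⟩
  rw [← app_res, hy PUnit.unit, map_add, app_res, ht₀, res_res, res_res]
  erw [g_f, add_zero]
  exact congrArg (fun m => res S.X₃ m q) (hom_oo_ext _ _)

end Groth.Agent.EtPicLib
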