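import Groth.Agent.EtPBC.GenPic
import Groth.Agent.EtPBC.DivClass
import Groth.Agent.EtPBC.PicLocalOn
import Mathlib

/-!
# Removing one point from an open of an integral scheme of dimension one: units and classes of units
-/

set_option autoImplicit false
set_option backward.isDefEq.respectTransparency false
set_option backward.isDefEq.respectTransparency.types false
set_option linter.auxLemma false
set_option linter.style.haveILetI false
set_option linter.unusedSectionVars false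

universe u

open CategoryTheory CategoryTheory.Limits CategoryTheory.Abelian AlgebraicGeometry Opposite TopologicalSpace
open Groth.Agent.EtFLC (res res_res res_id app_res)
open Groth.Agent.EtPicLib (oval oval_rr exists_oval oval_injective oval_add ofO oval_ofO isUnit_oval)

noncomputable section

namespace Groth.Agent.EtPBC

attribute [local instance 100000] EtCoh.H._proof_1 EtMV.hext
attribute [local instance 200000] EtMV.hextAb

variable {X : Scheme.{u}}

/-- units on an open -/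
abbrev unitsOn (W : X.Opens) : Type (u + 1) := EtCoh.sect (EtCoh.Gm X) (EtMV.oo W)

/-- classes of units on an open -/
abbrev picOn (W : X.Opens) : Type (u + 1) := Ext ((EtMV.P X).obj (EtMV.oo W)) (EtCoh.Gm X) 1

/-- restriction of units -/
abbrev uRes {U W : X.Opens} (h : U ≤ W) : unitsOn W →+ unitsOn U :=
  ((EtCoh.Gm X).obj.map (EtMV.res h).op).hom

/-- restriction of classes -/
def pRes {U W : X.Opens} (h : U ≤ W) : picOn W →+ picOn U :=
  AddMonoidHom.mk' (fun c => cRes h c) fun c d => Ext.comp_add _ _ _ _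

theorem uRes_uRes {U V W : X.Opens} (h' : U ≤ V) (h : V ≤ W) (s : unitsOn W) :
    uRes h' (uRes h s) = uRes (h'.trans h) s := by
  show res (EtCoh.Gm X) (EtMV.res h') (res (EtCoh.Gm X) (EtMV.res h) s) = res (EtCoh.Gm X) (EtMV.res _) s
  rw [res_res]
  exact congrArg (fun m => res (EtCoh.Gm X) m s) (EtMV.hom_oo_ext _ _)

theorem uRes_uRes_self {U : X.Opens} (h : U ≤ U) (s : unitsOn U) : uRes h s = s := by
  show res (EtCoh.Gm X) (EtMV.res h) s = s
  rw [show EtMV.res h = 𝟙 _ from EtMV.hom_oo_ext _ _, res_id]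

theorem oval_uRes {U W : X.Opens} (h : U ≤ W) (s : unitsOn W) :
    oval (uRes h s) = X.presheaf.map (homOfLE h).op (oval s) := oval_rr h s

theorem oval_nsmul {U : X.Opens} (s : unitsOn U) (n : ℕ) : oval (n • s) = oval s ^ n := by
  induction n with
  | zero => rw [zero_nsmul, oval_zero', pow_zero]
  | succ n ih => rw [succ_nsmul, oval_add, ih, pow_succ]

/-- a class on an open is trivial near each of its points -/
theorem exists_nhd_cRes_eq_zero_on {W : X.Opens} (c : picOn W) {x : X} (hx : x ∈ W) :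
    ∃ (V : X.Opens) (hV : V ≤ W), x ∈ V ∧ cRes hV c = 0 := by
  obtain ⟨z, hz⟩ := Ext.covariant_sequence_exact₁ _ (EtMV.injSeq_shortExact (EtCoh.Gm X)) c
    (Ext.eq_zero_of_injective _) (n₀ := 0) (zero_add 1)
  obtain ⟨φ, rfl⟩ := (Ext.mk₀_bijective _ _).2 z
  obtain ⟨V, hV, y, hxV, hy⟩ := EtPicLib.exists_lift_nhd_on (EtMV.σ φ) x hx
  refine ⟨V, hV, hxV, ?_⟩
  have e1 : (EtMV.P X).map (EtMV.res hV) ≫ φ = secHom y ≫ (EtMV.injSeq (EtCoh.Gm X)).g := by
    rw [secHom_comp]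
    refine (congrArg ((EtMV.P X).map (EtMV.res hV) ≫ ·) (EtMV.σ.symm_apply_apply φ).symm).trans ?_
    refine (map_secHom _ _).trans (congrArg secHom ?_)
    rw [hy]
  rw [cRes, ← hz, ← Ext.comp_assoc (Ext.mk₀ _) (Ext.mk₀ φ) _ (add_zero 0) (zero_add 1) rfl, Ext.mk₀_comp_mk₀, e1,
    ← Ext.mk₀_comp_mk₀, Ext.comp_assoc (Ext.mk₀ _) (Ext.mk₀ _) _ (add_zero 0) (zero_add 1) rfl,
    ShortComplex.ShortExact.comp_extClass, Ext.comp_zero]

section MV

variable {G : EtCoh.Ab X} {U V W : X.Opens} (hU : U ≤ W) (hV : V ≤ W) (hc : W ≤ U ⊔ V)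

theorem gcls_zero : gcls hU hV hc (0 : EtCoh.sect G (EtMV.oo (U ⊓ V))) = 0 := by
  have h := gcls_add hU hV hc (0 : EtCoh.sect G (EtMV.oo (U ⊓ V))) 0
  rw [add_zero] at h
  exact left_eq_add.1 h

/-- the glued class as a homomorphism -/
def gclsHom : EtCoh.sect G (EtMV.oo (U ⊓ V)) →+ Ext ((EtMV.P X).obj (EtMV.oo W)) G 1 :=
  AddMonoidHom.mk' (fun s => gcls hU hV hc s) (gcls_add hU hV hc)

/-- a trivial glued class comes from the two opens -/
theorem exists_of_gcls_eq_zero (s : EtCoh.sect G (EtMV.oo (U ⊓ V))) (h : gcls hU hV hc s = 0) :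
    ∃ (a : EtCoh.sect G (EtMV.oo U)) (b : EtCoh.sect G (EtMV.oo V)),
      s = res G (EtMV.res inf_le_left) a - res G (EtMV.res inf_le_right) b := by
  obtain ⟨y, hy⟩ := Ext.contravariant_sequence_exact₁ (EtMV.sc'_shortExact hU hV hc) G (Ext.mk₀ (secHom s))
    (n₁ := 1) (by omega) h
  obtain ⟨φ, rfl⟩ := (Ext.mk₀_bijective _ _).2 y
  rw [Ext.mk₀_comp_mk₀] at hy
  have hy' := (Ext.mk₀_bijective _ _).1 hy
  refine ⟨EtMV.σ (biprod.inl ≫ φ), EtMV.σ (biprod.inr ≫ φ), ?_⟩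
  let σh : (((EtMV.P X).obj (EtMV.oo (U ⊓ V))) ⟶ G) →+ EtCoh.sect G (EtMV.oo (U ⊓ V)) :=
    AddMonoidHom.mk' (fun f => EtMV.σ f) EtMV.σ_add
  have e : secHom s = (EtMV.P X).map (EtMV.res inf_le_left) ≫ (biprod.inl ≫ φ) -
      (EtMV.P X).map (EtMV.res inf_le_right) ≫ (biprod.inr ≫ φ) := by
    rw [← hy']
    show biprod.lift _ _ ≫ φ = _
    rw [biprod.lift_eq, Preadditive.add_comp, Category.assoc, Category.assoc, Preadditive.neg_comp, ← sub_eq_add_neg]
  have e' := congrArg σh e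
  rw [map_sub] at e'
  refine (EtMV.σ.apply_symm_apply s).symm.trans (e'.trans ?_)
  show EtMV.σ _ - EtMV.σ _ = _
  rw [EtMV.σ_map, EtMV.σ_map]

include hV hc in
/-- a class on one open which is trivial on the overlap extends -/
theorem exists_extension (c : Ext ((EtMV.P X).obj (EtMV.oo U)) G 1)
    (h : cRes (inf_le_left : U ⊓ V ≤ U) c = 0) :
    ∃ d : Ext ((EtMV.P X).obj (EtMV.oo W)) G 1, cRes hU d = c := by
  let z : Ext (EtMV.sc' hU hV).X₂ G 1 := (Ext.mk₀ biprod.fst).comp c (zero_add 1)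
  have hz : (Ext.mk₀ (EtMV.sc' hU hV).f).comp z (zero_add 1) = 0 := by
    rw [Ext.mk₀_comp_mk₀_assoc]
    exact (congrArg (fun m => (Ext.mk₀ m).comp c (zero_add 1)) (biprod.lift_fst _ _)).trans h
  obtain ⟨d, hd⟩ := Ext.contravariant_sequence_exact₂ (EtMV.sc'_shortExact hU hV hc) G z hz
  refine ⟨d, ?_⟩
  have h2 := congrArg (fun e => (Ext.mk₀ (biprod.inl : (EtMV.P X).obj (EtMV.oo U) ⟶ _)).comp e (zero_add 1)) hd
  simp only [z, Ext.mk₀_comp_mk₀_assoc, biprod.inl_fst, Ext.mk₀_id_comp] at h2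
  refine Eq.trans ?_ h2
  exact (congrArg (fun m => (Ext.mk₀ m).comp d (zero_add 1)) (biprod.inl_desc _ _)).symm

end MV

theorem isUnit_res_le_basicOpen {U V : X.Opens} {r : Γ(X, V)} (hUV : U ≤ V) (h : U ≤ X.basicOpen r) :
    IsUnit (X.presheaf.map (homOfLE hUV).op r) := by
  have h1 := (X.toLocallyRingedSpace.toRingedSpace.isUnit_res_basicOpen r).map (X.presheaf.map (homOfLE h).op).hom
  have e : X.presheaf.map (homOfLE hUV).op = X.presheaf.map (homOfLE (X.basicOpen_le r)).op ≫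
      X.presheaf.map (homOfLE h).op := by rw [← Functor.map_comp]; rfl
  rw [e]
  exact h1

theorem res_res_apply {U V W : X.Opens} (h' : U ≤ V) (h : V ≤ W) (r : Γ(X, W)) :
    X.presheaf.map (homOfLE h').op (X.presheaf.map (homOfLE h).op r) = X.presheaf.map (homOfLE (h'.trans h)).op r := by
  rw [← ConcreteCategory.comp_apply, ← Functor.map_comp]
  rfl

/-- a uniformiser at a point of an open, invertible on the rest of a neighbourhood -/
structure PtDat (W : X.Opens) {x : X} (hx : IsClosed ({x} : Set X)) : Type u where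
  V : X.Opens
  le : V ≤ W
  mem : x ∈ V
  t : Γ(X, V)
  unit : IsUnit (X.presheaf.map (homOfLE (inf_le_right : (compl₁ hx ⊓ W) ⊓ V ≤ V)).op t)
  gen : IsLocalRing.maximalIdeal (X.presheaf.stalk x) = Ideal.span {(X.presheaf.germ V x mem).hom t}

theorem cover_compl {W : X.Opens} {x : X} (hx : IsClosed ({x} : Set X)) {V : X.Opens} (hxV : x ∈ V) :
    W ≤ (compl₁ hx ⊓ W) ⊔ V := fun z hz => by
  by_cases h : z = x
  · exact Or.inr (h ▸ hxV)
  · exact Or.inl ⟨h, hz⟩

/-- on a one-dimensional integral scheme a nonempty open has finite complement -/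
theorem finite_compl_of_nonempty [IsIntegral X] [IsNoetherian X] (hdim : topologicalKrullDim X ≤ 1) {O : X.Opens}
    (hO : (O : Set X).Nonempty) : ((O : Set X)ᶜ).Finite := by
  refine finite_closed_of_closedPts X _ O.isOpen.isClosed_compl fun z hz => ?_
  by_contra h
  obtain rfl : z = genericPoint X := (isMaxPt_of_not_closed hdim h _ (genericPoint_specializes z)).symm
  obtain ⟨w, hw⟩ := hO
  exact hz ((genericPoint_specializes w).mem_open O.isOpen hw)

theorem isClosed_of_subset_compl [IsIntegral X] [IsNoetherian X] (hdim : topologicalKrullDim X ≤ 1) {O : X.Opens}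
    (hO : (O : Set X).Nonempty) {A : Set X} (hA : A ⊆ (O : Set X)ᶜ) : IsClosed A := by
  rw [← Set.biUnion_of_singleton A]
  refine ((finite_compl_of_nonempty hdim hO).subset hA).isClosed_biUnion fun z hz => ?_
  by_contra h
  obtain rfl : z = genericPoint X := (isMaxPt_of_not_closed hdim h _ (genericPoint_specializes z)).symm
  obtain ⟨w, hw⟩ := hO
  exact hA hz ((genericPoint_specializes w).mem_open O.isOpen hw)

theorem exists_ptDat [IsIntegral X] [IsNoetherian X] (hdim : topologicalKrullDim X ≤ 1) (W : X.Opens) {x : X}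
    (hx : IsClosed ({x} : Set X)) (hxW : x ∈ W) [IsDiscreteValuationRing (X.presheaf.stalk x)] :
    Nonempty (PtDat W hx) := by
  obtain ⟨τ, hτ⟩ := IsDiscreteValuationRing.exists_irreducible (X.presheaf.stalk x)
  obtain ⟨V₀, hxV₀, t₀, rfl⟩ := TopCat.Presheaf.exists_germ_eq X.presheaf τ
  let V₁ : X.Opens := V₀ ⊓ W
  let t₁ : Γ(X, V₁) := X.presheaf.map (homOfLE (inf_le_left : V₁ ≤ V₀)).op t₀
  have hxV₁ : x ∈ V₁ := ⟨hxV₀, hxW⟩
  have ht₁ : (X.presheaf.germ V₁ x hxV₁).hom t₁ = X.presheaf.germ V₀ x hxV₀ t₀ :=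
    X.presheaf.germ_res_apply (homOfLE (inf_le_left : V₁ ≤ V₀)) x hxV₁ t₀
  have hne : (X.basicOpen t₁ : Set X).Nonempty := by
    by_contra h
    rw [Set.not_nonempty_iff_eq_empty] at h
    have h0 : t₁ = 0 := by
      haveI : Nonempty V₁ := ⟨⟨x, hxV₁⟩⟩
      exact (basicOpen_eq_bot_iff t₁).1 (Opens.ext h)
    exact hτ.ne_zero (by rw [← ht₁, h0, map_zero])
  let A : Set X := {z | z ∈ (X.basicOpen t₁ : Set X)ᶜ ∧ z ≠ x}
  have hAc : IsClosed A := isClosed_of_subset_compl hdim hne fun z hz => hz.1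
  let V : X.Opens := V₁ ⊓ ⟨Aᶜ, hAc.isOpen_compl⟩
  have hxV : x ∈ V := ⟨hxV₁, fun h => h.2 rfl⟩
  refine ⟨{ V := V, le := inf_le_left.trans inf_le_right, mem := hxV,
            t := X.presheaf.map (homOfLE (inf_le_left : V ≤ V₁)).op t₁, unit := ?_, gen := ?_ }⟩
  · have hle : (compl₁ hx ⊓ W) ⊓ V ≤ X.basicOpen t₁ := fun z hz => by
      by_contra h
      exact hz.2.2 ⟨h, hz.1.1⟩
    rw [res_res_apply]
    exact isUnit_res_le_basicOpen _ hle
  · rw [X.presheaf.germ_res_apply, ht₁]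
    exact hτ.maximalIdeal_eq

section Step

variable {W : X.Opens} {x : X} {hx : IsClosed ({x} : Set X)} (D : PtDat W hx)

/-- the uniformiser as a unit on the punctured neighbourhood -/
def PtDat.τ : unitsOn ((compl₁ hx ⊓ W) ⊓ D.V) := ofO D.unit

/-- the class of the point -/
def PtDat.cls : picOn W := gcls inf_le_right D.le (cover_compl hx D.mem) D.τ

theorem PtDat.zsmul_cls (m : ℤ) :
    m • D.cls = gcls inf_le_right D.le (cover_compl hx D.mem) (m • D.τ) :=
  (map_zsmul (gclsHom (G := EtCoh.Gm X) inf_le_right D.le (cover_compl hx D.mem)) m D.τ).symm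

theorem cRes_cls : cRes (inf_le_right : compl₁ hx ⊓ W ≤ W) D.cls = 0 := res_left_gcls _ _ _ _

theorem gcls_res_both {U V : X.Opens} (hU : U ≤ W) (hV : V ≤ W) (hc : W ≤ U ⊔ V) (a : unitsOn U) (b : unitsOn V) :
    gcls hU hV hc (uRes inf_le_left a - uRes inf_le_right b) = 0 := by
  show gclsHom hU hV hc (uRes inf_le_left a - uRes inf_le_right b) = 0
  rw [map_sub, sub_eq_zero]
  exact (gcls_res_left hU hV hc a).trans (gcls_res_right hU hV hc b).symm

/-- the order of a unit at the point -/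
def PtDat.HasOrd (s : unitsOn (compl₁ hx ⊓ W)) (m : ℤ) : Prop :=
  ∃ (V₀ : X.Opens) (h₀ : V₀ ≤ D.V) (_ : x ∈ V₀) (u : unitsOn V₀),
    uRes inf_le_left s = uRes (inf_le_inf le_rfl h₀) (m • D.τ) + uRes inf_le_right u

theorem PtDat.hasOrd_add {s s' : unitsOn (compl₁ hx ⊓ W)} {m m' : ℤ} (h : D.HasOrd s m) (h' : D.HasOrd s' m') :
    D.HasOrd (s + s') (m + m') := by
  obtain ⟨V₀, h₀, hx₀, u, hu⟩ := h
  obtain ⟨V₁, h₁, hx₁, v, hv⟩ := h'
  have e0 : (compl₁ hx ⊓ W) ⊓ (V₀ ⊓ V₁) ≤ (compl₁ hx ⊓ W) ⊓ V₀ := inf_le_inf le_rfl inf_le_left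
  have e1 : (compl₁ hx ⊓ W) ⊓ (V₀ ⊓ V₁) ≤ (compl₁ hx ⊓ W) ⊓ V₁ := inf_le_inf le_rfl inf_le_right
  refine ⟨V₀ ⊓ V₁, inf_le_left.trans h₀, ⟨hx₀, hx₁⟩, uRes inf_le_left u + uRes inf_le_right v, ?_⟩
  have hu' := congrArg (uRes e0) hu
  have hv' := congrArg (uRes e1) hv
  simp only [map_add, uRes_uRes] at hu' hv'
  simp only [map_add, uRes_uRes, add_smul]
  rw [hu', hv']
  abel

theorem PtDat.hasOrd_neg {s : unitsOn (compl₁ hx ⊓ W)} {m : ℤ} (h : D.HasOrd s m) : D.HasOrd (-s) (-m) := by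
  obtain ⟨V₀, h₀, hx₀, u, hu⟩ := h
  refine ⟨V₀, h₀, hx₀, -u, ?_⟩
  rw [map_neg, hu, neg_smul, map_neg, map_neg, neg_add]

variable [IsIntegral X]

theorem uRes_injective {U V : X.Opens} (h : U ≤ V) (hU : (U : Set X).Nonempty) :
    Function.Injective (uRes h) := fun s s' he => by
  apply oval_injective
  have h' := congrArg oval he
  rw [oval_uRes, oval_uRes] at h'
  haveI : Nonempty U := hU.to_subtype
  exact map_injective_of_isIntegral X (homOfLE h) h'

theorem mem_punctured {V : X.Opens} (hxV : x ∈ V) (hV : V ≤ W) (hne : ¬ IsClosed ({genericPoint X} : Set X)) :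
    genericPoint X ∈ (compl₁ hx ⊓ W) ⊓ V :=
  ⟨⟨fun h => hne (h ▸ hx), (genericPoint_specializes x).mem_open W.isOpen (hV hxV)⟩,
    (genericPoint_specializes x).mem_open V.isOpen hxV⟩

theorem PtDat.eq_zero_of_hasOrd_zero (hne : ¬ IsClosed ({genericPoint X} : Set X)) {m : ℤ}
    (h : D.HasOrd 0 m) : m = 0 := by
  suffices key : ∀ n : ℕ, D.HasOrd 0 (n : ℤ) → n = 0 by
    rcases Int.eq_nat_or_neg m with ⟨n, rfl | rfl⟩
    · rw [key n h]; rfl
    · have h' := D.hasOrd_neg h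
      rw [neg_zero, neg_neg] at h'
      rw [key n h']; rfl
  intro n h
  obtain ⟨V₀, h₀, hx₀, u, hu⟩ := h
  rw [map_zero, natCast_zsmul] at hu
  let O := (compl₁ hx ⊓ W) ⊓ V₀
  have h1 := congrArg oval hu.symm
  rw [oval_add, oval_uRes, oval_uRes, oval_zero', oval_nsmul, PtDat.τ, oval_ofO, map_pow, res_res_apply] at h1
  -- the same identity on `V₀`
  let T : Γ(X, V₀) := X.presheaf.map (homOfLE h₀).op D.t
  have h2 : T ^ n * oval u = 1 := by
    haveI : Nonempty O := ⟨⟨_, mem_punctured hx₀ (h₀.trans D.le) hne⟩⟩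
    apply map_injective_of_isIntegral X (homOfLE (inf_le_right : O ≤ V₀))
    rw [map_mul, map_pow, map_one, res_res_apply]
    exact h1
  have h3 := congrArg (X.presheaf.germ V₀ x hx₀).hom h2
  rw [map_mul, map_pow, map_one, X.presheaf.germ_res_apply] at h3
  by_contra hn
  have h4 : IsUnit ((X.presheaf.germ D.V x D.mem).hom D.t) :=
    (isUnit_pow_iff hn).1 (IsUnit.of_mul_eq_one _ h3)
  exact (IsLocalRing.maximalIdeal.isMaximal _).ne_top (D.gen.trans (Ideal.span_singleton_eq_top.2 h4))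

theorem PtDat.hasOrd_unique (hne : ¬ IsClosed ({genericPoint X} : Set X)) {s : unitsOn (compl₁ hx ⊓ W)}
    {m m' : ℤ} (h : D.HasOrd s m) (h' : D.HasOrd s m') : m = m' := by
  have := D.hasOrd_add h (D.hasOrd_neg h')
  rw [add_neg_cancel] at this
  have := D.eq_zero_of_hasOrd_zero hne this
  omega

theorem PtDat.exists_hasOrd_section (hne : ¬ IsClosed ({genericPoint X} : Set X))
    [IsDiscreteValuationRing (X.presheaf.stalk x)] (s : unitsOn ((compl₁ hx ⊓ W) ⊓ D.V)) :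
    ∃ (m : ℤ) (V₀ : X.Opens) (h₀ : V₀ ≤ D.V) (_ : x ∈ V₀) (u : unitsOn V₀),
      uRes (inf_le_inf le_rfl h₀) s = uRes (inf_le_inf le_rfl h₀) (m • D.τ) + uRes inf_le_right u := by
  let O := (compl₁ hx ⊓ W) ⊓ D.V
  have hηO : genericPoint X ∈ O := mem_punctured D.mem D.le hne
  haveI : Nonempty O := ⟨⟨_, hηO⟩⟩
  let K := X.functionField
  let φ : K := X.germToFunctionField O (oval s)
  have hφ : φ ≠ 0 := ((isUnit_oval _).map (X.germToFunctionField O).hom).ne_zero
  obtain ⟨a, b, hb, hab⟩ := IsFractionRing.div_surjective (A := X.presheaf.stalk x) φ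
  have hb0 : b ≠ 0 := nonZeroDivisors.ne_zero hb
  have ha0 : a ≠ 0 := fun h => hφ (by rw [← hab, h, map_zero, zero_div])
  have hπ : Irreducible ((X.presheaf.germ D.V x D.mem).hom D.t) :=
    IsDiscreteValuationRing.irreducible_iff_uniformizer _ |>.2 D.gen
  obtain ⟨i, ua, hua⟩ := IsDiscreteValuationRing.eq_unit_mul_pow_irreducible ha0 hπ
  obtain ⟨j, ub, hub⟩ := IsDiscreteValuationRing.eq_unit_mul_pow_irreducible hb0 hπ
  obtain ⟨V₁, hx₁, w, hw⟩ := TopCat.Presheaf.exists_germ_eq X.presheaf ((ua * ub⁻¹ : (X.presheaf.stalk x)ˣ) : X.presheaf.stalk x)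
  let V₀ : X.Opens := X.basicOpen w ⊓ D.V
  have hx₀ : x ∈ V₀ := ⟨(Scheme.mem_basicOpen X w x hx₁).2 (hw ▸ Units.isUnit _), D.mem⟩
  obtain ⟨u, hu⟩ := exists_oval (X := X) (U := V₀)
    (x := X.presheaf.map (homOfLE (inf_le_left.trans (X.basicOpen_le w) : V₀ ≤ V₁)).op w)
    (isUnit_res_le_basicOpen _ inf_le_left)
  let O₀ := (compl₁ hx ⊓ W) ⊓ V₀
  have hηO₀ : genericPoint X ∈ O₀ := mem_punctured hx₀ (inf_le_right.trans D.le) hne
  haveI : Nonempty O₀ := ⟨⟨_, hηO₀⟩⟩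
  refine ⟨(i : ℤ) - j, V₀, inf_le_right, hx₀, u, ?_⟩
  apply (add_right_injective (uRes (inf_le_inf le_rfl (inf_le_right : V₀ ≤ D.V)) ((j : ℤ) • D.τ)))
  simp only [sub_smul, map_sub]
  rw [← add_assoc, add_sub_cancel, natCast_zsmul, natCast_zsmul]
  apply oval_injective
  apply X.germToFunctionField_injective O₀
  -- everything is a germ at the generic point
  have hg : ∀ {V V' : X.Opens} (h : V' ≤ V) (hη : genericPoint X ∈ V') (r : Γ(X, V)),
      (X.presheaf.germ V' (genericPoint X) hη).hom (X.presheaf.map (homOfLE h).op r) =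
        (X.presheaf.germ V (genericPoint X) (h hη)).hom r := fun h hη r =>
    X.presheaf.germ_res_apply (homOfLE h) _ hη r
  have hs : ∀ {V : X.Opens} (hV : x ∈ V) (r : Γ(X, V)),
      (X.presheaf.germ V (genericPoint X) ((genericPoint_specializes x).mem_open V.isOpen hV)).hom r =
        algebraMap (X.presheaf.stalk x) K ((X.presheaf.germ V x hV).hom r) := fun hV r =>
    (X.presheaf.germ_stalkSpecializes_apply hV (genericPoint_specializes x) r).symm
  have g1 : ∀ n : ℕ, X.germToFunctionField O₀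
      (oval (uRes (inf_le_inf le_rfl (inf_le_right : V₀ ≤ D.V)) (n • D.τ))) =
      algebraMap (X.presheaf.stalk x) K ((X.presheaf.germ D.V x D.mem).hom D.t) ^ n := fun n => by
    rw [oval_uRes, oval_nsmul, PtDat.τ, oval_ofO, map_pow, map_pow, res_res_apply, ← hs D.mem]
    exact congrArg (· ^ n) (hg _ hηO₀ _)
  have g2 : X.germToFunctionField O₀ (oval (uRes (inf_le_inf le_rfl (inf_le_right : V₀ ≤ D.V)) s)) = φ := by
    rw [oval_uRes]
    exact hg (inf_le_inf le_rfl (inf_le_right : V₀ ≤ D.V)) hηO₀ _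
  have g3 : X.germToFunctionField O₀ (oval (uRes (inf_le_right : O₀ ≤ V₀) u)) =
      algebraMap (X.presheaf.stalk x) K ((ua * ub⁻¹ : (X.presheaf.stalk x)ˣ) : X.presheaf.stalk x) := by
    rw [oval_uRes, hu, res_res_apply, ← hw, ← hs hx₁]
    exact hg _ hηO₀ _
  rw [oval_add, oval_add, map_mul, map_mul, g1, g1, g2, g3, ← hab, hua, hub, map_mul, map_mul, map_pow, map_pow,
    Units.val_mul, map_mul, map_units_inv]
  have htK : algebraMap (X.presheaf.stalk x) K ((X.presheaf.germ D.V x D.mem).hom D.t) ≠ 0 :=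
    (map_ne_zero_iff _ (IsFractionRing.injective _ _)).2 hπ.ne_zero
  field_simp

theorem PtDat.exists_hasOrd (hne : ¬ IsClosed ({genericPoint X} : Set X))
    [IsDiscreteValuationRing (X.presheaf.stalk x)] (s : unitsOn (compl₁ hx ⊓ W)) : ∃ m, D.HasOrd s m := by
  obtain ⟨m, V₀, h₀, hx₀, u, hu⟩ := D.exists_hasOrd_section hne (uRes inf_le_left s)
  exact ⟨m, V₀, h₀, hx₀, u, (uRes_uRes _ _ s).symm.trans hu⟩

variable (hne : ¬ IsClosed ({genericPoint X} : Set X)) [IsDiscreteValuationRing (X.presheaf.stalk x)]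

/-- **the order at the point** -/
def PtDat.ord : unitsOn (compl₁ hx ⊓ W) →+ ℤ :=
  AddMonoidHom.mk' (fun s => (D.exists_hasOrd hne s).choose) fun s s' =>
    D.hasOrd_unique hne (D.exists_hasOrd hne (s + s')).choose_spec
      (D.hasOrd_add (D.exists_hasOrd hne s).choose_spec (D.exists_hasOrd hne s').choose_spec)

theorem PtDat.hasOrd_ord (s : unitsOn (compl₁ hx ⊓ W)) : D.HasOrd s (D.ord hne s) :=
  (D.exists_hasOrd hne s).choose_spec

include D hne in
theorem PtDat.uRes_injective_compl : Function.Injective (uRes (inf_le_right : compl₁ hx ⊓ W ≤ W)) :=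
  uRes_injective _ ⟨genericPoint X, (mem_punctured (hx := hx) D.mem D.le hne).1⟩

theorem PtDat.ord_eq_zero_iff (s : unitsOn (compl₁ hx ⊓ W)) :
    D.ord hne s = 0 ↔ ∃ t : unitsOn W, uRes inf_le_right t = s := by
  constructor
  · intro h
    obtain ⟨V₀, h₀, hx₀, u, hu⟩ := D.hasOrd_ord hne s
    rw [h, zero_smul, map_zero, zero_add] at hu
    obtain ⟨t, ⟨ht, -⟩, -⟩ := EtMV.glue' (inf_le_right : compl₁ hx ⊓ W ≤ W) (h₀.trans D.le) (cover_compl hx hx₀)
      (EtCoh.Gm X) s u hu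
    exact ⟨t, ht⟩
  · rintro ⟨t, rfl⟩
    refine D.hasOrd_unique hne (D.hasOrd_ord hne _) ⟨D.V, le_rfl, D.mem, uRes D.le t, ?_⟩
    rw [zero_smul, map_zero, zero_add, uRes_uRes, uRes_uRes]

theorem PtDat.zsmul_cls_eq_zero_iff (m : ℤ) : m • D.cls = 0 ↔ ∃ s, D.ord hne s = m := by
  rw [D.zsmul_cls]
  constructor
  · intro h
    obtain ⟨a, b, hab⟩ := exists_of_gcls_eq_zero _ _ _ _ h
    refine ⟨a, D.hasOrd_unique hne (D.hasOrd_ord hne a) ⟨D.V, le_rfl, D.mem, b, ?_⟩⟩
    rw [show uRes (inf_le_inf le_rfl (le_refl D.V)) (m • D.τ) = m • D.τ from uRes_uRes_self _ _]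
    exact (eq_sub_iff_add_eq.1 hab).symm
  · rintro ⟨s, rfl⟩
    obtain ⟨V₀, h₀, hx₀, u, hu⟩ := D.hasOrd_ord hne s
    have h := res_gcls (inf_le_right : compl₁ hx ⊓ W ≤ W) D.le (cover_compl hx D.mem)
      (inf_le_right : compl₁ hx ⊓ W ≤ W) (h₀.trans D.le) (cover_compl hx hx₀) le_rfl h₀ le_rfl (D.ord hne s • D.τ)
    refine (cRes_self _).symm.trans (h.trans ?_)
    rw [show res (EtCoh.Gm X) (EtMV.res (inf_le_inf le_rfl h₀)) (D.ord hne s • D.τ) =
      uRes inf_le_left s - uRes inf_le_right u from eq_sub_iff_add_eq.2 hu.symm]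
    exact gcls_res_both _ _ _ s u

include hne in
theorem PtDat.exists_zsmul_cls (c : picOn W) (hc : cRes (inf_le_right : compl₁ hx ⊓ W ≤ W) c = 0) :
    ∃ m : ℤ, m • D.cls = c := by
  obtain ⟨V₁, hV₁, hx₁, hc₁⟩ := exists_nhd_cRes_eq_zero_on c (D.le D.mem)
  let V₀ := V₁ ⊓ D.V
  have hx₀ : x ∈ V₀ := ⟨hx₁, D.mem⟩
  have hc₀ : cRes ((inf_le_left : V₀ ≤ V₁).trans hV₁) c = 0 := by
    rw [← cRes_cRes (inf_le_left : V₀ ≤ V₁) hV₁, hc₁, cRes_zero]
  obtain ⟨s, hcs⟩ := exists_gcls (inf_le_right : compl₁ hx ⊓ W ≤ W) _ (cover_compl hx hx₀) c hc hc₀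
  let E : PtDat W hx :=
    { V := V₀, le := inf_le_right.trans D.le, mem := hx₀, t := X.presheaf.map (homOfLE inf_le_right).op D.t
      unit := by
        have h := D.unit.map (X.presheaf.map (homOfLE (inf_le_inf le_rfl (inf_le_right : V₀ ≤ D.V))).op).hom
        rw [res_res_apply]
        exact (res_res_apply _ _ D.t).symm ▸ h
      gen := by rw [X.presheaf.germ_res_apply]; exact D.gen }
  obtain ⟨m, V₂, h₂, hx₂, u, hu⟩ := E.exists_hasOrd_section hne s
  refine ⟨m, ?_⟩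
  rw [D.zsmul_cls, hcs]
  have hA := res_gcls (inf_le_right : compl₁ hx ⊓ W ≤ W) D.le (cover_compl hx D.mem)
    (inf_le_right : compl₁ hx ⊓ W ≤ W) ((h₂.trans inf_le_right).trans D.le) (cover_compl hx hx₂) le_rfl
    (h₂.trans inf_le_right) le_rfl (m • D.τ)
  have hB := res_gcls (inf_le_right : compl₁ hx ⊓ W ≤ W) ((inf_le_left : V₀ ≤ V₁).trans hV₁) (cover_compl hx hx₀)
    (inf_le_right : compl₁ hx ⊓ W ≤ W) ((h₂.trans inf_le_right).trans D.le) (cover_compl hx hx₂) le_rfl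
    h₂ le_rfl s
  refine (cRes_self _).symm.trans (hA.trans (Eq.trans ?_ (hB.symm.trans (cRes_self _))))
  show gclsHom (inf_le_right : compl₁ hx ⊓ W ≤ W) ((h₂.trans inf_le_right).trans D.le) (cover_compl hx hx₂)
      (res (EtCoh.Gm X) (EtMV.res (inf_le_inf le_rfl (h₂.trans inf_le_right))) (m • D.τ)) =
    gclsHom (inf_le_right : compl₁ hx ⊓ W ≤ W) ((h₂.trans inf_le_right).trans D.le) (cover_compl hx hx₂)
      (res (EtCoh.Gm X) (EtMV.res (inf_le_inf le_rfl h₂)) s)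
  rw [← sub_eq_zero, ← map_sub]
  have e : res (EtCoh.Gm X) (EtMV.res (inf_le_inf le_rfl (h₂.trans inf_le_right))) (m • D.τ) -
      res (EtCoh.Gm X) (EtMV.res (inf_le_inf le_rfl h₂)) s =
      uRes inf_le_left 0 - uRes inf_le_right u := by
    rw [map_zero, zero_sub]
    show uRes _ (m • D.τ) - uRes _ s = _
    rw [hu]
    have : uRes (inf_le_inf le_rfl (h₂.trans inf_le_right)) D.τ = uRes (inf_le_inf le_rfl h₂) E.τ := by
      apply oval_injective
      simp only [oval_uRes, PtDat.τ, oval_ofO, E]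
      rw [res_res_apply, res_res_apply, res_res_apply]
    rw [map_zsmul, this, ← map_zsmul]
    abel
  rw [e]
  exact gcls_res_both inf_le_right ((h₂.trans inf_le_right).trans D.le) (cover_compl hx hx₂) 0 u

include hne in
/-- **classes extend over a point** -/
theorem exists_extension_point [IsNoetherian X] (hdim : topologicalKrullDim X ≤ 1) (hxW : x ∈ W)
    (c : picOn (compl₁ hx ⊓ W)) :
    ∃ d : picOn W, cRes (inf_le_right : compl₁ hx ⊓ W ≤ W) d = c := by
  have hη : genericPoint X ∈ compl₁ hx ⊓ W :=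
    ⟨fun h => hne (h ▸ hx), (genericPoint_specializes x).mem_open W.isOpen hxW⟩
  obtain ⟨O, hO, hηO, hc⟩ := exists_nhd_cRes_eq_zero_on c hη
  let A : Set X := {z | z ∈ (O : Set X)ᶜ ∧ z ≠ x}
  have hAc : IsClosed A := isClosed_of_subset_compl hdim ⟨_, hηO⟩ fun z hz => hz.1
  let V₀ : X.Opens := ⟨Aᶜ, hAc.isOpen_compl⟩ ⊓ W
  have hxV₀ : x ∈ V₀ := ⟨fun h => h.2 rfl, hxW⟩
  refine exists_extension (G := EtCoh.Gm X) (U := compl₁ hx ⊓ W) (V := V₀) inf_le_right inf_le_right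
    (cover_compl hx hxV₀) c ?_
  have hle : (compl₁ hx ⊓ W) ⊓ V₀ ≤ O := fun z hz => by
    by_contra h
    exact hz.2.1 ⟨h, hz.1.1⟩
  rw [← cRes_cRes hle hO, hc, cRes_zero]

end Step

end Groth.Agent.EtPBC
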