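import Groth.Agent.EtPBC.CurveFinInt
import Groth.Agent.EtPBC.CdPProper
import Groth.Agent.EtPBC.CdPPinch
import Groth.Agent.S1477
import Groth.Agent.EtPBC.CurvePoint
import Mathlib

/-!
# Finiteness for constructible sheaves on curves
-/

set_option autoImplicit false
set_option backward.isDefEq.respectTransparency false
set_option backward.isDefEq.respectTransparency.types false
set_option linter.auxLemma false
set_option linter.style.haveILetI false
set_option linter.unusedSectionVars false
set_option maxHeartbeats 1000000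

universe u

open CategoryTheory CategoryTheory.Limits CategoryTheory.Abelian AlgebraicGeometry Opposite TopologicalSpace

noncomputable section

namespace Groth.Agent.EtPBC

attribute [local instance 100000] EtCoh.H._proof_1 EtMV.hext
attribute [local instance 200000] EtMV.hextAb

theorem finite_H_biproduct {X : Scheme.{u}} {M : Type} [Fintype M] (A : M → EtCoh.Ab X) (q : ℕ)
    [∀ i, Finite (EtCoh.H X (A i) q)] : Finite (EtCoh.H X (⨁ A) q) := by
  classical
  refine Finite.of_injective (fun (x : EtCoh.H X (⨁ A) q) (i : M) =>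
    (Ext.comp x (Ext.mk₀ (biproduct.π A i)) (add_zero q) : EtCoh.H X (A i) q)) fun x y h => ?_
  let φ : ∀ z : EtCoh.H X (⨁ A) q, (⨁ A ⟶ ⨁ A) →+ EtCoh.H X (⨁ A) q := fun z =>
    AddMonoidHom.mk' (fun g => Ext.comp z (Ext.mk₀ g) (add_zero q)) fun g g' => by rw [Ext.mk₀_add, Ext.comp_add]
  have key : ∀ z : EtCoh.H X (⨁ A) q, z = ∑ i, φ z (biproduct.π A i ≫ biproduct.ι A i) := fun z =>
    (Ext.comp_mk₀_id z).symm.trans ((congrArg (φ z) biproduct.total.symm).trans (map_sum (φ z) _ _))
  rw [key x, key y]
  refine Finset.sum_congr rfl fun i _ => ?_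
  show Ext.comp x (Ext.mk₀ (biproduct.π A i ≫ biproduct.ι A i)) (add_zero q) =
    Ext.comp y (Ext.mk₀ (biproduct.π A i ≫ biproduct.ι A i)) (add_zero q)
  rw [← Ext.mk₀_comp_mk₀, ← Ext.comp_assoc_of_second_deg_zero, ← Ext.comp_assoc_of_second_deg_zero]
  exact congrArg (fun t : EtCoh.H X (A i) q => Ext.comp t (Ext.mk₀ (biproduct.ι A i)) (add_zero q)) (congrFun h i)

variable {k : Type u} [Field k] [IsAlgClosed k]

/-- the orders with finite cohomology on a curve -/
def GoodN {X : Scheme.{u}} (f : X ⟶ Spec (CommRingCat.of k)) (n : ℕ) : Prop := 0 < n ∧ (IsProper f ∨ (n : k) ≠ 0)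

theorem GoodN.of_dvd {X : Scheme.{u}} {f : X ⟶ Spec (CommRingCat.of k)} {n d : ℕ} (h : GoodN f n) (hd : d ∣ n) :
    GoodN f d := by
  refine ⟨Nat.pos_of_dvd_of_pos hd h.1, h.2.imp id fun hn h0 => hn ?_⟩
  obtain ⟨e, rfl⟩ := hd
  rw [Nat.cast_mul, h0, zero_mul]

theorem GoodN.comp {X T : Scheme.{u}} {f : X ⟶ Spec (CommRingCat.of k)} {n : ℕ} (h : GoodN f n) (π : T ⟶ X)
    [IsFinite π] : GoodN (π ≫ f) n :=
  ⟨h.1, h.2.imp (fun hp => by haveI := hp; infer_instance) id⟩

section Const

variable (X : Scheme.{u}) (f : X ⟶ Spec (CommRingCat.of k)) [IsSeparated f] [LocallyOfFiniteType f]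
  [QuasiCompact f] (hdim : topologicalKrullDim X ≤ 1)

include f hdim in
theorem finite_H_const_prime_ne {ℓ : ℕ} [hℓ : Fact ℓ.Prime] (hℓk : (ℓ : k) ≠ 0) (q : ℕ) :
    Finite (EtCoh.H X (EtCoh.const X (ZMod ℓ)) q) := by
  classical
  haveI : IsNoetherian X := isNoetherian_of_field f
  haveI : NeZero ℓ := ⟨hℓ.out.ne_zero⟩
  let G := EtCoh.const X (ZMod ℓ)
  have hfin : {x : X | IsMaxPt x}.Finite := finite_isMaxPt X
  let M := Fin hfin.toFinset.card
  let p : M → X := fun i => (hfin.toFinset.equivFin.symm i).1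
  have hpmax : ∀ i, IsMaxPt (p i) := fun i => hfin.mem_toFinset.1 (hfin.toFinset.equivFin.symm i).2
  have hpinj : Function.Injective p := fun a b h => hfin.toFinset.equivFin.symm.injective (Subtype.ext h)
  let K : M → Closeds X := fun i => ⟨closure {p i}, isClosed_closure⟩
  let Z : M → Scheme.{u} := fun i => (Scheme.IdealSheafData.vanishingIdeal (K i)).subscheme
  let ι : ∀ i, Z i ⟶ X := fun i => (Scheme.IdealSheafData.vanishingIdeal (K i)).subschemeι
  have hr : ∀ i, Set.range (ι i) = closure {p i} := fun i => by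
    show Set.range (Scheme.IdealSheafData.vanishingIdeal (K i)).subschemeι = _
    rw [Scheme.IdealSheafData.range_subschemeι, Scheme.IdealSheafData.coe_support_vanishingIdeal]
    rfl
  have hZ : ∀ i, IsIntegral (Z i) := fun i => by
    haveI : IsReduced (Z i) := DvrDom.isReduced_vanishingIdeal_subscheme (K i)
    haveI : IrreducibleSpace (Z i) := by
      haveI : IrreducibleSpace (Set.range (ι i)) :=
        Subtype.irreducibleSpace (hr i ▸ isIrreducible_singleton.closure)
      exact ((ι i).isClosedEmbedding.isEmbedding.toHomeomorph.irreducibleSpace_iff).2 inferInstance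
    exact isIntegral_of_irreducibleSpace_of_isReduced (Z i)
  let A : M → EtCoh.Ab X := fun i => (EtCoh.push (ι i)).obj ((EtCoh.pull (ι i)).obj G)
  haveI hA : ∀ i, Finite (EtCoh.H X (A i) q) := fun i => by
    haveI := hZ i
    haveI := finite_H_const_integral (Z i) (ι i ≫ f)
      (((ι i).isEmbedding.isInducing.topologicalKrullDim_le).trans hdim) hℓk q
    haveI : Finite (EtCoh.H (Z i) ((EtCoh.pull (ι i)).obj G) q) := finite_H_of_iso (EtCons.pullConstM (ι i) (ZMod ℓ)) q
    exact finite_H_push (ι i) _ q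
  let ψ : G ⟶ ⨁ A := biproduct.lift fun i => (EtCoh.pullPushAdj (ι i)).unit.app G
  -- the points on two components
  let B : Set X := ⋃ (i : M) (a : M) (_ : i ≠ a), closure {p i} ∩ closure {p a}
  have hBc : IsClosed B := isClosed_iUnion_of_finite fun i => isClosed_iUnion_of_finite fun a =>
    isClosed_iUnion_of_finite fun _ => isClosed_closure.inter isClosed_closure
  have hBpt : ∀ x ∈ B, IsClosed ({x} : Set X) := fun x hx => by
    by_contra h
    simp only [B, Set.mem_iUnion] at hx
    obtain ⟨i, a, hia, h1, h2⟩ := hx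
    have hm := isMaxPt_of_not_closed hdim h
    exact hia (hpinj ((hm _ (specializes_iff_mem_closure.2 h1)).trans (hm _ (specializes_iff_mem_closure.2 h2)).symm))
  have hBfin : B.Finite := finite_closed_of_closedPts X B hBc hBpt
  have hiso : ∀ x ∉ hBfin.toFinset, IsoAt ψ x := fun x hx => by
    obtain ⟨η, hη, hηx⟩ := exists_isMaxPt x
    let i : M := hfin.toFinset.equivFin ⟨η, hfin.mem_toFinset.2 hη⟩
    have hi : p i = η := by simp [p, i]
    have hxi : x ∈ closure {p i} := by rw [hi]; exact specializes_iff_mem_closure.1 hηx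
    obtain ⟨z, hz⟩ : x ∈ Set.range (ι i) := by rw [hr]; exact hxi
    obtain ⟨Ω, _, _, ξ, hξ, hb⟩ := bijective_stalk_unit_at (ι i) (EtPushStalk.liftProp_of_closedImmersion (ι i)) G z hz
    have hπ := stalk_biproduct_π_bijective A i (x := x) (fun a ha => zeroAt_push_of_zeroAt (ι a) _
      (isLTorsion_univ_of_killed hℓ.out.pos (killed_pull (ι a) (killed_const X ℓ))) x fun w hw => absurd ?_ ha) hξ
    · rw [isoAt_iff hξ]
      refine (Function.Bijective.of_comp_iff' hπ _).1 ?_
      have hh : Function.Bijective ((EtCoh.stalk ξ).map ψ ≫ (EtCoh.stalk ξ).map (biproduct.π A i)) := by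
        rw [← Functor.map_comp, biproduct.lift_π]
        exact hb
      exact hh
    · have h1 : x ∈ closure {p a} := hr a ▸ ⟨w, hw⟩
      by_contra hne
      exact hx (hBfin.mem_toFinset.2 (Set.mem_iUnion.2 ⟨a, Set.mem_iUnion.2 ⟨i, Set.mem_iUnion.2 ⟨hne, h1, hxi⟩⟩⟩))
  have hcons : EtPBC.IsConstructible (⨁ A) := EtCons.isConstructible_biproduct A fun i => by
    haveI : LocallyOfFinitePresentation (ι i) := InfLift.lfp_of_lft (ι i)
    exact EtCons.isConstructible_push (ι i) (EtCons.isConstructible_pull (ι i) (EtCons.isConstructible_const (ZMod ℓ)))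
  exact (finite_H_iff_of_isoAt (fun x hx => isSepClosed_of_isClosed f x hx) ψ (EtCons.isConstructible_const (ZMod ℓ))
    hcons hBfin.toFinset (fun x hx => hBpt x (hBfin.mem_toFinset.1 hx)) hiso q).2 (finite_H_biproduct A q)

include f hdim in
theorem finite_H_const_prime {ℓ : ℕ} [hℓ : Fact ℓ.Prime] (hg : GoodN f ℓ) (q : ℕ) :
    Finite (EtCoh.H X (EtCoh.const X (ZMod ℓ)) q) := by
  by_cases h0 : (ℓ : k) = 0
  · haveI : IsProper f := hg.2.resolve_right (not_not.2 h0)
    letI : X.Over (Spec (CommRingCat.of k)) := ⟨f⟩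
    haveI : IsProper (X ↘ Spec (CommRingCat.of k)) := inferInstanceAs (IsProper f)
    haveI : CharP k ℓ := (CharP.charP_iff_prime_eq_zero hℓ.out).2 h0
    have h0' : (ℓ : Γ(X, ⊤)) = 0 := natCast_eq_zero_of_over ℓ f
    exact (finite_H_zmod ℓ f q rfl (fun m => moduleFinite_HH_proper m) h0').1
  · exact finite_H_const_prime_ne X f hdim h0 q

include f hdim in
/-- **constant sheaves** -/
theorem finite_H_const {n : ℕ} (hg : GoodN f n) (q : ℕ) : Finite (EtCoh.H X (EtCoh.const X (ZMod n)) q) := by
  induction n using Nat.strong_induction_on with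
  | _ n ih =>
    rcases Nat.lt_or_ge n 2 with h1 | h2
    · obtain rfl : n = 1 := by have := hg.1; omega
      haveI := subsingleton_H_of_isZero (IsZero.iff_id_eq_zero _ |>.2
        (by simpa using (killed_iff 1 _).1 (killed_const X 1))) q
      infer_instance
    obtain ⟨m, hm⟩ := Nat.minFac_dvd n
    have hp : n.minFac.Prime := Nat.minFac_prime (by omega)
    haveI := Fact.mk hp
    have hm0 : 0 < m := Nat.pos_of_ne_zero (by rintro rfl; omega)
    have hlt : m < n := by
      rw [hm]
      exact lt_mul_of_one_lt_left hm0 hp.one_lt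
    have hS := shortExact_map (cstF X) (zmodSeq_shortExact.{u} n.minFac m hm0.ne')
    haveI := finite_H_const_prime X f hdim (hg.of_dvd (Nat.minFac_dvd n)) q
    haveI := ih m hlt (hg.of_dvd (hm ▸ dvd_mul_left m n.minFac))
    haveI : Finite (EtCoh.H X ((zmodSeq.{u} n.minFac m).map (cstF X)).X₁ q) :=
      ‹Finite (EtCoh.H X (EtCoh.const X (ZMod n.minFac)) q)›
    haveI : Finite (EtCoh.H X ((zmodSeq.{u} n.minFac m).map (cstF X)).X₃ q) :=
      ‹Finite (EtCoh.H X (EtCoh.const X (ZMod m)) q)›
    have h : Finite (EtCoh.H X (EtCoh.const X (ZMod (n.minFac * m))) q) := finite_H_X₂ hS q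
    rwa [← hm] at h

include f hdim in
/-- **extensions by zero** -/
theorem finite_H_extZeroConst (U : X.Etale) [IsAffine U.left] {n : ℕ} (hg : GoodN f n) (q : ℕ) :
    Finite (EtCoh.H X (EtPBC.extZeroConst U (ZMod n)) q) := by
  haveI : IsNoetherian X := isNoetherian_of_field f
  haveI : Etale U.hom := U.prop
  haveI : QuasiSeparated (terminal.from X) := (quasiSeparatedSpace_iff_quasiSeparated X).1 inferInstance
  haveI : IsSeparated (terminal.from U.left) :=
    (inferInstance : (U.left : Scheme.{u}).IsSeparated).isSeparated_terminal_from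
  haveI : QuasiCompact (terminal.from U.left) :=
    HasAffineProperty.iff_of_isAffine.2 (inferInstance : CompactSpace (U.left : Scheme.{u}))
  haveI : IsSeparated U.hom := by
    haveI : IsSeparated (U.hom ≫ terminal.from X) := by
      rw [show U.hom ≫ terminal.from X = terminal.from U.left from Subsingleton.elim _ _]; infer_instance
    exact IsSeparated.of_comp U.hom (terminal.from X)
  haveI : QuasiCompact U.hom := by
    haveI : QuasiCompact (U.hom ≫ terminal.from X) := by
      rw [show U.hom ≫ terminal.from X = terminal.from U.left from Subsingleton.elim _ _]; infer_instance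
    exact QuasiCompact.of_comp U.hom (terminal.from X)
  haveI : LocallyQuasiFinite U.hom := Groth.Agent.FpqcDescent.locallyQuasiFinite_of_etale U.hom
  haveI : LocallyOfFinitePresentation U.hom := inferInstance
  obtain ⟨T, j, π, hj, -, hπ, -, hw⟩ := Groth.Agent.S1477.result (S := X) (U.hom : U.left ⟶ X)
  let C : TopologicalSpace.Closeds T := ⟨(Set.range j)ᶜ, j.isOpenEmbedding.isOpen_range.isClosed_compl⟩
  let i := (Scheme.IdealSheafData.vanishingIdeal C).subschemeι
  have hr : Set.range i = (Set.range j)ᶜ := by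
    simp [i, C, Scheme.IdealSheafData.range_subschemeι, Scheme.IdealSheafData.coe_support_vanishingIdeal]
  obtain ⟨ι⟩ := exists_extZeroConst_iso (ZMod n) U j π hw i (by rw [hr, compl_compl]; rfl)
  haveI : IsLocallyNoetherian T := LocallyOfFiniteType.isLocallyNoetherian π
  have hdimT : topologicalKrullDim T ≤ 1 := (S9683.result π).1.trans hdim
  have hdimZ := (i.isEmbedding.isInducing.topologicalKrullDim_le).trans hdimT
  haveI : Finite (EtCoh.H T (Kc i (ZMod n)) q) := by
    haveI := fun r => finite_H_const T (π ≫ f) hdimT (hg.comp π) r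
    rcases q with _ | q
    · haveI : Mono (Kc.ι i (ZMod n)) := inferInstanceAs (Mono (kernel.ι _))
      exact finite_H_zero_of_mono (Kc.ι i (ZMod n))
    · haveI := finite_H_const _ (i ≫ π ≫ f) hdimZ ((hg.comp π).comp i) q
      haveI : Finite (EtCoh.H _ ((EtCoh.pull i).obj (EtCoh.const T (ZMod n))) q) :=
        finite_H_of_iso (EtCons.pullConstM i (ZMod n)) q
      haveI : Finite (EtCoh.H T (ShortComplex.mk (Kc.ι i (ZMod n)) (resConst i (ZMod n)) (Kc.ι_comp i (ZMod n))).X₃ q) :=
        finite_H_push i _ q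
      exact finite_H_X₁_succ (Kc.shortExact i (ZMod n)) q
  haveI : Finite (EtCoh.H X ((EtCoh.push π).obj (Kc i (ZMod n))) q) := finite_H_push π _ q
  exact finite_H_of_iso ι q

include f hdim in
/-- **constructible sheaves** -/
theorem finite_H_constructible {n : ℕ} (hg : GoodN f n) (F : EtCoh.Ab X) (hF : EtPBC.IsConstructible F)
    (hFn : EtCoh.KilledBy n F) (q : ℕ) : Finite (EtCoh.H X F q) := by
  haveI : IsNoetherian X := isNoetherian_of_field f
  suffices step : ∀ (m q : ℕ), 3 ≤ q + m → ∀ F : EtCoh.Ab X, EtPBC.IsConstructible F → EtCoh.KilledBy n F →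
      Finite (EtCoh.H X F q) from step 3 q (by omega) F hF hFn
  intro m
  induction m with
  | zero =>
    intro q hq F _ hFn
    haveI := kVan_finiteType f (n := 1) (by exact_mod_cast hdim) n hg.1 F hFn q (by omega)
    infer_instance
  | succ m ih =>
    intro q hq F hF hFn
    obtain ⟨b, U, hU, g, hgepi⟩ := EtCons.exists_generators_killed F hF n hg.1 hFn
    haveI := hgepi
    have hP : EtPBC.IsConstructible (⨁ fun i => EtPBC.extZeroConst (U i) (ZMod n)) :=
      EtCons.isConstructible_biproduct _ fun i => by haveI := hU i; exact EtCons.isConstructible_extConst (U i) n hg.1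
    have hS : (ShortComplex.mk (kernel.ι g) g (kernel.condition g)).ShortExact :=
      { exact := ShortComplex.exact_of_f_is_kernel _ (kernelIsKernel g) }
    haveI : ∀ i, Finite (EtCoh.H X (EtPBC.extZeroConst (U i) (ZMod n)) q) := fun i => by
      haveI := hU i
      exact finite_H_extZeroConst X f hdim (U i) hg q
    haveI : Finite (EtCoh.H X (ShortComplex.mk (kernel.ι g) g (kernel.condition g)).X₂ q) := finite_H_biproduct _ q
    haveI : Finite (EtCoh.H X (ShortComplex.mk (kernel.ι g) g (kernel.condition g)).X₁ (q + 1)) :=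
      ih (q + 1) (by omega) _ (EtCons.isConstructible_kernel_cokernel g hP hF).1
        (EtCons.killedBy_of_mono (kernel.ι g) (EtCons.killedBy_biproduct _ n fun i => EtCons.killedBy_extConst (U i) n))
    exact finite_H_X₃ hS q

end Const

end Groth.Agent.EtPBC
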