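import Groth.Agent.EtPBC.CdLeray
import Groth.Agent.EtPBC.CdSupport
import Mathlib

/-!
# Maps of étale sheaves which are isomorphisms at all non-closed points
-/

set_option autoImplicit false
set_option backward.isDefEq.respectTransparency false
set_option backward.isDefEq.respectTransparency.types false
set_option linter.auxLemma false
set_option linter.style.haveILetI false
set_option linter.unusedSectionVars false

universe u

open CategoryTheory CategoryTheory.Limits CategoryTheory.Abelian AlgebraicGeometry Opposite TopologicalSpace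

noncomputable section

namespace Groth.Agent.EtPBC

attribute [local instance 100000] EtCoh.H._proof_1 EtMV.hext
attribute [local instance 200000] EtMV.hextAb

variable {X : Scheme.{u}} {F G K : EtCoh.Ab X}

/-- the stalks of `f` over `x` are bijective -/
def IsoAt (f : F ⟶ G) (x : X) : Prop := ZeroAt (kernel f) x ∧ ZeroAt (cokernel f) x

theorem isoAt_iff {Ω : Type u} [Field Ω] [IsSepClosed Ω] {ξ : Spec (CommRingCat.of Ω) ⟶ X} {x : X}
    (hξ : ξ (default : ↥(Spec (CommRingCat.of Ω))) = x) (f : F ⟶ G) :
    IsoAt f x ↔ Function.Bijective ((EtCoh.stalk ξ).map f) := by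
  refine ⟨fun h => ⟨?_, ?_⟩, fun h => ⟨zeroAt_kernel hξ f h.1, zeroAt_cokernel hξ f h.2⟩⟩
  · exact (AddCommGrpCat.mono_iff_injective _).1 (Preadditive.mono_of_isZero_kernel _
      (((isZero_stalk_iff_zeroAt hξ _).2 h.1).of_iso (PreservesKernel.iso (EtCoh.stalk ξ) f).symm))
  · exact (AddCommGrpCat.epi_iff_surjective _).1 (Preadditive.epi_of_isZero_cokernel _
      (((isZero_stalk_iff_zeroAt hξ _).2 h.2).of_iso (PreservesCokernel.iso (EtCoh.stalk ξ) f).symm))

theorem IsoAt.comp {f : F ⟶ G} {g : G ⟶ K} {x : X} (hf : IsoAt f x) (hg : IsoAt g x) : IsoAt (f ≫ g) x := by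
  obtain ⟨Ω, _, _, ξ, hξ⟩ := exists_geomPt x
  rw [isoAt_iff hξ] at hf hg ⊢
  rw [Functor.map_comp]
  exact hg.comp hf

theorem isoAt_of_zeroAt (f : F ⟶ G) {x : X} (hF : ZeroAt F x) (hG : ZeroAt G x) : IsoAt f x :=
  ⟨zeroAt_of_mono (kernel.ι f) hF, zeroAt_of_epi (cokernel.π f) hG⟩

variable [IsNoetherian X] (hsep : ∀ x : X, IsClosed ({x} : Set X) → IsSepClosed (X.residueField x))

include hsep in
/-- cohomology above degree one does not see the closed points -/
theorem subsingleton_H_iff_of_isoAt (f : F ⟶ G) (hf : ∀ x : X, ¬ IsClosed ({x} : Set X) → IsoAt f x) (q : ℕ)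
    (hq : 2 ≤ q) : Subsingleton (EtCoh.H X F q) ↔ Subsingleton (EtCoh.H X G q) := by
  obtain ⟨q, rfl⟩ : ∃ j, q = j + 1 := ⟨q - 1, by omega⟩
  let p : F ⟶ cokernel (kernel.ι f) := cokernel.π (kernel.ι f)
  let v : cokernel (kernel.ι f) ⟶ G := cokernel.desc _ f (kernel.condition f)
  haveI : Mono v := (ShortComplex.exact_iff_mono_cokernel_desc
    (ShortComplex.mk (kernel.ι f) f (kernel.condition f))).1
    (ShortComplex.exact_of_f_is_kernel _ (kernelIsKernel f))
  have hA : (ShortComplex.mk (kernel.ι f) p (cokernel.condition _)).ShortExact :=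
    { exact := ShortComplex.exact_of_g_is_cokernel _ (cokernelIsCokernel _) }
  have hB : (ShortComplex.mk v (cokernel.π v) (cokernel.condition v)).ShortExact :=
    { exact := ShortComplex.exact_of_g_is_cokernel _ (cokernelIsCokernel _) }
  have hw : f ≫ cokernel.π v = 0 := by
    exact (congrArg (· ≫ cokernel.π v) (cokernel.π_desc (kernel.ι f) f (kernel.condition f)).symm).trans
      ((Category.assoc _ _ _).trans ((congrArg (p ≫ ·) (cokernel.condition v)).trans comp_zero))
  have hK : SuppClosed (kernel f) := fun x hx => (hf x hx).1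
  have hC : SuppClosed (cokernel v) := fun x hx => by
    haveI : Epi (cokernel.desc f (cokernel.π v) hw) := epi_of_epi_fac (cokernel.π_desc f (cokernel.π v) hw)
    exact zeroAt_of_epi (cokernel.desc f (cokernel.π v) hw) (hf x hx).2
  have hK' := fun r (hr : 0 < r) => subsingleton_H_of_suppClosed hsep _ hK r hr
  have hC' := fun r (hr : 0 < r) => subsingleton_H_of_suppClosed hsep _ hC r hr
  constructor
  · intro h
    exact subsingleton_H_X₂ hB (q + 1) (subsingleton_H_X₃ hA (q + 1) h (hK' _ (by omega))) (hC' _ (by omega))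
  · intro h
    exact subsingleton_H_X₂ hA (q + 1) (hK' _ (by omega)) (subsingleton_H_X₁ hB q (hC' _ (by omega)) h)

end Groth.Agent.EtPBC
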