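import Mathlib

/-!
# Torsion and cotorsion in exact sequences of abelian groups
-/

set_option autoImplicit false

universe u v w

noncomputable section

namespace Groth.Agent.EtPBC.Chi

variable (n : ℕ)

/-- the `n`-torsion -/
abbrev T (X : Type u) [AddCommGroup X] : AddSubgroup X := (nsmulAddMonoidHom (α := X) n).ker

/-- the quotient by `n` -/
abbrev M (X : Type u) [AddCommGroup X] : Type u := X ⧸ (nsmulAddMonoidHom (α := X) n).range

theorem mem_T {X : Type u} [AddCommGroup X] {x : X} : x ∈ T n X ↔ n • x = 0 := Iff.rfl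

theorem mk_eq_zero_iff {X : Type u} [AddCommGroup X] (x : X) :
    (QuotientAddGroup.mk x : M n X) = 0 ↔ ∃ y, n • y = x := QuotientAddGroup.eq_zero_iff x

theorem card_eq_ker_mul_range {G : Type u} {H : Type v} [AddCommGroup G] [AddCommGroup H] (f : G →+ H) :
    Nat.card G = Nat.card f.ker * Nat.card f.range := by
  rw [AddSubgroup.card_eq_card_quotient_mul_card_addSubgroup f.ker, mul_comm]
  congr 1
  exact Nat.card_congr (QuotientAddGroup.quotientKerEquivRange f).toEquiv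

section SES

variable {X : Type u} {Y : Type v} {Z : Type w} [AddCommGroup X] [AddCommGroup Y] [AddCommGroup Z]
  (f : X →+ Y) (g : Y →+ Z)

/-- the map on torsion -/
def tMap : T n X →+ T n Y := (f.comp (T n X).subtype).codRestrict _ fun x => by
  show n • f x.1 = 0
  rw [← map_nsmul, show n • x.1 = 0 from x.2, map_zero]

/-- the map on cotorsion -/
def mMap : M n X →+ M n Y := QuotientAddGroup.map _ _ f (by
  rintro _ ⟨y, rfl⟩
  exact ⟨f y, (map_nsmul f n y).symm⟩)

variable (hf : Function.Injective f) (hg : Function.Surjective g) (he : ∀ y, g y = 0 ↔ ∃ x, f x = y)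
include hf hg he

theorem exists_δ (z : T n Z) : ∃ x : X, ∃ y : Y, g y = z ∧ f x = n • y := by
  obtain ⟨y, hy⟩ := hg z
  obtain ⟨x, hx⟩ := (he (n • y)).1 (by rw [map_nsmul, hy]; exact z.2)
  exact ⟨x, y, hy, hx⟩

theorem δ_eq {z : T n Z} {x x' : X} {y y' : Y} (h : g y = z) (hx : f x = n • y) (h' : g y' = z)
    (hx' : f x' = n • y') : (QuotientAddGroup.mk x : M n X) = QuotientAddGroup.mk x' := by
  obtain ⟨a, ha⟩ := (he (y' - y)).1 (by rw [map_sub, h, h', sub_self])
  refine QuotientAddGroup.eq.2 ⟨a, ?_⟩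
  apply hf
  show f (n • a) = f (-x + x')
  rw [map_nsmul, map_add, map_neg, hx, hx', ha, nsmul_sub]
  abel

/-- the connecting map -/
def δ : T n Z →+ M n X :=
  AddMonoidHom.mk' (fun z => QuotientAddGroup.mk (exists_δ n f g hf hg he z).choose) fun z z' => by
    obtain ⟨y, hy, hx⟩ := (exists_δ n f g hf hg he z).choose_spec
    obtain ⟨y', hy', hx'⟩ := (exists_δ n f g hf hg he z').choose_spec
    obtain ⟨y'', hy'', hx''⟩ := (exists_δ n f g hf hg he (z + z')).choose_spec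
    rw [← QuotientAddGroup.mk_add]
    refine δ_eq n f g hf hg he hy'' hx'' (y' := y + y') ?_ ?_
    · rw [map_add, hy, hy']; rfl
    · rw [map_add, hx, hx', nsmul_add]

theorem ker_b : (tMap n g).ker = (tMap n f).range := by
  ext y
  refine ⟨fun h => ?_, ?_⟩
  · obtain ⟨x, hx⟩ := (he y.1).1 (congrArg Subtype.val h)
    refine ⟨⟨x, hf ?_⟩, Subtype.ext hx⟩
    show f (n • x) = f 0
    rw [map_nsmul, hx, show n • y.1 = 0 from y.2, map_zero]
  · rintro ⟨x, rfl⟩
    exact Subtype.ext ((he _).2 ⟨x.1, rfl⟩)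

theorem ker_δ : (δ n f g hf hg he).ker = (tMap n g).range := by
  ext z
  obtain ⟨y, hy, hx⟩ := (exists_δ n f g hf hg he z).choose_spec
  refine ⟨fun h => ?_, ?_⟩
  · obtain ⟨a, ha⟩ := (mk_eq_zero_iff n _).1 h
    refine ⟨⟨y - f a, ?_⟩, Subtype.ext ?_⟩
    · show n • (y - f a) = 0
      rw [nsmul_sub, ← hx, ← map_nsmul, ha, sub_self]
    · show g (y - f a) = z.1
      rw [map_sub, hy, (he _).2 ⟨a, rfl⟩, sub_zero]
  · rintro ⟨y', rfl⟩
    refine (δ_eq n f g hf hg he hy hx (x' := 0) (y' := y'.1) rfl ?_).trans (QuotientAddGroup.mk_zero _)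
    rw [map_zero, show n • y'.1 = 0 from y'.2]

theorem ker_c : (mMap n f).ker = (δ n f g hf hg he).range := by
  ext x
  obtain ⟨x, rfl⟩ := QuotientAddGroup.mk_surjective x
  refine ⟨fun h => ?_, ?_⟩
  · obtain ⟨y, hy⟩ := (mk_eq_zero_iff n _).1 (show (QuotientAddGroup.mk (f x) : M n Y) = 0 from h)
    let z : T n Z := ⟨g y, by
      show n • g y = 0
      rw [← map_nsmul, hy, (he _).2 ⟨x, rfl⟩]⟩
    obtain ⟨y', hy', hx'⟩ := (exists_δ n f g hf hg he z).choose_spec
    exact ⟨z, δ_eq n f g hf hg he hy' hx' (y' := y) rfl hy.symm⟩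
  · rintro ⟨z, hz⟩
    rw [← hz]
    obtain ⟨y, hy, hx⟩ := (exists_δ n f g hf hg he z).choose_spec
    exact (mk_eq_zero_iff n _).2 ⟨y, hx.symm⟩

theorem ker_d : (mMap n g).ker = (mMap n f).range := by
  ext y
  obtain ⟨y, rfl⟩ := QuotientAddGroup.mk_surjective y
  refine ⟨fun h => ?_, ?_⟩
  · obtain ⟨z, hz⟩ := (mk_eq_zero_iff n _).1 (show (QuotientAddGroup.mk (g y) : M n Z) = 0 from h)
    obtain ⟨w, rfl⟩ := hg z
    obtain ⟨x, hx⟩ := (he (y - n • w)).1 (by rw [map_sub, map_nsmul, hz, sub_self])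
    refine ⟨QuotientAddGroup.mk x, (QuotientAddGroup.eq).2 ⟨w, ?_⟩⟩
    show n • w = -f x + y
    rw [hx]; abel
  · rintro ⟨x, hx⟩
    obtain ⟨x, rfl⟩ := QuotientAddGroup.mk_surjective x
    rw [← hx]
    show (QuotientAddGroup.mk (g (f x)) : M n Z) = 0
    rw [(he _).2 ⟨x, rfl⟩]
    rfl

theorem surjective_d : Function.Surjective (mMap n g) := fun z => by
  obtain ⟨z, rfl⟩ := QuotientAddGroup.mk_surjective z
  obtain ⟨y, rfl⟩ := hg z
  exact ⟨QuotientAddGroup.mk y, rfl⟩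

/-- the cardinalities along the long exact sequence -/
theorem cards : Nat.card (T n Y) = Nat.card (T n X) * Nat.card (tMap n g).range ∧
    Nat.card (T n Z) = Nat.card (tMap n g).range * Nat.card (δ n f g hf hg he).range ∧
    Nat.card (M n X) = Nat.card (δ n f g hf hg he).range * Nat.card (mMap n f).range ∧
    Nat.card (M n Y) = Nat.card (mMap n f).range * Nat.card (M n Z) := by
  refine ⟨?_, ?_, ?_, ?_⟩
  · have hinj : Function.Injective (tMap n f) := fun a b h => Subtype.ext (hf (congrArg Subtype.val h))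
    rw [card_eq_ker_mul_range (tMap n g), ker_b n f g hf hg he, Nat.card_congr (AddMonoidHom.ofInjective hinj).toEquiv]
  · rw [card_eq_ker_mul_range (δ n f g hf hg he), ker_δ n f g hf hg he]
  · rw [card_eq_ker_mul_range (mMap n f), ker_c n f g hf hg he]
  · rw [card_eq_ker_mul_range (mMap n g), ker_d n f g hf hg he,
      AddMonoidHom.range_eq_top.2 (surjective_d n f g hf hg he), AddSubgroup.card_top]

/-- **the six-term sequence** -/
theorem card_identity : Nat.card (T n X) * Nat.card (T n Z) * Nat.card (M n Y) =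
    Nat.card (T n Y) * Nat.card (M n X) * Nat.card (M n Z) := by
  obtain ⟨h1, h2, h3, h4⟩ := cards n f g hf hg he
  rw [h1, h2, h3, h4]; ring

end SES

theorem card_T_int [NeZero n] : Nat.card (T n ℤ) = 1 := by
  refine Nat.card_eq_one_iff_unique.2 ⟨⟨fun a b => Subtype.ext ?_⟩, ⟨0⟩⟩
  have ha : (n : ℤ) * a.1 = 0 := (nsmul_eq_mul n a.1).symm.trans a.2
  have hb : (n : ℤ) * b.1 = 0 := (nsmul_eq_mul n b.1).symm.trans b.2
  simp [NeZero.ne n] at ha hb
  rw [ha, hb]

theorem card_M_int [NeZero n] : Nat.card (M n ℤ) = n := by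
  have e : (nsmulAddMonoidHom (α := ℤ) n).range = AddSubgroup.zmultiples (n : ℤ) := by
    ext x
    rw [Int.mem_zmultiples_iff]
    exact ⟨fun ⟨y, hy⟩ => ⟨y, hy ▸ nsmul_eq_mul n y⟩, fun ⟨y, hy⟩ => ⟨y, (nsmul_eq_mul n y).trans hy.symm⟩⟩
  rw [Nat.card_congr (QuotientAddGroup.quotientAddEquivOfEq e).toEquiv,
    Nat.card_congr (Int.quotientZMultiplesNatEquivZMod n).toEquiv, Nat.card_zmod]

theorem card_M_ne_zero_of_cyclic [NeZero n] {X : Type u} [AddCommGroup X] (f : ℤ →+ X)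
    (hf : Function.Surjective f) : Nat.card (M n X) ≠ 0 := by
  haveI : Finite (M n ℤ) := Nat.finite_of_card_ne_zero (by rw [card_M_int]; exact NeZero.ne n)
  haveI : Finite (M n X) := Finite.of_surjective (mMap n f) fun x => by
    obtain ⟨x, rfl⟩ := QuotientAddGroup.mk_surjective x
    obtain ⟨m, rfl⟩ := hf x
    exact ⟨QuotientAddGroup.mk m, rfl⟩
  exact Nat.card_ne_zero.2 ⟨⟨0⟩, inferInstance⟩

section Step

variable {A : Type u} {A' : Type v} {P P' : Type w} [AddCommGroup A] [AddCommGroup A'] [AddCommGroup P]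
  [AddCommGroup P'] (ι : A →+ A') (ord : A' →+ ℤ) (c : P) (ρ : P →+ P')

/-- **removing a point** -/
theorem step [NeZero n] (hι : Function.Injective ι) (hord : ∀ s, ord s = 0 ↔ ∃ t, ι t = s)
    (hc : ∀ m : ℤ, m • c = 0 ↔ ∃ s, ord s = m) (hker : ∀ p, ρ p = 0 ↔ ∃ m : ℤ, m • c = p)
    (hρ : Function.Surjective ρ) (hA : Nat.card (M n A) ≠ 0) (hP : Nat.card (T n P) ≠ 0)
    (hP' : Nat.card (M n P) ≠ 0) :
    Nat.card (M n A') ≠ 0 ∧ Nat.card (T n P') ≠ 0 ∧ Nat.card (M n P') ≠ 0 ∧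
      Nat.card (M n A') * Nat.card (T n P') * Nat.card (M n P) =
        n * Nat.card (M n A) * Nat.card (T n P) * Nat.card (M n P') := by
  let I := ord.range
  let J : AddSubgroup P := (zmultiplesHom P c).range
  -- the torsion of `I`
  have hTI : Nat.card (T n I) = 1 := by
    refine Nat.card_eq_one_iff_unique.2 ⟨⟨fun a b => ?_⟩, ⟨0⟩⟩
    haveI := (Nat.card_eq_one_iff_unique.1 (card_T_int n)).1
    have h : (⟨a.1.1, congrArg Subtype.val a.2⟩ : T n ℤ) = ⟨b.1.1, congrArg Subtype.val b.2⟩ := Subsingleton.elim _ _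
    exact Subtype.ext (Subtype.ext (congrArg (fun t : T n ℤ => t.1) h))
  obtain ⟨h1a, h1b, h1c, h1d⟩ := cards n ι ord.rangeRestrict hι ord.rangeRestrict_surjective
    (fun y => ⟨fun h => (hord y).1 (congrArg Subtype.val h), fun h => Subtype.ext ((hord y).2 h)⟩)
  obtain ⟨h2a, h2b, h2c, h2d⟩ := cards n I.subtype (zmultiplesHom P c).rangeRestrict I.subtype_injective
    (zmultiplesHom P c).rangeRestrict_surjective (fun m => by
      refine Iff.trans ⟨fun h => congrArg Subtype.val h, fun h => Subtype.ext h⟩ ((hc m).trans ?_)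
      exact ⟨fun ⟨s, hs⟩ => ⟨⟨m, s, hs⟩, rfl⟩, fun ⟨⟨_, s, hs⟩, h⟩ => ⟨s, hs.trans h⟩⟩)
  obtain ⟨h3a, h3b, h3c, h3d⟩ := cards n J.subtype ρ J.subtype_injective hρ (fun p => by
    refine (hker p).trans ?_
    exact ⟨fun ⟨m, hm⟩ => ⟨⟨p, m, hm⟩, rfl⟩, fun ⟨⟨_, m, hm⟩, h⟩ => ⟨m, hm.trans h⟩⟩)
  have hMI : Nat.card (M n I) ≠ 0 := by
    obtain ⟨d, hd⟩ := Int.subgroup_cyclic I
    refine card_M_ne_zero_of_cyclic n ((zmultiplesHom I ⟨d, by rw [hd]; exact AddSubgroup.mem_closure_singleton.2 ⟨1, one_zsmul d⟩⟩)) fun y => ?_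
    obtain ⟨m, hm⟩ := AddSubgroup.mem_closure_singleton.1 (hd ▸ y.2 : (y : ℤ) ∈ AddSubgroup.closure {d})
    exact ⟨m, Subtype.ext hm⟩
  have hMJ : Nat.card (M n J) ≠ 0 :=
    card_M_ne_zero_of_cyclic n (zmultiplesHom P c).rangeRestrict (zmultiplesHom P c).rangeRestrict_surjective
  set p := Nat.card (T n A)
  -- the first sequence
  have hr1 : Nat.card (tMap n ord.rangeRestrict).range = 1 ∧ Nat.card (δ n ι ord.rangeRestrict hι
      ord.rangeRestrict_surjective (fun y => ⟨fun h => (hord y).1 (congrArg Subtype.val h),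
        fun h => Subtype.ext ((hord y).2 h)⟩)).range = 1 := by
    rw [hTI] at h1b
    exact ⟨(mul_eq_one.1 h1b.symm).1, (mul_eq_one.1 h1b.symm).2⟩
  rw [hr1.2, one_mul] at h1c
  rw [← h1c] at h1d
  have hA' : Nat.card (M n A') = Nat.card (M n A) * Nat.card (M n I) := h1d
  -- the second sequence
  have hJ : Nat.card (T n J) * n = Nat.card (M n I) * Nat.card (M n J) := by
    have h := card_identity n I.subtype (zmultiplesHom P c).rangeRestrict I.subtype_injective
      (zmultiplesHom P c).rangeRestrict_surjective (fun m => by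
        refine Iff.trans ⟨fun h => congrArg Subtype.val h, fun h => Subtype.ext h⟩ ((hc m).trans ?_)
        exact ⟨fun ⟨s, hs⟩ => ⟨⟨m, s, hs⟩, rfl⟩, fun ⟨⟨_, s, hs⟩, h⟩ => ⟨s, hs.trans h⟩⟩)
    rw [hTI, card_M_int, card_T_int, one_mul, one_mul] at h
    exact h
  have hTJ : Nat.card (T n J) ≠ 0 := fun h0 => by
    rw [h0, zero_mul] at hJ
    exact (mul_ne_zero hMI hMJ) hJ.symm
  -- the third sequence
  have h3 := card_identity n J.subtype ρ J.subtype_injective hρ (fun p => by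
    refine (hker p).trans ?_
    exact ⟨fun ⟨m, hm⟩ => ⟨⟨p, m, hm⟩, rfl⟩, fun ⟨⟨_, m, hm⟩, h⟩ => ⟨m, hm.trans h⟩⟩)
  have hMP' : Nat.card (M n P') ≠ 0 := fun h0 => hP' (by rw [h3d, h0, mul_zero])
  have hTP' : Nat.card (T n P') ≠ 0 := by
    intro h0
    rw [h0, mul_zero, zero_mul] at h3
    exact mul_ne_zero (mul_ne_zero hP hMJ) hMP' h3.symm
  refine ⟨by rw [hA']; exact mul_ne_zero hA hMI, hTP', hMP', ?_⟩
  apply Nat.eq_of_mul_eq_mul_left (Nat.pos_of_ne_zero hTJ)
  calc Nat.card (T n J) * (Nat.card (M n A') * Nat.card (T n P') * Nat.card (M n P))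
      = Nat.card (M n A) * Nat.card (M n I) * (Nat.card (T n J) * Nat.card (T n P') * Nat.card (M n P)) := by
        rw [hA']; ring
    _ = Nat.card (M n A) * (Nat.card (M n I) * Nat.card (M n J)) * Nat.card (T n P) * Nat.card (M n P') := by
        rw [h3]; ring
    _ = Nat.card (T n J) * (n * Nat.card (M n A) * Nat.card (T n P) * Nat.card (M n P')) := by rw [← hJ]; ring

end Step

end Groth.Agent.EtPBC.Chi
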