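import Groth.Agent.EtPBC.KummerConst
import Groth.Agent.EtPBC.GmPull
import Groth.Agent.EtMV.ConstUnit
import Groth.Agent.EtPBC.CdDev
import Groth.Agent.S0108
import Mathlib

/-!
# Surjectivity in degree two from surjectivity on Picard groups
-/

set_option autoImplicit false
set_option backward.isDefEq.respectTransparency false
set_option backward.isDefEq.respectTransparency.types false
set_option linter.auxLemma false
set_option linter.style.haveILetI false

universe u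

open CategoryTheory CategoryTheory.Limits CategoryTheory.Abelian AlgebraicGeometry Opposite
open Groth.Agent.EtFLC (res res_res res_id)
open Groth.Agent.EtPicLib (uval uval_res uval_injective)

noncomputable section

namespace Groth.Agent.EtPBC

attribute [local instance 100000] EtCoh.H._proof_1 EtMV.hext
attribute [local instance 200000] EtMV.hextAb

variable {X Z : Scheme.{u}}

/-- maps out of a constant sheaf are determined on constant sections -/
theorem const_hom_ext {M : Type} [AddCommGroup M] {G : EtCoh.Ab X} (a b : EtCoh.const X M ⟶ G)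
    (h : ∀ m : M, a.hom.app (op (EtCoh.top X)) (EtMV.cst (EtCoh.top X) m) =
      b.hom.app (op (EtCoh.top X)) (EtMV.cst (EtCoh.top X) m)) : a = b := by
  refine ObjectProperty.hom_ext _ ?_
  apply sheafify_hom_ext _ _ _ G.property
  ext U m
  show a.hom.app U (EtMV.cst U.unop (m : ULift.{u + 1} M).down) = b.hom.app U (EtMV.cst U.unop m.down)
  rw [← EtMV.res_cst (EtMV.toTop U.unop) m.down]
  exact (EtFLC.app_res a _ _).trans ((congrArg _ (h m.down)).trans (EtFLC.app_res b _ _).symm)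

/-- the class of `1` in the free sheaf on the whole space -/
def topHom (X : Scheme.{u}) : EtCoh.top X ⟶ EtMV.oo (⊤ : X.Opens) :=
  (EtMV.exists_lift (T := EtCoh.top X) (U := (⊤ : X.Opens)) (Set.subset_univ _)).some

/-- `ℤ ≅ P(⊤)` -/
def topIso' (X : Scheme.{u}) : EtCoh.const X ℤ ≅ (EtMV.P X).obj (EtMV.oo (⊤ : X.Opens)) :=
  EtMV.θ X ≪≫ (EtMV.P X).mapIso ⟨topHom X, EtMV.toTop _, EtMV.hom_top_ext _ _, EtMV.hom_oo_ext _ _⟩

theorem κ_topIso' : EtMV.κ (topIso' X).hom = res _ (topHom X) (EtMV.uel (EtMV.oo (⊤ : X.Opens))) := by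
  show EtMV.κ ((EtMV.θ X).hom ≫ (EtMV.P X).map (topHom X)) = _
  rw [EtMV.κ_comp, show EtMV.κ (EtMV.θ X).hom = EtMV.uel _ from
    (Equiv.ofBijective _ (EtMV.κ_bijective _)).apply_symm_apply _, ← EtMV.σ_eq]
  conv_lhs => rw [← Category.comp_id ((EtMV.P X).map (topHom X)), EtMV.σ_map]
  rfl

theorem pullConst_topIso' (i : Z ⟶ X) :
    (EtCore.pullConst i ℤ).inv ≫ (EtCoh.pull i).map (topIso' X).hom =
      (topIso' Z).hom ≫ pc' i (pbo i (⊤ : X.Opens)) := by
  apply (EtMV.κ_bijective _).1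
  rw [EtMV.κ_comp, EtMV.κ_comp, EtMV.κ_pullConst i (EtMV.δtop i), EtMV.r_natural, κ_topIso',
    show (topIso' X).hom.hom.app (op (EtCoh.top X)) (EtMV.one X) = EtMV.κ (topIso' X).hom from rfl, κ_topIso']
  refine (EtMV.r_res i (topHom Z ≫ pbo i (⊤ : X.Opens)) (EtMV.δtop i) (topHom X) (EtMV.thin_oo _) _ _).trans ?_
  refine Eq.trans ?_ (EtFLC.app_res (pc' i (pbo i (⊤ : X.Opens))) (topHom Z) _).symm
  refine Eq.trans (res_res _ (topHom Z) (pbo i (⊤ : X.Opens)) _).symm (congrArg _ ?_)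
  exact ((EtMV.σ_eq (pc' i (pbo i (⊤ : X.Opens)))).symm.trans (Equiv.apply_symm_apply EtMV.σ _)).symm

variable (i : Z ⟶ X) [PreservesFiniteLimits (EtCoh.pull i)]

/-- pullback of classes and the comparison of free sheaves -/
theorem Hpull_topIso' (d : Ext ((EtMV.P X).obj (EtMV.oo (⊤ : X.Opens))) (EtCoh.Gm X) 1) :
    Ext.comp (EtCore.Hpull i (EtCoh.Gm X) 1 ((Ext.mk₀ (topIso' X).hom).comp d (zero_add 1)))
        (Ext.mk₀ (gmCmp i)) (add_zero 1) =
      (Ext.mk₀ (topIso' Z).hom).comp (gmH i d) (zero_add 1) := by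
  show Ext.comp (EtMV.T (EtCoh.pull i) (EtCore.pullConst i ℤ).inv (EtCoh.Gm X) 1
      ((Ext.mk₀ (topIso' X).hom).comp d (zero_add 1))) _ _ = (Ext.mk₀ (topIso' Z).hom).comp
    (Ext.comp (EtMV.T (EtCoh.pull i) (pc' i (pbo i (⊤ : X.Opens))) (EtCoh.Gm X) 1 d) (Ext.mk₀ (gmCmp i)) (add_zero 1))
    (zero_add 1)
  rw [EtMV.T_precomp, pullConst_topIso', ← EtMV.precomp_T, Ext.comp_assoc_of_third_deg_zero]
  rfl

/-- **surjectivity in degree two** -/
theorem surjective_Hpull_two (n : ℕ) (hn : 1 ≤ n) (hu : IsUnit (n : Γ(X, ⊤))) (ζ : Γ(X, ⊤))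
    (hζ : Polynomial.aeval ζ (Polynomial.cyclotomic n ℤ) = 0)
    (hpic : Function.Surjective (gmH i))
    (htor : ∀ c : EtCoh.H Z (EtCoh.Gm Z) 2, n • c = 0 → c = 0) :
    Function.Surjective (EtCore.Hpull i (EtCoh.const X (ZMod n)) 2) := by
  have huZ : IsUnit (n : Γ(Z, ⊤)) := by
    have := hu.map i.appTop.hom
    rwa [map_natCast] at this
  have hζZ : Polynomial.aeval (i.appTop ζ) (Polynomial.cyclotomic n ℤ) = 0 := by
    rw [show i.appTop ζ = i.appTop.hom.toIntAlgHom ζ from rfl, Polynomial.aeval_algHom_apply, hζ, map_zero]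
  obtain ⟨eX, heX⟩ := exists_kummer_const n hn hu ζ hζ
  obtain ⟨eZ, heZ⟩ := exists_kummer_const n hn huZ (i.appTop ζ) hζZ
  haveI : Epi (EtCoh.powMap X n) := Groth.Agent.S0108.result X n hu
  haveI : Epi (EtCoh.powMap Z n) := Groth.Agent.S0108.result Z n huZ
  let SX : ShortComplex (EtCoh.Ab X) := ShortComplex.mk (eX.hom ≫ EtCoh.muι X n) (EtCoh.powMap X n)
    (by rw [Category.assoc, EtCoh.muι, kernel.condition, comp_zero])
  let SZ : ShortComplex (EtCoh.Ab Z) := ShortComplex.mk (eZ.hom ≫ EtCoh.muι Z n) (EtCoh.powMap Z n)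
    (by rw [Category.assoc, EtCoh.muι, kernel.condition, comp_zero])
  have hSX : SX.ShortExact := by
    haveI : Mono (EtCoh.muι X n) := inferInstanceAs (Mono (kernel.ι (EtCoh.powMap X n)))
    haveI : Mono SX.f := inferInstanceAs (Mono (eX.hom ≫ EtCoh.muι X n))
    haveI : Epi SX.g := inferInstanceAs (Epi (EtCoh.powMap X n))
    exact { exact := (ShortComplex.exact_iff_of_iso (ShortComplex.isoMk (S₁ := SX)
      (S₂ := ShortComplex.mk _ _ (kernel.condition (EtCoh.powMap X n))) eX (Iso.refl _) (Iso.refl _)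
      (Category.comp_id _).symm (by simp [SX]))).2 (ShortComplex.exact_of_f_is_kernel _ (kernelIsKernel _)) }
  have hSZ : SZ.ShortExact := by
    haveI : Mono (EtCoh.muι Z n) := inferInstanceAs (Mono (kernel.ι (EtCoh.powMap Z n)))
    haveI : Mono SZ.f := inferInstanceAs (Mono (eZ.hom ≫ EtCoh.muι Z n))
    haveI : Epi SZ.g := inferInstanceAs (Epi (EtCoh.powMap Z n))
    exact { exact := (ShortComplex.exact_iff_of_iso (ShortComplex.isoMk (S₁ := SZ)
      (S₂ := ShortComplex.mk _ _ (kernel.condition (EtCoh.powMap Z n))) eZ (Iso.refl _) (Iso.refl _)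
      (Category.comp_id _).symm (by simp [SZ]))).2 (ShortComplex.exact_of_f_is_kernel _ (kernelIsKernel _)) }
  haveI : (EtCoh.pull i).Additive := (EtCoh.pullPushAdj i).left_adjoint_additive
  have hsq : (EtCoh.pull i).map (eX.hom ≫ EtCoh.muι X n) ≫ gmCmp i =
      (EtCore.pullConst i (ZMod n)).hom ≫ eZ.hom ≫ EtCoh.muι Z n := by
    apply ((EtCoh.pullPushAdj i).homEquiv (EtCoh.const X (ZMod n)) (EtCoh.Gm Z)).injective
    rw [Adjunction.homEquiv_unit, Adjunction.homEquiv_unit, Functor.map_comp (EtCoh.push i),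
      Functor.map_comp (EtCoh.push i), Adjunction.unit_naturality_assoc, unit_gmCmp, ← Category.assoc]
    refine const_hom_ext _ _ fun m => ?_
    obtain ⟨m, rfl⟩ := ZMod.intCast_surjective m
    show (gmPush i).hom.app _ (((EtCoh.muι X n).hom.app (op (EtCoh.top X))).hom
        (eX.hom.hom.app (op (EtCoh.top X)) (EtMV.cst (EtCoh.top X) (m : ZMod n)))) =
      (eZ.hom ≫ EtCoh.muι Z n).hom.app (op ((EtCoh.bc i).obj (EtCoh.top X)))
        ((EtMV.cUnit i (ZMod n)).hom.app (op (EtCoh.top X)) (EtMV.cst (EtCoh.top X) (m : ZMod n)))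
    rw [EtMV.cUnit_cst, ← EtMV.res_cst (EtMV.toTop ((EtCoh.bc i).obj (EtCoh.top X))) (m : ZMod n)]
    refine uval_injective (Eq.trans ?_ (congrArg uval (EtFLC.app_res (eZ.hom ≫ EtCoh.muι Z n) _ _)).symm)
    rw [uval_res]
    show (pullback.fst (EtCoh.top X).hom i).appTop (uval _) =
      (EtMV.toTop ((EtCoh.bc i).obj (EtCoh.top X))).left.appTop (uval (((EtCoh.muι Z n).hom.app _).hom _))
    refine ((congrArg _ (heX m)).trans ?_).trans (congrArg _ (heZ m)).symm
    have hu' : Units.map i.appTop.hom.toMonoidHom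
        (Units.ofPowEqOne ζ n (zeta_pow n hn ζ hζ) (by omega)) =
        Units.ofPowEqOne (i.appTop ζ) n (zeta_pow n hn (i.appTop ζ) hζZ) (by omega) := Units.ext rfl
    rw [← hu', ← map_zpow, Units.coe_map]
    show (pullback.fst (EtCoh.top X).hom i).appTop _ =
      (pullback.snd (EtCoh.top X).hom i).appTop (i.appTop _)
    rw [← ConcreteCategory.comp_apply, ← Scheme.Hom.comp_appTop, ← pullback.condition, Scheme.Hom.comp_appTop,
      show (EtCoh.top X).hom.appTop = 𝟙 _ from rfl]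
    rfl
  let ψ : SX.map (EtCoh.pull i) ⟶ SZ :=
    { τ₁ := (EtCore.pullConst i (ZMod n)).hom
      τ₂ := gmCmp i
      τ₃ := gmCmp i
      comm₁₂ := hsq.symm
      comm₂₃ := by
        show gmCmp i ≫ (n • 𝟙 (EtCoh.Gm Z)) = (EtCoh.pull i).map (n • 𝟙 (EtCoh.Gm X)) ≫ gmCmp i
        rw [Preadditive.comp_nsmul, Category.comp_id, Functor.map_nsmul, CategoryTheory.Functor.map_id,
          Preadditive.nsmul_comp, Category.id_comp] }
  intro z
  let w : EtCoh.H Z (EtCoh.const Z (ZMod n)) 2 :=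
    Ext.comp z (Ext.mk₀ (EtCore.pullConst i (ZMod n)).hom) (add_zero 2)
  have hw : Ext.comp w (Ext.mk₀ SZ.f) (add_zero 2) = 0 := by
    refine htor _ ?_
    have h1 : Ext.comp (Ext.comp w (Ext.mk₀ SZ.f) (add_zero 2)) (Ext.mk₀ SZ.g) (add_zero 2) = 0 := by
      rw [Ext.comp_assoc_of_third_deg_zero, Ext.mk₀_comp_mk₀, SZ.zero, Ext.mk₀_zero, Ext.comp_zero]
    rw [← KummerLib.comp_mk₀_nsmul]
    exact h1
  obtain ⟨c, hc⟩ := Ext.covariant_sequence_exact₁ (EtCoh.const Z ℤ) hSZ w hw (n₀ := 1) rfl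
  obtain ⟨d, hd⟩ := hpic ((Ext.mk₀ (topIso' Z).inv).comp c (zero_add 1))
  let dX : EtCoh.H X (EtCoh.Gm X) 1 := (Ext.mk₀ (topIso' X).hom).comp d (zero_add 1)
  refine ⟨Ext.comp dX hSX.extClass (rfl : 1 + 1 = 2), ?_⟩
  have h2 : EtCore.Hpull i (EtCoh.const X (ZMod n)) 2 (Ext.comp dX hSX.extClass (rfl : 1 + 1 = 2)) =
      Ext.comp (EtCore.Hpull i (EtCoh.Gm X) 1 dX) (hSX.map_of_exact (EtCoh.pull i)).extClass (rfl : 1 + 1 = 2) := by
    show EtMV.T (EtCoh.pull i) (EtCore.pullConst i ℤ).inv _ 2 _ = _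
    rw [EtMV.T_comp, Ext.mapExactFunctor_extClass]
    rfl
  have h3 : Ext.comp (Ext.comp (EtCore.Hpull i (EtCoh.Gm X) 1 dX) (hSX.map_of_exact (EtCoh.pull i)).extClass
      (rfl : 1 + 1 = 2)) (Ext.mk₀ (EtCore.pullConst i (ZMod n)).hom) (add_zero 2) = w := by
    rw [Ext.comp_assoc_of_third_deg_zero]
    rw [show (hSX.map_of_exact (EtCoh.pull i)).extClass.comp (Ext.mk₀ (EtCore.pullConst i (ZMod n)).hom) (add_zero 1) =
      (Ext.mk₀ (gmCmp i)).comp hSZ.extClass (zero_add 1) from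
        ShortComplex.ShortExact.extClass_naturality (hSX.map_of_exact (EtCoh.pull i)) hSZ ψ,
      ← Ext.comp_assoc (EtCore.Hpull i (EtCoh.Gm X) 1 dX) (Ext.mk₀ (gmCmp i)) hSZ.extClass (add_zero 1)
        (zero_add 1) rfl, Hpull_topIso', hd, Ext.mk₀_comp_mk₀_assoc, Iso.hom_inv_id, Ext.mk₀_id_comp, hc]
  rw [h2]
  have hcan : ∀ a b : EtCoh.H Z ((EtCoh.pull i).obj (EtCoh.const X (ZMod n))) 2,
      Ext.comp a (Ext.mk₀ (EtCore.pullConst i (ZMod n)).hom) (add_zero 2) =
        Ext.comp b (Ext.mk₀ (EtCore.pullConst i (ZMod n)).hom) (add_zero 2) → a = b := fun a b h => by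
    have := congrArg (fun t => Ext.comp t (Ext.mk₀ (EtCore.pullConst i (ZMod n)).inv) (add_zero 2)) h
    simpa [Ext.comp_assoc_of_third_deg_zero, Ext.mk₀_comp_mk₀] using this
  exact hcan _ _ h3

end Groth.Agent.EtPBC
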