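import Groth.Agent.EtPBC.IsoAt
import Groth.Agent.EtPBC.CdPush
import Groth.Agent.EtPBC.ChiAlg
import Groth.Agent.EtPBC.H2Surj
import Groth.Agent.EtCons.FlcNear
import Groth.Agent.EtCons.Basic
import Groth.Agent.EtFLC.PushFlc
import Mathlib

/-!
# Tools for finiteness of étale cohomology
-/

set_option autoImplicit false
set_option backward.isDefEq.respectTransparency false
set_option backward.isDefEq.respectTransparency.types false
set_option linter.auxLemma false
set_option linter.style.haveILetI false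
set_option linter.unusedSectionVars false
set_option maxHeartbeats 800000

universe u

open CategoryTheory CategoryTheory.Limits CategoryTheory.Abelian AlgebraicGeometry Opposite TopologicalSpace

noncomputable section

namespace Groth.Agent.EtPBC

attribute [local instance 100000] EtCoh.H._proof_1 EtMV.hext
attribute [local instance 200000] EtMV.hextAb

theorem finite_of_ker_of_target {A B : Type*} [AddCommGroup A] [AddCommGroup B] (φ : A →+ B) [Finite φ.ker]
    [Finite B] : Finite A :=
  Nat.finite_of_card_ne_zero (by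
    rw [Chi.card_eq_ker_mul_range φ]
    exact Nat.mul_ne_zero Nat.card_pos.ne' Nat.card_pos.ne')

theorem finite_of_exact {A B C : Type*} [AddCommGroup A] [AddCommGroup B] [AddCommGroup C] (φ : A →+ B) (χ : B →+ C)
    [Finite A] [Finite C] (h : ∀ b, χ b = 0 → ∃ a, φ a = b) : Finite B := by
  haveI : Finite χ.ker := Finite.of_surjective
    (fun a : {a : A // χ (φ a) = 0} => (⟨φ a.1, a.2⟩ : χ.ker)) fun b => by
      obtain ⟨a, ha⟩ := h b.1 b.2
      exact ⟨⟨a, by rw [ha]; exact b.2⟩, Subtype.ext ha⟩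
  exact finite_of_ker_of_target χ

variable {X : Scheme.{u}} {S : ShortComplex (EtCoh.Ab X)} (hS : S.ShortExact)

include hS in
theorem finite_H_X₂ (q : ℕ) [Finite (EtCoh.H X S.X₁ q)] [Finite (EtCoh.H X S.X₃ q)] : Finite (EtCoh.H X S.X₂ q) :=
  finite_of_exact ((Ext.mk₀ S.f).postcomp _ (add_zero q) : EtCoh.H X S.X₁ q →+ EtCoh.H X S.X₂ q)
    ((Ext.mk₀ S.g).postcomp _ (add_zero q) : EtCoh.H X S.X₂ q →+ EtCoh.H X S.X₃ q)
    fun x hx => Ext.covariant_sequence_exact₂ _ hS x hx

include hS in
theorem finite_H_X₃ (q : ℕ) [Finite (EtCoh.H X S.X₂ q)] [Finite (EtCoh.H X S.X₁ (q + 1))] :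
    Finite (EtCoh.H X S.X₃ q) :=
  finite_of_exact ((Ext.mk₀ S.g).postcomp _ (add_zero q) : EtCoh.H X S.X₂ q →+ EtCoh.H X S.X₃ q)
    (hS.extClass.postcomp _ (rfl : q + 1 = q + 1) : EtCoh.H X S.X₃ q →+ EtCoh.H X S.X₁ (q + 1))
    fun x hx => Ext.covariant_sequence_exact₃ _ hS x rfl hx

include hS in
theorem finite_H_X₁_succ (q : ℕ) [Finite (EtCoh.H X S.X₃ q)] [Finite (EtCoh.H X S.X₂ (q + 1))] :
    Finite (EtCoh.H X S.X₁ (q + 1)) :=
  finite_of_exact (hS.extClass.postcomp _ (rfl : q + 1 = q + 1) : EtCoh.H X S.X₃ q →+ EtCoh.H X S.X₁ (q + 1))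
    ((Ext.mk₀ S.f).postcomp _ (add_zero (q + 1)) : EtCoh.H X S.X₁ (q + 1) →+ EtCoh.H X S.X₂ (q + 1))
    fun x hx => Ext.covariant_sequence_exact₁ _ hS x hx rfl

theorem finite_H_zero_of_mono {F G : EtCoh.Ab X} (f : F ⟶ G) [Mono f] [Finite (EtCoh.H X G 0)] :
    Finite (EtCoh.H X F 0) :=
  Finite.of_injective (fun x : EtCoh.H X F 0 => (Ext.comp x (Ext.mk₀ f) (add_zero 0) : EtCoh.H X G 0)) fun x y h => by
    obtain ⟨u, rfl⟩ := (Ext.mk₀_bijective _ _).2 x
    obtain ⟨v, rfl⟩ := (Ext.mk₀_bijective _ _).2 y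
    simp only [Ext.mk₀_comp_mk₀] at h
    exact congrArg Ext.mk₀ ((cancel_mono f).1 ((Ext.mk₀_bijective _ _).1 h))

theorem finite_H_of_iso {F G : EtCoh.Ab X} (e : F ≅ G) (q : ℕ) [Finite (EtCoh.H X G q)] :
    Finite (EtCoh.H X F q) :=
  Finite.of_equiv (EtCoh.H X G q) (((EtCoh.HF X q).mapIso e).addCommGroupIsoToAddEquiv).symm.toEquiv

/-- finite direct images -/
theorem finite_H_push {Y : Scheme.{u}} (f : X ⟶ Y) [IsFinite f] (F : EtCoh.Ab X) (q : ℕ)
    [Finite (EtCoh.H X F q)] : Finite (EtCoh.H Y ((EtCoh.push f).obj F) q) := by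
  haveI := EtPullExact.pull_preservesFiniteLimits f
  exact Finite.of_injective _
    (EtMV.HofPush_bijective f F (fun m => EtIntegral.Rpush_succ_isZero f F m) q).injective

/-- global sections as classes of degree zero -/
def sectTopEquiv (F : EtCoh.Ab X) : EtCoh.H X F 0 ≃ EtCoh.sect F (EtMV.oo (⊤ : X.Opens)) :=
  (Equiv.ofBijective _ (Ext.mk₀_bijective _ _)).symm.trans
    (((topIso' X).homFromEquiv (Z := F)).trans EtMV.σ)

/-- **finitely many points with finite stalks have finitely many sections** -/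
theorem finite_H_zero_of_supp (F : EtCoh.Ab X) (S : Finset X) (hS : ∀ x ∉ S, ZeroAt F x)
    (hfin : ∀ (Ω : Type u) [Field Ω] [IsSepClosed Ω] (ξ : Spec (CommRingCat.of Ω) ⟶ X),
      Finite ((EtCoh.stalk ξ).obj F)) : Finite (EtCoh.H X F 0) := by
  choose Ω i₁ i₂ ξ hξ using fun x : S => exists_geomPt (x : X)
  let V := EtMV.oo (⊤ : X.Opens)
  have hex : ∀ x : S, ∃ y : @Quiver.Hom (Over X) _ (Over.mk (ξ x)) ((Scheme.Etale.forget X).obj V),
      True := fun x => by
    obtain ⟨y, -⟩ := exists_lift_at (hξ x) (V := V) (⟨(x : X), trivial⟩ : (⊤ : X.Opens)) rfl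
    exact ⟨y, trivial⟩
  choose y hy using hex
  let germ : EtCoh.sect F V → ∀ x : S, (EtCoh.stalk (ξ x)).obj F := fun s x =>
    (Scheme.pointSmallEtale (ξ x)).toPresheafFiber V (y x) F.obj s
  haveI : Finite (EtCoh.sect F V) := Finite.of_injective germ fun s t h => by
    rw [← sub_eq_zero]
    refine EtFLC.sect_ext F fun w => ?_
    have hn : w ∉ EtShriek.sectSupp F V (s - t) := by
      by_cases hw : V.hom w ∈ S
      · have h1 : (Scheme.pointSmallEtale (ξ ⟨_, hw⟩)).toPresheafFiber V (y ⟨_, hw⟩) F.obj (s - t) = 0 := by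
          refine (map_sub _ s t).trans (sub_eq_zero.2 ?_)
          exact congrFun h ⟨_, hw⟩
        have h2 := (EtPushStalk.germ_eq_zero_iff F _ V _ _).1 h1
        have hwy : w = (y ⟨V.hom w, hw⟩).left (default : ↥(Spec (CommRingCat.of (Ω ⟨_, hw⟩)))) := by
          apply (⊤ : X.Opens).ι.injective
          refine Eq.trans ?_ (congrArg (fun φ : Spec (CommRingCat.of (Ω ⟨_, hw⟩)) ⟶ X =>
            φ (default : ↥(Spec (CommRingCat.of (Ω ⟨_, hw⟩))))) (Over.w (y ⟨_, hw⟩))).symm
          exact (hξ ⟨_, hw⟩).symm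
        rw [hwy]
        exact h2
      · exact hS _ hw V (s - t) w rfl
    obtain ⟨W', g, ⟨w', hw'⟩, hz⟩ := (EtSect.mem_iff F _ _).1 hn
    exact ⟨W', g, w', hw', hz.trans (map_zero _).symm⟩
  exact Finite.of_equiv _ (sectTopEquiv F).symm

/-- finitely many closed points and constructible -/
theorem finite_H_zero_of_constructible_supp (F : EtCoh.Ab X) (hF : EtPBC.IsConstructible F) (S : Finset X)
    (hS : ∀ x ∉ S, ZeroAt F x) : Finite (EtCoh.H X F 0) :=
  finite_H_zero_of_supp F S hS fun _ _ _ ξ => EtCons.finite_stalk_of_isConstructible F hF ξ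

variable [IsNoetherian X] (hsep : ∀ x : X, IsClosed ({x} : Set X) → IsSepClosed (X.residueField x))
  {F G : EtCoh.Ab X} (f : F ⟶ G) (hF : EtPBC.IsConstructible F) (hG : EtPBC.IsConstructible G)
  (S : Finset X) (hcl : ∀ x ∈ S, IsClosed ({x} : Set X)) (hf : ∀ x ∉ S, IsoAt f x)

include hsep hF hG hcl hf in
/-- **finiteness does not see finitely many closed points** -/
theorem finite_H_iff_of_isoAt (q : ℕ) : Finite (EtCoh.H X F q) ↔ Finite (EtCoh.H X G q) := by
  let p : F ⟶ cokernel (kernel.ι f) := cokernel.π (kernel.ι f)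
  let v : cokernel (kernel.ι f) ⟶ G := cokernel.desc _ f (kernel.condition f)
  haveI : Mono v := (ShortComplex.exact_iff_mono_cokernel_desc
    (ShortComplex.mk (kernel.ι f) f (kernel.condition f))).1
    (ShortComplex.exact_of_f_is_kernel _ (kernelIsKernel f))
  have hA : (ShortComplex.mk (kernel.ι f) p (cokernel.condition _)).ShortExact :=
    { exact := ShortComplex.exact_of_g_is_cokernel _ (cokernelIsCokernel _) }
  have hB : (ShortComplex.mk v (cokernel.π v) (cokernel.condition v)).ShortExact :=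
    { exact := ShortComplex.exact_of_g_is_cokernel _ (cokernelIsCokernel _) }
  have hK : EtPBC.IsConstructible (kernel f) := (EtCons.isConstructible_kernel_cokernel f hF hG).1
  have hI : EtPBC.IsConstructible (cokernel (kernel.ι f)) :=
    (EtCons.isConstructible_kernel_cokernel (kernel.ι f) hK hF).2
  have hC : EtPBC.IsConstructible (cokernel v) := (EtCons.isConstructible_kernel_cokernel v hI hG).2
  have hKz : ∀ x ∉ S, ZeroAt (kernel f) x := fun x hx => (hf x hx).1
  have hCz : ∀ x ∉ S, ZeroAt (cokernel v) x := fun x hx => by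
    have hw : f ≫ cokernel.π v = 0 := by
      exact (congrArg (· ≫ cokernel.π v) (cokernel.π_desc (kernel.ι f) f (kernel.condition f)).symm).trans
        ((Category.assoc _ _ _).trans ((congrArg (p ≫ ·) (cokernel.condition v)).trans comp_zero))
    haveI : Epi (cokernel.desc f (cokernel.π v) hw) := epi_of_epi_fac (cokernel.π_desc f (cokernel.π v) hw)
    exact zeroAt_of_epi (cokernel.desc f (cokernel.π v) hw) (hf x hx).2
  have fin : ∀ (H : EtCoh.Ab X), EtPBC.IsConstructible H → (∀ x ∉ S, ZeroAt H x) → ∀ r, Finite (EtCoh.H X H r) :=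
    fun H hH hz r => by
      rcases Nat.eq_zero_or_pos r with rfl | hr
      · exact finite_H_zero_of_constructible_supp H hH S hz
      · haveI := subsingleton_H_of_suppClosed hsep H (fun x hx => hz x fun h => hx (hcl x h)) r hr
        infer_instance
  constructor
  · intro h
    haveI := fin _ hC hCz q
    haveI := fin _ hK hKz (q + 1)
    haveI : Finite (EtCoh.H X (ShortComplex.mk (kernel.ι f) p (cokernel.condition _)).X₂ q) := h
    haveI : Finite (EtCoh.H X (ShortComplex.mk v (cokernel.π v) (cokernel.condition v)).X₁ q) := finite_H_X₃ hA q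
    exact finite_H_X₂ hB q
  · intro h
    haveI := fin _ hK hKz q
    haveI : Finite (EtCoh.H X (ShortComplex.mk v (cokernel.π v) (cokernel.condition v)).X₂ q) := h
    haveI : Finite (EtCoh.H X (ShortComplex.mk (kernel.ι f) p (cokernel.condition _)).X₃ q) := by
      rcases q with _ | q
      · exact finite_H_zero_of_mono v
      · haveI := fin _ hC hCz q
        exact finite_H_X₁_succ hB q
    exact finite_H_X₂ hA q

end Groth.Agent.EtPBC
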