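import Groth.Agent.EtMV.ConstUnit
import Groth.Agent.EtMV.NormalIrr
import Groth.Agent.EtMV.HofPush
import Groth.Agent.EtMV.StrictZero
import Groth.Agent.EtPBC.LocSheaf
import Groth.Agent.EtPBC.CurveFinBase
import Groth.Agent.EtIntegral.Push
import Mathlib

/-!
# Normal schemes with separably closed function field
-/

set_option autoImplicit false
set_option backward.isDefEq.respectTransparency false
set_option backward.isDefEq.respectTransparency.types false
set_option linter.auxLemma false
set_option linter.style.haveILetI false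
set_option linter.unusedSectionVars false

universe u

open CategoryTheory CategoryTheory.Limits CategoryTheory.Abelian AlgebraicGeometry Opposite

noncomputable section

namespace Groth.Agent.EtPBC

attribute [local instance 100000] EtCoh.H._proof_1 EtMV.hext
attribute [local instance 200000] EtMV.hextAb

variable {L : Type u} [Field L] [IsSepClosed L] {Y : Scheme.{u}} (g : Spec (CommRingCat.of L) ⟶ Y)

/-- direct images from separably closed points are exact -/
theorem push_preservesEpi_sepClosed : (EtCoh.push g).PreservesEpimorphisms := by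
  refine ⟨fun {E G} a _ => ?_⟩
  have hsurj : ∀ (P : (Spec (CommRingCat.of L)).Etale) (t : EtCoh.sect G P),
      ∃ y, a.hom.app (op P) y = t := by
    intro P t
    have hex : ∀ v : P.left, ∃ y : Over.mk (𝟙 (Spec (CommRingCat.of L))) ⟶
        (Scheme.Etale.forget _).obj P, y.left (default : ↥(Spec (CommRingCat.of L))) = v := fun v =>
      exists_lift_at (ξ := 𝟙 (Spec (CommRingCat.of L))) (x := P.hom v) (Subsingleton.elim (α := ↥(Spec (CommRingCat.of L))) _ _) v rfl
    choose y hy using hex
    let Z : P.left → (Spec (CommRingCat.of L)).Etale := fun _ => EtCoh.top _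
    let π : ∀ v, Z v ⟶ P := fun v => MorphismProperty.Over.homMk (y v).left (Over.w (y v))
    have : ∀ v, Mono (π v).left := fun v => by
      have h : (π v).left ≫ P.hom = 𝟙 (Spec (CommRingCat.of L)) := Over.w (y v)
      exact SplitMono.mono ⟨P.hom, h⟩
    have hπ : ∀ v (c : ↥(Spec (CommRingCat.of L))), (π v).left c = v := fun v c => by
      rw [Subsingleton.elim (α := ↥(Spec (CommRingCat.of L))) c default]
      exact hy v
    have h1 : ∀ s : ↥(Spec (CommRingCat.of L)), IsClosed ({s} : Set ↥(Spec (CommRingCat.of L))) := fun s => by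
      rw [show ({s} : Set ↥(Spec (CommRingCat.of L))) = Set.univ from
        Set.eq_univ_of_forall fun t => Subsingleton.elim (α := ↥(Spec (CommRingCat.of L))) t s]
      exact isClosed_univ
    have h2 : ∀ s : ↥(Spec (CommRingCat.of L)), EtCoh.IsStrictlyHenselianLocalRing
        ((Spec (CommRingCat.of L)).presheaf.stalk s) := EtMV.strictlyHenselian_of_isClosed h1 fun s => by
      haveI : s.asIdeal.IsMaximal := by
        rw [(Ideal.eq_bot_or_top s.asIdeal).resolve_right s.isPrime.ne_top]
        exact Ring.isField_iff_maximal_bot.1 (Field.toIsField _)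
      exact Hensel.isSepClosed_of_ringEquiv ((RingEquiv.ofBijective
        (algebraMap L s.asIdeal.ResidueField)
        ⟨RingHom.injective _, s.asIdeal.algebraMap_residueField_surjective⟩).trans
        (Scheme.Spec.residueFieldIso (CommRingCat.of L) s).symm.commRingCatIsoToRingEquiv)
    choose z hz using fun v => EtMV.surjective_top h1 h2 a (G.obj.map (π v).op t)
    have hc : ∀ c, ∃ v, c ∈ Set.range (π v).left := fun c => ⟨c, (default : ↥(Spec (CommRingCat.of L))), hy c⟩
    obtain ⟨r, hr⟩ := Groth.Agent.EtIntegral.exists_amalg_disjoint E Z π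
      (fun i j hij c d hcd => hij ((hπ i c).symm.trans (hcd.trans (hπ j d)))) hc z
    refine ⟨r, Groth.Agent.EtIntegral.sect_ext G Z π hc _ _ fun v => ?_⟩
    rw [← NatTrans.naturality_apply, hr, hz]
  haveI : ∀ W, Epi (((sheafToPresheaf _ _).map ((EtCoh.push g).map a)).app W) := fun W =>
    (AddCommGrpCat.epi_iff_surjective _).2 (hsurj _)
  haveI : Epi ((sheafToPresheaf _ _).map ((EtCoh.push g).map a)) := NatTrans.epi_of_epi_app _
  exact (sheafToPresheaf _ _).epi_of_epi_map this

theorem rpush_isZero_sepClosed (F : EtCoh.Ab (Spec (CommRingCat.of L))) (n : ℕ) :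
    IsZero ((EtCoh.Rpush g (n + 1)).obj F) := by
  haveI : PreservesFiniteLimits (EtCoh.push g) :=
    haveI : (EtCoh.push g).IsRightAdjoint := (EtCoh.pullPushAdj g).isRightAdjoint
    inferInstance
  haveI := push_preservesEpi_sepClosed g
  haveI := (EtCoh.push g).preservesHomology_of_preservesEpis_and_kernels
  let P : InjectiveResolution F := InjectiveResolution.of F
  refine IsZero.of_iso ?_ (P.isoRightDerivedObj (EtCoh.push g) (n + 1))
  change IsZero ((((EtCoh.push g).mapHomologicalComplex _).obj P.cocomplex).homology (n + 1))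
  rw [← HomologicalComplex.exactAt_iff_isZero_homology]
  exact (P.cocomplex_exactAt_succ n).map (EtCoh.push g)

theorem subsingleton_H_push_sepClosed (F : EtCoh.Ab (Spec (CommRingCat.of L))) (q : ℕ) (hq : 0 < q) :
    Subsingleton (EtCoh.H Y ((EtCoh.push g).obj F) q) := by
  haveI := EtPullExact.pull_preservesFiniteLimits g
  haveI := subsingleton_H_sepClosed L F q hq
  exact (EtMV.HofPush_bijective g F (rpush_isZero_sepClosed g F) q).injective.subsingleton

variable {M : Type} [AddCommGroup M] [IsIntegral Y]
  (hN : ∀ y : Y, IsIntegrallyClosed (Y.presheaf.stalk y))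

omit g in
include hN in
theorem isIso_unit_const_open (U : Y.Opens) (hU : (U : Set Y).Nonempty) :
    IsIso ((EtCoh.pullPushAdj U.ι).unit.app (EtCoh.const Y M)) := by
  haveI : Nonempty U.toScheme := hU.to_subtype
  haveI : IsIntegral U.toScheme := isIntegral_of_isOpenImmersion U.ι
  exact EtMV.isIso_unit_const (EtMV.irrNhd_of_normal hN) _ (genericPoint_eq_of_isOpenImmersion U.ι)

omit g in
include hN in
theorem subsingleton_H_const_normal [IsSepClosed Y.functionField] (q : ℕ) (hq : 0 < q) :
    Subsingleton (EtCoh.H Y (EtCoh.const Y M) q) := by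
  let g := Y.fromSpecResidueField (genericPoint Y)
  haveI hsc : IsSepClosed (Y.residueField (genericPoint Y)) := Hensel.isSepClosed_of_ringEquiv
    (RingEquiv.ofBijective (Y.residue (genericPoint Y)).hom
      ⟨(Y.residue (genericPoint Y)).hom.injective (R := Y.functionField), Y.residue_surjective _⟩)
  haveI := EtMV.isIso_unit_const (M := M) (EtMV.irrNhd_of_normal hN) g
    (Scheme.fromSpecResidueField_apply _ _)
  exact subsingleton_H_of_iso (asIso ((EtCoh.pullPushAdj g).unit.app (EtCoh.const Y M))).symm q
    (@subsingleton_H_push_sepClosed (Y.residueField (genericPoint Y)) _ hsc Y g _ q hq)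

omit g in
/-- global sections of constant sheaves -/
theorem card_H_zero_const : Nat.card (EtCoh.H Y (EtCoh.const Y M) 0) = Nat.card M := by
  let W := EtMV.oo (⊤ : Y.Opens)
  let η : W.left := (⟨genericPoint Y, trivial⟩ : (⊤ : Y.Opens))
  refine (Nat.card_congr ((sectTopEquiv (EtCoh.const Y M)).trans
    (Equiv.ofBijective (EtMV.cst W) ⟨fun m m' h => EtMV.cst_inj η h, fun s =>
      ⟨EtMV.valAt s η, EtMV.ext_valAt fun η' h' => ?_⟩⟩).symm))
  rw [EtMV.valAt_cst, show η' = η from (⊤ : Y.Opens).ι.injective h']

end Groth.Agent.EtPBC
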