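import Groth.Agent.EtPBC.AllBC
import Mathlib

/-!
# Proper base change over henselian local rings
-/

set_option autoImplicit false
set_option backward.isDefEq.respectTransparency false
set_option backward.isDefEq.respectTransparency.types false
set_option linter.auxLemma false
set_option linter.style.haveILetI false

universe u

open CategoryTheory CategoryTheory.Limits AlgebraicGeometry Opposite IsLocalRing

noncomputable section

namespace Groth.Agent.EtPBC

attribute [local instance 100000] EtCoh.H._proof_1 EtMV.hext
attribute [local instance 200000] EtMV.hextAb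

theorem compN_closedFibre_henselian {A : Type u} [CommRing A] [HenselianLocalRing A] {X Z : Scheme.{u}}
    (f : X ⟶ Spec (CommRingCat.of A)) [IsProper f] (i : Z ⟶ X) (c : Z ⟶ Spec (CommRingCat.of (ResidueField A)))
    (sq : IsPullback i c f (Spec.map (CommRingCat.ofHom (residue A)))) (n : ℕ) : EtAcyc.CompN i Set.univ n := by
  haveI : IsClosedImmersion (Spec.map (CommRingCat.ofHom (residue A))) :=
    IsClosedImmersion.spec_of_surjective _ residue_surjective
  haveI : IsClosedImmersion i := MorphismProperty.of_isPullback (P := @IsClosedImmersion) sq.flip ‹_›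
  haveI : CompactSpace X := QuasiCompact.compactSpace_of_compactSpace f
  haveI : QuasiSeparatedSpace X := quasiSeparatedSpace_of_quasiSeparated f
  haveI : CompactSpace Z := QuasiCompact.compactSpace_of_compactSpace i
  haveI : QuasiSeparatedSpace Z := quasiSeparatedSpace_of_quasiSeparated i
  haveI := EtCohDesc.pull_preservesFiniteLimits (Spec.map (CommRingCat.ofHom (residue A)))
  haveI := EtCohDesc.pull_preservesFiniteLimits i
  haveI := EtCohDesc.pull_preservesFiniteLimits f
  haveI := EtCohDesc.pull_preservesFiniteLimits c
  refine EtAcycX.compN_bc (h := Spec.map (CommRingCat.ofHom (residue A))) (p := f) (hb := i) (pY := c) (w := sq.w)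
    (fun F _ _ => ⟨fun q _ => Groth.Agent.S3073.result A F q, (Groth.Agent.S3073.result A F (n + 1)).1⟩)
    fun F hF => ⟨fun q _ => isIso_bcQ_proper f _ c i sq F hF q, ?_⟩
  haveI := isIso_bcQ_proper f _ c i sq F hF (n + 1)
  infer_instance

end Groth.Agent.EtPBC
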