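import Groth.Agent.EtPBC.AllBC
import Groth.Agent.EtPBC.Henselian
import Groth.Agent.EtStrictLoc.Main
import Groth.Agent.EtBCQ.FieldPt
import Groth.Agent.EtBCQ.Crit
import Mathlib

/-!
# Stalks of higher direct images along proper morphisms at geometric points
-/

set_option autoImplicit false
set_option backward.isDefEq.respectTransparency false
set_option backward.isDefEq.respectTransparency.types false
set_option linter.auxLemma false
set_option linter.style.haveILetI false
set_option linter.unusedSectionVars false
set_option maxHeartbeats 1000000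

universe u

open CategoryTheory CategoryTheory.Limits CategoryTheory.Abelian AlgebraicGeometry Opposite IsLocalRing

noncomputable section

namespace Groth.Agent.EtPBC

attribute [local instance 100000] EtCoh.H._proof_1 EtMV.hext
attribute [local instance 200000] EtMV.hextAb

/-- a geometric point factors through the strict localisation at its image -/
theorem exists_strict_factor {S : Scheme.{u}} {Ω : Type u} [Field Ω] [IsSepClosed Ω]
    (ξ : Spec (CommRingCat.of Ω) ⟶ S) :
    ∃ (s : S) (R : Type u) (_ : CommRing R) (_ : IsLocalRing R) (_ : Algebra (S.presheaf.stalk s) R)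
      (_ : IsLocalHom (algebraMap (S.presheaf.stalk s) R))
      (_ : _root_.Hensel.IsStrictHenselization (S.presheaf.stalk s) R) (ext : ResidueField R →+* Ω),
      Spec.map (CommRingCat.ofHom ext) ≫ Hens2.geomPt S s R = ξ := by
  let s := ξ.base (closedPoint Ω)
  obtain ⟨R, _, _, _, _, hR⟩ := EtBCQ.exists_sh (S.presheaf.stalk s)
  let A := S.presheaf.stalk s
  let σ : A →+* Ω := (Scheme.stalkClosedPointTo ξ).hom
  haveI : IsLocalHom σ := inferInstanceAs (IsLocalHom (Scheme.stalkClosedPointTo ξ).hom)
  letI : Algebra (ResidueField A) Ω := (ResidueField.lift σ).toAlgebra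
  haveI : Algebra.IsSeparable (ResidueField A) (ResidueField R) := hR.isSepClosure.2
  let τ : ResidueField R →ₐ[ResidueField A] Ω := IsSepClosed.lift
  refine ⟨s, R, _, inferInstance, inferInstance, inferInstance, hR, τ.toRingHom, ?_⟩
  have h1 : (τ.toRingHom.comp (residue R)).comp (algebraMap A R) = σ := by
    refine RingHom.ext fun a => ?_
    show τ (residue R (algebraMap A R a)) = σ a
    have h2 : residue R (algebraMap A R a) = algebraMap (ResidueField A) (ResidueField R) (residue A a) := rfl
    rw [h2, τ.commutes]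
    rfl
  rw [Hens2.geomPt, Hens2.specOf, ← Category.assoc, ← Spec.map_comp, ← Category.assoc, ← Spec.map_comp]
  refine Eq.trans ?_ (Scheme.Spec_stalkClosedPointTo_fromSpecStalk ξ)
  refine congrArg (fun t => Spec.map t ≫ S.fromSpecStalk s) (CommRingCat.hom_ext ?_)
  exact h1

/-- stalks of higher direct images of torsion sheaves along proper morphisms -/
theorem nonempty_stalk_Rpush_iso {X Y : Scheme.{u}} (f : X ⟶ Y) [IsProper f] {Ω : Type u} [Field Ω] [IsSepClosed Ω]
    (ξ : Spec (CommRingCat.of Ω) ⟶ Y) (F : EtCoh.Ab X) (hF : EtAcyc.IsLTorsion Set.univ F) (n : ℕ) :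
    Nonempty ((EtCoh.stalk ξ).obj ((EtCoh.Rpush f n).obj F) ≅
      AddCommGrpCat.of (EtCoh.H (pullback f ξ) ((EtCoh.pull (pullback.fst f ξ)).obj F) n)) := by
  obtain ⟨s, R, _, _, _, _, hR, ext, hext⟩ := exists_strict_factor ξ
  haveI : HenselianLocalRing R := hR.henselian
  haveI : IsSepClosed (ResidueField R) := hR.isSepClosure.1
  obtain ⟨e₁⟩ := EtStrictLoc.nonempty_stalkRpush f s R n
  haveI := EtBCQ.isIso_stalkUp ext (Hens2.geomPt Y s R) ξ hext ((EtCoh.Rpush f n).obj F)
  let g := pullback.fst f (Hens2.specOf Y s R)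
  let b := pullback.snd f (Hens2.specOf Y s R)
  let r := Spec.map (CommRingCat.ofHom (residue R))
  let φ := Spec.map (CommRingCat.ofHom ext)
  let i := pullback.fst b r
  let c := pullback.snd b r
  have hq : (φ ≫ r) ≫ Hens2.specOf Y s R = ξ := by rw [Category.assoc]; exact hext
  let m : pullback f ξ ⟶ pullback f (Hens2.specOf Y s R) :=
    pullback.lift (pullback.fst f ξ) (pullback.snd f ξ ≫ φ ≫ r)
      (by rw [pullback.condition, Category.assoc, hq])
  let e : pullback f ξ ⟶ pullback b r := pullback.lift m (pullback.snd f ξ ≫ φ)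
    (by simp only [m, b, pullback.lift_snd, Category.assoc])
  have sq : IsPullback e (pullback.snd f ξ) c φ := by
    refine IsPullback.of_right ?_ (pullback.lift_snd _ _ _) (IsPullback.of_hasPullback b r)
    rw [pullback.lift_fst]
    refine IsPullback.of_right ?_ (pullback.lift_snd _ _ _) (IsPullback.of_hasPullback f (Hens2.specOf Y s R))
    rw [pullback.lift_fst, hq]
    exact IsPullback.of_hasPullback f ξ
  haveI := EtPullExact.pull_preservesFiniteLimits i
  haveI := EtPullExact.pull_preservesFiniteLimits e
  have hFR := EtAcycX.isLTorsion_pull g hF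
  have hF0 := EtAcycX.isLTorsion_pull (i ≫ g) hF
  have h₁ : Function.Bijective (EtCore.HpullVia i g (i ≫ g) rfl F n) :=
    (bijective_HpullVia_iff i g _ rfl F n).2
      ((compN_closedFibre_henselian b i c (IsPullback.of_hasPullback b r) n _ hFR).1 n le_rfl)
  have h₂ : Function.Bijective (EtCore.HpullVia e (i ≫ g) (pullback.fst f ξ)
      (by simp only [e, i, m, g, ← Category.assoc, pullback.lift_fst]) F n) :=
    (bijective_HpullVia_iff e _ _ _ F n).2
      (bijective_Hpull_sepClosed ext c e (pullback.snd f ξ) sq _ hF0 n)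
  exact ⟨(asIso (EtBCQ.stalkUp ext (Hens2.geomPt Y s R) ξ hext ((EtCoh.Rpush f n).obj F))).symm ≪≫ e₁.app F ≪≫
    ((AddEquiv.ofBijective _ h₁).trans (AddEquiv.ofBijective _ h₂)).toAddCommGrpIso⟩

end Groth.Agent.EtPBC
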