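import Groth.Agent.EtPBC.CdPDev
import Groth.Agent.EtPBC.CdMain
import Groth.Agent.EtPBC.FieldCd
import Groth.Agent.S0458
import Groth.Agent.S9683
import Mathlib

/-!
# `cd_p ≤ dim + 1` for schemes of finite type over fields of characteristic `p`
-/

set_option autoImplicit false
set_option backward.isDefEq.respectTransparency false
set_option backward.isDefEq.respectTransparency.types false
set_option linter.auxLemma false
set_option linter.style.haveILetI false
set_option linter.unusedSectionVars false

universe u

open CategoryTheory CategoryTheory.Limits CategoryTheory.Abelian AlgebraicGeometry Opposite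

noncomputable section

namespace Groth.Agent.EtPBC

attribute [local instance 100000] EtCoh.H._proof_1 EtMV.hext
attribute [local instance 200000] EtMV.hextAb

variable (p : ℕ) [hpp : Fact p.Prime]

/-- fields of characteristic `p` have `cd_p ≤ 1` -/
theorem kVanOn_field_charP (k : Type u) [Field k] [CharP k p] : KVanOn {p} (Spec (CommRingCat.of k)) 1 := by
  intro m hm F hF q hq
  refine subsingleton_of_forall_eq 0 fun x => ?_
  refine cdOne_of_charP p k F (fun V s v => ⟨V, 𝟙 V, ⟨v, rfl⟩, isOfFinAddOrder_iff_nsmul_eq_zero.2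
    ⟨m, hm.1, by rw [op_id, CategoryTheory.Functor.map_id]; exact hF V s⟩⟩) q hq x ⟨m, ?_⟩
  obtain ⟨j, hj⟩ : m ∣ p ^ m := by
    refine (Nat.dvd_prime_pow hpp.out).2 ⟨m.factorization p, (Nat.factorization_lt p hm.1.ne').le, ?_⟩
    exact Nat.eq_pow_of_factorization_eq_single hm.1.ne' (Finsupp.ext fun r => by
      rcases eq_or_ne r p with rfl | hr
      · simp
      · simp only [Finsupp.single_apply, if_neg hr.symm]
        by_contra hne
        exact hr (hm.2 r (Nat.prime_of_mem_primeFactors (Finsupp.mem_support_iff.2 hne))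
          (Nat.dvd_of_mem_primeFactors (Finsupp.mem_support_iff.2 hne))))
  have h0 : m • x = 0 := by
    have h1 : m • x = Ext.comp x (Ext.mk₀ (m • 𝟙 F)) (add_zero q) := by
      let φ : (F ⟶ F) →+ EtCoh.H _ F q := AddMonoidHom.mk' (fun g => Ext.comp x (Ext.mk₀ g) (add_zero q))
        fun g g' => by rw [Ext.mk₀_add, Ext.comp_add]
      show m • x = φ (m • 𝟙 F)
      rw [map_nsmul]
      exact congrArg (m • ·) (Ext.comp_mk₀_id x).symm
    rw [h1, (killed_iff m F).1 hF, Ext.mk₀_zero, Ext.comp_zero]
  rw [hj, mul_comm, mul_nsmul', h0, nsmul_zero]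

/-- finite schemes over a finite-dimensional Noetherian scheme -/
theorem finQCVan_of_dim {X : Scheme.{u}} [IsNoetherian X] {n : ℕ} (hn : topologicalKrullDim X ≤ n) :
    FinQCVan X n := by
  intro T g hg q hq
  haveI : IsLocallyNoetherian T := LocallyOfFiniteType.isLocallyNoetherian g
  haveI : CompactSpace T := QuasiCompact.compactSpace_of_compactSpace g
  haveI : IsNoetherian T := {}
  haveI : TopologicalSpace.NoetherianSpace T.toTopCat := (inferInstance : TopologicalSpace.NoetherianSpace T)
  exact Groth.Agent.S0458.result (X := T.toTopCat) n ((Groth.Agent.S9683.result g).1.trans hn)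
    (Coh.toAb (Coh.structureModule T)) q hq

/-- **`cd_p ≤ dim + 1`** -/
theorem kVanOn_charP_finiteType (k : Type u) [Field k] [CharP k p] {X : Scheme.{u}}
    (f : X ⟶ Spec (CommRingCat.of k)) [LocallyOfFiniteType f] [QuasiCompact f] {n : ℕ}
    (hn : topologicalKrullDim X ≤ n) : KVanOn {p} X (n + 1) := by
  haveI : IsLocallyNoetherian X := LocallyOfFiniteType.isLocallyNoetherian f
  haveI : CompactSpace X := QuasiCompact.compactSpace_of_compactSpace f
  haveI : IsNoetherian X := {}
  have h0 : (p : Γ(X, ⊤)) = 0 := by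
    refine natCast_eq_zero_of_hom p f ?_
    rw [← map_natCast (Scheme.ΓSpecIso (CommRingCat.of k)).inv.hom]
    simp [CharP.cast_eq_zero]
  exact kVanOn_of_finQCVan p h0 (finQCVan_of_dim hn) (kVanOn_finiteType f hn (kVanOn_field_charP p k))

end Groth.Agent.EtPBC
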