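import Groth.Agent.EtPBC.CdPDim
import Groth.Agent.EtPBC.CdPField
import Mathlib

/-!
# `cd_p ≤ dim` for separated schemes of finite type over separably closed fields of characteristic `p`
-/

set_option autoImplicit false
set_option backward.isDefEq.respectTransparency false
set_option backward.isDefEq.respectTransparency.types false
set_option linter.auxLemma false
set_option linter.style.haveILetI false

universe u

open CategoryTheory CategoryTheory.Limits AlgebraicGeometry Opposite

noncomputable section

namespace Groth.Agent.EtPBC

variable (p : ℕ) [hpp : Fact p.Prime]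

/-- **`cd_p ≤ dim`** -/
theorem kVanOn_sepClosed_charP (k : Type u) [Field k] [IsSepClosed k] [CharP k p] {X : Scheme.{u}}
    (f : X ⟶ Spec (CommRingCat.of k)) [IsSeparated f] [LocallyOfFiniteType f] [QuasiCompact f] {n : ℕ}
    (hn : topologicalKrullDim X ≤ n) : KVanOn {p} X n := by
  haveI : IsLocallyNoetherian X := LocallyOfFiniteType.isLocallyNoetherian f
  haveI : CompactSpace X := QuasiCompact.compactSpace_of_compactSpace f
  haveI : IsNoetherian X := {}
  refine kVanOn_of_finVan p (fun T g hg q hq => ?_) (kVanOn_charP_finiteType p k f hn)
  exact subsingleton_H_zmod_dim p (g ≫ f) ((Groth.Agent.S9683.result g).1.trans hn) q hq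

end Groth.Agent.EtPBC
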