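import Groth.Agent.EtPBC.CdPush
import Groth.Agent.EtPBC.CdFibre
import Groth.Agent.Hensel.HenselizationProps
import Groth.Agent.EtStrictLoc.Main
import Groth.Agent.EtBCQ.Crit
import Mathlib

/-!
# Cohomological dimension over a field from its separable closure
-/

set_option autoImplicit false
set_option backward.isDefEq.respectTransparency false
set_option backward.isDefEq.respectTransparency.types false
set_option linter.auxLemma false
set_option linter.style.haveILetI false
set_option linter.unusedSectionVars false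
set_option maxHeartbeats 1000000

universe u

open CategoryTheory CategoryTheory.Limits CategoryTheory.Abelian AlgebraicGeometry Opposite IsLocalRing

noncomputable section

namespace Groth.Agent.EtPBC

attribute [local instance 100000] EtCoh.H._proof_1 EtMV.hext
attribute [local instance 200000] EtMV.hextAb

variable {X Y : Scheme.{u}} {L : Set ℕ}

/-- sheaves killed by an integer with prime factors in `L` have no cohomology above `d` -/
def KVanOn (L : Set ℕ) (X : Scheme.{u}) (d : ℕ) : Prop :=
  ∀ m : ℕ, EtAcyc.PrimesIn L m → ∀ F : EtCoh.Ab X, Killed m F → ∀ q : ℕ, d < q → Subsingleton (EtCoh.H X F q)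

theorem KVan.on {d : ℕ} (h : KVan X d) (L : Set ℕ) : KVanOn L X d := fun m hm => h m hm.1

theorem KVanOn.univ {d : ℕ} (h : KVanOn Set.univ X d) : KVan X d :=
  fun m hm => h m ⟨hm, fun _ _ _ => Set.mem_univ _⟩

theorem KVanOn.mono {d d' : ℕ} (h : KVanOn L X d) (hd : d ≤ d') : KVanOn L X d' :=
  fun m hm F hF q hq => h m hm F hF q (hd.trans_lt hq)

theorem KVanOn.subsingleton_H {d : ℕ} (h : KVanOn L X d) [CompactSpace X] [QuasiSeparatedSpace X] (F : EtCoh.Ab X)
    (hF : EtAcyc.IsLTorsion L F) (q : ℕ) (hq : d < q) : Subsingleton (EtCoh.H X F q) := by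
  obtain ⟨hc⟩ := EtAcycX.nonempty_isColimit_kdCocone L F hF
  haveI := EtColimH.preservesColimitsOfShape_HF (X := X) q (EtColimH.Expo.{u} (EtAcyc.PrimesIn L))
  refine subsingleton_of_forall_eq 0 fun c => ?_
  obtain ⟨a, ca, rfl⟩ := Concrete.isColimit_exists_rep _ (isColimitOfPreserves (EtCoh.HF X q) hc) c
  haveI := h _ a.down.down.2 ((EtAcycX.kdDiag L F).obj a) ((killed_iff _ _).2 (EtAcycX.kd_tor F _)) q hq
  rw [show ca = 0 from @Subsingleton.elim (EtCoh.H X ((EtAcycX.kdDiag L F).obj a) q) _ _ _]
  exact map_zero _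

theorem cohDimLE_of_kVanOn [CompactSpace X] [QuasiSeparatedSpace X] {d : ℕ} (h : KVanOn Set.univ X d) :
    EtCoh.CohDimLE X d := fun F hF q hq => h.subsingleton_H F (isLTorsion_univ_of_isTorsion hF) q hq

theorem cohDimLEAt_of_kVanOn [CompactSpace X] [QuasiSeparatedSpace X] {ℓ d : ℕ} [Fact ℓ.Prime]
    (h : KVanOn {ℓ} X d) : Dix.CohDimLEAt X ℓ d :=
  fun F hF q hq => h.subsingleton_H F (isLTorsion_of_isPrimaryTorsion ℓ F hF) q hq

theorem kVanOn_of_cohDimLE {d : ℕ} (h : EtCoh.CohDimLE X d) : KVanOn L X d := fun m hm F hF q hq =>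
  h F (fun U s x => ⟨U, 𝟙 U, ⟨x, rfl⟩, isOfFinAddOrder_iff_nsmul_eq_zero.2 ⟨m, hm.1, hF U _⟩⟩) q hq

theorem kVanOn_of_cohDimLEAt {ℓ d : ℕ} [Fact ℓ.Prime] (h : Dix.CohDimLEAt X ℓ d) : KVanOn {ℓ} X d := by
  intro m hm F hF q hq
  have e : m = ℓ ^ m.primeFactorsList.length := Nat.eq_prime_pow_of_unique_prime_dvd hm.1.ne'
    fun hp hd => Set.mem_singleton_iff.1 (hm.2 _ hp hd)
  rw [e] at hF
  exact h F (isPrimaryTorsion_of_killed hF) q hq

/-- an integral morphism does not raise the cohomological dimension -/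
theorem KVanOn.of_isIntegralHom {d : ℕ} (h : KVanOn L Y d) (f : X ⟶ Y) [IsIntegralHom f] : KVanOn L X d :=
  fun m hm F hF q hq => subsingleton_H_of_Rpush f hm.1 (h m hm) 0 F hF (fun r hr => by
    obtain ⟨r, rfl⟩ : ∃ j, r = j + 1 := ⟨r - 1, by omega⟩
    exact EtIntegral.Rpush_succ_isZero f F r) q (by omega)

/-- strict henselisations of a point of the spectrum of a field are separable closures -/
theorem exists_field_of_strictHenselization (K : Type u) [Field K] (s : Spec (CommRingCat.of K)) (R : Type u)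
    [CommRing R] [IsLocalRing R] [Algebra ((Spec (CommRingCat.of K)).presheaf.stalk s) R]
    [IsLocalHom (algebraMap ((Spec (CommRingCat.of K)).presheaf.stalk s) R)]
    [hR : _root_.Hensel.IsStrictHenselization ((Spec (CommRingCat.of K)).presheaf.stalk s) R] :
    IsField R ∧ IsSepClosed (ResidueField R) ∧ ∃ φ : K →+* R,
      Spec.map (CommRingCat.ofHom φ) = Hens2.specOf (Spec (CommRingCat.of K)) s R ∧ φ.IsIntegral := by
  let A := (Spec (CommRingCat.of K)).presheaf.stalk s
  letI : Algebra K A := StructureSheaf.stalkAlgebra (R := K) s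
  haveI : IsLocalization.AtPrime A s.asIdeal := StructureSheaf.IsLocalization.to_stalk K s
  have hbij : Function.Bijective (algebraMap K A) :=
    Field.localization_map_bijective (M := s.asIdeal.primeCompl) fun h => h s.asIdeal.zero_mem
  have hA : IsField A := (RingEquiv.ofBijective _ hbij).symm.toMulEquiv.isField (Field.toIsField K)
  have hAm : maximalIdeal A = ⊥ := (IsLocalRing.isField_iff_maximalIdeal_eq).1 hA
  have hRm : maximalIdeal R = ⊥ := by
    rw [← Hensel.strictHenselization_map_maximalIdeal (R := A) (S := R), hAm, Ideal.map_bot]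
  have hRF : IsField R := (IsLocalRing.isField_iff_maximalIdeal_eq).2 hRm
  refine ⟨hRF, hR.isSepClosure.1, (Spec.preimage (Hens2.specOf (Spec (CommRingCat.of K)) s R)).hom,
    Spec.map_preimage _, ?_⟩
  have hspec : Hens2.specOf (Spec (CommRingCat.of K)) s R =
      Spec.map (CommRingCat.ofHom (algebraMap K A) ≫ CommRingCat.ofHom (algebraMap A R)) := by
    rw [Hens2.specOf, Spec.map_comp]
    congr 1
    exact Scheme.Spec_fromSpecStalk _ _
  rw [hspec, Spec.preimage_map]
  have hint : (algebraMap A R).IsIntegral := by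
    intro r
    haveI : Algebra.IsSeparable (ResidueField A) (ResidueField R) := hR.isSepClosure.2
    have hinj : Function.Injective (residue R) := by
      rw [RingHom.injective_iff_ker_eq_bot, ker_residue, hRm]
    obtain ⟨p, hp, hp0⟩ := Algebra.IsIntegral.isIntegral (R := ResidueField A) (residue R r)
    obtain ⟨p', hp', -, hp'm⟩ := Polynomial.lifts_and_degree_eq_and_monic
      ((Polynomial.lifts_iff_coeff_lifts p).2 fun n => residue_surjective (p.coeff n)) hp
    refine ⟨p', hp'm, hinj ?_⟩
    rw [map_zero, Polynomial.hom_eval₂, show (residue R).comp (algebraMap A R) =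
      (algebraMap (ResidueField A) (ResidueField R)).comp (residue A) from rfl, ← Polynomial.eval₂_map, hp']
    exact hp0
  exact (RingHom.isIntegral_of_surjective _ hbij.2).trans _ _ hint

/-- **descent from the separable closure** -/
theorem kVanOn_of_sepClosure {K : Type u} [Field K] (f : X ⟶ Spec (CommRingCat.of K)) [QuasiCompact f]
    [QuasiSeparated f] {e d : ℕ} (hK : KVanOn L (Spec (CommRingCat.of K)) e)
    (h : ∀ (Ω : Type u) [Field Ω] [IsSepClosed Ω] (φ : K →+* Ω), φ.IsIntegral →
      KVanOn L (pullback f (Spec.map (CommRingCat.ofHom φ))) d) : KVanOn L X (d + e) := by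
  intro m hm F hF q hq
  refine subsingleton_H_of_Rpush f hm.1 (hK m hm) d F hF (fun r hr => ?_) q hq
  refine isZero_of_zeroAt _ fun s => ?_
  obtain ⟨R, _, _, _, _, hR⟩ := EtBCQ.exists_sh ((Spec (CommRingCat.of K)).presheaf.stalk s)
  obtain ⟨hRF, hsep, φ, hφ, hφi⟩ := exists_field_of_strictHenselization K s R
  haveI : HenselianLocalRing R := hR.henselian
  haveI := hsep
  refine (isZero_stalk_iff_zeroAt (EtBCQ.geomPt_apply s R) _).1 ?_
  obtain ⟨e₁⟩ := EtStrictLoc.nonempty_stalkRpush f s R r
  letI : Field R := hRF.toField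
  haveI : IsSepClosed R := Hensel.isSepClosed_of_ringEquiv (RingEquiv.ofBijective (residue R)
    ⟨(residue R).injective, residue_surjective⟩).symm
  have h1 := h R φ hφi m hm
  rw [hφ] at h1
  haveI : Subsingleton (EtCoh.H (pullback f (Hens2.specOf (Spec (CommRingCat.of K)) s R))
      ((EtCoh.pull (pullback.fst f (Hens2.specOf (Spec (CommRingCat.of K)) s R))).obj F) r) :=
    h1 _ (killed_pull _ hF) r hr
  haveI : Subsingleton ((EtCoh.pull (pullback.fst f (Hens2.specOf (Spec (CommRingCat.of K)) s R)) ⋙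
    EtCoh.HF (pullback f (Hens2.specOf (Spec (CommRingCat.of K)) s R)) r).obj F : AddCommGrpCat.{u + 1}) :=
    ‹Subsingleton (EtCoh.H _ _ r)›
  exact (AddCommGrpCat.isZero_of_subsingleton _).of_iso (e₁.app F)

end Groth.Agent.EtPBC
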