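import Groth.Agent.EtPBC.ShriekTor
import Groth.Agent.EtPBC.CdProper
import Groth.Agent.EtPBC.AllBC
import Groth.Agent.ShriekLQF.Compact
import Mathlib

/-!
# Direct images with proper support along quasi-finite morphisms are acyclic for proper morphisms
-/

set_option autoImplicit false
set_option backward.isDefEq.respectTransparency false
set_option backward.isDefEq.respectTransparency.types false
set_option linter.auxLemma false
set_option linter.style.haveILetI false
set_option linter.unusedSectionVars false
set_option maxHeartbeats 1000000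

universe u

open CategoryTheory CategoryTheory.Limits CategoryTheory.Abelian AlgebraicGeometry Opposite

noncomputable section

namespace Groth.Agent.EtPBC

attribute [local instance 100000] EtCoh.H._proof_1 EtMV.hext
attribute [local instance 200000] EtMV.hextAb

/-- the images of quasi-finite schemes in schemes of finite type over a field consist of closed points -/
theorem isClosed_image_of_lqf {k : Type u} [Field k] {W Z : Scheme.{u}} (i : W ⟶ Z) (c : Z ⟶ Spec (CommRingCat.of k))
    [LocallyOfFiniteType c] [LocallyOfFiniteType (i ≫ c)] [LocallyQuasiFinite (i ≫ c)] (w : W) :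
    IsClosed ({i w} : Set Z) := by
  haveI : JacobsonSpace ↥Z := LocallyOfFiniteType.jacobsonSpace c
  haveI : LocallyOfFiniteType i := locallyOfFiniteType_of_comp i c
  haveI : DiscreteTopology W := by
    have h := (i ≫ c).isDiscrete_preimage_singleton (default : Spec (CommRingCat.of k))
    rw [show (i ≫ c) ⁻¹' {(default : Spec (CommRingCat.of k))} = Set.univ from
      Set.eq_univ_of_forall fun x => Subsingleton.elim (α := Spec (CommRingCat.of k)) _ _] at h
    exact isDiscrete_univ_iff.1 h
  exact i.closePoints_subset_preimage_closedPoints (show IsClosed ({w} : Set W) from isClosed_discrete _)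

/-- **acyclicity** -/
theorem isZero_Rpush_lowerShriek {X Y Z : Scheme.{u}} (f : X ⟶ Y) (h : Y ⟶ Z) [IsSeparated f]
    [LocallyOfFiniteType f] [LocallyQuasiFinite f] [LocallyOfFiniteType (f ≫ h)] [LocallyQuasiFinite (f ≫ h)]
    [IsProper h] (F : EtCoh.Ab X) (hF : EtCoh.IsTorsion F) (n : ℕ) :
    IsZero ((EtCoh.Rpush h (n + 1)).obj ((EtShriek.lowerShriek f).obj F)) := by
  refine isZero_of_isZero_stalks _ fun Ω _ _ ξ => ?_
  refine isZero_stalk_Rpush h _ (isLTorsion_univ_of_isTorsion (isTorsion_lowerShriek f F hF)) ξ (n + 1) ?_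
  haveI := isNoetherian_of_field (pullback.snd h ξ)
  refine subsingleton_H_of_suppClosed (isSepClosed_of_isClosed (pullback.snd h ξ)) _ (fun z hz => ?_) _ n.succ_pos
  refine zeroAt_pull _ _ z (zeroAt_lowerShriek_of_notMem f F fun hzs => hz ?_)
  let i : pullback (f ≫ h) ξ ⟶ pullback h ξ := pullback.map _ _ _ _ f (𝟙 _) (𝟙 _) (by simp) (by simp)
  have hi : i ≫ pullback.snd h ξ = pullback.snd (f ≫ h) ξ := (pullback.lift_snd _ _ _).trans (Category.comp_id _)
  have hr : Set.range i = (pullback.fst h ξ) ⁻¹' Set.range f ∩ (pullback.snd h ξ) ⁻¹' Set.univ := by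
    rw [Scheme.Pullback.range_map]
    simp
  obtain ⟨w, rfl⟩ : z ∈ Set.range i := hr.symm ▸ ⟨hzs, trivial⟩
  haveI : LocallyOfFiniteType (i ≫ pullback.snd h ξ) := by rw [hi]; infer_instance
  haveI : LocallyQuasiFinite (i ≫ pullback.snd h ξ) := by rw [hi]; infer_instance
  exact isClosed_image_of_lqf i (pullback.snd h ξ) w

end Groth.Agent.EtPBC
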