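import Groth.Agent.EtPBC.HensDvrNorm
import Groth.Agent.EtPBC.GeomPt
import Groth.Agent.EtPBC.CdPush
import Groth.Agent.EtMV.HenselVanish
import Groth.Agent.Hensel.HenselizationMore
import Mathlib

/-!
# Direct images from the generic point of a henselian DVR: stalks at the closed point
-/

set_option autoImplicit false
set_option backward.isDefEq.respectTransparency false
set_option backward.isDefEq.respectTransparency.types false
set_option linter.auxLemma false
set_option linter.style.haveILetI false

universe u

open CategoryTheory CategoryTheory.Limits CategoryTheory.Abelian AlgebraicGeometry Opposite IsLocalRing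

noncomputable section

namespace Groth.Agent.EtPBC

attribute [local instance 100000] EtCoh.H._proof_1 EtMV.hext
attribute [local instance 200000] EtMV.hextAb

variable (A : Type u) [CommRing A] [IsDomain A] [IsDiscreteValuationRing A]
  (K : Type u) [Field K] [Algebra A K] [IsFractionRing A K]

/-- the generic point -/
abbrev genPt : Spec (CommRingCat.of K) ⟶ Spec (CommRingCat.of A) := Spec.map (CommRingCat.ofHom (algebraMap A K))

theorem isLocalization_away_uniformizer {ϖ : A} (hϖ : Irreducible ϖ) : IsLocalization.Away ϖ K := by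
  refine ⟨⟨fun ⟨y, hy⟩ => ?_, fun z => ?_, fun h => ⟨1, by rw [IsFractionRing.injective A K h]⟩⟩⟩
  · obtain ⟨n, rfl⟩ := hy
    exact IsUnit.mk0 _ ((map_ne_zero_iff _ (IsFractionRing.injective A K)).2 (pow_ne_zero _ hϖ.ne_zero))
  · obtain ⟨x, y, hy, rfl⟩ := IsFractionRing.div_surjective (A := A) z
    have hy0 : y ≠ 0 := nonZeroDivisors.ne_zero hy
    obtain ⟨n, v, rfl⟩ := IsDiscreteValuationRing.eq_unit_mul_pow_irreducible hy0 hϖ
    refine ⟨(x * (v⁻¹ : Aˣ), ⟨ϖ ^ n, ⟨n, rfl⟩⟩), ?_⟩
    have h1 : algebraMap A K (v : A) ≠ 0 := (v.isUnit.map _).ne_zero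
    have h2 : algebraMap A K ϖ ≠ 0 := (map_ne_zero_iff _ (IsFractionRing.injective A K)).2 hϖ.ne_zero
    simp only [map_mul, map_pow, map_units_inv]
    field_simp

instance isOpenImmersion_genPt : IsOpenImmersion (genPt A K) := by
  obtain ⟨ϖ, hϖ⟩ := IsDiscreteValuationRing.exists_irreducible A
  haveI := isLocalization_away_uniformizer A K hϖ
  exact IsOpenImmersion.of_isLocalization ϖ

/-- a strict henselisation at the closed point, with its structure over `A` -/
theorem exists_sh_closedPoint : ∃ (R : Type u) (_ : CommRing R) (_ : IsDomain R) (_ : IsDiscreteValuationRing R)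
    (_ : Algebra ((Spec (CommRingCat.of A)).presheaf.stalk (closedPoint A)) R)
    (_ : IsLocalHom (algebraMap ((Spec (CommRingCat.of A)).presheaf.stalk (closedPoint A)) R))
    (_ : HenselianLocalRing R) (_ : IsSepClosed (ResidueField R))
    (_ : _root_.Hensel.IsStrictHenselization ((Spec (CommRingCat.of A)).presheaf.stalk (closedPoint A)) R)
    (φ : A →+* R), Spec.map (CommRingCat.ofHom φ) = Hens2.specOf (Spec (CommRingCat.of A)) (closedPoint A) R ∧
      Function.Injective φ ∧ ∀ ϖ : A, Irreducible ϖ → Irreducible (φ ϖ) := by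
  let X := Spec (CommRingCat.of A)
  let s : X := closedPoint A
  let T := X.presheaf.stalk s
  letI : Algebra A T := StructureSheaf.stalkAlgebra (R := A) s
  haveI : IsLocalization.AtPrime T (maximalIdeal A) := StructureSheaf.IsLocalization.to_stalk A s
  have hunits : (maximalIdeal A).primeCompl ≤ IsUnit.submonoid A := fun x hx => notMem_maximalIdeal.1 hx
  let e : A ≃+* T := (IsLocalization.atUnits A _ (S := T) hunits).toRingEquiv
  have he : (e : A →+* T) = algebraMap A T :=
    RingHom.ext fun x => (IsLocalization.atUnits A _ (S := T) hunits).commutes x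
  haveI : IsNoetherianRing T := isNoetherianRing_of_ringEquiv A e
  haveI : IsDomain T := e.symm.injective.isDomain e.symm.toRingHom
  haveI : IsIntegrallyClosed T := IsIntegrallyClosed.of_equiv (R := A) (S := T) e
  obtain ⟨R, _, _, _, _, hR⟩ := EtBCQ.exists_sh T
  obtain ⟨hd, -⟩ := (Hensel.strictHenselization_normal_iff T R).2 ⟨inferInstance, inferInstance⟩
  haveI := hd
  haveI : IsNoetherianRing R := (Hensel.strictHenselization_isNoetherianRing_iff T R).1 inferInstance
  haveI : IsDiscreteValuationRing T := IsDiscreteValuationRing.RingEquivClass.isDiscreteValuationRing e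
  obtain ⟨-, hreg, hdim⟩ := (Hensel.dvr_iff T).1 ⟨inferInstance, inferInstance⟩
  obtain ⟨_, hdvr⟩ := (Hensel.dvr_iff R).2 ⟨hd, (Hensel.strictHenselization_isRegularLocalRing_iff T R).2 hreg,
    (Hensel.strictHenselization_ringKrullDim T R).trans hdim⟩
  haveI := hdvr
  haveI : HenselianLocalRing R := hR.henselian
  haveI : IsSepClosed (ResidueField R) := hR.isSepClosure.1
  haveI := Hensel.strictHenselization_faithfullyFlat T R
  refine ⟨R, inferInstance, hd, hdvr, inferInstance, inferInstance, inferInstance, inferInstance, hR,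
    (algebraMap T R).comp (algebraMap A T), ?_,
    (FaithfulSMul.algebraMap_injective T R).comp (he ▸ e.injective), fun ϖ hϖ => ?_⟩
  · rw [Hens2.specOf, CommRingCat.ofHom_comp, Spec.map_comp]
    congr 1
    exact (Scheme.Spec_fromSpecStalk _ _).symm
  · rw [IsDiscreteValuationRing.irreducible_iff_uniformizer,
      ← Hensel.strictHenselization_map_maximalIdeal (R := T) (S := R)]
    have h : maximalIdeal T = (maximalIdeal A).map (algebraMap A T) :=
      (IsLocalization.AtPrime.map_eq_maximalIdeal (maximalIdeal A) T).symm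
    rw [h, hϖ.maximalIdeal_eq, Ideal.map_map, Ideal.map_span, Set.image_singleton]

/-- the fibre of the generic point over a strict henselisation at the closed point is the generic point -/
theorem exists_fibre_genPt : ∃ (R : Type u) (_ : CommRing R) (_ : IsDomain R) (_ : IsDiscreteValuationRing R)
    (_ : Algebra ((Spec (CommRingCat.of A)).presheaf.stalk (closedPoint A)) R)
    (_ : IsLocalHom (algebraMap ((Spec (CommRingCat.of A)).presheaf.stalk (closedPoint A)) R))
    (_ : HenselianLocalRing R) (_ : IsSepClosed (ResidueField R))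
    (_ : _root_.Hensel.IsStrictHenselization ((Spec (CommRingCat.of A)).presheaf.stalk (closedPoint A)) R)
    (e : pullback (genPt A K) (Hens2.specOf (Spec (CommRingCat.of A)) (closedPoint A) R) ≅
      Spec (CommRingCat.of (FractionRing R))) (φ : A →+* R),
      Spec.map (CommRingCat.ofHom φ) = Hens2.specOf (Spec (CommRingCat.of A)) (closedPoint A) R ∧
      e.hom ≫ Spec.map (CommRingCat.ofHom (algebraMap R (FractionRing R))) = pullback.snd _ _ ∧
      Function.Injective φ ∧ ∀ ϖ : A, Irreducible ϖ → Irreducible (φ ϖ) := by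
  obtain ⟨R, _, _, _, _, _, _, _, hR, φ, hφ, hinj, hirr⟩ := exists_sh_closedPoint A
  obtain ⟨ϖ, hϖ⟩ := IsDiscreteValuationRing.exists_irreducible A
  let s := Hens2.specOf (Spec (CommRingCat.of A)) (closedPoint A) R
  haveI := isLocalization_away_uniformizer A K hϖ
  haveI := isLocalization_away_uniformizer R (FractionRing R) (hirr ϖ hϖ)
  have hrange : Set.range (pullback.snd (genPt A K) s) =
      Set.range (Spec.map (CommRingCat.ofHom (algebraMap R (FractionRing R)))) := by
    rw [IsOpenImmersion.range_pullbackSnd]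
    show s ⁻¹' Set.range (genPt A K) = _
    refine (congrArg (s ⁻¹' ·) (PrimeSpectrum.localization_away_comap_range K ϖ)).trans ?_
    refine Eq.trans ?_ (PrimeSpectrum.localization_away_comap_range (FractionRing R) (φ ϖ)).symm
    show s ⁻¹' _ = _
    rw [show s = Spec.map (CommRingCat.ofHom φ) from hφ.symm]
    rfl
  exact ⟨R, inferInstance, inferInstance, inferInstance, inferInstance, inferInstance, inferInstance, inferInstance,
    hR, IsOpenImmersion.isoOfRangeEq _ _ hrange, φ, hφ, IsOpenImmersion.isoOfRangeEq_hom_fac _ _ _, hinj, hirr⟩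

variable (p : ℕ) [hpp : Fact p.Prime]

/-- **higher direct images from the generic point vanish at the closed point above degree one** -/
theorem zeroAt_Rpush_genPt (hp : IsUnit (p : A)) {m : ℕ} (hm : EtAcyc.PrimesIn {p} m)
    (F : EtCoh.Ab (Spec (CommRingCat.of K))) (hF : Killed m F) (r : ℕ) (hr : 1 < r) :
    ZeroAt ((EtCoh.Rpush (genPt A K) r).obj F) (closedPoint A) := by
  obtain ⟨R, _, _, _, _, _, _, _, hR, e, φ, -, -, -, -⟩ := exists_fibre_genPt A K
  refine (isZero_stalk_iff_zeroAt (EtBCQ.geomPt_apply (X := Spec (CommRingCat.of A)) (closedPoint A) R) _).1 ?_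
  obtain ⟨e₁⟩ := EtStrictLoc.nonempty_stalkRpush (genPt A K) (closedPoint A) R r
  have hpR : IsUnit (p : R) := by
    have h := hp.map φ
    rwa [map_natCast] at h
  let g := pullback.fst (genPt A K) (Hens2.specOf (Spec (CommRingCat.of A)) (closedPoint A) R)
  have h1 := (kVanOn_one_of_strictHenselianDvr p R (FractionRing R) hpR).of_isIntegralHom e.hom
  haveI : Subsingleton (EtCoh.H _ ((EtCoh.pull g).obj F) r) := h1 m hm _ (killed_pull g hF) r hr
  haveI : Subsingleton ((EtCoh.pull g ⋙ EtCoh.HF _ r).obj F : AddCommGrpCat.{u + 1}) :=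
    ‹Subsingleton (EtCoh.H _ _ r)›
  exact (AddCommGrpCat.isZero_of_subsingleton _).of_iso (e₁.app F)

/-- sheaves vanishing at the closed point pull back to zero there -/
theorem isZero_pull_clPt (A : Type u) [CommRing A] [IsLocalRing A] (G : EtCoh.Ab (Spec (CommRingCat.of A)))
    (h : ZeroAt G (closedPoint A)) : IsZero ((EtCoh.pull (EtMV.clPt A)).obj G) :=
  isZero_of_zeroAt _ fun z => zeroAt_pull _ G z (by
    have hz : (EtMV.clPt A) z = closedPoint A := by
      rw [Subsingleton.elim (α := PrimeSpectrum (ResidueField A)) z (closedPoint (ResidueField A))]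
      exact comap_closedPoint (residue A)
    rw [hz]
    exact h)

end Groth.Agent.EtPBC
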