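import Groth.Agent.EtPBC.HensDvrKum
import Groth.Agent.EtPBC.CdTensor

/-!
# The fraction field of a discrete valuation ring has positive `cd_p`
-/

set_option autoImplicit false
set_option backward.isDefEq.respectTransparency false
set_option backward.isDefEq.respectTransparency.types false
set_option linter.auxLemma false
set_option linter.style.haveILetI false

universe u

open CategoryTheory CategoryTheory.Limits CategoryTheory.Abelian AlgebraicGeometry Opposite IsLocalRing

noncomputable section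

namespace Groth.Agent.EtPBC

attribute [local instance 100000] EtCoh.H._proof_1 EtMV.hext
attribute [local instance 200000] EtMV.hextAb

variable (p : ℕ) [hpp : Fact p.Prime]

/-- a Kummer class vanishes only on powers -/
theorem exists_pow_eq_of_kumClass_eq_zero (F : Type u) [Field F]
    (hm : Epi (EtCoh.powMap (Spec (CommRingCat.of F)) p)) (a : Fˣ)
    (h : GalSym.kumClass hm (GalSym.specUnit F a) = 0) : ∃ b : F, b ^ p = a := by
  let X := Spec (CommRingCat.of F)
  have hS := EtSix.kummerShortExact (X := X) hm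
  obtain ⟨y, hy⟩ := Ext.covariant_sequence_exact₃ (EtCoh.const X ℤ) hS (GalSym.unitClass X (GalSym.specUnit F a))
    (rfl : 0 + 1 = 1) h
  obtain ⟨ψ, rfl⟩ := (Ext.mk₀_bijective _ _).2 y
  have hy' : ψ ≫ EtCoh.powMap X p = GalSym.unitMor X (GalSym.specUnit F a) :=
    (Ext.mk₀_bijective _ _).1 ((Ext.mk₀_comp_mk₀ _ _).symm.trans hy)
  let s := (EtCore.constAdj X).homEquiv _ _ ψ (ULift.up 1)
  have h1 : GalSym.unitHom X (GalSym.specUnit F a) (ULift.up 1) = (EtCore.gsec X).map (EtCoh.powMap X p) s := by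
    have h2 : (EtCore.constAdj X).homEquiv _ _ (ψ ≫ EtCoh.powMap X p) = GalSym.unitHom X (GalSym.specUnit F a) := by
      rw [hy', GalSym.unitMor, Equiv.apply_symm_apply]
    rw [← h2, Adjunction.homEquiv_naturality_right]
    rfl
  have h3 : GalSym.unitSection X (GalSym.specUnit F a) = p • s := by
    rw [GalSym.unitHom_apply, one_zsmul] at h1
    exact h1.trans (KummerLib.powMap_app p (EtCoh.top X) s)
  let Y : (Γ(X, ⊤) : Type u)ˣ := ((show ULift.{u + 1} (Additive ((Γ(X, ⊤) : Type u)ˣ)) from s).down).toMul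
  have hY : GalSym.specUnit F a = Y ^ p :=
    congrArg (fun t : ULift.{u + 1} (Additive ((Γ(X, ⊤) : Type u)ˣ)) => t.down.toMul) h3
  refine ⟨(Scheme.ΓSpecIso (CommRingCat.of F)).hom (Y : Γ(X, ⊤)), ?_⟩
  rw [← map_pow, ← Units.val_pow_eq_pow_val, ← hY]
  exact GalSym.ΓSpecIso_hom_specUnit F a

/-- **the fraction field of a DVR is not of `cd_p ≤ 0`** -/
theorem not_kVanOn_zero (A : Type u) [CommRing A] [IsDomain A] [IsDiscreteValuationRing A] (K : Type u) [Field K]
    [Algebra A K] [IsFractionRing A K] (hp : (p : K) ≠ 0) : ¬ KVanOn {p} (Spec (CommRingCat.of K)) 0 := by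
  intro hK
  let X := Spec (CommRingCat.of K)
  have hu : IsUnit (p : Γ(X, ⊤)) := by
    rw [← map_natCast (Scheme.ΓSpecIso (CommRingCat.of K)).inv.hom]
    exact (IsUnit.mk0 _ hp).map _
  have hm : Epi (EtCoh.powMap X p) := Groth.Agent.S0108.result X p hu
  obtain ⟨ϖ, hϖ⟩ := IsDiscreteValuationRing.exists_irreducible A
  have hπ0 : algebraMap A K ϖ ≠ 0 := (map_ne_zero_iff _ (IsFractionRing.injective A K)).2 hϖ.ne_zero
  have hmem : EtAcyc.PrimesIn {p} p := ⟨hpp.out.pos, fun l hl hd =>
    Set.mem_singleton_iff.2 ((Nat.prime_dvd_prime_iff_eq hl hpp.out).1 hd)⟩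
  haveI := hK p hmem (EtCoh.mu X p) (killed_mu p) 1 one_pos
  obtain ⟨b, hb⟩ := exists_pow_eq_of_kumClass_eq_zero p K hm (Units.mk0 _ hπ0) (Subsingleton.elim _ _)
  have hint : IsIntegral A b := IsIntegral.of_pow hpp.out.pos (hb ▸ isIntegral_algebraMap)
  obtain ⟨c, rfl⟩ := IsIntegrallyClosed.isIntegral_iff.1 hint
  have hc : c ^ p = ϖ := IsFractionRing.injective A K (by rw [map_pow]; exact hb)
  exact not_irreducible_pow hpp.out.ne_one (hc ▸ hϖ)

end Groth.Agent.EtPBC
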