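import Groth.Agent.EtPBC.CdDev
import Groth.Agent.EtPBC.FieldDescent
import Groth.Agent.EtPBC.ConstKilled

/-!
# Cohomological `p`-dimension of a field from the constant sheaf `ℤ/p`, in any degree

If `H^q(L, ℤ/p) = 0` for all finite separable extensions `L` of `k` and `q > d` then `cd_p k ≤ d`.
-/

set_option autoImplicit false
set_option backward.isDefEq.respectTransparency false
set_option backward.isDefEq.respectTransparency.types false
set_option linter.auxLemma false
set_option linter.style.haveILetI false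

universe u

open CategoryTheory CategoryTheory.Limits CategoryTheory.Abelian AlgebraicGeometry Opposite
open Groth.Agent.EtFLC (res res_res res_id)
open Groth.Agent.GalCohLib (pt ptMap)

noncomputable section

namespace Groth.Agent.EtPBC

attribute [local instance 100000] EtCoh.H._proof_1 EtMV.hext
attribute [local instance 200000] EtMV.hextAb

variable (p : ℕ) [hpp : Fact p.Prime] (d : ℕ)

/-- the hypothesis on constant coefficients -/
def ZModAcyclicFrom (k : Type u) [Field k] : Prop :=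
  ∀ (L : Type u) [Field L] [Algebra k L] [FiniteDimensional k L] [Algebra.IsSeparable k L],
    ∀ q : ℕ, d < q → Subsingleton (EtCoh.H (Spec (CommRingCat.of L)) (EtCoh.const _ (ZMod p)) q)

theorem ZModAcyclicFrom.ext {k : Type u} [Field k] (h : ZModAcyclicFrom p d k) (K : Type u) [Field K] [Algebra k K]
    [FiniteDimensional k K] [Algebra.IsSeparable k K] : ZModAcyclicFrom p d K := by
  intro L _ _ _ _ q hq
  letI : Algebra k L := ((algebraMap K L).comp (algebraMap k K)).toAlgebra
  haveI : IsScalarTower k K L := IsScalarTower.of_algebraMap_eq fun _ => rfl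
  haveI : FiniteDimensional k L := FiniteDimensional.trans k K L
  haveI : Algebra.IsSeparable k L := Algebra.IsSeparable.trans k K L
  exact h L q hq

theorem ZModAcyclicFrom.self {k : Type u} [Field k] (h : ZModAcyclicFrom p d k) (q : ℕ) (hq : d < q) :
    Subsingleton (EtCoh.H (Spec (CommRingCat.of k)) (EtCoh.const _ (ZMod p)) q) :=
  h k q hq

/-- descent of one step: a global section of order `p` -/
theorem eq_zero_of_global_section_from (n : ℕ) (k : Type u) [Field k] (hZ : ZModAcyclicFrom p d k)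
    {Ω : Type u} [Field Ω] [IsSepClosed Ω] (ξ : Spec (CommRingCat.of Ω) ⟶ Spec (CommRingCat.of k))
    (G : EtCoh.Ab (Spec (CommRingCat.of k))) [Finite ((EtCoh.stalk ξ).obj G)]
    (hn : Nat.card ((EtCoh.stalk ξ).obj G) ≤ n + 1)
    (IH : ∀ (Q : EtCoh.Ab (Spec (CommRingCat.of k))) [Finite ((EtCoh.stalk ξ).obj Q)],
      Nat.card ((EtCoh.stalk ξ).obj Q) ≤ n → ∀ q : ℕ, d < q →
      ∀ x : EtCoh.H (Spec (CommRingCat.of k)) Q q, (∃ m : ℕ, p ^ m • x = 0) → x = 0)
    (t : EtCoh.sect G (EtCoh.top _)) (ht : t ≠ 0) (htp : p • t = 0)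
    (q : ℕ) (hq : d < q) (x : EtCoh.H (Spec (CommRingCat.of k)) G q) (hx : ∃ m : ℕ, p ^ m • x = 0) :
    x = 0 := by
  haveI := subsingleton_spec k
  let σ : ZMod p →+ EtCoh.sect G (EtCoh.top _) :=
    ZMod.lift p ⟨zmultiplesHom _ t, by rw [zmultiplesHom_apply, natCast_zsmul]; exact htp⟩
  have hσ : Function.Injective σ := by
    refine (ZMod.lift_injective _).2 fun i hi => ?_
    rw [zmultiplesHom_apply] at hi
    rw [ZMod.intCast_zmod_eq_zero_iff_dvd]
    rw [← addOrderOf_eq_prime htp ht]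
    exact addOrderOf_dvd_iff_zsmul_eq_zero.2 hi
  let ι := constHom (ZMod p) G σ
  have hgerm : ∀ (Ω' : Type u) [Field Ω'] [IsSepClosed Ω'] (ξ' : Spec (CommRingCat.of Ω') ⟶ Spec (CommRingCat.of k))
      (m : ZMod p), (EtCoh.stalk ξ').map ι (EtCons.constGerm (ZMod p) ξ' m) =
        (Scheme.pointSmallEtale ξ').toPresheafFiber (EtCoh.top _) (EtCons.ptTop ξ') G.obj (σ m) := by
    intro Ω' _ _ ξ' m
    refine (GrothendieckTopology.Point.toPresheafFiber_naturality_apply (Scheme.pointSmallEtale ξ') ι.hom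
      (EtCoh.top _) (EtCons.ptTop ξ') (EtMV.cst _ m)).trans (congrArg _ ?_)
    exact constHom_cst (ZMod p) G σ m
  haveI : Mono ι := by
    refine (EtStalk.mono_iff ι).2 fun Ω' _ _ ξ' => ?_
    intro a b hab
    obtain ⟨a, rfl⟩ := (EtCons.constGerm_bijective (ZMod p) ξ').2 a
    obtain ⟨b, rfl⟩ := (EtCons.constGerm_bijective (ZMod p) ξ').2 b
    rw [hgerm, hgerm] at hab
    rw [hσ (germ_injective ξ' G _ hab)]
  let π := cokernel.π ι
  have hπs : Function.Surjective ((EtCoh.stalk ξ).map π) := (EtStalk.epi_iff π).1 inferInstance Ω ξ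
  haveI : Finite ((EtCoh.stalk ξ).obj (cokernel ι)) := Finite.of_surjective _ hπs
  have hlt : Nat.card ((EtCoh.stalk ξ).obj (cokernel ι)) ≤ n := by
    by_contra hlt
    have hb := Function.Surjective.bijective_of_nat_card_le hπs (by omega)
    refine ht ?_
    have h1 : σ 1 = t :=
      (congrArg σ (Int.cast_one (R := ZMod p)).symm).trans ((ZMod.lift_coe _ _ _).trans (one_zsmul t))
    rw [← h1]
    refine germ_injective ξ G (EtCons.ptTop ξ) ?_
    rw [map_zero, ← hgerm]
    refine hb.1 ?_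
    rw [map_zero]
    change ((EtCoh.stalk ξ).map ι ≫ (EtCoh.stalk ξ).map π) _ = 0
    rw [← Functor.map_comp, cokernel.condition, Functor.map_zero]
    rfl
  obtain ⟨m, hm⟩ := hx
  have h0 : Ext.comp x (Ext.mk₀ π) (add_zero q) = 0 := by
    refine IH (cokernel ι) hlt q hq _ ⟨m, ?_⟩
    show p ^ m • (Ext.mk₀ π).postcomp _ (add_zero q) x = 0
    rw [← map_nsmul, hm, map_zero]
  have hS : (ShortComplex.mk ι π (cokernel.condition ι)).ShortExact :=
    { exact := ShortComplex.exact_of_g_is_cokernel _ (cokernelIsCokernel ι) }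
  obtain ⟨y, hy⟩ := Ext.covariant_sequence_exact₂ (EtCoh.const _ ℤ) hS x h0
  haveI := hZ.self p d q hq
  rw [← hy, show y = 0 from @Subsingleton.elim (EtCoh.H _ (EtCoh.const _ (ZMod p)) q) _ y 0, Ext.zero_comp]

/-- the induction on the order of the stalk -/
theorem core_from (n : ℕ) : ∀ (k : Type u) [Field k], ZModAcyclicFrom p d k →
    ∀ (Ω : Type u) [Field Ω] [IsSepClosed Ω] (ξ : Spec (CommRingCat.of Ω) ⟶ Spec (CommRingCat.of k))
      (G : EtCoh.Ab (Spec (CommRingCat.of k))) [Finite ((EtCoh.stalk ξ).obj G)],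
      Nat.card ((EtCoh.stalk ξ).obj G) ≤ n → ∀ q : ℕ, d < q →
      ∀ x : EtCoh.H (Spec (CommRingCat.of k)) G q, (∃ m : ℕ, p ^ m • x = 0) → x = 0 := by
  induction n with
  | zero =>
    intro k _ _ Ω _ _ ξ G _ hn
    have : 0 < Nat.card ((EtCoh.stalk ξ).obj G) := Nat.card_pos
    omega
  | succ n ih =>
    intro k _ hZ Ω _ _ ξ G _ hn q hq x hx
    by_cases hdvd : p ∣ Nat.card ((EtCoh.stalk ξ).obj G)
    swap
    · obtain ⟨m, hm⟩ := hx
      have h2 := nsmul_eq_zero_of_killed G _ (fun W s => card_nsmul_sect ξ G s) q x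
      have hcop : Nat.Coprime (p ^ m) (Nat.card ((EtCoh.stalk ξ).obj G)) :=
        Nat.Coprime.pow_left m ((hpp.out.coprime_iff_not_dvd).mpr hdvd)
      have h1 : addOrderOf x ∣ 1 := by
        rw [← hcop.gcd_eq_one]
        exact Nat.dvd_gcd (addOrderOf_dvd_of_nsmul_eq_zero hm) (addOrderOf_dvd_of_nsmul_eq_zero h2)
      exact AddMonoid.addOrderOf_eq_one_iff.mp (Nat.eq_one_of_dvd_one h1)
    obtain ⟨z, hz⟩ := exists_prime_addOrderOf_dvd_card' (G := (EtCoh.stalk ξ).obj G) p hdvd
    obtain ⟨M, _, _, _, _, s, hs, hsp⟩ := exists_galois_torsion_section ξ G p z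
      (fun h => hpp.out.ne_one (by rw [← hz, h, addOrderOf_zero])) (hz ▸ addOrderOf_nsmul_eq_zero z)
    haveI := finite_sect_pt ξ G M
    obtain ⟨S⟩ : Nonempty (Sylow p (M ≃ₐ[k] M)) := inferInstance
    let L' := IntermediateField.fixedField (S : Subgroup (M ≃ₐ[k] M))
    haveI : Algebra.IsSeparable k L' := Algebra.isSeparable_tower_bot_of_isSeparable k L' M
    haveI : IsGalois L' M := IsGalois.tower_top_of_isGalois k L' M
    have hP : IsPGroup p (M ≃ₐ[L'] M) := by
      refine IsPGroup.of_equiv ?_ (IntermediateField.fixingSubgroupEquiv L')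
      rw [IntermediateField.fixingSubgroup_fixedField]
      exact S.isPGroup'
    have hdeg : ¬ p ∣ Module.finrank k L' := by
      have h := IntermediateField.finrank_eq_fixingSubgroup_index (F := k) (E' := M) L'
      rw [IntermediateField.fixingSubgroup_fixedField] at h
      intro hd
      exact S.not_dvd_index (h ▸ hd)
    obtain ⟨t₀, ht₀, ht₀p, hinv⟩ := exists_invariant_ne_zero k L' M p hP G s hs hsp
    obtain ⟨t₁, ht₁⟩ := exists_descend_invariant k L' M G t₀ hinv
    have ht₁p : p • t₁ = 0 := res_ptMap_injective k L' M G (by rw [map_nsmul, ht₁, ht₀p, map_zero])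
    have ht₁0 : t₁ ≠ 0 := fun h => ht₀ (by rw [← ht₁, h, map_zero])
    -- pass to the fixed field
    let X := Spec (CommRingCat.of k)
    let h := Spec.map (CommRingCat.ofHom (algebraMap k L'))
    haveI : Etale h := GalCohLib.etale_spec k L'
    haveI := Groth.Agent.EtPullExact.pull_preservesFiniteLimits h
    haveI := EtMV.jcont_etale h
    let G' := (EtCoh.pull h).obj G
    obtain ⟨v, -⟩ := exists_lift ξ (pt k L') (default : ↥(Spec (CommRingCat.of L')))
    let ξ' : Spec (CommRingCat.of Ω) ⟶ Spec (CommRingCat.of L') := v.left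
    have hξ : ξ' ≫ h = ξ := Over.w v
    let e₁ : (EtCoh.stalk ξ').obj G' ≅ (EtCoh.stalk (ξ' ≫ h)).obj G := ((EtStalk.stalkPullIso h ξ').app G).symm
    haveI : Finite ((EtCoh.stalk (ξ' ≫ h)).obj G) := by rw [hξ]; infer_instance
    haveI : Finite ((EtCoh.stalk ξ').obj G') := Finite.of_equiv _ e₁.addCommGroupIsoToAddEquiv.toEquiv.symm
    have hn' : Nat.card ((EtCoh.stalk ξ').obj G') ≤ n + 1 := by
      rw [Nat.card_congr e₁.addCommGroupIsoToAddEquiv.toEquiv, hξ]
      exact hn
    let e₂ := (EtPushStalk.restrPullIso h).app G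
    let a : (EtShriek.compEtale h).obj (EtCoh.top _) ⟶ pt k L' :=
      MorphismProperty.Over.homMk (𝟙 _) (by
        show 𝟙 _ ≫ h = 𝟙 _ ≫ h
        rfl)
    have hainj : Function.Injective (res G a) := by
      intro b c hbc
      refine EtFLC.sect_ext G fun y => ?_
      exact ⟨_, a, y, rfl, hbc⟩
    let t₂ : EtCoh.sect G' (EtCoh.top _) := (e₂.hom.hom.app (op (EtCoh.top _))).hom (res G a t₁)
    have hback : ∀ b, (e₂.inv.hom.app (op (EtCoh.top _))).hom ((e₂.hom.hom.app (op (EtCoh.top _))).hom b) = b :=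
      fun b => congrArg (fun z => (z.hom.app (op (EtCoh.top _))).hom b) e₂.hom_inv_id
    have ht₂0 : t₂ ≠ 0 := by
      intro h2
      refine ht₁0 (hainj ?_)
      rw [map_zero, ← hback (res G a t₁)]
      exact (congrArg _ h2).trans (map_zero _)
    have ht₂p : p • t₂ = 0 := by
      refine (map_nsmul (e₂.hom.hom.app (op (EtCoh.top _))).hom p (res G a t₁)).symm.trans ?_
      refine (congrArg _ ((map_nsmul (res G a) p t₁).symm.trans
        ((congrArg (res G a) ht₁p).trans (map_zero _)))).trans (map_zero _)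
    obtain ⟨m, hm⟩ := hx
    let c := (EtMV.eX X G q).symm x
    have hc0 : p ^ m • c = 0 := by rw [← map_nsmul, hm, map_zero]
    have hcK : (Ext.mk₀ ((EtMV.P X).map (EtMV.toTop (pt k L')))).comp c (zero_add q) = 0 := by
      let φ := Ext.precomp (Ext.mk₀ ((EtMV.P X).map (EtMV.toTop (pt k L')))) G (zero_add q)
      refine (EtMV.Φe h G q).map_eq_zero_iff.mp ?_
      refine eq_zero_of_global_section_from p d n L' (hZ.ext p d L') ξ' G' hn'
        (fun Q _ hQ q' hq' => ih L' (hZ.ext p d L') Ω ξ' Q hQ q' hq') t₂ ht₂0 ht₂p q hq _ ⟨m, ?_⟩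
      rw [← map_nsmul]
      refine (congrArg (EtMV.Φe h G q) ?_).trans (map_zero _)
      exact (map_nsmul φ (p ^ m) c).symm.trans ((congrArg φ hc0).trans (map_zero φ))
    have hd := GalCohLib.finrank_nsmul_eq_zero k L' G q c hcK
    have hcop : Nat.Coprime (p ^ m) (Module.finrank k L') :=
      Nat.Coprime.pow_left m ((hpp.out.coprime_iff_not_dvd).mpr hdeg)
    have h1 : addOrderOf c ∣ 1 := by
      rw [← hcop.gcd_eq_one]
      exact Nat.dvd_gcd (addOrderOf_dvd_of_nsmul_eq_zero hc0) (addOrderOf_dvd_of_nsmul_eq_zero hd)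
    have hc : c = 0 := AddMonoid.addOrderOf_eq_one_iff.mp (Nat.eq_one_of_dvd_one h1)
    exact (EtMV.eX X G q).symm.map_eq_zero_iff.mp hc

/-- **dévissage**: `p`-primary classes above `d` vanish for all torsion sheaves. -/
theorem eq_zero_of_zmodAcyclicFrom (k : Type u) [Field k] (hZ : ZModAcyclicFrom p d k)
    (F : EtCoh.Ab (Spec (CommRingCat.of k))) (hF : EtCoh.IsTorsion F) (q : ℕ) (hq : d < q)
    (x : EtCoh.H (Spec (CommRingCat.of k)) F q) (hx : ∃ m : ℕ, p ^ m • x = 0) : x = 0 := by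
  haveI : IsAffine (EtCoh.top (Spec (CommRingCat.of k))).left :=
    inferInstanceAs (IsAffine (Spec (CommRingCat.of k)))
  obtain ⟨hfil, ⟨hc⟩, hcons⟩ := EtCons.nonempty_isColimit_consCocone (fun _ => True) F (fun _ _ => trivial)
    (fun _ _ _ _ => trivial) (fun _ _ _ _ => trivial)
    ⟨_, EtCons.isConstructible_extConst (EtCoh.top (Spec (CommRingCat.of k))) 1 one_pos, trivial⟩ hF
    (fun U t x => EtCons.exists_gen_section hF U t x)
  haveI := hfil
  haveI := EtColimH.preservesColimitsOfShape_HF (X := Spec (CommRingCat.of k)) q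
    (EtCons.ConsOver (fun _ => True) F)
  have hH := isColimitOfPreserves (EtCoh.HF (Spec (CommRingCat.of k)) q) hc
  obtain ⟨a, xa, rfl⟩ := Concrete.isColimit_exists_rep _ hH x
  obtain ⟨m, hm⟩ := hx
  have h1 : ((EtCoh.HF _ q).mapCocone (EtCons.consCocone (fun _ => True) F)).ι.app a (p ^ m • xa) =
      ((EtCoh.HF _ q).mapCocone (EtCons.consCocone (fun _ => True) F)).ι.app a 0 := by
    rw [map_nsmul, map_zero]; exact hm
  obtain ⟨b, i, i', hb⟩ := Concrete.isColimit_exists_of_rep_eq _ hH (i := a) (j := a) _ _ h1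
  let D := EtCons.consDiagram (fun _ => True) F
  let ξ := Spec.map (CommRingCat.ofHom (algebraMap k (SeparableClosure k)))
  haveI := EtCons.finite_stalk_of_isConstructible _ (hcons b).1 ξ
  have hz : (D ⋙ EtCoh.HF _ q).map i xa = 0 :=
    core_from p d _ k hZ _ ξ (D.obj b) le_rfl q hq _
      ⟨m, (map_nsmul ((D ⋙ EtCoh.HF _ q).map i).hom (p ^ m) xa).symm.trans (hb.trans (map_zero _))⟩
  rw [← ((EtCoh.HF _ q).mapCocone (EtCons.consCocone (fun _ => True) F)).w i, ConcreteCategory.comp_apply]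
  exact (congrArg _ hz).trans (map_zero _)


/-- **`cd_p k ≤ d` from constant coefficients** -/
theorem kVanOn_of_zmodAcyclicFrom (k : Type u) [Field k] (hZ : ZModAcyclicFrom p d k) :
    KVanOn {p} (Spec (CommRingCat.of k)) d := by
  intro m hm F hF q hq
  have e : m = p ^ m.primeFactorsList.length := Nat.eq_prime_pow_of_unique_prime_dvd hm.1.ne'
    fun hp hd => Set.mem_singleton_iff.1 (hm.2 _ hp hd)
  refine subsingleton_of_forall_eq 0 fun x => eq_zero_of_zmodAcyclicFrom p d k hZ F
    (fun U s x => ⟨U, 𝟙 U, ⟨x, rfl⟩, isOfFinAddOrder_iff_nsmul_eq_zero.2 ⟨m, hm.1, hF U _⟩⟩) q hq x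
    ⟨m.primeFactorsList.length, ?_⟩
  rw [← e]
  exact nsmul_eq_zero_of_killed F m hF q x

/-- finite separable extensions inherit the constant-coefficient bound -/
theorem zmodAcyclicFrom_of_kVanOn (k : Type u) [Field k] (h : KVanOn {p} (Spec (CommRingCat.of k)) d) :
    ZModAcyclicFrom p d k := by
  intro L _ _ _ _ q hq
  let f := Spec.map (CommRingCat.ofHom (algebraMap k L))
  haveI : IsIntegralHom f := IsIntegralHom.SpecMap_iff.2 Algebra.IsIntegral.isIntegral
  exact h.of_isIntegralHom f p ⟨hpp.out.pos, fun l hl hd =>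
    Set.mem_singleton_iff.2 ((Nat.prime_dvd_prime_iff_eq hl hpp.out).1 hd)⟩ _ (killed_const (X := Spec (CommRingCat.of L)) p) q hq

end Groth.Agent.EtPBC
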