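import Groth.Agent.EtPBC.FieldCd
import Groth.Agent.EtPBC.FieldDescent
import Groth.Agent.EtPBC.CdDevDeg
import Groth.Agent.Hensel.Branches
import Groth.Agent.S14620
import Mathlib.RingTheory.DedekindDomain.IntegralClosure
import Mathlib.RingTheory.DiscreteValuationRing.TFAE
import Mathlib.FieldTheory.KummerExtension

/-!
# The fraction field of a strictly henselian discrete valuation ring has `cd_p ≤ 1`

For `p` a prime invertible in the ring: units are `p`-th powers and every element is a norm from
every Galois extension of degree `p`.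
-/

set_option autoImplicit false
set_option backward.isDefEq.respectTransparency false
set_option linter.style.haveILetI false

universe u

open CategoryTheory AlgebraicGeometry IsLocalRing Polynomial

noncomputable section

namespace Groth.Agent.EtPBC

variable (p : ℕ) [hpp : Fact p.Prime]

/-- units of a henselian local ring with separably closed residue field are `p`-th powers -/
theorem exists_pow_eq_of_isUnit (R : Type u) [CommRing R] [HenselianLocalRing R] [IsSepClosed (ResidueField R)]
    (hp : IsUnit (p : R)) {a : R} (ha : IsUnit a) : ∃ b : R, b ^ p = a ∧ IsUnit b := by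
  have hp0 : (p : ResidueField R) ≠ 0 := by
    have h := (hp.map (residue R)).ne_zero
    rwa [map_natCast] at h
  haveI : NeZero (p : ResidueField R) := ⟨hp0⟩
  obtain ⟨z, hz⟩ := IsSepClosed.exists_pow_nat_eq (residue R a) p
  obtain ⟨z, rfl⟩ := residue_surjective z
  have hzu : IsUnit z := by
    by_contra h
    have h0 : residue R z = 0 := (residue_eq_zero_iff z).2 h
    exact (ha.map (residue R)).ne_zero (by rw [← hz, h0, zero_pow hpp.out.ne_zero])
  have hm : ((X : R[X]) ^ p - C a).Monic := monic_X_pow_sub_C a hpp.out.ne_zero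
  have h1 : ((X : R[X]) ^ p - C a).eval z ∈ maximalIdeal R := by
    rw [← residue_eq_zero_iff, eval_sub, eval_pow, eval_X, eval_C, map_sub, map_pow, hz, sub_self]
  have h2 : IsUnit (((X : R[X]) ^ p - C a).derivative.eval z) := by
    rw [derivative_sub, derivative_X_pow, derivative_C, sub_zero, eval_mul, eval_C, eval_pow, eval_X]
    exact hp.mul (hzu.pow _)
  obtain ⟨b, hb, -⟩ := HenselianLocalRing.is_henselian _ hm z h1 h2
  rw [IsRoot, eval_sub, eval_pow, eval_X, eval_C, sub_eq_zero] at hb
  exact ⟨b, hb, (isUnit_pow_iff hpp.out.ne_zero).1 (hb ▸ ha)⟩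

section Field

variable (R : Type u) [CommRing R] [IsDomain R] [IsDiscreteValuationRing R] [HenselianLocalRing R]
  [IsSepClosed (ResidueField R)] (K : Type u) [Field K] [Algebra R K] [IsFractionRing R K]

/-- finite separable extensions of the fraction field are fraction fields of strictly henselian DVRs -/
theorem exists_dvr_of_finite (hp : IsUnit (p : R)) (K' : Type u) [Field K'] [Algebra K K'] [FiniteDimensional K K']
    [Algebra.IsSeparable K K'] :
    ∃ (B : Type u) (_ : CommRing B) (_ : IsDomain B) (_ : IsDiscreteValuationRing B) (_ : HenselianLocalRing B)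
      (_ : IsSepClosed (ResidueField B)) (_ : Algebra B K') (_ : IsFractionRing B K'), IsUnit (p : B) := by
  letI : Algebra R K' := ((algebraMap K K').comp (algebraMap R K)).toAlgebra
  haveI : IsScalarTower R K K' := IsScalarTower.of_algebraMap_eq fun _ => rfl
  let B := integralClosure R K'
  haveI : IsIntegralClosure B R K' := integralClosure.isIntegralClosure R K'
  haveI : Module.Finite R B := IsIntegralClosure.finite R K K' B
  haveI : IsDedekindDomain B := IsIntegralClosure.isDedekindDomain R K K' B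
  haveI : Algebra.IsIntegral R B := Algebra.IsIntegral.of_finite R B
  haveI : IsLocalRing B := Hensel.isLocalRing_of_integral_domain R B
  have hinj : Function.Injective (algebraMap R B) := fun x y hxy =>
    IsFractionRing.injective R K ((algebraMap K K').injective (congrArg Subtype.val hxy))
  haveI : IsLocalHom (algebraMap R B) :=
    RingHom.IsIntegral.isLocalHom (Algebra.IsIntegral.isIntegral (R := R)) hinj
  obtain ⟨hH, hS⟩ := Groth.Agent.S14620.result (algebraMap R B)
    (show Module.Finite R B from inferInstance) ⟨inferInstance, inferInstance⟩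
  haveI : IsFractionRing B K' := IsIntegralClosure.isFractionRing_of_finite_extension R K K' B
  have hnf : ¬ IsField B := fun h =>
    IsDiscreteValuationRing.not_isField R ((Algebra.IsIntegral.isField_iff_isField hinj).2 h)
  have h02 := (IsDiscreteValuationRing.TFAE B hnf).out 0 2
  haveI : IsDiscreteValuationRing B := h02.2 inferInstance
  refine ⟨B, inferInstance, inferInstance, inferInstance, hH, hS, inferInstance, inferInstance, ?_⟩
  have h := hp.map (algebraMap R B)
  rwa [map_natCast] at h

variable {R K}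

/-- a `p`-th root of a uniformizer in every Galois extension of degree `p` makes all elements norms -/
theorem exists_norm_eq (hp : IsUnit (p : R)) {L : Type u} [Field L] [Algebra K L] [FiniteDimensional K L]
    [IsGalois K L] (hdeg : Module.finrank K L = p) (x : K) (hx : x ≠ 0) : ∃ y : L, Algebra.norm K y = x := by
  have hpw : ∀ u : Rˣ, ∃ y : L, Algebra.norm K y = algebraMap R K u := by
    intro u
    obtain ⟨b, hb, -⟩ := exists_pow_eq_of_isUnit p R hp u.isUnit
    exact ⟨algebraMap K L (algebraMap R K b), by rw [Algebra.norm_algebraMap, hdeg, ← map_pow, hb]⟩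
  -- `μ_p` lies in `K`
  have hp0 : (p : ResidueField R) ≠ 0 := by
    have h := (hp.map (residue R)).ne_zero
    rwa [map_natCast] at h
  haveI : NeZero (p : ResidueField R) := ⟨hp0⟩
  have hpK : (p : K) ≠ 0 := by
    rw [← map_natCast (algebraMap R K)]
    exact (hp.map _).ne_zero
  obtain ⟨z, hz⟩ := IsSepClosed.exists_root (cyclotomic p (ResidueField R))
    (degree_cyclotomic_pos p _ hpp.out.pos).ne' (separable_cyclotomic p _)
  obtain ⟨z, rfl⟩ := residue_surjective z
  have h1 : (cyclotomic p R).eval z ∈ maximalIdeal R := by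
    rw [← residue_eq_zero_iff, ← eval₂_at_apply, ← Polynomial.eval_map, map_cyclotomic]
    exact hz
  have h2 : IsUnit ((cyclotomic p R).derivative.eval z) := by
    rw [← notMem_maximalIdeal, ← residue_eq_zero_iff, ← eval₂_at_apply, ← Polynomial.eval_map, ← derivative_map,
      map_cyclotomic]
    exact (separable_cyclotomic p (ResidueField R)).eval₂_derivative_ne_zero (RingHom.id _) hz
  obtain ⟨ζ, hζ, -⟩ := HenselianLocalRing.is_henselian _ (cyclotomic.monic p R) z h1 h2
  haveI : NeZero (p : K) := ⟨hpK⟩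
  have hprim : IsPrimitiveRoot (algebraMap R K ζ) p := by
    refine isRoot_cyclotomic_iff.1 ?_
    rw [IsRoot, ← map_cyclotomic p (algebraMap R K), Polynomial.eval_map, eval₂_at_apply, hζ, map_zero]
  have hne : (primitiveRoots (Module.finrank K L) K).Nonempty :=
    ⟨algebraMap R K ζ, (mem_primitiveRoots (hdeg ▸ hpp.out.pos)).2 (hdeg ▸ hprim)⟩
  haveI : IsCyclic Gal(L/K) := isCyclic_of_prime_card (p := p) (by rw [IsGalois.card_aut_eq_finrank, hdeg])
  obtain ⟨α, ⟨a, ha⟩, htop⟩ := exists_root_adjoin_eq_top_of_isCyclic K L hne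
  rw [hdeg] at ha
  have hout : α ∉ (algebraMap K L).range := by
    rintro ⟨c, rfl⟩
    have h' := IntermediateField.adjoin_simple_eq_bot_iff.2
      (IntermediateField.algebraMap_mem (⊥ : IntermediateField K L) c)
    rw [htop] at h'
    have := hpp.out.one_lt
    rw [← hdeg, ← IntermediateField.finrank_top', h', IntermediateField.finrank_bot] at this
    exact lt_irrefl _ this
  have ha0 : a ≠ 0 := by
    rintro rfl
    refine hout ⟨0, ?_⟩
    rw [map_zero] at ha ⊢
    exact (pow_eq_zero_iff hpp.out.ne_zero).1 ha.symm |>.symm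
  obtain ⟨ϖ, hϖ⟩ := IsDiscreteValuationRing.exists_irreducible R
  let π : K := algebraMap R K ϖ
  have hπ0 : π ≠ 0 := (_root_.map_ne_zero_iff _ (IsFractionRing.injective R K)).2 hϖ.ne_zero
  obtain ⟨n, u, hu⟩ := IsDiscreteValuationRing.exists_units_eq_smul_zpow_of_irreducible (K := K) hϖ ha0
  rw [Units.smul_def, Algebra.smul_def] at hu
  obtain ⟨b, hb, hbu⟩ := exists_pow_eq_of_isUnit p R hp u.isUnit
  have hb0 : algebraMap R K b ≠ 0 := (hbu.map _).ne_zero
  -- `β ^ p = π ^ n`
  let β : L := α / algebraMap K L (algebraMap R K b)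
  have hβ : β ^ p = algebraMap K L (π ^ n) := by
    rw [div_pow, ← ha, ← map_pow, ← map_pow (algebraMap R K), hb, ← map_div₀, hu,
      mul_div_cancel_left₀ _ (u.isUnit.map (algebraMap R K)).ne_zero]
  have hn : ¬ (p : ℤ) ∣ n := by
    rintro ⟨m, rfl⟩
    have hz : (β / algebraMap K L (π ^ m)) ^ p = 1 := by
      rw [div_pow, hβ, ← map_pow, ← zpow_natCast (π ^ m), ← zpow_mul, mul_comm m, div_self]
      exact (_root_.map_ne_zero _).2 (zpow_ne_zero _ hπ0)
    have hprimL : IsPrimitiveRoot (algebraMap K L (algebraMap R K ζ)) p :=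
      hprim.map_of_injective (algebraMap K L).injective
    obtain ⟨i, -, hi⟩ := hprimL.eq_pow_of_pow_eq_one hz
    refine hout ⟨(algebraMap R K ζ) ^ i * π ^ m * algebraMap R K b, ?_⟩
    rw [map_mul, map_mul, map_pow, hi, div_mul_cancel₀ _ ((_root_.map_ne_zero _).2 (zpow_ne_zero _ hπ0)),
      div_mul_cancel₀ _ ((_root_.map_ne_zero _).2 hb0)]
  obtain ⟨s, t, hst⟩ : IsCoprime n (p : ℤ) :=
    ((Nat.prime_iff_prime_int.1 hpp.out).coprime_iff_not_dvd.2 hn).symm
  let γ : L := β ^ s * algebraMap K L (π ^ t)
  have hγ : γ ^ p = algebraMap K L π := by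
    rw [mul_pow, ← map_pow, ← zpow_natCast (β ^ s), ← zpow_mul, mul_comm s, zpow_mul, zpow_natCast, hβ,
      ← map_zpow₀, ← map_mul, ← zpow_natCast (π ^ t), ← zpow_mul, ← zpow_mul, ← zpow_add₀ hπ0,
      show n * s + t * p = 1 by linear_combination hst, zpow_one]
  -- the norm of `γ` is `π` up to a unit
  let e : K := Algebra.norm K γ / π
  have he : e ^ p = 1 := by
    rw [div_pow, ← map_pow, hγ, Algebra.norm_algebraMap, hdeg, div_self (pow_ne_zero _ hπ0)]
  obtain ⟨e₀, he₀⟩ := IsIntegrallyClosed.isIntegral_iff.1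
    (IsIntegral.of_pow hpp.out.pos (he ▸ isIntegral_one) : IsIntegral R e)
  have he₀u : IsUnit e₀ := IsUnit.of_pow_eq_one (IsFractionRing.injective R K (by
    rw [map_pow, he₀, he, map_one])) hpp.out.ne_zero
  obtain ⟨c, hc⟩ := hpw he₀u.unit
  have hc0 : c ≠ 0 := fun h => (he₀u.map (algebraMap R K)).ne_zero (by
    rw [h, Algebra.norm_zero] at hc; exact hc.symm)
  have hπn : ∃ y : L, y ≠ 0 ∧ Algebra.norm K y = π := by
    have hγ0 : γ ≠ 0 := fun h => by
      rw [h, zero_pow hpp.out.ne_zero] at hγ
      exact (_root_.map_ne_zero _).2 hπ0 hγ.symm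
    refine ⟨γ / c, div_ne_zero hγ0 hc0, ?_⟩
    have h := congrArg (Algebra.norm K) (mul_div_cancel₀ γ hc0)
    rw [map_mul, hc, IsUnit.unit_spec, he₀, div_mul_eq_mul_div, div_eq_iff hπ0] at h
    exact mul_left_cancel₀ (Algebra.norm_ne_zero_iff.2 hγ0) h
  obtain ⟨y, hy0, hy⟩ := hπn
  have hinv : Algebra.norm K y⁻¹ = π⁻¹ := by
    refine eq_inv_of_mul_eq_one_left ?_
    rw [← hy, ← map_mul, inv_mul_cancel₀ hy0, map_one]
  obtain ⟨m, v, hv⟩ := IsDiscreteValuationRing.exists_units_eq_smul_zpow_of_irreducible (K := K) hϖ hx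
  obtain ⟨c', hc'⟩ := hpw v
  refine ⟨c' * y ^ m, ?_⟩
  rw [map_mul, hc', hv, Units.smul_def, Algebra.smul_def]
  congr 1
  cases m with
  | ofNat j => rw [Int.ofNat_eq_natCast, zpow_natCast, zpow_natCast, map_pow, hy]
  | negSucc j => rw [zpow_negSucc, zpow_negSucc, ← inv_pow, map_pow, hinv, inv_pow]

variable (R K)

/-- **norms from degree `p` Galois extensions are surjective** -/
theorem normSurj_of_strictHenselianDvr (hp : IsUnit (p : R)) : NormSurj p K := by
  intro K' _ _ _ _ L _ _ _ _ hdeg x hx
  obtain ⟨B, _, _, _, _, _, _, _, hpB⟩ := exists_dvr_of_finite p R K hp K'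
  exact exists_norm_eq p hpB hdeg x hx

/-- **`cd_p ≤ 1` for the fraction field of a strictly henselian DVR** -/
theorem kVanOn_one_of_strictHenselianDvr (hp : IsUnit (p : R)) : KVanOn {p} (Spec (CommRingCat.of K)) 1 := by
  have hpK : (p : K) ≠ 0 := by
    rw [← map_natCast (algebraMap R K)]
    exact (hp.map _).ne_zero
  intro m hm F hF q hq
  have e : m = p ^ m.primeFactorsList.length := Nat.eq_prime_pow_of_unique_prime_dvd hm.1.ne'
    fun hp hd => Set.mem_singleton_iff.1 (hm.2 _ hp hd)
  refine subsingleton_of_forall_eq 0 fun x => cdOne_of_normSurj p K hpK (normSurj_of_strictHenselianDvr p R K hp) F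
    (fun U s x => ⟨U, 𝟙 U, ⟨x, rfl⟩, isOfFinAddOrder_iff_nsmul_eq_zero.2 ⟨m, hm.1, hF U _⟩⟩) q hq x
    ⟨m.primeFactorsList.length, ?_⟩
  rw [← e]
  exact nsmul_eq_zero_of_killed F m hF q x

end Field

end Groth.Agent.EtPBC
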