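import Groth.Agent.EtPBC.CdPoint
import Groth.Agent.EtPBC.Skyscraper
import Groth.Agent.Hensel.BranchSum
import Mathlib

/-!
# Points of closed subschemes over strict henselisations of the ambient scheme
-/

set_option autoImplicit false
set_option backward.isDefEq.respectTransparency false
set_option backward.isDefEq.respectTransparency.types false
set_option linter.auxLemma false
set_option linter.style.haveILetI false
set_option linter.unusedSectionVars false
set_option maxHeartbeats 1000000

universe u

open CategoryTheory CategoryTheory.Limits CategoryTheory.Abelian AlgebraicGeometry Opposite IsLocalRing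

noncomputable section

namespace Groth.Agent.EtPBC

attribute [local instance 100000] EtCoh.H._proof_1 EtMV.hext
attribute [local instance 200000] EtMV.hextAb

/-- strict henselisations along an isomorphism of the base -/
theorem isStrictHenselization_of_bijective {A B S : Type u} [CommRing A] [IsLocalRing A] [CommRing B] [IsLocalRing B]
    [CommRing S] [IsLocalRing S] [Algebra A B] [Algebra A S] [Algebra B S] [IsScalarTower A B S]
    (hb : Function.Bijective (algebraMap A B)) [IsLocalHom (algebraMap A S)] [IsLocalHom (algebraMap B S)]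
    [h : _root_.Hensel.IsStrictHenselization A S] : _root_.Hensel.IsStrictHenselization B S := by
  haveI : IsLocalHom (algebraMap A B) := IsLocalHom.of_surjective _ hb.2
  refine ⟨h.henselian, ⟨h.isSepClosure.sep_closed, ?_⟩, fun T _ _ f _ τ hτ => ?_⟩
  · haveI : IsScalarTower (ResidueField A) (ResidueField B) (ResidueField S) :=
      IsScalarTower.of_algebraMap_eq fun x => by
        obtain ⟨a, rfl⟩ := residue_surjective x
        rw [ResidueField.algebraMap_residue, ResidueField.algebraMap_residue, ResidueField.algebraMap_residue,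
          ← IsScalarTower.algebraMap_apply]
    haveI : Algebra.IsSeparable (ResidueField A) (ResidueField S) := h.isSepClosure.separable
    exact Algebra.isSeparable_tower_top_of_isSeparable (ResidueField A) _ _
  · haveI : IsLocalHom (f.comp (algebraMap A B)) := RingHom.isLocalHom_comp _ _
    obtain ⟨g, ⟨hg, hgr⟩, hgu⟩ := h.universal T (f.comp (algebraMap A _)) τ (RingHom.ext fun x => by
      obtain ⟨a, rfl⟩ := residue_surjective x
      have h1 := RingHom.congr_fun hτ (residue _ (algebraMap A B a))
      rw [RingHom.comp_apply, ResidueField.map_residue, ResidueField.map_residue,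
        ← IsScalarTower.algebraMap_apply] at h1
      rw [RingHom.comp_apply, ResidueField.map_residue, ResidueField.map_residue, h1]
      rfl)
    refine ⟨g, ⟨RingHom.ext fun x => ?_, hgr⟩, fun g' hg' => hgu g' ⟨?_, hg'.2⟩⟩
    · obtain ⟨a, rfl⟩ := hb.2 x
      rw [RingHom.comp_apply, ← IsScalarTower.algebraMap_apply]
      exact RingHom.congr_fun hg a
    · rw [IsScalarTower.algebraMap_eq A B S, ← RingHom.comp_assoc, hg'.1]

/-- strict henselisations of the points of a closed subscheme -/
theorem exists_sh_closedImmersion {Z X : Scheme.{u}} (ι : Z ⟶ X) [IsClosedImmersion ι] (z : Z) (R : Type u)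
    [CommRing R] [IsLocalRing R] [Algebra (X.presheaf.stalk (ι z)) R]
    [IsLocalHom (algebraMap (X.presheaf.stalk (ι z)) R)]
    [_root_.Hensel.IsStrictHenselization (X.presheaf.stalk (ι z)) R] :
    ∃ (B : Type u) (_ : CommRing B) (_ : IsLocalRing B) (alg : Algebra (Z.presheaf.stalk z) B)
      (_ : IsLocalHom (algebraMap (Z.presheaf.stalk z) B)) (φ : R →+* B),
      Function.Surjective φ ∧ _root_.Hensel.IsStrictHenselization (Z.presheaf.stalk z) B ∧
      Spec.map (CommRingCat.ofHom φ) ≫ Hens2.specOf X (ι z) R = Hens2.specOf Z z B ≫ ι := by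
  let f : X.presheaf.stalk (ι z) →+* Z.presheaf.stalk z := (ι.stalkMap z).hom
  have hf : Function.Surjective f := ι.stalkMap_surjective z
  let I := RingHom.ker f
  have hIne : I ≠ ⊤ := RingHom.ker_ne_top f
  have hJne : I.map (algebraMap (X.presheaf.stalk (ι z)) R) ≠ ⊤ := fun h => by
    have h2 : I.map (algebraMap (X.presheaf.stalk (ι z)) R) ≤ maximalIdeal R :=
      (Ideal.map_mono (le_maximalIdeal hIne)).trans (((local_hom_TFAE (algebraMap (X.presheaf.stalk (ι z)) R)).out 0 2).1 ‹_›)
    exact (maximalIdeal.isMaximal R).ne_top (top_le_iff.1 (h ▸ h2))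
  haveI : Nontrivial (X.presheaf.stalk (ι z) ⧸ I) := Ideal.Quotient.nontrivial_iff.2 hIne
  haveI : IsLocalRing (X.presheaf.stalk (ι z) ⧸ I) := IsLocalRing.of_surjective' _ Ideal.Quotient.mk_surjective
  let B := R ⧸ I.map (algebraMap (X.presheaf.stalk (ι z)) R)
  haveI : Nontrivial B := Ideal.Quotient.nontrivial_iff.2 hJne
  haveI : IsLocalRing B := IsLocalRing.of_surjective' _ Ideal.Quotient.mk_surjective
  haveI : IsLocalHom (algebraMap (X.presheaf.stalk (ι z) ⧸ I) B) := ⟨fun x hx => by
    obtain ⟨a, rfl⟩ := Ideal.Quotient.mk_surjective x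
    have h1 : IsUnit (Ideal.Quotient.mk _ (algebraMap (X.presheaf.stalk (ι z)) R a) : B) := hx
    haveI : IsLocalHom (Ideal.Quotient.mk (I.map (algebraMap (X.presheaf.stalk (ι z)) R))) :=
      IsLocalHom.of_surjective _ Ideal.Quotient.mk_surjective
    exact ((h1.of_map (Ideal.Quotient.mk _) _).of_map (algebraMap _ R) a).map _⟩
  haveI := Hensel.isStrictHenselization_quotient (A := X.presheaf.stalk (ι z)) (S := R) I
  let e : (X.presheaf.stalk (ι z) ⧸ I) ≃+* Z.presheaf.stalk z := RingHom.quotientKerEquivOfSurjective hf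
  letI : Algebra (X.presheaf.stalk (ι z) ⧸ I) (Z.presheaf.stalk z) := e.toRingHom.toAlgebra
  letI alg : Algebra (Z.presheaf.stalk z) B :=
    ((algebraMap (X.presheaf.stalk (ι z) ⧸ I) B).comp e.symm.toRingHom).toAlgebra
  haveI : IsScalarTower (X.presheaf.stalk (ι z) ⧸ I) (Z.presheaf.stalk z) B :=
    IsScalarTower.of_algebraMap_eq fun a => by
      show _ = algebraMap _ B (e.symm (e a))
      rw [e.symm_apply_apply]
  haveI hloc : IsLocalHom (algebraMap (Z.presheaf.stalk z) B) := ⟨fun x hx => by
    have h1 := (IsUnit.of_map (algebraMap (X.presheaf.stalk (ι z) ⧸ I) B) (e.symm x) hx).map e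
    rwa [e.apply_symm_apply] at h1⟩
  refine ⟨B, inferInstance, inferInstance, alg, hloc, Ideal.Quotient.mk _, Ideal.Quotient.mk_surjective,
    isStrictHenselization_of_bijective (A := X.presheaf.stalk (ι z) ⧸ I) e.bijective, ?_⟩
  have key : (algebraMap (Z.presheaf.stalk z) B).comp f =
      (Ideal.Quotient.mk _).comp (algebraMap (X.presheaf.stalk (ι z)) R) := RingHom.ext fun a => by
    show algebraMap (X.presheaf.stalk (ι z) ⧸ I) B (e.symm (f a)) = _
    have h1 : e (Ideal.Quotient.mk I a) = f a := rfl
    rw [← h1, e.symm_apply_apply]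
    rfl
  show Spec.map (CommRingCat.ofHom _) ≫ Spec.map (CommRingCat.ofHom _) ≫ X.fromSpecStalk (ι z) =
    (Spec.map (CommRingCat.ofHom _) ≫ Z.fromSpecStalk z) ≫ ι
  rw [Category.assoc, ← Scheme.SpecMap_stalkMap_fromSpecStalk, ← Spec.map_comp_assoc, ← Spec.map_comp_assoc,
    ← CommRingCat.ofHom_comp, ← key]
  rfl

/-- **points of closed subschemes over strict henselisations** -/
theorem kVanOn_pullback_closedImmersion {L : Set ℕ} {Z X : Scheme.{u}} (ι : Z ⟶ X) [IsClosedImmersion ι] (x z : Z)
    {n : ℕ} (R : Type u) [CommRing R] [IsLocalRing R] [Algebra (X.presheaf.stalk (ι z)) R]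
    [IsLocalHom (algebraMap (X.presheaf.stalk (ι z)) R)]
    [_root_.Hensel.IsStrictHenselization (X.presheaf.stalk (ι z)) R]
    (h : KVanOn L (pullback (X.fromSpecResidueField (ι x)) (Hens2.specOf X (ι z) R)) n) :
    ∃ (B : Type u) (_ : CommRing B) (_ : IsLocalRing B) (_ : Algebra (Z.presheaf.stalk z) B)
      (_ : IsLocalHom (algebraMap (Z.presheaf.stalk z) B)),
      _root_.Hensel.IsStrictHenselization (Z.presheaf.stalk z) B ∧
      KVanOn L (pullback (Z.fromSpecResidueField x) (Hens2.specOf Z z B)) n := by
  obtain ⟨B, _, _, _, _, φ, hφ, hB, hc⟩ := exists_sh_closedImmersion ι z R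
  refine ⟨B, inferInstance, inferInstance, inferInstance, inferInstance, hB, ?_⟩
  let q := Spec.map (CommRingCat.ofHom φ)
  haveI : IsClosedImmersion q := IsClosedImmersion.spec_of_surjective _ hφ
  let s := Hens2.specOf X (ι z) R
  let a := X.fromSpecResidueField (ι x)
  let r := Spec.map (ι.residueFieldMap x)
  haveI : IsClosedImmersion r :=
    IsClosedImmersion.spec_of_surjective _ fun c => by
      obtain ⟨c, rfl⟩ := Scheme.residue_surjective Z x c
      obtain ⟨d, rfl⟩ := ι.stalkMap_surjective x c
      exact ⟨X.residue (ι x) d, ConcreteCategory.congr_hom (Scheme.residue_residueFieldMap ι x) d⟩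
  have hr : r ≫ a = Z.fromSpecResidueField x ≫ ι := Scheme.Hom.SpecMap_residueFieldMap_fromSpecResidueField ι x
  let p₁ := pullback.fst (Z.fromSpecResidueField x) (Hens2.specOf Z z B)
  let p₂ := pullback.snd (Z.fromSpecResidueField x) (Hens2.specOf Z z B)
  let w : pullback (Z.fromSpecResidueField x) (Hens2.specOf Z z B) ⟶ pullback (r ≫ a) (q ≫ s) :=
    pullback.lift p₁ p₂ (by rw [hr, hc, ← Category.assoc, ← Category.assoc, pullback.condition])
  haveI : IsIso w := ⟨pullback.lift (pullback.fst _ _) (pullback.snd _ _)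
      (by rw [← cancel_mono ι, Category.assoc, Category.assoc, ← hr, ← hc]; exact pullback.condition),
    pullback.hom_ext (by simp [w, p₁]) (by simp [w, p₂]), pullback.hom_ext (by simp [w, p₁]) (by simp [w, p₂])⟩
  let m : pullback (r ≫ a) (q ≫ s) ⟶ pullback a s := pullback.map _ _ a s r q (𝟙 _) (by simp) (by simp)
  haveI : IsClosedImmersion m := MorphismProperty.pullbackMap (P := @IsClosedImmersion) (f := r ≫ a) (g := q ≫ s) (i₁ := r) (i₂ := q) ‹_› ‹_› rfl rfl
  exact h.of_isIntegralHom (w ≫ m)

end Groth.Agent.EtPBC
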