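import Groth.Agent.EtPBC.RatDim
import Groth.Agent.EtPBC.CdDimLoc
import Groth.Agent.UnibranchEtale.Scheme
import Groth.Agent.S2135
import Groth.Agent.EtMV.ConstUnit
import Groth.Agent.EtTorsPoint.ConstFree
import Groth.Agent.RedSepLib.Basic
import Mathlib

/-!
# Constant sheaves on geometrically unibranch irreducible schemes
-/

set_option autoImplicit false
set_option backward.isDefEq.respectTransparency false
set_option backward.isDefEq.respectTransparency.types false
set_option linter.auxLemma false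
set_option linter.style.haveILetI false
set_option linter.unusedSectionVars false

universe u

open CategoryTheory CategoryTheory.Limits CategoryTheory.Abelian AlgebraicGeometry Opposite TopologicalSpace
open IsLocalRing

noncomputable section

namespace Groth.Agent.EtPBC.UnibrConst

attribute [local instance 100000] EtCoh.H._proof_1 EtMV.hext
attribute [local instance 200000] EtMV.hextAb

/-- geometric unibranchness descends along a surjection with nil kernel, read on a strict henselisation -/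
theorem isGeomUnibranch_of_surjective {A B : Type u} [CommRing A] [IsLocalRing A] [CommRing B] [IsLocalRing B]
    (f : A →+* B) (hf : Function.Surjective f) (hnil : RingHom.ker f ≤ nilradical A) (R : Type u) [CommRing R]
    [IsLocalRing R] [Algebra A R] [IsLocalHom (algebraMap A R)] [_root_.Hensel.IsStrictHenselization A R]
    [IrreducibleSpace (PrimeSpectrum R)] : CAlg2.IsGeomUnibranch B := by
  let I := RingHom.ker f
  let J := I.map (algebraMap A R)
  have hIne : I ≠ ⊤ := RingHom.ker_ne_top f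
  have hJnil : J ≤ nilradical R := Ideal.map_le_iff_le_comap.2 fun a ha =>
    mem_nilradical.2 ((mem_nilradical.1 (hnil ha)).map (algebraMap A R))
  have hP : (nilradical R).IsPrime :=
    PrimeSpectrum.irreducibleSpace_iff_isPrime_nilradical.1 inferInstance
  obtain ⟨h1, h2, h3⟩ := Hensel.quotient_local_setup A R I hIne
  haveI := h1; haveI := h2; haveI := h3
  haveI := Hensel.isStrictHenselization_quotient (A := A) (S := R) I
  let e : (A ⧸ I) ≃+* B := RingHom.quotientKerEquivOfSurjective hf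
  letI : Algebra (A ⧸ I) B := e.toRingHom.toAlgebra
  letI : Algebra B (R ⧸ J) := ((algebraMap (A ⧸ I) (R ⧸ J)).comp e.symm.toRingHom).toAlgebra
  haveI : IsScalarTower (A ⧸ I) B (R ⧸ J) := IsScalarTower.of_algebraMap_eq fun a => by
    show _ = algebraMap _ (R ⧸ J) (e.symm (e a))
    rw [e.symm_apply_apply]
  haveI : IsLocalHom (algebraMap B (R ⧸ J)) := ⟨fun x hx => by
    have h4 := (IsUnit.of_map (algebraMap (A ⧸ I) (R ⧸ J)) (e.symm x) hx).map e
    rwa [e.apply_symm_apply] at h4⟩
  haveI := isStrictHenselization_of_bijective (A := A ⧸ I) (B := B) (S := R ⧸ J) e.bijective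
  refine (S2135.result (A := B) (Ash := R ⧸ J)).2 ?_
  have hP' : ((nilradical R).map (Ideal.Quotient.mk J)).IsPrime :=
    Ideal.map_isPrime_of_surjective Ideal.Quotient.mk_surjective (Ideal.mk_ker.trans_le hJnil)
  have hle : ∀ q : Ideal (R ⧸ J), q.IsPrime → (nilradical R).map (Ideal.Quotient.mk J) ≤ q := fun q hq =>
    Ideal.map_le_iff_le_comap.2 (by haveI := hq; exact nilradical_le_prime _)
  exact ⟨(nilradical R).map (Ideal.Quotient.mk J), ⟨⟨hP', bot_le⟩, fun q hq _ => hle q hq.1⟩,
    fun q hq => le_antisymm (hq.2 ⟨hP', bot_le⟩ (hle q hq.1.1)) (hle q hq.1.1)⟩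

/-- the stalk maps of a bijective closed immersion have nil kernel -/
theorem ker_stalkMap_le_nilradical {Z X : Scheme.{u}} (ι : Z ⟶ X) [IsClosedImmersion ι] [Surjective ι] (z : Z) :
    RingHom.ker (ι.stalkMap z).hom ≤ nilradical (X.presheaf.stalk (ι z)) := by
  intro a ha
  obtain ⟨U, hzU, f, rfl⟩ := X.presheaf.exists_germ_eq a
  have h0 : Z.presheaf.germ (ι ⁻¹ᵁ U) z hzU (ι.app U f) = 0 := by
    rw [← Scheme.Hom.germ_stalkMap_apply]
    exact ha
  obtain ⟨W, hzW, iW, _, hW⟩ := Z.presheaf.germ_eq (U := ι ⁻¹ᵁ U) (V := ι ⁻¹ᵁ U) z hzU hzU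
    (ι.app U f) 0 (by rw [h0, map_zero])
  rw [map_zero] at hW
  obtain ⟨O, hO, hOW⟩ := ι.isEmbedding.isInducing.isOpen_iff.1 W.2
  have hzO : ι z ∈ O := Set.ext_iff.1 hOW z |>.2 hzW
  obtain ⟨V, hV, hzV, hVsub⟩ := exists_isAffineOpen_mem_and_subset (U := U ⊓ ⟨O, hO⟩) (x := ι z) ⟨hzU, hzO⟩
  let g := X.presheaf.map (homOfLE (fun y hy => (hVsub hy).1 : V ≤ U)).op f
  have hb : X.basicOpen g = ⊥ := by
    refine eq_bot_iff.2 fun y hy => ?_
    obtain ⟨w, rfl⟩ := ι.surjective y
    rw [Scheme.basicOpen_res] at hy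
    have hwW : w ∈ W := Set.ext_iff.1 hOW w |>.1 (hVsub hy.1).2
    have h1 : w ∈ Z.basicOpen (ι.app U f) := by
      rw [← Scheme.preimage_basicOpen]
      exact hy.2
    have h2 : w ∈ Z.basicOpen (Z.presheaf.map iW.op (ι.app U f)) := by
      rw [Scheme.basicOpen_res]
      exact ⟨hwW, h1⟩
    rw [hW, Scheme.basicOpen_zero] at h2
    exact h2.elim
  obtain ⟨n, hn⟩ := (Scheme.isNilpotent_iff_basicOpen_eq_bot_of_isCompact hV.isCompact g).2 hb
  refine mem_nilradical.2 ⟨n, ?_⟩
  rw [← X.presheaf.germ_res_apply (homOfLE (fun y hy => (hVsub hy).1 : V ≤ U)) (ι z) hzV f, ← map_pow, hn, map_zero]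

variable {X : Scheme.{u}} [IsIntegral X]

theorem generic_unique_of_geomUnibranch (hG : ∀ x : X, CAlg2.IsGeomUnibranch (X.presheaf.stalk x)) {V : Scheme.{u}}
    (g : V ⟶ X) [Etale g] {w a b : V} (ha : g a = genericPoint X) (hb : g b = genericPoint X)
    (haw : a ⤳ w) (hbw : b ⤳ w) : a = b := by
  haveI : Etale ((⊤ : V.Opens).ι ≫ g) := inferInstance
  obtain ⟨hd, -⟩ := UnibranchEtale.stalk_of_etale g w inferInstance (hG _) ⟨⊤, trivial, inferInstance⟩
  haveI := hd
  let c := V.fromSpecStalk w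
  have key : ∀ a, g a = genericPoint X → a ⤳ w → c (genericPoint (Spec (V.presheaf.stalk w))) = a := by
    intro a ha haw
    obtain ⟨a', ha'⟩ : a ∈ Set.range c := by rw [Scheme.range_fromSpecStalk]; exact haw
    have h1 : c (genericPoint (Spec (V.presheaf.stalk w))) ⤳ a := by
      rw [← ha']
      exact (genericPoint_specializes a').map c.continuous
    refine EtMV.eq_of_specializes_of_eq g h1 ?_
    have h2 : g (c (genericPoint (Spec (V.presheaf.stalk w)))) ⤳ g a := h1.map g.continuous
    rw [ha] at h2 ⊢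
    exact (Specializes.antisymm (genericPoint_specializes _) h2).eq.symm
  exact (key a ha haw).symm.trans (key b hb hbw)

theorem irrNhd_of_geomUnibranch (hG : ∀ x : X, CAlg2.IsGeomUnibranch (X.presheaf.stalk x)) : EtMV.IrrNhd X :=
    fun W w => by
  let g : W.left ⟶ X := W.hom
  haveI : Etale g := W.prop
  obtain ⟨η, hη, hs⟩ := EtMV.exists_generic_specializes W w
  obtain ⟨V, hV, hwV, -⟩ := exists_isAffineOpen_mem_and_subset (U := ⊤) (x := g w) trivial
  obtain ⟨O₀, hO₀, hwO, hO₀V⟩ := exists_isAffineOpen_mem_and_subset (U := g ⁻¹ᵁ V) (x := w) hwV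
  let h : (O₀ : Scheme.{u}) ⟶ (V : Scheme.{u}) := g.resLE V O₀ hO₀V
  haveI : Etale h := IsZariskiLocalAtSource.resLE (P := @Etale) hO₀V inferInstance
  haveI : IsAffine (O₀ : Scheme.{u}) := hO₀
  haveI : IsAffine (V : Scheme.{u}) := hV
  haveI : QuasiCompact h := inferInstance
  haveI := EtMV.lqf_of_etale h
  have hgV : genericPoint X ∈ V := (genericPoint_specializes (g w)).mem_open V.2 hwV
  have hfin : {a : W.left | a ∈ O₀ ∧ g a = genericPoint X ∧ a ≠ η}.Finite := by
    refine ((h.finite_preimage_singleton ⟨_, hgV⟩).image O₀.ι).subset ?_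
    rintro a ⟨ha, hga, -⟩
    refine ⟨⟨a, ha⟩, Subtype.ext ?_, rfl⟩
    show (h ≫ V.ι) ⟨a, ha⟩ = genericPoint X
    rw [Scheme.Hom.resLE_comp_ι]
    exact hga
  have hcl : IsClosed (⋃ a ∈ {a : W.left | a ∈ O₀ ∧ g a = genericPoint X ∧ a ≠ η}, closure {a}) :=
    hfin.isClosed_biUnion fun a _ => isClosed_closure
  let O : W.left.Opens := O₀ ⊓ ⟨_, hcl.isOpen_compl⟩
  have hnot : ∀ x, η ⤳ x → x ∉ ⋃ a ∈ {a : W.left | a ∈ O₀ ∧ g a = genericPoint X ∧ a ≠ η}, closure {a} := by
    intro x hx h'
    obtain ⟨a, ⟨-, hga, hne⟩, hax⟩ := Set.mem_iUnion₂.1 h'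
    exact hne (generic_unique_of_geomUnibranch hG g hga hη (specializes_iff_mem_closure.2 hax) hx)
  refine ⟨O, η, ⟨hwO, hnot w hs⟩, ⟨hs.mem_open O₀.2 hwO, hnot η specializes_rfl⟩, hη, fun η' hη' e => ?_⟩
  by_contra hne
  exact hη'.2 (Set.mem_iUnion₂.2 ⟨η', ⟨hη'.1, e, hne⟩, subset_closure rfl⟩)

variable (M : Type) [AddCommGroup M] [IsAddTorsionFree M]

/-- **torsion free constant coefficients on an integral geometrically unibranch scheme** -/
theorem subsingleton_H1_of_integral (hG : ∀ x : X, CAlg2.IsGeomUnibranch (X.presheaf.stalk x)) :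
    Subsingleton (EtCoh.H X (EtCoh.const X M) 1) := by
  let i : Spec (X.residueField (genericPoint X)) ⟶ X := X.fromSpecResidueField (genericPoint X)
  haveI := EtMV.isIso_unit_const (M := M) (irrNhd_of_geomUnibranch hG) i (Scheme.fromSpecResidueField_apply _ _)
  refine subsingleton_H_of_iso ?_ 1
    (EtTorsPoint.subsingleton_H1_push_const (k := X.residueField (genericPoint X)) M i)
  exact ((EtCoh.push i).mapIso (EtCore.pullConst i M)).symm ≪≫
    (asIso ((EtCoh.pullPushAdj i).unit.app (EtCoh.const X M))).symm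

/-- **the irreducible case** -/
theorem subsingleton_H1 (Y : Scheme.{u}) [IrreducibleSpace Y]
    (hY : ∀ (x : Y) (R : Type u) [CommRing R] [IsLocalRing R] [Algebra (Y.presheaf.stalk x) R]
      [IsLocalHom (algebraMap (Y.presheaf.stalk x) R)] [_root_.Hensel.IsStrictHenselization (Y.presheaf.stalk x) R],
      IrreducibleSpace (PrimeSpectrum R)) :
    Subsingleton (EtCoh.H Y (EtCoh.const Y M) 1) := by
  let ι := Y.nilradical.subschemeι
  have hr : Set.range ι = Set.univ := by
    rw [Scheme.IdealSheafData.range_subschemeι, Scheme.support_nilradical]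
    rfl
  haveI : Surjective ι := ⟨Set.range_eq_univ.1 hr⟩
  haveI : IsReduced Y.nilradical.subscheme := RedSepLib.isReduced_subscheme_nilradical Y
  haveI : IrreducibleSpace Y.nilradical.subscheme :=
    (ι.isClosedEmbedding.isEmbedding.toHomeomorphOfSurjective ι.surjective).irreducibleSpace_iff.2 inferInstance
  haveI := isIntegral_of_irreducibleSpace_of_isReduced Y.nilradical.subscheme
  have h := subsingleton_H1_of_integral (X := Y.nilradical.subscheme) M
    fun z => by
      obtain ⟨R, _, _, _, _, hR⟩ := EtBCQ.exists_sh (Y.presheaf.stalk (ι z))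
      haveI := hY (ι z) R
      exact isGeomUnibranch_of_surjective (ι.stalkMap z).hom (ι.stalkMap_surjective z)
        (ker_stalkMap_le_nilradical ι z) R
  exact RatDim.subsingleton_H_of_closedImmersion' ι _ (fun x hx => absurd (hr ▸ Set.mem_univ x) hx) 1
    (subsingleton_H_of_iso (EtCore.pullConst ι M).symm 1 h)

end Groth.Agent.EtPBC.UnibrConst
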