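import Groth.Agent.EtPBC.CdMain
import Groth.Agent.EtPBC.CdTensor
import Groth.Agent.EtStrictLoc.RelSys
import Groth.Agent.Weighting.Geom
import Groth.Agent.EtLimit.Push
import Groth.Agent.S9683
import Mathlib

/-!
# Strict localisations as limits of affine schemes over a larger field
-/

set_option autoImplicit false
set_option backward.isDefEq.respectTransparency false
set_option backward.isDefEq.respectTransparency.types false
set_option linter.auxLemma false
set_option linter.style.haveILetI false
set_option linter.unusedSectionVars false
set_option maxHeartbeats 1000000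

universe u

open CategoryTheory CategoryTheory.Limits CategoryTheory.Abelian AlgebraicGeometry Opposite TopologicalSpace IsLocalRing

noncomputable section

namespace Groth.Agent.EtPBC

attribute [local instance 100000] EtCoh.H._proof_1 EtMV.hext
attribute [local instance 200000] EtMV.hextAb

open EtStrictLoc in
/-- **affine base changes to strict localisations, seen over a field `K` through a map to an affine scheme** -/
theorem kVanOn_xR_of {X Y S₀ : Scheme.{u}} (g : X ⟶ Y) [IsAffineHom g] (y : Y) (R : Type u) [CommRing R] [IsLocalRing R]
    [HenselianLocalRing R] [IsSepClosed (ResidueField R)] [Algebra (Y.presheaf.stalk y) R]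
    [IsLocalHom (algebraMap (Y.presheaf.stalk y) R)] [_root_.Hensel.IsStrictHenselization (Y.presheaf.stalk y) R]
    [IsAffine S₀] (a₀ : X ⟶ S₀) {K : Type u} [Field K] (ω : Spec (CommRingCat.of K) ⟶ S₀)
    (σ : xR g y R ⟶ Spec (CommRingCat.of K)) (hσ : σ ≫ ω = pullback.fst g (Hens2.specOf Y y R) ≫ a₀) (d : ℕ)
    (hd : ∀ (W : Scheme.{u}) (t : W ⟶ pullback a₀ ω), IsAffine W → Etale t → EtCoh.CohDimLE W d) :
    KVanOn Set.univ (xR g y R) d := by
  let Idx' := Idx Y y R
  let a : ∀ i : Idx', (xDiag g y R).obj i ⟶ S₀ := fun i => xp g y R i ≫ a₀
  have ha : ∀ {i j : Idx'} (m : i ⟶ j), (xDiag g y R).map m ≫ a j = a i := fun {i j} m => by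
    rw [← Category.assoc, xp_w]
  let D : Idx' ⥤ Scheme.{u} :=
    { obj := fun i => pullback (a i) ω
      map := fun {i j} m => pullback.lift (pullback.fst _ _ ≫ (xDiag g y R).map m) (pullback.snd _ _)
        (by rw [Category.assoc, ha, pullback.condition])
      map_id := fun i => by
        apply pullback.hom_ext
        · simp only [pullback.lift_fst, CategoryTheory.Functor.map_id, Category.comp_id, Category.id_comp]
        · simp only [pullback.lift_snd, Category.id_comp]
      map_comp := fun m m' => by
        apply pullback.hom_ext
        · simp only [pullback.lift_fst, CategoryTheory.Functor.map_comp, Category.assoc, pullback.lift_fst_assoc]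
        · simp only [pullback.lift_snd, Category.assoc] }
  haveI : ∀ {i j : Idx'} (m : i ⟶ j), IsAffineHom (D.map m) := fun {i j} m => by
    have sq : IsPullback (D.map m) (pullback.fst (a i) ω) (pullback.fst (a j) ω) ((xDiag g y R).map m) := by
      refine IsPullback.of_right ?_ (pullback.lift_fst _ _ _) (IsPullback.of_hasPullback (a j) ω).flip
      rw [ha]
      exact (show D.map m ≫ pullback.snd (a j) ω = pullback.snd (a i) ω from pullback.lift_snd _ _ _).symm ▸
        (IsPullback.of_hasPullback (a i) ω).flip
    exact MorphismProperty.of_isPullback (P := @IsAffineHom) sq.flip inferInstance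
  let X' := pullback (pullback.fst g (Hens2.specOf Y y R) ≫ a₀) ω
  have hpt : ∀ i : Idx', xπ g y R i ≫ a i = pullback.fst g (Hens2.specOf Y y R) ≫ a₀ := fun i => by
    rw [← Category.assoc, xπ_snd]
  let c : Cone D :=
    { pt := X'
      π :=
        { app := fun i => pullback.lift (pullback.fst _ _ ≫ xπ g y R i) (pullback.snd _ _)
            (by rw [Category.assoc, hpt, pullback.condition])
          naturality := fun i j m => by
            refine (Category.id_comp _).trans ?_
            apply pullback.hom_ext
            · simp only [D, pullback.lift_fst, Category.assoc, pullback.lift_fst_assoc]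
              rw [xπ_w]
            · simp only [D, pullback.lift_snd, Category.assoc] } }
  haveI : Nonempty Idx' := IsCofiltered.nonempty
  let i₀ : Idx' := Classical.arbitrary _
  let tc (t : Cone D) : Cone (xDiag g y R) :=
    { pt := t.pt
      π :=
        { app := fun i => t.π.app i ≫ pullback.fst _ _
          naturality := fun i j m => by
            refine (Category.id_comp _).trans ?_
            rw [Category.assoc, ← t.w m, Category.assoc]
            exact congrArg (t.π.app i ≫ ·) (pullback.lift_fst _ _ _) } }
  have hsnd : ∀ (t : Cone D) (i : Idx'), t.π.app i ≫ pullback.snd _ _ = t.π.app i₀ ≫ pullback.snd _ _ := by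
    intro t i
    obtain ⟨k, p, q, -⟩ := IsCofilteredOrEmpty.cone_objs i i₀
    rw [← t.w p, ← t.w q, Category.assoc, Category.assoc]
    exact congrArg (t.π.app k ≫ ·) ((pullback.lift_snd _ _ _).trans (pullback.lift_snd _ _ _).symm)
  let hc : IsLimit c :=
    { lift := fun t => pullback.lift ((isLimitXCone g y R).lift (tc t)) (t.π.app i₀ ≫ pullback.snd _ _) (by
        rw [← hpt i₀, ← Category.assoc]
        erw [(isLimitXCone g y R).fac (tc t) i₀]
        show (t.π.app i₀ ≫ pullback.fst _ _) ≫ a i₀ = _
        rw [Category.assoc, Category.assoc, pullback.condition])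
      fac := fun t i => by
        apply pullback.hom_ext
        · simp only [c, Category.assoc, pullback.lift_fst, pullback.lift_fst_assoc]
          exact (isLimitXCone g y R).fac (tc t) i
        · simp only [c, Category.assoc, pullback.lift_snd]
          exact (hsnd t i).symm
      uniq := fun t m hm => by
        apply pullback.hom_ext
        · rw [pullback.lift_fst]
          refine (isLimitXCone g y R).hom_ext fun i => ?_
          rw [(isLimitXCone g y R).fac]
          show (m ≫ pullback.fst _ _) ≫ xπ g y R i = t.π.app i ≫ pullback.fst _ _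
          rw [← hm i, Category.assoc, Category.assoc]
          exact congrArg (m ≫ ·) (pullback.lift_fst _ _ _).symm
        · rw [pullback.lift_snd, ← hm i₀, Category.assoc]
          exact congrArg (m ≫ ·) (pullback.lift_snd _ _ _).symm }
  haveI : IsAffineHom ω := isAffineHom_of_isAffine ω
  haveI : ∀ i, IsAffine (D.obj i) := fun i => by
    haveI : IsAffine i.nhd.et.left := inferInstanceAs (IsAffine (Spec _))
    let φ : pullback i.nhd.et.hom g ⟶ i.nhd.et.left := pullback.fst i.nhd.et.hom g
    haveI : IsAffineHom φ := MorphismProperty.pullback_fst _ _ ‹IsAffineHom g›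
    haveI : IsAffine ((xDiag g y R).obj i) := isAffine_of_isAffineHom φ
    exact isAffine_of_isAffineHom (pullback.fst (a i) ω)
  have hD : ∀ i, EtCoh.CohDimLE (D.obj i) d := fun i => by
    let t : D.obj i ⟶ pullback a₀ ω := pullback.lift (pullback.fst _ _ ≫ xp g y R i) (pullback.snd _ _)
      (by rw [Category.assoc]; exact pullback.condition)
    have sq : IsPullback t (pullback.fst (a i) ω) (pullback.fst a₀ ω) (xp g y R i) := by
      refine IsPullback.of_right ?_ (pullback.lift_fst _ _ _) (IsPullback.of_hasPullback a₀ ω).flip
      exact (show t ≫ pullback.snd a₀ ω = pullback.snd (a i) ω from pullback.lift_snd _ _ _).symm ▸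
        (IsPullback.of_hasPullback (a i) ω).flip
    exact hd _ t inferInstance (MorphismProperty.of_isPullback (P := @Etale) sq.flip inferInstance)
  have hX' : KVanOn Set.univ X' d := kVanOn_of_cohDimLE (EtLimit.cohDimLE_limit D c hc d hD)
  let s : xR g y R ⟶ X' := pullback.lift (𝟙 _) σ (by rw [Category.id_comp, hσ])
  haveI : IsClosedImmersion s := by
    haveI : IsClosedImmersion (s ≫ pullback.fst (pullback.fst g (Hens2.specOf Y y R) ≫ a₀) ω) := by
      rw [pullback.lift_fst]; infer_instance
    exact IsClosedImmersion.of_comp s (pullback.fst (pullback.fst g (Hens2.specOf Y y R) ≫ a₀) ω)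
  haveI : CompactSpace ↥(xR g y R) := QuasiCompact.compactSpace_of_compactSpace (pullback.snd g _)
  haveI : QuasiSeparatedSpace ↥(xR g y R) := quasiSeparatedSpace_of_quasiSeparated (pullback.snd g _)
  exact hX'.of_isIntegralHom s

end Groth.Agent.EtPBC
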