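import Groth.Agent.EtPBC.CdMain
import Groth.Agent.EtPBC.CdStages
import Mathlib

/-!
# Dimensions of base changes to function fields of affine spaces
-/

set_option autoImplicit false
set_option backward.isDefEq.respectTransparency false
set_option backward.isDefEq.respectTransparency.types false
set_option linter.auxLemma false
set_option linter.style.haveILetI false
set_option linter.unusedSectionVars false
set_option maxHeartbeats 1000000

universe u

open CategoryTheory CategoryTheory.Limits CategoryTheory.Abelian AlgebraicGeometry Opposite TopologicalSpace IsLocalRing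

noncomputable section

namespace Groth.Agent.EtPBC

variable {k : Type u} [Field k] {X : Scheme.{u}}

theorem kStr_comp_eq (c : X ⟶ Spec (CommRingCat.of k)) {Z : Scheme.{u}} (h : Z ⟶ X) (z : Z) :
    kStr (h ≫ c) z = (h.residueFieldMap z).hom.comp (kStr c (h z)) := by
  have e : CommRingCat.ofHom (kStr (h ≫ c) z) = CommRingCat.ofHom (kStr c (h z)) ≫ h.residueFieldMap z := by
    apply Spec.map_injective
    rw [kStr_spec, Spec.map_comp, kStr_spec, ← Category.assoc,
      ← Scheme.Hom.SpecMap_residueFieldMap_fromSpecResidueField, Category.assoc]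
  exact congrArg CommRingCat.Hom.hom e

theorem surjective_residueFieldMap {Z : Scheme.{u}} (h : Z ⟶ X) [IsPreimmersion h] (z : Z) :
    Function.Surjective (h.residueFieldMap z) := by
  intro r
  obtain ⟨a, rfl⟩ := Scheme.residue_surjective Z z r
  obtain ⟨b, rfl⟩ := h.stalkMap_surjective z a
  exact ⟨X.residue (h z) b, (ConcreteCategory.congr_hom (Scheme.residue_residueFieldMap h z) b)⟩

/-- étale schemes do not have larger dimension -/
theorem dim_le_of_etale (c : X ⟶ Spec (CommRingCat.of k)) [LocallyOfFiniteType c] {n : ℕ}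
    (hn : topologicalKrullDim X ≤ n) {W : Scheme.{u}} (t : W ⟶ X) [Etale t] [QuasiCompact t] :
    topologicalKrullDim W ≤ n := by
  haveI := EtMV.lqf_of_etale t
  refine dim_le_of_resDim (t ≫ c) fun z => ?_
  show trdg (kStr (t ≫ c) z) ≤ n
  rw [kStr_comp_eq, trdg_comp_integral_right _ _ (Weighting.finite_residueFieldMap t z).to_isIntegral]
  exact resDim_of_dim_le c hn (t z)

/-- the affine space -/
abbrev affSp (k : Type u) [Field k] (r : ℕ) : Scheme.{u} := Spec (CommRingCat.of (MvPolynomial (Fin r) k))

/-- its structure map -/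
abbrev affSpC (k : Type u) [Field k] (r : ℕ) : affSp k r ⟶ Spec (CommRingCat.of k) :=
  Spec.map (CommRingCat.ofHom (algebraMap k (MvPolynomial (Fin r) k)))

/-- a field over the polynomials seen as a point of the affine space -/
abbrev affPt {k : Type u} [Field k] {r : ℕ} (K : Type u) [Field K] [Algebra (MvPolynomial (Fin r) k) K] :
    Spec (CommRingCat.of K) ⟶ affSp k r :=
  Spec.map (CommRingCat.ofHom (algebraMap (MvPolynomial (Fin r) k) K))

variable (c : X ⟶ Spec (CommRingCat.of k)) [LocallyOfFiniteType c] {r : ℕ} (a₀ : X ⟶ affSp k r)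
  (ha : a₀ ≫ affSpC k r = c)

include ha in
/-- the generic fibre over an affine space of dimension `r` -/
theorem dim_pullback_fractionRing {n : ℕ} (hn : topologicalKrullDim X ≤ n) :
    topologicalKrullDim ↥(pullback a₀ (affPt (FractionRing (MvPolynomial (Fin r) k)))) ≤ ((n - r : ℕ) : ℕ) := by
  let K₀ := FractionRing (MvPolynomial (Fin r) k)
  let ω₀ : Spec (CommRingCat.of K₀) ⟶ affSp k r := affPt K₀
  haveI : IsPreimmersion ω₀ := IsPreimmersion.of_isLocalization (R := MvPolynomial (Fin r) k) (S := K₀)
    (nonZeroDivisors (MvPolynomial (Fin r) k))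
  haveI : LocallyOfFiniteType (a₀ ≫ affSpC k r) := by rw [ha]; infer_instance
  haveI : LocallyOfFiniteType a₀ := locallyOfFiniteType_of_comp a₀ (affSpC k r)
  refine dim_le_of_resDim (pullback.snd a₀ ω₀) fun z => ?_
  obtain ⟨d, hd, -⟩ := exists_trdg_eq (pullback.snd a₀ ω₀) z
  show trdg (kStr (pullback.snd a₀ ω₀) z) ≤ ((n - r : ℕ) : Cardinal.{u})
  rw [hd, Nat.cast_le]
  let x := pullback.fst a₀ ω₀ z
  let φ : k →+* K₀ := (algebraMap (MvPolynomial (Fin r) k) K₀).comp MvPolynomial.C
  have hφ : trdg φ = r := by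
    let ψ : k →+* K₀ := algebraMap k K₀
    have hψ : φ = ψ := RingHom.ext fun _ => (IsScalarTower.algebraMap_apply k (MvPolynomial (Fin r) k) K₀ _).symm
    rw [hψ]
    show @Algebra.trdeg k K₀ _ _ (algebraMap k K₀).toAlgebra = r
    rw [show (algebraMap k K₀).toAlgebra = (inferInstance : Algebra k K₀) from Algebra.algebra_ext _ _ fun _ => rfl]
    haveI : FaithfulSMul k (MvPolynomial (Fin r) k) :=
      (faithfulSMul_iff_algebraMap_injective _ _).2 (algebraMap k _).injective
    haveI : FaithfulSMul (MvPolynomial (Fin r) k) K₀ :=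
      (faithfulSMul_iff_algebraMap_injective _ _).2 (IsFractionRing.injective _ _)
    haveI : Algebra.IsAlgebraic (MvPolynomial (Fin r) k) K₀ :=
      IsLocalization.isAlgebraic K₀ (nonZeroDivisors (MvPolynomial (Fin r) k))
    rw [← trdeg_add_eq k (MvPolynomial (Fin r) k) (A := K₀), MvPolynomial.trdeg_of_isDomain,
      trdeg_eq_zero (R := MvPolynomial (Fin r) k) (A := K₀), add_zero]
    simp
  have e : (kStr (pullback.snd a₀ ω₀) z).comp φ =
      ((pullback.fst a₀ ω₀).residueFieldMap z).hom.comp (kStr c x) := by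
    rw [← kStr_comp_eq]
    have h : CommRingCat.ofHom φ ≫ CommRingCat.ofHom (kStr (pullback.snd a₀ ω₀) z) =
        CommRingCat.ofHom (kStr (pullback.fst a₀ ω₀ ≫ c) z) := by
      apply Spec.map_injective
      rw [Spec.map_comp, kStr_spec, kStr_spec, Category.assoc, ← ha, pullback.condition_assoc]
      refine congrArg (fun e => _ ≫ pullback.snd a₀ ω₀ ≫ e) ?_
      rw [← Spec.map_comp]
      rfl
    exact congrArg CommRingCat.Hom.hom h
  have h1 := trdg_comp φ (kStr (pullback.snd a₀ ω₀) z)
  have h2 := trdg_comp_integral_right (kStr c x) ((pullback.fst a₀ ω₀).residueFieldMap z).hom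
    (RingHom.isIntegral_of_surjective _ (surjective_residueFieldMap _ z))
  rw [e, h2, hφ, hd] at h1
  have h3 : ((r + d : ℕ) : Cardinal.{u}) ≤ (n : Cardinal.{u}) := by
    push_cast
    rw [h1]
    exact resDim_of_dim_le c hn x
  have := Nat.cast_le.1 h3
  omega

variable (K : Type u) [Field K] [Algebra (FractionRing (MvPolynomial (Fin r) k)) K]
  [Algebra.IsIntegral (FractionRing (MvPolynomial (Fin r) k)) K] [Algebra (MvPolynomial (Fin r) k) K]
  [IsScalarTower (MvPolynomial (Fin r) k) (FractionRing (MvPolynomial (Fin r) k)) K]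

include ha in
/-- algebraic extensions of the function field -/
theorem dim_pullback_affPt {n : ℕ} (hn : topologicalKrullDim X ≤ n) :
    topologicalKrullDim ↥(pullback a₀ (affPt K)) ≤ ((n - r : ℕ) : ℕ) := by
  let K₀ := FractionRing (MvPolynomial (Fin r) k)
  let ω' := Spec.map (CommRingCat.ofHom (algebraMap K₀ K))
  haveI : IsIntegralHom ω' := IsIntegralHom.SpecMap_iff.2 (algebraMap_isIntegral_iff.2 inferInstance)
  have hω : affPt (k := k) (r := r) K = ω' ≫ affPt K₀ := by
    rw [← Spec.map_comp]
    exact congrArg Spec.map (CommRingCat.hom_ext (IsScalarTower.algebraMap_eq _ K₀ K))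
  rw [hω]
  let e := pullbackLeftPullbackSndIso a₀ (affPt K₀) ω'
  let t : pullback a₀ (ω' ≫ affPt K₀) ⟶ pullback a₀ (affPt K₀) := e.inv ≫ pullback.fst _ _
  haveI : IsIntegralHom t := inferInstance
  exact (S9683.result t).1.trans (dim_pullback_fractionRing c a₀ ha hn)

end Groth.Agent.EtPBC
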