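import Groth.Agent.Hensel.Branches
import Groth.Agent.Hensel.Local
import Mathlib.RingTheory.DiscreteValuationRing.TFAE
import Mathlib.FieldTheory.PrimitiveElement
import Mathlib.RingTheory.AdjoinRoot

/-!
# Lifting finite separable residue extensions of a henselian DVR
-/

set_option autoImplicit false
set_option backward.isDefEq.respectTransparency false
set_option linter.style.haveILetI false

universe u

open IsLocalRing Polynomial

noncomputable section

namespace Groth.Agent.EtPBC

/-- residue field from a surjection onto a field -/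
theorem exists_residue_equiv (B : Type u) [CommRing B] [IsLocalRing B] (L : Type u) [Field L] (φ : B →+* L)
    (hφ : Function.Surjective φ) : ∃ e : ResidueField B ≃+* L, ∀ b, e (residue B b) = φ b := by
  have hk : (RingHom.ker φ).IsMaximal := RingHom.ker_isMaximal_of_surjective φ hφ
  exact ⟨(Ideal.quotEquivOfEq (IsLocalRing.eq_maximalIdeal hk).symm).trans
    (RingHom.quotientKerEquivOfSurjective hφ), fun b => rfl⟩

/-- integral extensions of domains give integral extensions of fraction fields -/
theorem exists_fractionRing_hom (A : Type u) [CommRing A] [IsDomain A] (K : Type u) [Field K] [Algebra A K]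
    [IsFractionRing A K] (B : Type u) [CommRing B] [IsDomain B] (ι : A →+* B) (hι : Function.Injective ι)
    (hint : ∀ b : B, ι.IsIntegralElem b) (M : Type u) [Field M] [Algebra B M] [IsFractionRing B M] :
    ∃ f : K →+* M, f.comp (algebraMap A K) = (algebraMap B M).comp ι ∧ f.IsIntegral := by
  have hinjK : Function.Injective ((algebraMap B M).comp ι) :=
    (IsFractionRing.injective B M).comp hι
  obtain ⟨f, hf⟩ : ∃ f : K →+* M, f.comp (algebraMap A K) = (algebraMap B M).comp ι :=
    ⟨IsFractionRing.lift hinjK, RingHom.ext fun x => IsFractionRing.lift_algebraMap hinjK x⟩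
  refine ⟨f, hf, fun x => ?_⟩
  letI := f.toAlgebra
  show IsIntegral K x
  have hval : ∀ a : B, IsIntegral K (algebraMap B M a) := by
    intro a
    obtain ⟨P, hP, hP'⟩ := hint a
    refine ⟨P.map (algebraMap A K), hP.map _, ?_⟩
    rw [eval₂_map, show (algebraMap K M).comp (algebraMap A K) =
      (algebraMap B M).comp ι from hf, ← hom_eval₂, hP', map_zero]
  obtain ⟨a, b, -, rfl⟩ := IsFractionRing.div_surjective (A := B) x
  rw [div_eq_mul_inv]
  exact (hval a).mul (hval b).inv

/-- an unramified henselian DVR with prescribed finite separable residue extension -/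
theorem exists_dvr_lift (A : Type u) [CommRing A] [IsDomain A] [IsDiscreteValuationRing A] [HenselianLocalRing A]
    (K : Type u) [Field K] [Algebra A K] [IsFractionRing A K] (L : Type u) [Field L] [Algebra (ResidueField A) L]
    [FiniteDimensional (ResidueField A) L] [Algebra.IsSeparable (ResidueField A) L] :
    ∃ (A' : Type u) (_ : CommRing A') (_ : IsDomain A') (_ : IsDiscreteValuationRing A') (_ : HenselianLocalRing A')
      (K' : Type u) (_ : Field K') (_ : Algebra A' K') (_ : IsFractionRing A' K') (ι : A →+* A') (f : K →+* K')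
      (e : ResidueField A' ≃+* L),
      f.comp (algebraMap A K) = (algebraMap A' K').comp ι ∧ f.IsIntegral ∧ Function.Injective ι ∧
      (∀ a : A, e (residue A' (ι a)) = algebraMap (ResidueField A) L (residue A a)) ∧
      ∀ ϖ : A, Irreducible ϖ → Irreducible (ι ϖ) := by
  classical
  obtain ⟨γ, hγ⟩ := Field.exists_primitive_element (ResidueField A) L
  have hint : IsIntegral (ResidueField A) γ := Algebra.IsIntegral.isIntegral γ
  obtain ⟨f, hf, hfdeg, hfm⟩ := lifts_and_degree_eq_and_monic
    ((lifts_iff_coeff_lifts (minpoly (ResidueField A) γ)).2 fun n => residue_surjective _) (minpoly.monic hint)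
  have hfi : Irreducible f := by
    refine Monic.irreducible_of_irreducible_map (residue A) f hfm ?_
    rw [hf]; exact minpoly.irreducible hint
  haveI : IsDomain (AdjoinRoot f) := AdjoinRoot.isDomain_of_prime hfi.prime
  haveI : Module.Finite A (AdjoinRoot f) := hfm.finite_adjoinRoot
  haveI : IsLocalRing (AdjoinRoot f) := Hensel.isLocalRing_of_integral_domain A (AdjoinRoot f)
  haveI : HenselianLocalRing (AdjoinRoot f) := Hensel.henselianLocalRing_finite A (AdjoinRoot f)
  let ι : A →+* AdjoinRoot f := AdjoinRoot.of f
  have hι : Function.Injective ι := AdjoinRoot.of.injective_of_degree_ne_zero (by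
    rw [hfdeg]; exact (minpoly.degree_pos hint).ne')
  let g : A →+* L := (algebraMap (ResidueField A) L).comp (residue A)
  let φ : AdjoinRoot f →+* L := AdjoinRoot.lift g γ (by
    show f.eval₂ g γ = 0
    rw [show g = (algebraMap (ResidueField A) L).comp (residue A) from rfl, ← eval₂_map, hf]
    exact minpoly.aeval _ γ)
  have hφ : Function.Surjective φ := fun x => by
    have hx : x ∈ (IntermediateField.adjoin (ResidueField A) ({γ} : Set L)).toSubalgebra := by
      rw [hγ]; trivial
    rw [IntermediateField.adjoin_simple_toSubalgebra_of_isAlgebraic hint.isAlgebraic,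
      Algebra.adjoin_singleton_eq_range_aeval] at hx
    obtain ⟨q, rfl⟩ := hx
    obtain ⟨q', rfl⟩ := map_surjective (residue A) residue_surjective q
    refine ⟨AdjoinRoot.mk f q', ?_⟩
    rw [AdjoinRoot.lift_mk]
    exact (eval₂_map _ _ _).symm
  haveI hkmax : (RingHom.ker φ).IsMaximal := RingHom.ker_isMaximal_of_surjective φ hφ
  have hker : maximalIdeal (AdjoinRoot f) = RingHom.ker φ := (IsLocalRing.eq_maximalIdeal hkmax).symm
  have hkerle : RingHom.ker φ = (maximalIdeal A).map ι := by
    refine le_antisymm (fun x hx => ?_) (Ideal.map_le_iff_le_comap.2 fun a ha => ?_)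
    · obtain ⟨q, rfl⟩ := AdjoinRoot.mk_surjective x
      rw [RingHom.mem_ker, AdjoinRoot.lift_mk] at hx
      have hdvd : minpoly (ResidueField A) γ ∣ q.map (residue A) := minpoly.dvd _ γ (by
        rw [aeval_def, eval₂_map]; exact hx)
      rw [← hf] at hdvd
      obtain ⟨r, hr⟩ := hdvd
      obtain ⟨r', rfl⟩ := map_surjective (residue A) residue_surjective r
      have h0 : (q - f * r').map (residue A) = 0 := by
        rw [Polynomial.map_sub, Polynomial.map_mul, hr, sub_self]
      have e : AdjoinRoot.mk f q = AdjoinRoot.mk f (q - f * r') := by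
        rw [map_sub, map_mul, AdjoinRoot.mk_self, zero_mul, sub_zero]
      rw [e, (q - f * r').as_sum_support, map_sum]
      refine Ideal.sum_mem _ fun n _ => ?_
      rw [← C_mul_X_pow_eq_monomial, map_mul, AdjoinRoot.mk_C]
      refine Ideal.mul_mem_right _ _ (Ideal.mem_map_of_mem ι ?_)
      rw [← residue_eq_zero_iff, ← coeff_map, h0, coeff_zero]
    · rw [Ideal.mem_comap, RingHom.mem_ker, AdjoinRoot.lift_of]
      show algebraMap (ResidueField A) L (residue A a) = 0
      rw [(residue_eq_zero_iff a).2 ha, map_zero]
  obtain ⟨ϖ₀, hϖ₀⟩ := IsDiscreteValuationRing.exists_irreducible A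
  have hm : maximalIdeal (AdjoinRoot f) = Ideal.span {ι ϖ₀} := by
    rw [hker, hkerle, hϖ₀.maximalIdeal_eq, Ideal.map_span, Set.image_singleton]
  haveI : IsNoetherianRing (AdjoinRoot f) := isNoetherianRing_of_surjective _ _ _ (AdjoinRoot.mk_surjective (g := f))
  have hnf : ¬ IsField (AdjoinRoot f) := fun h => by
    have h1 := (IsLocalRing.isField_iff_maximalIdeal_eq).1 h
    rw [hm, Ideal.span_singleton_eq_bot] at h1
    exact hϖ₀.ne_zero (hι (h1.trans (map_zero ι).symm))
  have h04 := (IsDiscreteValuationRing.TFAE (AdjoinRoot f) hnf).out 4 0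
  haveI : IsDiscreteValuationRing (AdjoinRoot f) := h04.1 ⟨ι ϖ₀, hm⟩
  obtain ⟨fK, hfK, hfKi⟩ := exists_fractionRing_hom A K (AdjoinRoot f) ι hι
    (fun b => (Algebra.IsIntegral.isIntegral (R := A) b)) (FractionRing (AdjoinRoot f))
  obtain ⟨e, he⟩ := exists_residue_equiv (AdjoinRoot f) L φ hφ
  refine ⟨AdjoinRoot f, inferInstance, inferInstance, inferInstance, inferInstance, FractionRing (AdjoinRoot f),
    inferInstance, inferInstance, inferInstance, ι, fK, e, hfK, hfKi, hι, fun a => ?_, fun ϖ hϖ => ?_⟩
  · exact (he (ι a)).trans (AdjoinRoot.lift_of _)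
  · rw [IsDiscreteValuationRing.irreducible_iff_uniformizer, hker, hkerle, hϖ.maximalIdeal_eq, Ideal.map_span,
      Set.image_singleton]

end Groth.Agent.EtPBC
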