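import Groth.Agent.EtPBC.HensDvrGysin
import Groth.Agent.EtPBC.HensDvrLift

/-!
# `cd_p κ + 1 ≤ cd_p K` for a henselian DVR with `p` invertible
-/

set_option autoImplicit false
set_option backward.isDefEq.respectTransparency false
set_option backward.isDefEq.respectTransparency.types false
set_option linter.auxLemma false
set_option linter.style.haveILetI false

universe u

open CategoryTheory CategoryTheory.Limits CategoryTheory.Abelian AlgebraicGeometry Opposite IsLocalRing
open Groth.Agent.GalCohLib (pt ptMap)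

noncomputable section

namespace Groth.Agent.EtPBC

attribute [local instance 100000] EtCoh.H._proof_1 EtMV.hext
attribute [local instance 200000] EtMV.hextAb

variable (p : ℕ) [hpp : Fact p.Prime]

/-- constant coefficients descend along extensions of degree prime to `p` -/
theorem subsingleton_H_zmod_of_finrank (k : Type u) [Field k] (M : Type u) [Field M] [Algebra k M]
    [FiniteDimensional k M] [Algebra.IsSeparable k M] (hdeg : ¬ p ∣ Module.finrank k M) (q : ℕ)
    (h : Subsingleton (EtCoh.H (Spec (CommRingCat.of M)) (EtCoh.const _ (ZMod p)) q)) :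
    Subsingleton (EtCoh.H (Spec (CommRingCat.of k)) (EtCoh.const _ (ZMod p)) q) := by
  let X := Spec (CommRingCat.of k)
  let G := EtCoh.const X (ZMod p)
  let h' := Spec.map (CommRingCat.ofHom (algebraMap k M))
  haveI : Etale h' := GalCohLib.etale_spec k M
  haveI := Groth.Agent.EtPullExact.pull_preservesFiniteLimits h'
  haveI := EtMV.jcont_etale h'
  haveI : Subsingleton (EtCoh.H (Spec (CommRingCat.of M)) ((EtCoh.pull h').obj G) q) :=
    subsingleton_H_congr (EtCore.pullConst h' (ZMod p)) q h
  refine subsingleton_of_forall_eq 0 fun x => ?_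
  let c := (EtMV.eX X G q).symm x
  have hp0 : p • c = 0 := by
    rw [← map_nsmul, nsmul_eq_zero_of_killed G p (killed_const (X := X) p) q x, map_zero]
  have hcK : (Ext.mk₀ ((EtMV.P X).map (EtMV.toTop (pt k M)))).comp c (zero_add q) = 0 :=
    (EtMV.Φe h' G q).map_eq_zero_iff.mp (@Subsingleton.elim (EtCoh.H _ ((EtCoh.pull h').obj G) q) _ _ _)
  have hd := GalCohLib.finrank_nsmul_eq_zero k M G q c hcK
  have hcop : Nat.Coprime p (Module.finrank k M) := (hpp.out.coprime_iff_not_dvd).mpr hdeg
  have h1 : addOrderOf c ∣ 1 := by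
    rw [← hcop.gcd_eq_one]
    exact Nat.dvd_gcd (addOrderOf_dvd_of_nsmul_eq_zero hp0) (addOrderOf_dvd_of_nsmul_eq_zero hd)
  exact (EtMV.eX X G q).symm.map_eq_zero_iff.mp
    (AddMonoid.addOrderOf_eq_one_iff.mp (Nat.eq_one_of_dvd_one h1))

/-- an extension of degree prime to `p` containing a primitive `p`-th root of unity -/
theorem exists_root_extension (k : Type u) [Field k] (hp : (p : k) ≠ 0) :
    ∃ (M : Type u) (_ : Field M) (_ : Algebra k M) (_ : FiniteDimensional k M) (_ : Algebra.IsSeparable k M) (ζ : M),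
      IsPrimitiveRoot ζ p ∧ ¬ p ∣ Module.finrank k M := by
  let Ω := SeparableClosure k
  haveI : NeZero ((p : Ω)) := ⟨by rw [← map_natCast (algebraMap k Ω)]; exact (map_ne_zero (algebraMap k Ω)).2 hp⟩
  obtain ⟨ζ, hζ⟩ := IsSepClosed.exists_root (Polynomial.cyclotomic p Ω)
    (Polynomial.degree_cyclotomic_pos p Ω hpp.out.pos).ne' (Polynomial.separable_cyclotomic p Ω)
  let k₁ := IntermediateField.adjoin k ({ζ} : Set Ω)
  have hint : IsIntegral k ζ := Algebra.IsIntegral.isIntegral ζ
  haveI : FiniteDimensional k k₁ := IntermediateField.adjoin.finiteDimensional hint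
  haveI : Algebra.IsSeparable k k₁ := Algebra.isSeparable_tower_bot_of_isSeparable k k₁ Ω
  refine ⟨k₁, inferInstance, inferInstance, inferInstance, inferInstance,
    ⟨ζ, IntermediateField.mem_adjoin_simple_self k ζ⟩, ?_, ?_⟩
  · exact IsPrimitiveRoot.of_map_of_injective (f := algebraMap k₁ Ω)
      (Polynomial.isRoot_cyclotomic_iff.1 hζ) (algebraMap k₁ Ω).injective
  · intro hd
    have hne : (Polynomial.cyclotomic p k) ≠ 0 := Polynomial.cyclotomic_ne_zero p k
    have hr : Polynomial.aeval ζ (Polynomial.cyclotomic p k) = 0 := by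
      rw [Polynomial.aeval_def, ← Polynomial.eval_map, Polynomial.map_cyclotomic]
      exact hζ
    have h1 : Module.finrank k k₁ ≤ p - 1 := by
      rw [IntermediateField.adjoin.finrank hint]
      refine (Polynomial.natDegree_le_of_dvd (minpoly.dvd k ζ hr) hne).trans ?_
      rw [Polynomial.natDegree_cyclotomic, Nat.totient_prime hpp.out]
    have := Nat.le_of_dvd Module.finrank_pos hd
    have := hpp.out.two_le
    omega

variable (A : Type u) [CommRing A] [IsDomain A] [IsDiscreteValuationRing A] [HenselianLocalRing A]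
  (K : Type u) [Field K] [Algebra A K] [IsFractionRing A K]

/-- a primitive root of unity of the residue field lifts -/
theorem exists_primitiveRoot_lift (hp : IsUnit (p : A)) (z : ResidueField A) (hz : IsPrimitiveRoot z p) :
    ∃ ζ : A, IsPrimitiveRoot ζ p := by
  haveI : NeZero (p : ResidueField A) := ⟨by
    have h := (hp.map (residue A)).ne_zero
    rwa [map_natCast] at h⟩
  haveI : NeZero (p : FractionRing A) := ⟨by
    rw [← map_natCast (algebraMap A (FractionRing A))]
    exact (hp.map _).ne_zero⟩
  have hz' := hz.isRoot_cyclotomic hpp.out.pos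
  obtain ⟨z, rfl⟩ := residue_surjective z
  have h1 : (Polynomial.cyclotomic p A).eval z ∈ maximalIdeal A := by
    rw [← residue_eq_zero_iff, ← Polynomial.eval₂_at_apply, ← Polynomial.eval_map, Polynomial.map_cyclotomic]
    exact hz'
  have h2 : IsUnit ((Polynomial.cyclotomic p A).derivative.eval z) := by
    rw [← notMem_maximalIdeal, ← residue_eq_zero_iff, ← Polynomial.eval₂_at_apply, ← Polynomial.eval_map,
      ← Polynomial.derivative_map, Polynomial.map_cyclotomic]
    exact (Polynomial.separable_cyclotomic p (ResidueField A)).eval₂_derivative_ne_zero (RingHom.id _) hz'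
  obtain ⟨ζ, hζ, -⟩ := HenselianLocalRing.is_henselian _ (Polynomial.cyclotomic.monic p A) z h1 h2
  refine ⟨ζ, IsPrimitiveRoot.of_map_of_injective (f := algebraMap A (FractionRing A)) ?_
    (IsFractionRing.injective A (FractionRing A))⟩
  refine Polynomial.isRoot_cyclotomic_iff.1 ?_
  rw [Polynomial.IsRoot, ← Polynomial.map_cyclotomic p (algebraMap A (FractionRing A)), Polynomial.eval_map,
    Polynomial.eval₂_at_apply, hζ, map_zero]

/-- **lower bound** -/
theorem zmodAcyclicFrom_residueField (hp : IsUnit (p : A)) {d : ℕ}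
    (hK : KVanOn {p} (Spec (CommRingCat.of K)) (d + 1)) : ZModAcyclicFrom p d (ResidueField A) := by
  intro L _ _ _ _ q hq
  have hpL : (p : L) ≠ 0 := by
    rw [← map_natCast ((algebraMap (ResidueField A) L).comp (residue A))]
    exact (hp.map _).ne_zero
  obtain ⟨M, _, _, _, _, z, hz, hdeg⟩ := exists_root_extension p L hpL
  letI : Algebra (ResidueField A) M := ((algebraMap L M).comp (algebraMap (ResidueField A) L)).toAlgebra
  haveI : IsScalarTower (ResidueField A) L M := IsScalarTower.of_algebraMap_eq fun _ => rfl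
  haveI : FiniteDimensional (ResidueField A) M := FiniteDimensional.trans (ResidueField A) L M
  haveI : Algebra.IsSeparable (ResidueField A) M := Algebra.IsSeparable.trans (ResidueField A) L M
  obtain ⟨A', _, _, _, _, K', _, _, _, ι, f, e, -, hfi, -, -, -⟩ := exists_dvr_lift A K M
  have hpA' : IsUnit (p : A') := by
    have h := hp.map ι
    rwa [map_natCast] at h
  obtain ⟨ζ, hζ⟩ := exists_primitiveRoot_lift p A' hpA' (e.symm z) (hz.map_of_injective e.symm.injective)
  let g := Spec.map (CommRingCat.ofHom f)
  haveI : IsIntegralHom g := IsIntegralHom.SpecMap_iff.2 hfi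
  have hmem : EtAcyc.PrimesIn {p} p := ⟨hpp.out.pos, fun l hl hd =>
    Set.mem_singleton_iff.2 ((Nat.prime_dvd_prime_iff_eq hl hpp.out).1 hd)⟩
  have h1 := subsingleton_H_residue p A' K' hpA' ζ hζ q (by omega)
    (hK.of_isIntegralHom g p hmem _ (killed_mu p) (q + 1) (by omega))
  refine subsingleton_H_zmod_of_finrank p L M hdeg q ?_
  let u := (Scheme.Spec.mapIso e.symm.toCommRingCatIso.op)
  haveI := EtPullExact.pull_preservesFiniteLimits u.inv
  refine subsingleton_H_congr (EtCore.pullConst u.inv (ZMod p)).symm q ?_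
  exact (Equiv.ofBijective _ (bijective_Hpull_of_isIso u.inv (EtCoh.const _ (ZMod p)) q)).subsingleton_congr.1 h1

/-- **`cd_p K = cd_p κ + 1`** -/
theorem kVanOn_iff_of_isUnit (hp : IsUnit (p : A)) (d : ℕ) :
    KVanOn {p} (Spec (CommRingCat.of (ResidueField A))) d ↔ KVanOn {p} (Spec (CommRingCat.of K)) (d + 1) :=
  ⟨kVanOn_succ_of_residueField A K p hp, fun h =>
    kVanOn_of_zmodAcyclicFrom p d _ (zmodAcyclicFrom_residueField p A K hp h)⟩

end Groth.Agent.EtPBC
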