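import Groth.Agent.EtPBC.BrTrivial
import Groth.Agent.EtIntegral.Push
import Groth.Agent.EtTorsPoint.Push
import Mathlib

/-!
# Higher direct images of the units from a point and curves over an algebraically closed field
-/

set_option autoImplicit false
set_option backward.isDefEq.respectTransparency false
set_option backward.isDefEq.respectTransparency.types false
set_option linter.auxLemma false
set_option linter.style.haveILetI false
set_option linter.unusedSectionVars false

universe u

open CategoryTheory CategoryTheory.Limits CategoryTheory.Abelian AlgebraicGeometry Opposite TopologicalSpace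

noncomputable section

namespace Groth.Agent.EtPBC

attribute [local instance 100000] EtCoh.H._proof_1 EtMV.hext
attribute [local instance 200000] EtMV.hextAb

/-- classes over a disjoint union vanish if they vanish on the pieces -/
theorem subsingleton_ext_disjoint {Y : Scheme.{u}} {o : Y.Etale} {ι : Type u} (Z : ι → Y.Etale) (π : ∀ v, Z v ⟶ o)
    [∀ v, Mono (π v).left]
    (hd : ∀ i j, i ≠ j → ∀ (c : (Z i).left) (d : (Z j).left), (π i).left c ≠ (π j).left d)
    (hc : ∀ c, ∃ v, c ∈ Set.range (π v).left) :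
    ∀ (n : ℕ) (G : EtCoh.Ab Y), (∀ v, Subsingleton (Ext ((EtMV.P Y).obj (Z v)) G (n + 1))) →
      Subsingleton (Ext ((EtMV.P Y).obj o) G (n + 1)) := by
  intro n
  induction n with
  | zero =>
    intro G hG
    refine subsingleton_of_forall_eq 0 fun c => ?_
    have hS := EtMV.injSeq_shortExact G
    haveI : Injective (EtMV.injSeq G).X₂ := inferInstanceAs (Injective (Injective.under G))
    obtain ⟨t, ht⟩ := Ext.covariant_sequence_exact₁ ((EtMV.P Y).obj o) hS c (Ext.eq_zero_of_injective _)
      (n₀ := 0) rfl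
    obtain ⟨τ, rfl⟩ := (Ext.mk₀_bijective _ _).2 t
    have hl : ∀ v, ∃ z, (EtMV.injSeq G).g.hom.app (op (Z v)) z
        = (EtMV.injSeq G).X₃.obj.map (π v).op (EtMV.σ τ) := fun v => by
      haveI := hG v
      obtain ⟨z, hz⟩ := Ext.covariant_sequence_exact₃ ((EtMV.P Y).obj (Z v)) hS
        (Ext.mk₀ ((EtMV.P Y).map (π v) ≫ τ)) (rfl : 0 + 1 = 1)
        (@Subsingleton.elim (Ext ((EtMV.P Y).obj (Z v)) G 1) _ _ _)
      obtain ⟨ξ, rfl⟩ := (Ext.mk₀_bijective _ _).2 z
      rw [Ext.mk₀_comp_mk₀] at hz
      refine ⟨EtMV.σ ξ, ((EtMV.σ_comp _ _).symm.trans (congrArg EtMV.σ ((Ext.mk₀_bijective _ _).1 hz))).trans ?_⟩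
      exact EtMV.σ_map _ _
    choose z hz using hl
    obtain ⟨s, hs⟩ := Groth.Agent.EtIntegral.exists_amalg_disjoint (EtMV.injSeq G).X₂ Z π
      (fun i j hij c d hcd => hd i j hij c d hcd) hc z
    have h1 : (EtMV.injSeq G).g.hom.app (op o) s = EtMV.σ τ :=
      Groth.Agent.EtIntegral.sect_ext (EtMV.injSeq G).X₃ Z π hc _ _ fun v => by
        rw [← NatTrans.naturality_apply, hs, hz]
    have h2 : EtMV.σ.symm s ≫ (EtMV.injSeq G).g = τ := EtMV.σ.injective (by
      rw [EtMV.σ_comp, Equiv.apply_symm_apply]; exact h1)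
    rw [← ht, ← h2, ← Ext.mk₀_comp_mk₀, Ext.comp_assoc_of_second_deg_zero, hS.comp_extClass, Ext.comp_zero]
  | succ n ih =>
    intro G hG
    refine subsingleton_of_forall_eq 0 fun c => ?_
    have hS := EtMV.injSeq_shortExact G
    haveI : Injective (EtMV.injSeq G).X₂ := inferInstanceAs (Injective (Injective.under G))
    obtain ⟨d, hd'⟩ := Ext.covariant_sequence_exact₁ ((EtMV.P Y).obj o) hS c (Ext.eq_zero_of_injective _)
      (n₀ := n + 1) rfl
    haveI := ih (EtMV.injSeq G).X₃ fun v => by
      haveI := hG v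
      refine subsingleton_of_forall_eq 0 fun e => ?_
      obtain ⟨e', he⟩ := Ext.covariant_sequence_exact₃ ((EtMV.P Y).obj (Z v)) hS e (rfl : n + 1 + 1 = n + 2)
        (@Subsingleton.elim (Ext ((EtMV.P Y).obj (Z v)) G (n + 2)) _ _ _)
      rw [← he, Ext.eq_zero_of_injective e', Ext.zero_comp]
    rw [← hd', @Subsingleton.elim _ this d 0, Ext.zero_comp]

/-- cohomology of the units transports along isomorphisms -/
theorem subsingleton_H_Gm_of_iso {Y Y' : Scheme.{u}} (e : Y ≅ Y') (q : ℕ)
    (h : Subsingleton (EtCoh.H Y' (EtCoh.Gm Y') q)) : Subsingleton (EtCoh.H Y (EtCoh.Gm Y) q) := by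
  haveI := EtMV.jcont_etale e.hom
  haveI := Groth.Agent.EtPullExact.pull_preservesFiniteLimits e.hom
  refine subsingleton_H_congr (gmPullIso e.hom).symm q
    ((EtMV.subsingleton_H_iff_of_etale e.hom (EtCoh.Gm Y') q).2 ?_)
  let θ : Scheme.Etale.mk e.hom ⟶ EtCoh.top Y' := MorphismProperty.Over.homMk e.hom (Category.comp_id _)
  let θ' : EtCoh.top Y' ⟶ Scheme.Etale.mk e.hom := MorphismProperty.Over.homMk e.inv e.inv_hom_id
  have hθ : θ ≫ θ' = 𝟙 _ := MorphismProperty.Over.Hom.ext e.hom_inv_id
  haveI : Subsingleton (Ext ((EtMV.P Y').obj (EtCoh.top Y')) (EtCoh.Gm Y') q) :=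
    (EtMV.eX Y' (EtCoh.Gm Y') q).injective.subsingleton
  refine subsingleton_of_forall_eq 0 fun x => ?_
  have hx : x = (Ext.mk₀ ((EtMV.P Y').map θ)).comp
      ((Ext.mk₀ ((EtMV.P Y').map θ')).comp x (zero_add q)) (zero_add q) := by
    rw [Ext.mk₀_comp_mk₀_assoc, ← Functor.map_comp, hθ, CategoryTheory.Functor.map_id, Ext.mk₀_id_comp]
  rw [hx, @Subsingleton.elim (Ext ((EtMV.P Y').obj (EtCoh.top Y')) (EtCoh.Gm Y') q) _
    ((Ext.mk₀ ((EtMV.P Y').map θ')).comp x (zero_add q)) 0, Ext.comp_zero]

variable {K : Type u} [Field K]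
  (hK : ∀ (L : Type u) [Field L] [Algebra K L] [FiniteDimensional K L], ∀ q : ℕ, 1 ≤ q →
    Subsingleton (EtCoh.H (Spec (CommRingCat.of L)) (EtCoh.Gm (Spec (CommRingCat.of L))) q))

include hK in
/-- the units are acyclic on every etale scheme over the field -/
theorem subsingleton_ext_Gm_etale (o : (Spec (CommRingCat.of K)).Etale) (q : ℕ) (hq : 1 ≤ q) :
    Subsingleton (Ext ((EtMV.P _).obj o) (EtCoh.Gm (Spec (CommRingCat.of K))) q) := by
  classical
  obtain ⟨n, rfl⟩ : ∃ n, q = n + 1 := ⟨q - 1, by omega⟩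
  haveI : Etale o.hom := o.prop
  haveI : DiscreteTopology o.left := by
    haveI := FpqcDescent.locallyQuasiFinite_of_etale o.hom
    have h := Scheme.Hom.isDiscrete_preimage_singleton o.hom (default : ↥(Spec (CommRingCat.of K)))
    rw [show o.hom ⁻¹' {(default : ↥(Spec (CommRingCat.of K)))} = Set.univ from
      Set.eq_univ_of_forall fun x => @Subsingleton.elim ↥(Spec (CommRingCat.of K)) _ _ _] at h
    exact isDiscrete_univ_iff.1 h
  let B : o.left → o.left.Opens := fun v => ⟨{v}, isOpen_discrete _⟩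
  let Z : o.left → (Spec (CommRingCat.of K)).Etale := fun v => Scheme.Etale.mk ((B v).ι ≫ o.hom)
  let π : ∀ v, Z v ⟶ o := fun v => MorphismProperty.Over.homMk (B v).ι rfl
  haveI : ∀ v, Mono (π v).left := fun v => inferInstanceAs (Mono (B v).ι)
  refine subsingleton_ext_disjoint Z π (fun i j hij c d hcd => hij (c.2.symm.trans (hcd.trans d.2)))
    (fun c => ⟨c, ⟨c, rfl⟩, rfl⟩) n _ fun v => ?_
  let h : (B v).toScheme ⟶ Spec (CommRingCat.of K) := (B v).ι ≫ o.hom
  haveI : Subsingleton (B v).toScheme := ⟨fun a b => Subtype.ext (a.2.trans b.2.symm)⟩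
  haveI : Nonempty (B v).toScheme := ⟨⟨v, rfl⟩⟩
  haveI : IsReduced (B v).toScheme :=
    @SpQS.isReduced_of_etale_reduced (B v).toScheme (Spec (CommRingCat.of K)) h inferInstance inferInstance
  obtain ⟨A, hA, hw, -⟩ := exists_isAffineOpen_mem_and_subset (X := (B v).toScheme)
    (x := Classical.arbitrary _) (U := ⊤) trivial
  have hAtop : A = ⊤ := top_le_iff.1 fun x _ => by rwa [Subsingleton.elim x (Classical.arbitrary _)]
  haveI : IsAffine (B v).toScheme := by
    subst hAtop
    haveI : IsAffine (⊤ : (B v).toScheme.Opens).toScheme := hA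
    exact IsAffine.of_isIso (B v).toScheme.topIso.inv
  let R := Γ((B v).toScheme, ⊤)
  haveI : Subsingleton (PrimeSpectrum R) := (Scheme.homeoOfIso (B v).toScheme.isoSpec).symm.injective.subsingleton
  haveI : Nontrivial R := by
    haveI : Nonempty (⊤ : (B v).toScheme.Opens).toScheme := ⟨⟨Classical.arbitrary _, trivial⟩⟩
    infer_instance
  haveI : _root_.IsReduced R := inferInstance
  have hf : IsField R := by
    rw [Ring.isField_iff_maximal_bot]
    obtain ⟨m, hm⟩ := Ideal.exists_maximal R
    have h0 : (⊥ : Ideal R) = m := by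
      refine le_antisymm bot_le fun x hx => ?_
      have : x ∈ nilradical R := by
        rw [nilradical_eq_sInf, Ideal.mem_sInf]
        intro P hP
        rw [show P = m from congrArg PrimeSpectrum.asIdeal
          (Subsingleton.elim (α := PrimeSpectrum R) ⟨P, hP⟩ ⟨m, hm.isPrime⟩)]
        exact hx
      rwa [nilradical_eq_zero R] at this
    rwa [h0]
  obtain ⟨φ, hφ⟩ := Spec.map_surjective ((B v).toScheme.isoSpec.inv ≫ h)
  letI : Field R := hf.toField
  letI : Algebra K R := φ.hom.toAlgebra
  haveI : Algebra.Etale K R := by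
    show φ.hom.Etale
    rw [← HasRingHomProperty.Spec_iff (P := @Etale), hφ]
    infer_instance
  haveI : Module.Finite K R := Algebra.FormallyUnramified.finite_of_free K R
  haveI := hK R (n + 1) hq
  haveI := EtMV.jcont_etale h
  haveI := EtMV.jcont_etale (B v).toScheme.isoSpec.inv
  refine (EtMV.subsingleton_H_iff_of_etale h (EtCoh.Gm (Spec (CommRingCat.of K))) (n + 1)).1 ?_
  refine subsingleton_H_congr (gmPullIso h) (n + 1) ?_
  haveI := Groth.Agent.EtPullExact.pull_preservesFiniteLimits (B v).toScheme.isoSpec.hom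
  exact subsingleton_H_Gm_of_iso (B v).toScheme.isoSpec (n + 1) (hK R (n + 1) hq)

variable {X : Scheme.{u}} (i : Spec (CommRingCat.of K) ⟶ X)

include hK in
/-- **the higher direct images of the units from the point vanish** -/
theorem isZero_rpush_Gm_point [PreservesFiniteLimits (EtCoh.push i)] (q : ℕ) (hq : 1 ≤ q) :
    IsZero ((EtCoh.Rpush i q).obj (EtCoh.Gm (Spec (CommRingCat.of K)))) := by
  obtain ⟨n, rfl⟩ : ∃ n, q = n + 1 := ⟨q - 1, by omega⟩
  exact isZero_rpush_of_locVan i n _ fun V _ c =>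
    @Subsingleton.elim _ (subsingleton_ext_Gm_etale hK ((EtCoh.bc i).obj V) (n + 1) (by omega)) c 0

include hK in
/-- **the cohomology of the units pushed forward from the point vanishes** -/
theorem subsingleton_H_push_Gm_point [CompactSpace X] [QuasiSeparatedSpace X] [PreservesFiniteLimits (EtCoh.pull i)]
    (q : ℕ) (hq : 1 ≤ q) : Subsingleton (EtCoh.H X ((EtCoh.push i).obj (EtCoh.Gm (Spec (CommRingCat.of K)))) q) := by
  haveI := EtTorsPoint.preservesFiniteLimits_push i
  haveI := hK K q hq
  exact ((EtAcycX.HofPush_bounded i (EtCoh.Gm (Spec (CommRingCat.of K))) q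
    fun m _ => isZero_rpush_Gm_point hK i (m + 1) (by omega)).1 q le_rfl).injective.subsingleton

/-- function fields of curves over algebraically closed fields are of type `C₁` -/
theorem isCi_one_functionField {k : Type u} [Field k] [IsAlgClosed k] {X : Scheme.{u}} [IsIntegral X]
    (f : X ⟶ Spec (CommRingCat.of k)) [LocallyOfFiniteType f] (hdim : topologicalKrullDim X ≤ 1) :
    Curves.IsCi X.functionField 1 := by
  let x : X := genericPoint X
  have hb : Function.Bijective (X.residue x).hom := ⟨(X.residue x).hom.injective, X.residue_surjective x⟩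
  let φ : k →+* X.residueField x := kStr f x
  letI : Algebra k X.functionField := (((RingEquiv.ofBijective (X.residue x).hom hb).symm.toRingHom).comp φ).toAlgebra
  letI : Algebra k (X.residueField x) := φ.toAlgebra
  let er : X.functionField ≃ₐ[k] X.residueField x := AlgEquiv.ofRingEquiv
    (f := RingEquiv.ofBijective (X.residue x).hom hb) fun a => RingEquiv.apply_symm_apply _ _
  have htr : Algebra.trdeg k X.functionField ≤ 1 := by
    rw [er.trdeg_eq]
    exact_mod_cast resDim_of_dim_le f (n := 1) (by exact_mod_cast hdim) x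
  obtain ⟨j, hj⟩ := Cardinal.lt_aleph0.1 (htr.trans_lt Cardinal.one_lt_aleph0)
  refine CiField.isCi_mono ?_ (CiField.isCi_of_trdeg hj)
  rw [hj] at htr
  exact_mod_cast htr

/-- finite extensions of fields of type `C₁` have acyclic units -/
theorem subsingleton_H_Gm_of_isCi_one (hC : Curves.IsCi K 1) (L : Type u) [Field L] [Algebra K L]
    [FiniteDimensional K L] (q : ℕ) (hq : 1 ≤ q) :
    Subsingleton (EtCoh.H (Spec (CommRingCat.of L)) (EtCoh.Gm (Spec (CommRingCat.of L))) q) :=
  subsingleton_H_Gm L (fun p _ => normSurj_of_isCi_one p L (CiField.isCi_finite hC)) q hq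

end Groth.Agent.EtPBC
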