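import Groth.Agent.EtPBC.CdPoint
import Groth.Agent.DimFormula.ResTrdeg
import Groth.Agent.S9381
import Mathlib

/-!
# Transcendence degrees of residue fields over the ground field
-/

set_option autoImplicit false
set_option backward.isDefEq.respectTransparency false
set_option backward.isDefEq.respectTransparency.types false
set_option linter.auxLemma false
set_option linter.style.haveILetI false
set_option linter.unusedSectionVars false
set_option maxHeartbeats 1000000

universe u

open CategoryTheory CategoryTheory.Limits AlgebraicGeometry Opposite TopologicalSpace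

noncomputable section

namespace Groth.Agent.EtPBC

/-- the transcendence degree of a map of fields -/
def trdg {K E : Type u} [Field K] [Field E] (f : K →+* E) : Cardinal.{u} := @Algebra.trdeg K E _ _ f.toAlgebra

theorem trdg_comp {K E F : Type u} [Field K] [Field E] [Field F] (f : K →+* E) (g : E →+* F) :
    trdg f + trdg g = trdg (g.comp f) := by
  letI := f.toAlgebra
  letI := g.toAlgebra
  letI := (g.comp f).toAlgebra
  haveI : IsScalarTower K E F := IsScalarTower.of_algebraMap_eq fun _ => rfl
  haveI : FaithfulSMul K E := (faithfulSMul_iff_algebraMap_injective _ _).2 f.injective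
  haveI : FaithfulSMul E F := (faithfulSMul_iff_algebraMap_injective _ _).2 g.injective
  exact trdeg_add_eq K E

theorem trdg_eq_zero_of_isIntegral {E F : Type u} [Field E] [Field F] (g : E →+* F) (hg : g.IsIntegral) :
    trdg g = 0 := by
  letI := g.toAlgebra
  haveI : Algebra.IsIntegral E F := algebraMap_isIntegral_iff.1 hg
  haveI : Algebra.IsAlgebraic E F := inferInstance
  exact trdeg_eq_zero

theorem trdg_comp_integral_left {K E F : Type u} [Field K] [Field E] [Field F] (f : K →+* E) (g : E →+* F)
    (hf : f.IsIntegral) : trdg (g.comp f) = trdg g := by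
  rw [← trdg_comp, trdg_eq_zero_of_isIntegral f hf, zero_add]

theorem trdg_comp_integral_right {K E F : Type u} [Field K] [Field E] [Field F] (f : K →+* E) (g : E →+* F)
    (hg : g.IsIntegral) : trdg (g.comp f) = trdg f := by
  rw [← trdg_comp, trdg_eq_zero_of_isIntegral g hg, add_zero]

variable {k : Type u} [Field k] {X : Scheme.{u}} (c : X ⟶ Spec (CommRingCat.of k))

/-- the ground field in a residue field -/
def kStr (x : X) : k →+* X.residueField x := (Spec.preimage (X.fromSpecResidueField x ≫ c)).hom

theorem kStr_spec (x : X) : Spec.map (CommRingCat.ofHom (kStr c x)) = X.fromSpecResidueField x ≫ c :=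
  Spec.map_preimage _

/-- transcendence degree at most `m` -/
def ResDim (x : X) (m : ℕ) : Prop := trdg (kStr c x) ≤ m

theorem ResDim.mono {x : X} {m m' : ℕ} (h : ResDim c x m) (hm : m ≤ m') : ResDim c x m' :=
  le_trans h (Nat.cast_le.2 hm)

theorem resDim_iff (x : X) (m : ℕ) : EtPBC.ResTrdegLE c x m ↔ ResDim c x m := by
  refine ⟨fun ⟨φ, hφ, h⟩ => ?_, fun h => ⟨kStr c x, kStr_spec c x, h⟩⟩
  have e : φ = kStr c x :=
    congrArg CommRingCat.Hom.hom (Spec.map_injective (hφ.trans (kStr_spec c x).symm))
  rw [e] at h
  exact h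

theorem trdg_kStr_eq (x : X) : trdg (kStr c x) = trdg (c.residueFieldMap x).hom := by
  let p := c x
  have hp : IsClosed ({p} : Set ↥(Spec (CommRingCat.of k))) := isClosed_discrete _
  haveI : IsClosedImmersion ((Spec (CommRingCat.of k)).fromSpecResidueField p) :=
    isClosed_singleton_iff_isClosedImmersion.1 hp
  let ψ := Spec.preimage ((Spec (CommRingCat.of k)).fromSpecResidueField p)
  have hψ : ψ.hom.IsIntegral := by
    haveI : IsIntegralHom (Spec.map ψ) := by rw [Spec.map_preimage]; infer_instance
    exact IsIntegralHom.SpecMap_iff.1 ‹_›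
  have e : kStr c x = (c.residueFieldMap x).hom.comp ψ.hom := by
    have h : CommRingCat.ofHom (kStr c x) = ψ ≫ c.residueFieldMap x := by
      apply Spec.map_injective
      rw [kStr_spec, Spec.map_comp, Spec.map_preimage]
      exact (Scheme.Hom.SpecMap_residueFieldMap_fromSpecResidueField c x).symm
    exact congrArg CommRingCat.Hom.hom h
  rw [e]
  exact trdg_comp_integral_left _ _ hψ

/-- residue fields of points of finite type schemes have finite transcendence degree -/
theorem exists_trdg_eq [LocallyOfFiniteType c] (x : X) :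
    ∃ d : ℕ, trdg (kStr c x) = d ∧ (d : WithBot ℕ∞) ≤ topologicalKrullDim X := by
  obtain ⟨δ, hδ, -, ch, hch, hch'⟩ := DimFormula.exists_trdeg_eq c x
  exact ⟨δ, (trdg_kStr_eq c x).trans hδ, Unibranch.natCast_le_topologicalKrullDim ch hch'⟩

theorem resDim_of_dim_le [LocallyOfFiniteType c] {n : ℕ} (h : topologicalKrullDim X ≤ n) (x : X) :
    ResDim c x n := by
  obtain ⟨d, hd, hd'⟩ := exists_trdg_eq c x
  show trdg (kStr c x) ≤ n
  rw [hd]
  exact_mod_cast hd'.trans h

/-- specialisation lowers the transcendence degree -/
theorem trdg_lt_of_specializes [LocallyOfFiniteType c] {x y : X} (h : x ⤳ y) (hne : x ≠ y) :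
    trdg (kStr c y) < trdg (kStr c x) := by
  rw [trdg_kStr_eq, trdg_kStr_eq]
  exact Groth.Agent.S9381.result c x y h hne (Subsingleton.elim (α := ↥(Spec (CommRingCat.of k))) _ _)

theorem ResDim.of_specializes [LocallyOfFiniteType c] {x y : X} (h : x ⤳ y) {m : ℕ} (hx : ResDim c x m) :
    ResDim c y m := by
  rcases eq_or_ne x y with rfl | hne
  · exact hx
  · exact le_trans (trdg_lt_of_specializes c h hne).le hx

/-- closed subschemes have the same residue fields -/
theorem resDim_closedImmersion {Z : Scheme.{u}} (i : Z ⟶ X) [IsClosedImmersion i] (z : Z) (m : ℕ) :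
    ResDim (i ≫ c) z m ↔ ResDim c (i z) m := by
  have e : kStr (i ≫ c) z = (i.residueFieldMap z).hom.comp (kStr c (i z)) := by
    have h : CommRingCat.ofHom (kStr (i ≫ c) z) = CommRingCat.ofHom (kStr c (i z)) ≫ i.residueFieldMap z := by
      apply Spec.map_injective
      rw [kStr_spec, Spec.map_comp, kStr_spec, ← Category.assoc,
        ← Scheme.Hom.SpecMap_residueFieldMap_fromSpecResidueField, Category.assoc]
    exact congrArg CommRingCat.Hom.hom h
  have hsurj : Function.Surjective (i.residueFieldMap z) := by
    intro r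
    obtain ⟨a, rfl⟩ := Scheme.residue_surjective Z z r
    obtain ⟨b, rfl⟩ := i.stalkMap_surjective z a
    exact ⟨X.residue (i z) b, (ConcreteCategory.congr_hom (Scheme.residue_residueFieldMap i z) b)⟩
  unfold ResDim
  rw [e, trdg_comp_integral_right _ _ (RingHom.isIntegral_of_surjective _ hsurj)]

/-- a transcendence basis of the residue field at `y` lifted to the local ring -/
theorem pointBound [LocallyOfFiniteType c] {x y : X} (h : x ⤳ y) {n : ℕ}
    (hn : trdg (kStr c x) ≤ trdg (kStr c y) + n) : PointBound x y h n := by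
  let A := X.presheaf.stalk y
  let σ : CommRingCat.of k ⟶ A := Spec.preimage (X.fromSpecStalk y ≫ c)
  have hy : σ ≫ X.residue y = CommRingCat.ofHom (kStr c y) := by
    apply Spec.map_injective
    rw [Spec.map_comp, Spec.map_preimage, kStr_spec]
    rfl
  have hx : σ ≫ X.presheaf.stalkSpecializes h ≫ X.residue x = CommRingCat.ofHom (kStr c x) := by
    apply Spec.map_injective
    rw [Spec.map_comp, Spec.map_comp, Spec.map_preimage, kStr_spec, Category.assoc,
      Scheme.SpecMap_stalkSpecializes_fromSpecStalk_assoc]
    rfl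
  letI : Algebra k (X.residueField y) := (kStr c y).toAlgebra
  haveI : FaithfulSMul k (X.residueField y) :=
    (faithfulSMul_iff_algebraMap_injective _ _).2 (kStr c y).injective
  obtain ⟨ι, v, hv⟩ := exists_isTranscendenceBasis' k (X.residueField y)
  choose a ha using fun i => Scheme.residue_surjective X y (v i)
  let P := MvPolynomial ι k
  let g : P →+* A := MvPolynomial.eval₂Hom σ.hom a
  have hg : (X.residue y).hom.comp g = (MvPolynomial.aeval v).toRingHom := by
    apply MvPolynomial.ringHom_ext
    · intro r
      show (X.residue y).hom (MvPolynomial.eval₂ σ.hom a (MvPolynomial.C r)) = MvPolynomial.aeval v (MvPolynomial.C r)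
      rw [MvPolynomial.eval₂_C, MvPolynomial.aeval_C]
      exact ConcreteCategory.congr_hom hy r
    · intro i
      show (X.residue y).hom (MvPolynomial.eval₂ σ.hom a (MvPolynomial.X i)) = MvPolynomial.aeval v (MvPolynomial.X i)
      rw [MvPolynomial.eval₂_X, MvPolynomial.aeval_X]
      exact ha i
  have hu : ∀ p : nonZeroDivisors P, IsUnit (g p) := fun p => by
    by_contra hns
    have h0 : (X.residue y).hom (g p) = 0 := (IsLocalRing.residue_eq_zero_iff _).2 hns
    rw [← RingHom.comp_apply, hg] at h0
    exact nonZeroDivisors.ne_zero p.2 (hv.1 (h0.trans (map_zero _).symm))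
  let L₀ := FractionRing P
  let φ : L₀ →+* A := IsLocalization.lift hu
  refine ⟨L₀, inferInstance, φ, ?_⟩
  show trdg ((X.presheaf.stalkSpecializes h ≫ X.residue x).hom.comp φ) ≤ n
  have hL : trdg (algebraMap k L₀) = trdg (kStr c y) := by
    show Algebra.trdeg k L₀ = Algebra.trdeg k (X.residueField y)
    haveI : Algebra.IsAlgebraic P L₀ := IsLocalization.isAlgebraic L₀ (nonZeroDivisors P)
    haveI : FaithfulSMul k P := (faithfulSMul_iff_algebraMap_injective _ _).2 (MvPolynomial.C_injective ι k)
    have := trdeg_add_eq k P (A := L₀)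
    rw [MvPolynomial.trdeg_of_isDomain, Cardinal.lift_id, trdeg_eq_zero (R := P) (A := L₀), add_zero,
      hv.cardinalMk_eq_trdeg] at this
    exact this.symm
  have hcomp : ((X.presheaf.stalkSpecializes h ≫ X.residue x).hom.comp φ).comp (algebraMap k L₀) = kStr c x := by
    refine RingHom.ext fun r => ?_
    rw [IsScalarTower.algebraMap_eq k P L₀]
    show (X.presheaf.stalkSpecializes h ≫ X.residue x).hom (φ (algebraMap P L₀ (MvPolynomial.C r))) = _
    rw [IsLocalization.lift_eq, MvPolynomial.eval₂Hom_C]
    exact ConcreteCategory.congr_hom hx r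
  obtain ⟨d, hd, -⟩ := exists_trdg_eq c y
  have e := trdg_comp (algebraMap k L₀) ((X.presheaf.stalkSpecializes h ≫ X.residue x).hom.comp φ)
  rw [hcomp, hL, hd] at e
  rw [hd] at hn
  exact (Cardinal.add_le_add_iff_of_lt_aleph0 (Cardinal.natCast_lt_aleph0 (n := d))).1
    (show trdg ((X.presheaf.stalkSpecializes h ≫ X.residue x).hom.comp φ) + (d : Cardinal.{u}) ≤ n + d by
      rw [add_comm _ (d : Cardinal.{u}), e, add_comm (n : Cardinal.{u})]; exact hn)

end Groth.Agent.EtPBC
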