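import Groth.Agent.EtPBC.CurveGm
import Groth.Agent.EtPBC.FieldCd
import Groth.Agent.EtPBC.CdTrdeg
import Groth.Agent.EtTorsPoint.Field
import Groth.Agent.EtAcycX.Edge
import Groth.Agent.S0212
import Mathlib

/-!
# Degree two cohomology of the units: points and one-dimensional schemes
-/

set_option autoImplicit false
set_option backward.isDefEq.respectTransparency false
set_option backward.isDefEq.respectTransparency.types false
set_option linter.auxLemma false
set_option linter.style.haveILetI false
set_option linter.unusedSectionVars false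

universe u

open CategoryTheory CategoryTheory.Limits CategoryTheory.Abelian AlgebraicGeometry Opposite TopologicalSpace

noncomputable section

namespace Groth.Agent.EtPBC

attribute [local instance 100000] EtCoh.H._proof_1 EtMV.hext
attribute [local instance 200000] EtMV.hextAb

/-- Hilbert 90 for the direct image from a point -/
theorem isZero_rpush_one_Gm_point {X : Scheme.{u}} [QuasiSeparatedSpace X] {K : Type u} [Field K]
    (i : Spec (CommRingCat.of K) ⟶ X) : IsZero ((EtCoh.Rpush i 1).obj (EtCoh.Gm (Spec (CommRingCat.of K)))) := by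
  haveI := preservesFiniteLimits_push i
  refine isZero_rpush_of_locVan i 0 _ fun V hV c => ?_
  let o := (EtCoh.bc i).obj V
  haveI : Etale o.hom := o.prop
  haveI := EtMV.jcont_etale o.hom
  haveI := FpqcDescent.locallyQuasiFinite_of_etale o.hom
  haveI : DiscreteTopology o.left := by
    have h := Scheme.Hom.isDiscrete_preimage_singleton o.hom (default : ↥(Spec (CommRingCat.of K)))
    rw [show o.hom ⁻¹' {(default : ↥(Spec (CommRingCat.of K)))} = Set.univ from
      Set.eq_univ_of_forall fun x => @Subsingleton.elim ↥(Spec (CommRingCat.of K)) _ _ _] at h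
    exact isDiscrete_univ_iff.1 h
  refine @Subsingleton.elim _ ((EtMV.subsingleton_H_iff_of_etale o.hom (EtCoh.Gm (Spec (CommRingCat.of K))) 1).1 ?_) c 0
  exact subsingleton_H_congr (gmPullIso o.hom) 1 (subsingleton_H1_Gm_of_discrete o.left)

theorem H_push_Gm_point {X : Scheme.{u}} [CompactSpace X] [QuasiSeparatedSpace X] {K : Type u} [Field K]
    (i : Spec (CommRingCat.of K) ⟶ X) [PreservesFiniteLimits (EtCoh.pull i)] :
    Subsingleton (EtCoh.H X ((EtCoh.push i).obj (EtCoh.Gm (Spec (CommRingCat.of K)))) 1) ∧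
      Function.Injective (EtLim.HofPush i (EtCoh.Gm (Spec (CommRingCat.of K))) 2) := by
  have hR : ∀ q : ℕ, q < 1 → IsZero ((EtCoh.Rpush i (q + 1)).obj (EtCoh.Gm (Spec (CommRingCat.of K)))) := fun q hq => by
    obtain rfl : q = 0 := by omega
    exact isZero_rpush_one_Gm_point i
  haveI := Misc3.KummerField.subsingleton_H1_Gm K
  obtain ⟨hb, hi⟩ := EtAcycX.HofPush_bounded i (EtCoh.Gm (Spec (CommRingCat.of K))) 1 hR
  exact ⟨(hb 1 le_rfl).injective.subsingleton, hi⟩

/-- fields of type `C₁` have no Brauer classes -/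
theorem subsingleton_H2_Gm_of_isCi_one (K : Type u) [Field K] (hK : Curves.IsCi K 1) :
    Subsingleton (EtCoh.H (Spec (CommRingCat.of K)) (EtCoh.Gm (Spec (CommRingCat.of K))) 2) := by
  refine subsingleton_of_forall_eq 0 fun x => ?_
  obtain ⟨m, hm, hx⟩ := isOfFinAddOrder_iff_nsmul_eq_zero.1 (EtTorsPoint.isOfFinAddOrder_H_field _ 1 x)
  induction m using Nat.strong_induction_on generalizing x with
  | _ m ih =>
    rcases Nat.lt_or_ge m 2 with h1 | h2
    · obtain rfl : m = 1 := by omega
      simpa using hx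
    obtain ⟨c, hc⟩ := Nat.minFac_dvd m
    have hp : m.minFac.Prime := Nat.minFac_prime (by omega)
    haveI := Fact.mk hp
    have hc0 : 0 < c := Nat.pos_of_ne_zero (by rintro rfl; omega)
    have hlt : c < m := by rw [hc]; exact lt_mul_of_one_lt_left hc0 hp.one_lt
    have h : c • x = 0 := primaryTorsion_H2_Gm m.minFac (normSurj_of_isCi_one m.minFac K hK) (c • x)
      ⟨1, by rw [pow_one, ← mul_nsmul', ← hc, hx]⟩
    exact ih c hlt x hc0 h

section Noeth

variable {X : Scheme.{u}} [IsNoetherian X]

theorem gmUnit_eq_GmPush (x : X) : gmUnit x = EtLim.GmPush (locι x) := rfl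

/-- classes pushed forward from the local scheme at a maximal point are determined there -/
theorem H2_push_Gm_eq_zero {x : X} (hx : IsMaxPt x) [PreservesFiniteLimits (EtCoh.pull (locι x))]
    (c : EtCoh.H X ((EtCoh.push (locι x)).obj (EtCoh.Gm (locScheme x))) 2)
    (hc : EtLim.HofPush (locι x) (EtCoh.Gm (locScheme x)) 2 c = 0) : c = 0 :=
  (injective_iff_map_eq_zero _).1 ((EtAcycX.HofPush_bounded (locι x) (EtCoh.Gm (locScheme x)) 1 fun q hq => by
    obtain rfl : q = 0 := by omega
    exact isZero_rpush_one_Gm hx).2) c hc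

variable (hdim : topologicalKrullDim X ≤ 1)
  (hsep : ∀ x : X, IsClosed ({x} : Set X) → IsSepClosed (X.residueField x))

include hdim hsep in
/-- **restriction to the maximal points is injective in degree two** -/
theorem H2_Gm_eq_zero_of_restrict [∀ x : X, PreservesFiniteLimits (EtCoh.pull (locι x))]
    (c : EtCoh.H X (EtCoh.Gm X) 2)
    (hc : ∀ x : X, IsMaxPt x → ¬ IsClosed ({x} : Set X) → EtLim.HGmPull (locι x) 2 c = 0) : c = 0 := by
  classical
  let T : Type u := {x : X // IsMaxPt x ∧ ¬ IsClosed ({x} : Set X)}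
  haveI : Finite T := ((finite_isMaxPt X).subset (fun x hx => hx.1)).to_subtype
  obtain ⟨m, ⟨e⟩⟩ := Finite.exists_equiv_fin T
  let J : Type := Fin m
  let pt : J → X := fun j => (e.symm j).1
  have hpt : ∀ j, IsMaxPt (pt j) := fun j => (e.symm j).2.1
  let P : J → EtCoh.Ab X := fun j => (EtCoh.push (locι (pt j))).obj (EtCoh.Gm (locScheme (pt j)))
  let u : EtCoh.Gm X ⟶ ⨁ P := biproduct.lift fun j => gmUnit (pt j)
  have hK : SuppClosed (kernel u) := fun z hz => by
    obtain ⟨j, rfl⟩ : ∃ j, pt j = z :=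
      ⟨e ⟨z, isMaxPt_of_not_closed hdim hz, hz⟩, congrArg Subtype.val (e.symm_apply_apply _)⟩
    have w : kernel.ι u ≫ gmUnit (pt j) = 0 := by
      rw [← (biproduct.lift_π (fun j => gmUnit (pt j)) j : u ≫ biproduct.π P j = gmUnit (pt j)),
        kernel.condition_assoc, zero_comp]
    haveI : Mono (kernel.lift (gmUnit (pt j)) (kernel.ι u) w) :=
      mono_of_mono_fac (kernel.lift_ι (gmUnit (pt j)) (kernel.ι u) w)
    exact zeroAt_of_mono (kernel.lift (gmUnit (pt j)) (kernel.ι u) w) (zeroAt_kernel_gmUnit (hpt j))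
  have hC : SuppClosed (cokernel u) := fun z hz => by
    obtain ⟨j, rfl⟩ : ∃ j, pt j = z :=
      ⟨e ⟨z, isMaxPt_of_not_closed hdim hz, hz⟩, congrArg Subtype.val (e.symm_apply_apply _)⟩
    obtain ⟨Ω, _, _, ξ, hξ⟩ := exists_geomPt (pt j)
    haveI : (EtCoh.stalk ξ).Additive := Functor.additive_of_preserves_binary_products _
    refine (isZero_stalk_iff_zeroAt hξ _).1 (isZero_obj_cokernel (EtCoh.stalk ξ) P u j
      (fun x hx => (isZero_stalk_iff_zeroAt hξ _).2 (zeroAt_push (hpt x) _ (pt j) (hpt j)
        fun h => hx (e.symm.injective (Subtype.ext h.symm)))) ?_)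
    rw [(biproduct.lift_π (fun j => gmUnit (pt j)) j : u ≫ biproduct.π P j = gmUnit (pt j))]
    exact Preadditive.epi_of_isZero_cokernel _
      (((isZero_stalk_iff_zeroAt hξ _).2 (zeroAt_cokernel_gmUnit (hpt j))).of_iso
        (PreservesCokernel.iso (EtCoh.stalk ξ) (gmUnit (pt j))).symm)
  let p : EtCoh.Gm X ⟶ cokernel (kernel.ι u) := cokernel.π (kernel.ι u)
  let v : cokernel (kernel.ι u) ⟶ ⨁ P := cokernel.desc _ u (kernel.condition u)
  have hpv : p ≫ v = u := cokernel.π_desc _ _ _
  haveI : Mono v := (ShortComplex.exact_iff_mono_cokernel_desc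
    (ShortComplex.mk (kernel.ι u) u (kernel.condition u))).1
    (ShortComplex.exact_of_f_is_kernel _ (kernelIsKernel u))
  have hA : (ShortComplex.mk (kernel.ι u) p (cokernel.condition _)).ShortExact :=
    { exact := ShortComplex.exact_of_g_is_cokernel _ (cokernelIsCokernel _) }
  have hB : (ShortComplex.mk v (cokernel.π v) (cokernel.condition v)).ShortExact :=
    { exact := ShortComplex.exact_of_g_is_cokernel _ (cokernelIsCokernel _) }
  have hCv : SuppClosed (cokernel v) := fun z hz => by
    have hw : u ≫ cokernel.π v = 0 := (congrArg (· ≫ cokernel.π v) hpv.symm).trans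
      ((Category.assoc _ _ _).trans ((congrArg (p ≫ ·) (cokernel.condition v)).trans comp_zero))
    haveI : Epi (cokernel.desc u (cokernel.π v) hw) :=
      epi_of_epi_fac (cokernel.π_desc u (cokernel.π v) hw)
    exact zeroAt_of_epi (cokernel.desc u (cokernel.π v) hw) (hC z hz)
  have hcomp : ∀ x : J, Ext.comp c (Ext.mk₀ (u ≫ biproduct.π P x)) (add_zero 2) = 0 := fun x => by
    refine H2_push_Gm_eq_zero (hpt x) _ ?_
    rw [(biproduct.lift_π (fun j => gmUnit (pt j)) x : u ≫ biproduct.π P x = gmUnit (pt x)), gmUnit_eq_GmPush]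
    exact hc _ (hpt x) (e.symm x).2.2
  have hd : Ext.comp c (Ext.mk₀ u) (add_zero 2) = 0 := by
    have e : u = ∑ x, (u ≫ biproduct.π P x) ≫ biproduct.ι P x := by
      simp only [Category.assoc]
      rw [← Preadditive.comp_sum, biproduct.total, Category.comp_id]
    rw [e, Ext.mk₀_sum, Ext.comp_sum]
    refine Finset.sum_eq_zero fun x _ => ?_
    rw [← Ext.mk₀_comp_mk₀, ← Ext.comp_assoc_of_second_deg_zero, hcomp x, Ext.zero_comp]
  have hI : Ext.comp c (Ext.mk₀ p) (add_zero 2) = 0 := by
    obtain ⟨d, hd'⟩ := Ext.covariant_sequence_exact₁ (EtCoh.const X ℤ) hB (Ext.comp c (Ext.mk₀ p) (add_zero 2))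
      (by rw [Ext.comp_assoc_of_second_deg_zero, Ext.mk₀_comp_mk₀, hpv, hd]) (n₀ := 1) rfl
    haveI := subsingleton_H_of_suppClosed hsep (cokernel v) hCv 1 one_pos
    rw [← hd', show d = 0 from @Subsingleton.elim (EtCoh.H X (cokernel v) 1) _ d 0, Ext.zero_comp]
  obtain ⟨d, hd'⟩ := Ext.covariant_sequence_exact₂ (EtCoh.const X ℤ) hA c hI
  haveI := subsingleton_H_of_suppClosed hsep (kernel u) hK 2 two_pos
  rw [← hd', show d = 0 from @Subsingleton.elim (EtCoh.H X (kernel u) 2) _ d 0, Ext.zero_comp]

end Noeth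

variable {X : Scheme.{u}}

/-- **the Brauer group of a reduced curve over an algebraically closed field vanishes** -/
theorem subsingleton_brCoh_curve {k : Type u} [Field k] [IsAlgClosed k] (f : X ⟶ Spec (CommRingCat.of k))
    [LocallyOfFiniteType f] [CompactSpace X] [QuasiSeparatedSpace X] [IsReduced X]
    (hdim : topologicalKrullDim X ≤ 1) : Subsingleton (EtCoh.H X (EtCoh.Gm X) 2) := by
  haveI : IsLocallyNoetherian X := LocallyOfFiniteType.isLocallyNoetherian f
  haveI : IsNoetherian X := {}
  haveI : ∀ x : X, PreservesFiniteLimits (EtCoh.pull (locι x)) :=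
    fun x => Groth.Agent.EtPullExact.pull_preservesFiniteLimits _
  refine subsingleton_of_forall_eq 0 fun c => H2_Gm_eq_zero_of_restrict hdim
    (fun x hx => isSepClosed_of_isClosed f x hx) c fun x hx _ => ?_
  haveI := subsingleton_locScheme hx
  haveI : IsReduced (locScheme x) := inferInstance
  let R := X.presheaf.stalk x
  haveI : Subsingleton (PrimeSpectrum R) := inferInstanceAs (Subsingleton (locScheme x))
  have hm : IsLocalRing.maximalIdeal R = ⊥ := by
    refine eq_bot_iff.2 fun a ha => ?_
    have h1 : a ∈ nilradical R := by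
      rw [nilradical_eq_sInf, Ideal.mem_sInf]
      intro P hP
      rw [show P = IsLocalRing.maximalIdeal R from congrArg PrimeSpectrum.asIdeal
        (Subsingleton.elim (α := PrimeSpectrum R) ⟨P, hP⟩ ⟨_, (IsLocalRing.maximalIdeal.isMaximal R).isPrime⟩)]
      exact ha
    rwa [nilradical_eq_zero R] at h1
  letI : Field R := (Ring.isField_iff_maximal_bot (R := R)).2 (hm ▸ IsLocalRing.maximalIdeal.isMaximal R) |>.toField
  let φ : k →+* X.residueField x := kStr f x
  letI : Algebra k R := (((RingEquiv.ofBijective (X.residue x).hom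
      ⟨(X.residue x).hom.injective, X.residue_surjective x⟩).symm.toRingHom).comp φ).toAlgebra
  letI : Algebra k (X.residueField x) := φ.toAlgebra
  let er : R ≃ₐ[k] X.residueField x := AlgEquiv.ofRingEquiv
    (f := RingEquiv.ofBijective (X.residue x).hom ⟨(X.residue x).hom.injective, X.residue_surjective x⟩)
    fun a => RingEquiv.apply_symm_apply _ _
  have htr : Algebra.trdeg k R ≤ 1 := by
    rw [er.trdeg_eq]
    exact_mod_cast resDim_of_dim_le f (n := 1) (by exact_mod_cast hdim) x
  obtain ⟨j, hj⟩ := Cardinal.lt_aleph0.1 (htr.trans_lt Cardinal.one_lt_aleph0)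
  have hj1 : j ≤ 1 := by
    rw [hj] at htr
    exact_mod_cast htr
  have hCi : Curves.IsCi R 1 := fun r n p d hp hd hlt =>
    S0212.result k R j hj r n p d hp hd (lt_of_le_of_lt
      (Finset.sum_le_sum fun ρ _ => Nat.pow_le_pow_right (hd ρ) hj1) hlt)
  exact @Subsingleton.elim _ (subsingleton_H2_Gm_of_isCi_one R hCi) _ _

end Groth.Agent.EtPBC
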