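import Groth.Agent.DimFormula.Field
import Groth.Agent.Hensel.HenselizationNoeth
import Mathlib

/-!
# The dimension formula for strict henselisations of algebraic local rings
-/

set_option autoImplicit false
set_option linter.style.haveILetI false
set_option linter.unusedSectionVars false
set_option maxHeartbeats 1000000

universe u

open IsLocalRing

noncomputable section

namespace Groth.Agent.EtPBC

/-- localisations in a domain are algebraic -/
theorem isAlgebraic_of_localization {F B : Type u} [CommRing F] [CommRing B] [IsDomain B] [Algebra F B]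
    (S : Submonoid F) [IsLocalization S B] : Algebra.IsAlgebraic F B := ⟨fun x => by
  obtain ⟨a, s, rfl⟩ := IsLocalization.exists_mk'_eq S x
  have hs : (s : F) ≠ 0 := fun h => by
    have h1 := IsLocalization.map_units B s
    rw [h, map_zero] at h1
    exact not_isUnit_zero h1
  refine ⟨Polynomial.C (s : F) * Polynomial.X - Polynomial.C a, fun h => hs ?_, ?_⟩
  · simpa using congrArg (fun q => Polynomial.coeff q 1) h
  · rw [map_sub, map_mul, Polynomial.aeval_C, Polynomial.aeval_X, Polynomial.aeval_C, mul_comm,
      IsLocalization.mk'_spec, sub_self]⟩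

/-- **dimension of an algebraic local domain** -/
theorem exists_local_dim {K B : Type u} [Field K] [CommRing B] [IsLocalRing B] [IsDomain B] [Algebra K B]
    [Algebra.EssFiniteType K B] :
    ∃ d t s : ℕ, ringKrullDim B = d ∧ Algebra.trdeg K (ResidueField B) = t ∧ Algebra.trdeg K B = s ∧ d + t = s := by
  let F := Algebra.EssFiniteType.subalgebra K B
  let M := Algebra.EssFiniteType.submonoid K B
  haveI : IsLocalization M B := inferInstance
  let q : Ideal F := (maximalIdeal B).under F
  haveI : q.IsPrime := Ideal.IsPrime.under F _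
  obtain ⟨h, t, s, hh, ht, hs, hsum⟩ := DimFormula.exists_height_add_trdeg K q
  refine ⟨h, t, s, ?_, ?_, ?_, hsum⟩
  · rw [← IsLocalRing.maximalIdeal_height_eq_ringKrullDim, ← IsLocalization.height_under M, hh]
    rfl
  · let f : F →ₐ[K] ResidueField B := (IsScalarTower.toAlgHom K B (ResidueField B)).comp F.val
    have hf : ∀ a ∈ q, f a = 0 := fun a ha => (residue_eq_zero_iff _).2 ha
    let g : F ⧸ q →ₐ[K] ResidueField B := Ideal.Quotient.liftₐ q f hf
    letI : Algebra (F ⧸ q) (ResidueField B) := g.toRingHom.toAlgebra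
    haveI : IsScalarTower K (F ⧸ q) (ResidueField B) := IsScalarTower.of_algebraMap_eq fun c => (g.commutes c).symm
    have hgi : Function.Injective g := by
      refine (injective_iff_map_eq_zero g).2 fun a ha => ?_
      obtain ⟨a, rfl⟩ := Ideal.Quotient.mk_surjective a
      exact Ideal.Quotient.eq_zero_iff_mem.2 ((residue_eq_zero_iff _).1 ha)
    haveI : FaithfulSMul (F ⧸ q) (ResidueField B) := (faithfulSMul_iff_algebraMap_injective _ _).2 hgi
    haveI : Algebra.IsAlgebraic (F ⧸ q) (ResidueField B) := ⟨fun x => by
      obtain ⟨x, rfl⟩ := residue_surjective x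
      obtain ⟨a, m, rfl⟩ := IsLocalization.exists_mk'_eq M x
      have hm : (Ideal.Quotient.mk q (m : F)) ≠ 0 := fun h0 =>
        notMem_maximalIdeal.2 (IsLocalization.map_units B m)
          ((Ideal.Quotient.eq_zero_iff_mem.1 h0 : (m : F) ∈ q) : algebraMap F B m ∈ maximalIdeal B)
      refine ⟨Polynomial.C (Ideal.Quotient.mk q (m : F)) * Polynomial.X - Polynomial.C (Ideal.Quotient.mk q a),
        fun h => hm ?_, ?_⟩
      · simpa using congrArg (fun r => Polynomial.coeff r 1) h
      · have e := congrArg (residue B) (IsLocalization.mk'_spec B a m)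
        rw [map_mul] at e
        simp only [map_sub, map_mul, Polynomial.aeval_C, Polynomial.aeval_X]
        show residue B (algebraMap F B m) * residue B (IsLocalization.mk' B a m) - residue B (algebraMap F B a) = 0
        rw [← e]
        ring⟩
    have h2 := trdeg_add_eq K (F ⧸ q) (A := ResidueField B)
    rw [trdeg_eq_zero (R := F ⧸ q) (A := ResidueField B), add_zero, ht] at h2
    exact h2.symm
  · haveI : FaithfulSMul F B := (faithfulSMul_iff_algebraMap_injective _ _).2 Subtype.val_injective
    haveI := isAlgebraic_of_localization (F := F) (B := B) M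
    have h2 := trdeg_add_eq K F (A := B)
    rw [trdeg_eq_zero (R := F) (A := B), add_zero, hs] at h2
    exact h2.symm

open Hensel in
/-- **finite stages of strict henselisations, and residue fields over them** -/
theorem exists_sh_stage {A R : Type u} [CommRing A] [IsLocalRing A] [IsNoetherianRing A] [CommRing R] [IsLocalRing R]
    [Algebra A R] [IsLocalHom (algebraMap A R)] [_root_.Hensel.IsStrictHenselization A R] {n : ℕ} (z : Fin n → R) :
    ∃ (B : Type u) (_ : CommRing B) (_ : IsLocalRing B) (_ : Algebra A B) (_ : Algebra.EssFiniteType A B)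
      (_ : Algebra.FormallyUnramified A B) (_ : Algebra B R) (_ : IsScalarTower A B R)
      (_ : IsLocalHom (algebraMap B R)), Module.FaithfullyFlat B R ∧ ∀ k, z k ∈ Set.range (algebraMap B R) := by
  haveI : Module.Flat A R := by haveI := strictHenselization_faithfullyFlat A R; infer_instance
  let K₀ := SeparableClosure (ResidueField A)
  obtain ⟨e⟩ := strictHenselization_equiv A R
  let ι : EnvTop A K₀ →ₐ[A] R := e.symm.toAlgHom.comp (IsScalarTower.toAlgHom A (EnvTop A K₀) (Env A K₀))
  have hloc : ∀ k, ∃ x t, IsUnit (ι t) ∧ z k * ι t = ι x := fun k => by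
    obtain ⟨x, t, ht, hx⟩ := env_hloc A K₀ (e (z k))
    refine ⟨x, t, ht.map e.symm, ?_⟩
    have := congrArg e.symm hx
    rw [map_mul, e.symm_apply_apply] at this
    exact this
  choose xs ts hts hxts using hloc
  obtain ⟨F, y, hy⟩ := exists_stage A K₀ (Fin.append xs ts)
  let E := EnvStage A K₀ F
  let inc : E →ₐ[A] R := ι.comp (etMap (P := envPairs A K₀) ((↑) : F → EnvIdx A K₀))
  haveI : Algebra.Etale A E := etale_etProd
  let p : Ideal E := (maximalIdeal R).comap inc.toRingHom
  haveI : p.IsPrime := Ideal.IsPrime.comap _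
  let A' := Localization.AtPrime p
  haveI : Algebra.FormallyUnramified A A' :=
    haveI : Algebra.FormallyUnramified E A' := Algebra.FormallyUnramified.of_isLocalization p.primeCompl
    Algebra.FormallyUnramified.comp A E A'
  haveI : Algebra.EssFiniteType A A' :=
    haveI : Algebra.EssFiniteType E A' := Algebra.EssFiniteType.of_isLocalization A' p.primeCompl
    Algebra.EssFiniteType.comp A E A'
  let χ : A' →ₐ[A] R := IsLocalization.liftAlgHom (M := p.primeCompl) (f := inc) fun u =>
    notMem_maximalIdeal.1 u.2
  have hχ : ∀ b, χ (algebraMap E A' b) = inc b := fun b => IsLocalization.lift_eq _ b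
  letI : Algebra A' R := χ.toRingHom.toAlgebra
  haveI : IsScalarTower A A' R := IsScalarTower.of_algebraMap_eq fun r => (χ.commutes r).symm
  haveI hl : IsLocalHom (algebraMap A' R) := ⟨fun a ha => by
    obtain ⟨b, s, rfl⟩ := IsLocalization.exists_mk'_eq p.primeCompl a
    refine (IsLocalization.AtPrime.isUnit_mk'_iff A' p b s).2 fun hb => ?_
    have h1 : IsUnit (χ (IsLocalization.mk' A' b s) * χ (algebraMap E A' s)) :=
      ha.mul ((IsLocalization.map_units A' s).map χ)
    rw [← map_mul, IsLocalization.mk'_spec, hχ] at h1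
    exact notMem_maximalIdeal.2 h1 hb⟩
  haveI : Module.Flat A' R := UnramLib.flat_of_formallyUnramified A A' R
  refine ⟨A', inferInstance, inferInstance, inferInstance, inferInstance, inferInstance, inferInstance,
    inferInstance, hl, Module.FaithfullyFlat.of_flat_of_isLocalHom, fun k => ?_⟩
  have hx : inc (y (Fin.castAdd _ k)) = ι (xs k) :=
    (congrArg ι (hy _)).trans (congrArg ι (Fin.append_left _ _ _))
  have ht : inc (y (Fin.natAdd _ k)) = ι (ts k) :=
    (congrArg ι (hy _)).trans (congrArg ι (Fin.append_right _ _ _))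
  have hmem : y (Fin.natAdd _ k) ∈ p.primeCompl := fun h => by
    have h2 : inc (y (Fin.natAdd _ k)) ∈ maximalIdeal R := h
    rw [ht] at h2
    exact notMem_maximalIdeal.2 (hts k) h2
  refine ⟨IsLocalization.mk' A' (y (Fin.castAdd _ k)) ⟨_, hmem⟩, ?_⟩
  have h2 := congrArg χ (IsLocalization.mk'_spec A' (y (Fin.castAdd _ k)) ⟨_, hmem⟩)
  rw [map_mul, hχ, hχ, hx, ← hxts k, ht] at h2
  exact (hts k).mul_left_injective h2

variable {A R : Type u} [CommRing A] [IsLocalRing A] [IsNoetherianRing A] [CommRing R] [IsLocalRing R]
  [Algebra A R] [IsLocalHom (algebraMap A R)] [_root_.Hensel.IsStrictHenselization A R] (P : Ideal R) [P.IsPrime]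

/-- **residue fields of strict henselisations are algebraic over those of the ring** -/
theorem isAlgebraic_sh_quotient : Algebra.IsAlgebraic (A ⧸ P.under A) (R ⧸ P) := ⟨fun z => by
  obtain ⟨z, rfl⟩ := Ideal.Quotient.mk_surjective z
  obtain ⟨B, _, _, _, _, _, _, _, _, -, hz⟩ := exists_sh_stage (A := A) (R := R) (fun _ : Fin 1 => z)
  obtain ⟨b, hb⟩ := hz 0
  let Q : Ideal B := P.under B
  let p : Ideal A := P.under A
  haveI : Q.IsPrime := Ideal.IsPrime.under B P
  haveI : p.IsPrime := Ideal.IsPrime.under A P
  haveI : Q.LiesOver p := ⟨(Ideal.under_under (A := A) (B := B) P).symm⟩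
  haveI : P.LiesOver Q := ⟨rfl⟩
  letI := Localization.AtPrime.algebraOfLiesOver p Q
  haveI : Algebra.IsSeparable p.ResidueField Q.ResidueField := inferInstance
  letI : Algebra (A ⧸ p) Q.ResidueField :=
    ((algebraMap (B ⧸ Q) Q.ResidueField).comp (algebraMap (A ⧸ p) (B ⧸ Q))).toAlgebra
  haveI : IsScalarTower (A ⧸ p) (B ⧸ Q) Q.ResidueField := IsScalarTower.of_algebraMap_eq fun _ => rfl
  haveI : IsScalarTower (A ⧸ p) p.ResidueField Q.ResidueField := IsScalarTower.of_algebraMap_eq fun a => by
    obtain ⟨a, rfl⟩ := Ideal.Quotient.mk_surjective a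
    show algebraMap (B ⧸ Q) Q.ResidueField (Ideal.Quotient.mk Q (algebraMap A B a)) =
      algebraMap p.ResidueField Q.ResidueField (algebraMap A p.ResidueField a)
    rw [Ideal.algebraMap_quotient_residueField_mk, ← IsScalarTower.algebraMap_apply A B Q.ResidueField,
      ← IsScalarTower.algebraMap_apply A p.ResidueField Q.ResidueField]
  haveI : IsScalarTower (A ⧸ p) (B ⧸ Q) (R ⧸ P) := IsScalarTower.of_algebraMap_eq fun a => by
    obtain ⟨a, rfl⟩ := Ideal.Quotient.mk_surjective a
    show Ideal.Quotient.mk P (algebraMap A R a) = Ideal.Quotient.mk P (algebraMap B R (algebraMap A B a))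
    rw [← IsScalarTower.algebraMap_apply A B R]
  have halg : IsAlgebraic (A ⧸ p) (algebraMap (B ⧸ Q) Q.ResidueField (Ideal.Quotient.mk Q b)) := by
    rw [IsFractionRing.isAlgebraic_iff (A ⧸ p) p.ResidueField Q.ResidueField]
    exact Algebra.IsAlgebraic.isAlgebraic _
  rw [isAlgebraic_algebraMap_iff (IsFractionRing.injective (B ⧸ Q) Q.ResidueField)] at halg
  rw [← hb]
  exact halg.algebraMap (A := R ⧸ P)⟩

/-- **the dimension formula for strict henselisations of algebraic local rings** -/
theorem sh_dim_formula {K : Type u} [Field K] [Algebra K A] [Algebra.EssFiniteType K A] :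
    ∃ d t s : ℕ, ringKrullDim (R ⧸ P) = d ∧ Algebra.trdeg K (ResidueField A) = t ∧
      Algebra.trdeg K (A ⧸ P.under A) = s ∧ d + t = s := by
  classical
  haveI : IsNoetherianRing R := (Hensel.strictHenselization_isNoetherianRing_iff (R := A) (S := R)).1 inferInstance
  let p : Ideal A := P.under A
  haveI : p.IsPrime := Ideal.IsPrime.under A P
  haveI : IsLocalRing (A ⧸ p) := IsLocalRing.of_surjective' _ Ideal.Quotient.mk_surjective
  obtain ⟨d, t, s, hd, ht, hs, hsum⟩ := exists_local_dim (K := K) (B := A ⧸ p)
  have htA : Algebra.trdeg K (ResidueField A) = t := by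
    haveI : IsLocalHom (Ideal.Quotient.mk p) := IsLocalHom.of_surjective _ Ideal.Quotient.mk_surjective
    let f : ResidueField A →ₐ[K] ResidueField (A ⧸ p) :=
      { ResidueField.map (Ideal.Quotient.mk p) with
        commutes' := fun c => by
          show ResidueField.map (Ideal.Quotient.mk p) (residue A (algebraMap K A c)) = _
          rw [ResidueField.map_residue]; rfl }
    have hf : Function.Bijective f := ⟨RingHom.injective f.toRingHom, fun y => by
      obtain ⟨y, rfl⟩ := residue_surjective y
      obtain ⟨a, rfl⟩ := Ideal.Quotient.mk_surjective y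
      exact ⟨residue A a, ResidueField.map_residue _ a⟩⟩
    rw [← ht]
    exact (AlgEquiv.ofBijective f hf).trdeg_eq
  obtain ⟨n, g, hg⟩ := Submodule.fg_iff_exists_fin_generating_family.1 (IsNoetherian.noetherian P)
  obtain ⟨B, _, _, _, _, _, _, _, hloc, hff, hgB⟩ := exists_sh_stage (A := A) (R := R) g
  choose b hb using hgB
  let Q : Ideal B := P.under B
  haveI : Q.IsPrime := Ideal.IsPrime.under B P
  have hQP : Q.map (algebraMap B R) = P := by
    refine le_antisymm Ideal.map_comap_le ?_
    rw [← hg]
    refine Submodule.span_le.2 ?_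
    rintro _ ⟨k, rfl⟩
    show g k ∈ Q.map (algebraMap B R)
    rw [← hb k]
    refine Ideal.mem_map_of_mem _ (show algebraMap B R (b k) ∈ P from ?_)
    rw [hb k, ← hg]
    exact Submodule.subset_span ⟨k, rfl⟩
  haveI : IsLocalRing (B ⧸ Q) := IsLocalRing.of_surjective' _ Ideal.Quotient.mk_surjective
  letI : Algebra K B := ((algebraMap A B).comp (algebraMap K A)).toAlgebra
  haveI : IsScalarTower K A B := IsScalarTower.of_algebraMap_eq fun _ => rfl
  haveI : Algebra.EssFiniteType K B := Algebra.EssFiniteType.comp K A B
  obtain ⟨d', t', s', hd', ht', hs', hsum'⟩ := exists_local_dim (K := K) (B := B ⧸ Q)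
  letI : Algebra K R := ((algebraMap A R).comp (algebraMap K A)).toAlgebra
  haveI : IsScalarTower K A R := IsScalarTower.of_algebraMap_eq fun _ => rfl
  haveI : IsScalarTower K B R := IsScalarTower.of_algebraMap_eq fun c => by
    show algebraMap A R (algebraMap K A c) = algebraMap B R (algebraMap A B (algebraMap K A c))
    rw [← IsScalarTower.algebraMap_apply A B R]
  have hss : (s : Cardinal.{u}) ≤ s' := by
    rw [← hs, ← hs']
    refine trdeg_le_of_injective (Ideal.quotientMapₐ Q (IsScalarTower.toAlgHom K A B)
      (show p ≤ Q.comap (IsScalarTower.toAlgHom K A B) from fun a ha => ?_)) ?_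
    · show algebraMap B R (algebraMap A B a) ∈ P
      rw [← IsScalarTower.algebraMap_apply A B R]
      exact ha
    · refine (injective_iff_map_eq_zero _).2 fun a ha => ?_
      obtain ⟨a, rfl⟩ := Ideal.Quotient.mk_surjective a
      refine Ideal.Quotient.eq_zero_iff_mem.2 ?_
      have h1 : algebraMap B R (algebraMap A B a) ∈ P :=
        (Ideal.Quotient.eq_zero_iff_mem.1 (show Ideal.Quotient.mk Q (algebraMap A B a) = 0 from ha) :)
      rwa [← IsScalarTower.algebraMap_apply A B R] at h1
  have htt : (t' : Cardinal.{u}) ≤ t := by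
    haveI : IsLocalHom (Ideal.Quotient.mk Q) := IsLocalHom.of_surjective _ Ideal.Quotient.mk_surjective
    haveI : Algebra.IsSeparable (ResidueField A) (ResidueField R) :=
      (_root_.Hensel.IsStrictHenselization.isSepClosure (R := A) (S := R)).separable
    haveI : Algebra.IsAlgebraic (ResidueField A) (ResidueField R) := Algebra.IsSeparable.isAlgebraic _ _
    have h1 : Algebra.trdeg K (ResidueField R) = t := by
      haveI : FaithfulSMul (ResidueField A) (ResidueField R) :=
        (faithfulSMul_iff_algebraMap_injective _ _).2 (RingHom.injective _)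
      have h2 := trdeg_add_eq K (ResidueField A) (A := ResidueField R)
      rw [trdeg_eq_zero (R := ResidueField A) (A := ResidueField R), add_zero, htA] at h2
      exact h2.symm
    rw [← h1, ← ht']
    have hle : Q ≤ maximalIdeal B := le_maximalIdeal (Ideal.IsPrime.ne_top inferInstance)
    let f : ResidueField B →ₐ[K] ResidueField (B ⧸ Q) :=
      { ResidueField.map (Ideal.Quotient.mk Q) with
        commutes' := fun c => by
          show ResidueField.map (Ideal.Quotient.mk Q) (residue B (algebraMap K B c)) = _
          rw [ResidueField.map_residue]; rfl }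
    have hf : Function.Bijective f := ⟨RingHom.injective f.toRingHom, fun y => by
      obtain ⟨y, rfl⟩ := residue_surjective y
      obtain ⟨a, rfl⟩ := Ideal.Quotient.mk_surjective y
      exact ⟨residue B a, ResidueField.map_residue _ a⟩⟩
    rw [← (AlgEquiv.ofBijective f hf).trdeg_eq]
    haveI := hloc
    let g : ResidueField B →ₐ[K] ResidueField R :=
      { ResidueField.map (algebraMap B R) with
        commutes' := fun c => by
          show ResidueField.map (algebraMap B R) (residue B (algebraMap K B c)) = _
          rw [ResidueField.map_residue, ← IsScalarTower.algebraMap_apply K B R]; rfl }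
    exact trdeg_le_of_injective g (RingHom.injective g.toRingHom)
  have hup : ringKrullDim (R ⧸ P) ≤ ringKrullDim (A ⧸ p) := by
    let K₀ := SeparableClosure (ResidueField A)
    obtain ⟨e⟩ := Hensel.strictHenselization_equiv A R
    rw [ringKrullDim_quotient, ringKrullDim_quotient]
    refine Order.krullDim_le_of_strictMono
      (fun x : PrimeSpectrum.zeroLocus (R := R) (P : Set R) =>
        (⟨PrimeSpectrum.comap (algebraMap A R) x.1, fun a ha => x.2 (show algebraMap A R a ∈ P from ha)⟩ :
          PrimeSpectrum.zeroLocus (R := A) (p : Set A)))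
      fun x y hxy => ?_
    refine lt_of_le_of_ne (Ideal.comap_mono hxy.le) fun h => hxy.ne (Subtype.ext (PrimeSpectrum.ext ?_))
    exact Hensel.eq_of_le_of_points A K₀
      (e.symm.toAlgHom.comp (IsScalarTower.toAlgHom A (Hensel.EnvTop A K₀) (Hensel.Env A K₀)))
      (fun z => by
        obtain ⟨x', t', ht', hx'⟩ := Hensel.env_hloc A K₀ (e z)
        refine ⟨x', t', ht'.map e.symm, ?_⟩
        have := congrArg e.symm hx'
        rw [map_mul, e.symm_apply_apply] at this
        exact this) _ _ hxy.le (congrArg (fun w => (Subtype.val w).asIdeal) h)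
  have hdown : ringKrullDim (B ⧸ Q) ≤ ringKrullDim (R ⧸ P) := by
    haveI := hff
    rw [ringKrullDim_quotient, ringKrullDim_quotient]
    refine iSup_le fun l => ?_
    let l' : LTSeries (PrimeSpectrum B) := l.map Subtype.val fun _ _ h => h
    obtain ⟨P', hP'⟩ := PrimeSpectrum.comap_surjective_of_faithfullyFlat (A := B) (B := R) l'.last
    haveI : P'.asIdeal.LiesOver l'.last.asIdeal := ⟨by rw [← hP']; rfl⟩
    obtain ⟨L, hL, -, hmap⟩ := Ideal.exists_ltSeries_of_hasGoingDown l' P'.asIdeal
    have hmem : ∀ i, L i ∈ PrimeSpectrum.zeroLocus (R := R) (P : Set R) := fun i => by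
      have h0 : PrimeSpectrum.comap (algebraMap B R) L.head = l'.head := by
        have := congrArg (fun t : List _ => t[0]?) hmap
        simpa [RelSeries.toList, RelSeries.head, LTSeries.map, List.getElem?_ofFn] using this
      have hle : P ≤ L.head.asIdeal := by
        rw [← hQP, Ideal.map_le_iff_le_comap]
        exact le_of_le_of_eq (show Q ≤ l'.head.asIdeal from l.head.2) (congrArg PrimeSpectrum.asIdeal h0).symm
      exact hle.trans (L.monotone (Fin.zero_le i))
    exact le_iSup_of_le (LTSeries.mk L.length (fun i => ⟨L i, hmem i⟩) fun i j h => L.strictMono h) (by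
      show ((l.length : ℕ∞) : WithBot ℕ∞) ≤ ((L.length : ℕ∞) : WithBot ℕ∞)
      rw [hL]; exact le_rfl)
  have hs1 : s ≤ s' := by exact_mod_cast hss
  have ht1 : t' ≤ t := by exact_mod_cast htt
  refine ⟨d, t, s, le_antisymm (hup.trans hd.le) (le_trans ?_ hdown), htA, hs, hsum⟩
  rw [hd']
  exact_mod_cast (show d ≤ d' by omega)

end Groth.Agent.EtPBC
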