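import Groth.Agent.DvrDom.KrullAkizuki
import Groth.Agent.EtPBC.ShDim
import Groth.Agent.EtBCQ.Crit
import Groth.Agent.Hensel.HenselizationMore
import Groth.Agent.Hensel.HenselizationNormal
import Mathlib.RingTheory.DedekindDomain.Basic
import Mathlib.RingTheory.DiscreteValuationRing.TFAE

/-!
# A henselian DVR over a one-dimensional Noetherian local domain

Krull–Akizuki gives a DVR with the same fraction field and finite residue extension; henselisation keeps the residue
field and makes an algebraic extension of the fraction field.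
-/

set_option autoImplicit false
set_option backward.isDefEq.respectTransparency false
set_option linter.style.haveILetI false

universe u

open IsLocalRing nonZeroDivisors

noncomputable section

namespace Groth.Agent.EtPBC

/-- a DVR over a one-dimensional Noetherian local domain -/
theorem exists_dvr_of_dim_one (C : Type u) [CommRing C] [IsDomain C] [IsNoetherianRing C] [IsLocalRing C]
    [Ring.KrullDimLE 1 C] (hC : ¬ IsField C) (K : Type u) [Field K] [Algebra C K] [IsFractionRing C K] :
    ∃ (V : Type u) (_ : CommRing V) (_ : IsDomain V) (_ : IsDiscreteValuationRing V) (_ : Algebra V K)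
      (_ : IsFractionRing V K) (_ : Algebra C V) (_ : IsScalarTower C V K) (_ : IsLocalHom (algebraMap C V)),
      (ResidueField.map (algebraMap C V)).Finite := by
  classical
  let D := integralClosure C K
  haveI : Algebra.IsAlgebraic C K := isAlgebraic_of_localization C⁰
  haveI : IsNoetherianRing D := DvrDom.isNoetherianRing_subalgebra D
  haveI : IsFractionRing D K :=
    integralClosure.isFractionRing_of_algebraic (A := C) (L := K) (fun x hx => IsFractionRing.injective C K
      (hx.trans (map_zero _).symm))
  haveI : IsIntegrallyClosed D :=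
    (isIntegrallyClosed_iff K).2 fun {x} hx => ⟨⟨x, isIntegral_trans x hx⟩, rfl⟩
  haveI : Ring.DimensionLEOne C := ⟨fun {P} hP hPp => Ring.krullDimLE_one_iff_of_noZeroDivisors.1 inferInstance P hP hPp⟩
  haveI : Ring.DimensionLEOne D := Ring.DimensionLEOne.integralClosure C K
  haveI : IsDedekindDomain D := {}
  have hinj : Function.Injective (algebraMap C D) := fun a b h =>
    IsFractionRing.injective C K (congrArg Subtype.val h)
  obtain ⟨M, -, hMp, hM⟩ := Ideal.exists_ideal_over_prime_of_isIntegral (maximalIdeal C) (⊥ : Ideal D) (by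
    rw [← RingHom.ker_eq_comap_bot, (RingHom.injective_iff_ker_eq_bot _).1 hinj]; exact bot_le)
  haveI := hMp
  haveI hMmax : M.IsMaximal := Ideal.isMaximal_of_isIntegral_of_isMaximal_comap M (hM ▸ maximalIdeal.isMaximal C)
  have hMne : M ≠ ⊥ := by
    rintro rfl
    rw [← RingHom.ker_eq_comap_bot, (RingHom.injective_iff_ker_eq_bot _).1 hinj] at hM
    exact hC (IsLocalRing.isField_iff_maximalIdeal_eq.2 hM.symm)
  let V := Localization.AtPrime M
  haveI : IsDiscreteValuationRing V := IsLocalization.AtPrime.isDiscreteValuationRing_of_dedekind_domain D hMne V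
  letI : Algebra V K := (IsLocalization.lift (M := M.primeCompl) (S := V) (g := algebraMap D K) fun y => by
    refine IsUnit.mk0 _ ((map_ne_zero_iff _ (IsFractionRing.injective D K)).2 fun h => y.2 ?_)
    rw [h]; exact M.zero_mem).toAlgebra
  haveI : IsScalarTower D V K := IsScalarTower.of_algebraMap_eq fun x => (IsLocalization.lift_eq _ x).symm
  haveI : IsFractionRing V K := IsFractionRing.isFractionRing_of_isDomain_of_isLocalization M.primeCompl V K
  haveI : IsScalarTower C D V := inferInstance
  haveI : IsScalarTower C V K := IsScalarTower.of_algebraMap_eq fun x => by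
    rw [IsScalarTower.algebraMap_apply C D K, IsScalarTower.algebraMap_apply D V K, ← IsScalarTower.algebraMap_apply C D V]
  have hMV : (maximalIdeal V).comap (algebraMap D V) = M := IsLocalization.AtPrime.under_maximalIdeal V M
  haveI : IsLocalHom (algebraMap C V) := by
    refine ((local_hom_TFAE (algebraMap C V)).out 0 4).2 ?_
    rw [IsScalarTower.algebraMap_eq C D V, ← Ideal.comap_comap, hMV, hM]
  refine ⟨V, inferInstance, inferInstance, inferInstance, inferInstance, inferInstance, inferInstance, inferInstance,
    inferInstance, ?_⟩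
  -- finiteness of the residue extension
  obtain ⟨a, ham, ha⟩ := Submodule.exists_mem_ne_zero_of_ne_bot
    (fun h => hC (IsLocalRing.isField_iff_maximalIdeal_eq.2 h))
  let W : Submodule C D := LinearMap.range (LinearMap.lsmul C D a)
  haveI : Module.Finite C (D ⧸ W) := by
    obtain ⟨n, hn⟩ := ENat.ne_top_iff_exists.mp (Ring.ord_ne_top (R := C) (mem_nonZeroDivisors_of_ne_zero ha))
    refine DvrDom.finite_of_forall_fg_length_le n fun N hN => ?_
    obtain ⟨s, hs⟩ := hN
    choose l hl using fun z : D ⧸ W => W.mkQ_surjective z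
    have : N = (Submodule.span C (s.image l : Set D)).map W.mkQ := by
      rw [Submodule.map_span, Finset.coe_image, ← Set.image_comp, ← hs]
      simp [Function.comp_def, hl]
    rw [this, hn]
    exact DvrDom.length_map_mkQ_le D ha _ ⟨_, rfl⟩
  have hWM : W ≤ M.restrictScalars C := by
    rintro _ ⟨d, rfl⟩
    show a • d ∈ M
    rw [Algebra.smul_def]
    refine M.mul_mem_right _ ?_
    have : a ∈ M.comap (algebraMap C D) := hM.symm ▸ ham
    exact this
  haveI : Module.Finite C (D ⧸ M) :=
    Module.Finite.of_surjective ((Submodule.Quotient.restrictScalarsEquiv C M).toLinearMap.comp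
      (Submodule.mapQ W (M.restrictScalars C) LinearMap.id hWM)) fun z => by
        obtain ⟨z, rfl⟩ := Submodule.Quotient.mk_surjective M z
        exact ⟨Submodule.Quotient.mk z, rfl⟩
  let ψ : D →+* ResidueField V := (residue V).comp (algebraMap D V)
  have hψ : Function.Surjective ψ := by
    intro x
    obtain ⟨x, rfl⟩ := residue_surjective x
    obtain ⟨d, s, rfl⟩ := IsLocalization.exists_mk'_eq M.primeCompl x
    letI := Ideal.Quotient.field M
    obtain ⟨t, ht⟩ : ∃ t : D, (s : D) * t - 1 ∈ M := by
      obtain ⟨t, ht⟩ := Ideal.Quotient.mk_surjective ((Ideal.Quotient.mk M (s : D))⁻¹)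
      refine ⟨t, ?_⟩
      rw [← Ideal.Quotient.eq_zero_iff_mem, map_sub, map_mul, map_one, ht, mul_inv_cancel₀, sub_self]
      exact fun h => s.2 (Ideal.Quotient.eq_zero_iff_mem.1 h)
    refine ⟨d * t, ?_⟩
    show residue V _ = _
    rw [← sub_eq_zero, ← map_sub, residue_eq_zero_iff]
    have hmem : algebraMap D V ((s : D) * t - 1) ∈ maximalIdeal V :=
      Ideal.mem_comap.1 (hMV.symm ▸ ht)
    have : algebraMap D V (d * t) - IsLocalization.mk' V d s =
        IsLocalization.mk' V d s * algebraMap D V ((s : D) * t - 1) := by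
      rw [map_sub, map_mul, map_mul, map_one, mul_sub, mul_one, ← mul_assoc, IsLocalization.mk'_spec]
    rw [this]
    exact Ideal.mul_mem_left _ _ hmem
  have hker : M ≤ RingHom.ker ψ := fun x hx => (residue_eq_zero_iff _).2
    (Ideal.mem_comap.1 (hMV.symm ▸ hx))
  let ψ' : D ⧸ M →+* ResidueField V := Ideal.Quotient.lift M ψ hker
  have h1 : ((ResidueField.map (algebraMap C V)).comp (residue C)) = ψ'.comp (algebraMap C (D ⧸ M)) :=
    RingHom.ext fun c => (congrArg (residue V) (IsScalarTower.algebraMap_apply C D V c).symm).symm ▸ rfl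
  refine RingHom.Finite.of_comp_finite (f := residue C) ?_
  rw [h1]
  exact (RingHom.Finite.of_surjective ψ' (Ideal.Quotient.lift_surjective_of_surjective M hker hψ)).comp
    (RingHom.finite_algebraMap.2 inferInstance)

/-- injective maps extend to the fraction field -/
theorem exists_extend_field (V : Type u) [CommRing V] [IsDomain V] (K : Type u) [Field K] [Algebra V K]
    [IsFractionRing V K] (L : Type u) [Field L] (f : V →+* L) (hf : Function.Injective f) :
    ∃ ψ : K →+* L, ψ.comp (algebraMap V K) = f :=
  ⟨IsFractionRing.lift hf, RingHom.ext fun x => IsFractionRing.lift_algebraMap hf x⟩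

/-- algebraicity modulo the zero ideal -/
theorem isAlgebraic_of_quotient_bot (V : Type u) [CommRing V] (R : Type u) [CommRing R] [Algebra V R]
    (hVR : Function.Injective (algebraMap V R))
    [h : Algebra.IsAlgebraic (V ⧸ (⊥ : Ideal R).under V) (R ⧸ (⊥ : Ideal R))] (z : R) : IsAlgebraic V z := by
  obtain ⟨P, hP, hP'⟩ := h.isAlgebraic (Ideal.Quotient.mk _ z)
  obtain ⟨P, rfl⟩ := Polynomial.map_surjective (Ideal.Quotient.mk ((⊥ : Ideal R).under V))
    Ideal.Quotient.mk_surjective P
  refine ⟨P, fun h0 => hP (by rw [h0, Polynomial.map_zero]), ?_⟩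
  rw [Polynomial.aeval_def, Polynomial.eval₂_map] at hP'
  have e : (algebraMap (V ⧸ (⊥ : Ideal R).under V) (R ⧸ (⊥ : Ideal R))).comp (Ideal.Quotient.mk _) =
      (Ideal.Quotient.mk (⊥ : Ideal R)).comp (algebraMap V R) := RingHom.ext fun x => rfl
  rw [e, ← Polynomial.hom_eval₂, Ideal.Quotient.eq_zero_iff_mem, Ideal.mem_bot] at hP'
  exact hP'

/-- henselisation of a DVR -/
theorem exists_henselization_dvr (V : Type u) [CommRing V] [IsDomain V] [IsDiscreteValuationRing V]
    (K : Type u) [Field K] [Algebra V K] [IsFractionRing V K] :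
    ∃ (H : Type u) (_ : CommRing H) (_ : IsDomain H) (_ : IsDiscreteValuationRing H) (_ : HenselianLocalRing H)
      (K' : Type u) (_ : Field K') (_ : Algebra H K') (_ : IsFractionRing H K') (ι : V →+* H) (_ : IsLocalHom ι)
      (f : K →+* K'), f.comp (algebraMap V K) = (algebraMap H K').comp ι ∧ f.IsIntegral ∧
      Function.Bijective (ResidueField.map ι) := by
  obtain ⟨hloc, hH⟩ := Hensel.exists_henselization V
  let H := Hensel.Env V (ResidueField V)
  haveI : HenselianLocalRing H := hH.henselian
  obtain ⟨hd, -⟩ := (Hensel.henselization_normal_iff (R := V) (S := H)).1 ⟨inferInstance, inferInstance⟩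
  haveI := hd
  haveI : IsNoetherianRing H := (Hensel.henselization_isNoetherianRing_iff (R := V) (S := H)).1 inferInstance
  obtain ⟨-, hreg, hdim⟩ := (Hensel.dvr_iff V).1 ⟨inferInstance, inferInstance⟩
  obtain ⟨_, hdvr⟩ := (Hensel.dvr_iff H).2 ⟨hd, (Hensel.henselization_isRegularLocalRing_iff (R := V) (S := H)).1 hreg,
    (Hensel.henselization_ringKrullDim (R := V) (S := H)).trans hdim⟩
  haveI := hdvr
  -- the henselisation sits in a strict henselisation, which is algebraic
  obtain ⟨R, _, _, _, _, hR⟩ := EtBCQ.exists_sh V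
  haveI : HenselianLocalRing R := hR.henselian
  obtain ⟨hdR, -⟩ := (Hensel.strictHenselization_normal_iff V R).2 ⟨inferInstance, inferInstance⟩
  haveI := hdR
  obtain ⟨g, hg, -⟩ := hH.universal R (algebraMap V R) inferInstance
  haveI := Hensel.strictHenselization_faithfullyFlat V R
  have hVR : Function.Injective (algebraMap V R) := FaithfulSMul.algebraMap_injective V R
  haveI : FaithfulSMul V R := inferInstance
  have hker : RingHom.ker g = ⊥ := by
    by_contra h
    haveI := RingHom.ker_isPrime g
    have hmax : RingHom.ker g = maximalIdeal H :=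
      IsLocalRing.eq_maximalIdeal (Ring.DimensionLEOne.maximalOfPrime (R := H) (p := RingHom.ker g) h inferInstance)
    obtain ⟨ϖ, hϖ⟩ := IsDiscreteValuationRing.exists_irreducible V
    have h1 : algebraMap V H ϖ ∈ RingHom.ker g := by
      rw [hmax]
      have h02 := (local_hom_TFAE (algebraMap V H)).out 0 2
      exact h02.1 hloc
        (Ideal.mem_map_of_mem _ ((mem_maximalIdeal _).2 hϖ.not_isUnit))
    rw [RingHom.mem_ker, ← RingHom.comp_apply, hg] at h1
    exact hϖ.ne_zero (hVR (h1.trans (map_zero _).symm))
  have hginj : Function.Injective g := (RingHom.injective_iff_ker_eq_bot g).2 hker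
  haveI := isAlgebraic_sh_quotient (A := V) (R := R) (P := (⊥ : Ideal R))
  have halgR : ∀ z : R, IsAlgebraic V z := isAlgebraic_of_quotient_bot V R hVR
  let G : H →ₐ[V] R := { g with commutes' := RingHom.congr_fun hg }
  have halgH : ∀ z : H, IsAlgebraic V z := fun z => (isAlgebraic_algHom_iff G hginj).1 (halgR _)
  let K' := FractionRing H
  have hinjH : Function.Injective (algebraMap V H) := fun a b hab => hVR (by
    rw [← hg, RingHom.comp_apply, RingHom.comp_apply, hab])
  obtain ⟨f, hf⟩ := exists_extend_field V K K' ((algebraMap H K').comp (algebraMap V H))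
    ((IsFractionRing.injective H K').comp hinjH)
  refine ⟨H, inferInstance, inferInstance, inferInstance, inferInstance, K', inferInstance, inferInstance,
    inferInstance, algebraMap V H, inferInstance, f, hf, fun x => ?_, Hensel.henselization_residue_bijective V H⟩
  letI := f.toAlgebra
  show IsIntegral K x
  refine IsAlgebraic.isIntegral ?_
  have hval : ∀ a : H, IsAlgebraic K (algebraMap H K' a) := by
    intro a
    obtain ⟨P, hP, hP'⟩ := halgH a
    refine ⟨P.map (algebraMap V K), (Polynomial.map_ne_zero_iff (IsFractionRing.injective V K)).2 hP, ?_⟩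
    rw [Polynomial.aeval_def, Polynomial.eval₂_map,
      show (algebraMap K K').comp (algebraMap V K) = (algebraMap H K').comp (algebraMap V H) from hf,
      ← Polynomial.hom_eval₂, ← Polynomial.aeval_def, hP', map_zero]
  obtain ⟨a, b, -, rfl⟩ := IsFractionRing.div_surjective (A := H) x
  rw [div_eq_mul_inv]
  exact (hval a).mul (hval b).inv

end Groth.Agent.EtPBC
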