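import Groth.Agent.EtPBC.CdSerre
import Groth.Agent.EtPBC.CdDimLowerDvr
import Groth.Agent.EtPBC.HensDvrPos
import Groth.Agent.Hensel.Branches

/-!
# The fraction field of a one-dimensional henselian local domain
-/

set_option autoImplicit false
set_option backward.isDefEq.respectTransparency false
set_option linter.style.haveILetI false

universe u

open IsLocalRing nonZeroDivisors AlgebraicGeometry CategoryTheory Opposite

noncomputable section

namespace Groth.Agent.EtPBC

/-- normalisation of a one-dimensional henselian domain: a henselian DVR, finite residue extension -/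
theorem exists_henselian_dvr (C : Type u) [CommRing C] [IsDomain C] [IsNoetherianRing C] [HenselianLocalRing C]
    [Ring.KrullDimLE 1 C] (hC : ¬ IsField C) (K : Type u) [Field K] [Algebra C K] [IsFractionRing C K] :
    ∃ (D : Type u) (_ : CommRing D) (_ : IsDomain D) (_ : IsDiscreteValuationRing D) (_ : HenselianLocalRing D)
      (_ : Algebra D K) (_ : IsFractionRing D K) (_ : Algebra C D) (_ : IsLocalHom (algebraMap C D)),
      (ResidueField.map (algebraMap C D)).Finite := by
  classical
  let D := integralClosure C K
  haveI : Algebra.IsAlgebraic C K := isAlgebraic_of_localization C⁰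
  haveI : IsNoetherianRing D := DvrDom.isNoetherianRing_subalgebra D
  haveI : IsFractionRing D K :=
    integralClosure.isFractionRing_of_algebraic (A := C) (L := K) (fun x hx => IsFractionRing.injective C K
      (hx.trans (map_zero _).symm))
  haveI : IsIntegrallyClosed D :=
    (isIntegrallyClosed_iff K).2 fun {x} hx => ⟨⟨x, isIntegral_trans x hx⟩, rfl⟩
  haveI : Ring.DimensionLEOne C := ⟨fun {P} hP hPp => Ring.krullDimLE_one_iff_of_noZeroDivisors.1 inferInstance P hP hPp⟩
  haveI : Ring.DimensionLEOne D := Ring.DimensionLEOne.integralClosure C K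
  haveI : IsDedekindDomain D := {}
  haveI : Algebra.IsIntegral C D := IsIntegralClosure.isIntegral_algebra C K
  haveI : IsLocalRing D := Hensel.isLocalRing_of_integral_domain C D
  haveI : HenselianLocalRing D := Hensel.henselianLocalRing_finite C D
  have hinj : Function.Injective (algebraMap C D) := fun a b h =>
    IsFractionRing.injective C K (congrArg Subtype.val h)
  haveI : Module.IsTorsionFree C D := Module.isTorsionFree_iff_algebraMap_injective.2 hinj
  have hnf : ¬ IsField D := fun h => hC (isField_of_isIntegral_of_isField hinj h)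
  haveI : IsPrincipalIdealRing D := by
    have := (tfae_of_isNoetherianRing_of_isLocalRing_of_isDomain (R := D)).out 2 0
    exact this.1 inferInstance
  haveI : IsDiscreteValuationRing D :=
    { not_a_field' := fun h => hnf (IsLocalRing.isField_iff_maximalIdeal_eq.2 h) }
  haveI : IsLocalHom (algebraMap C D) := RingHom.IsIntegral.isLocalHom Algebra.IsIntegral.isIntegral hinj
  refine ⟨D, inferInstance, inferInstance, inferInstance, inferInstance, inferInstance, inferInstance, inferInstance,
    inferInstance, ?_⟩
  obtain ⟨a, ham, ha⟩ := Submodule.exists_mem_ne_zero_of_ne_bot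
    (fun h => hC (IsLocalRing.isField_iff_maximalIdeal_eq.2 h))
  let W : Submodule C D := LinearMap.range (LinearMap.lsmul C D a)
  haveI : Module.Finite C (D ⧸ W) := by
    obtain ⟨n, hn⟩ := ENat.ne_top_iff_exists.mp (Ring.ord_ne_top (R := C) (mem_nonZeroDivisors_of_ne_zero ha))
    refine DvrDom.finite_of_forall_fg_length_le n fun N hN => ?_
    obtain ⟨s, hs⟩ := hN
    choose l hl using fun z : D ⧸ W => W.mkQ_surjective z
    have : N = (Submodule.span C (s.image l : Set D)).map W.mkQ := by
      rw [Submodule.map_span, Finset.coe_image, ← Set.image_comp, ← hs]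
      simp [Function.comp_def, hl]
    rw [this, hn]
    exact DvrDom.length_map_mkQ_le D ha _ ⟨_, rfl⟩
  let ψ : (D ⧸ W) →ₗ[C] ResidueField D := Submodule.liftQ W (Algebra.linearMap D (ResidueField D) |>.restrictScalars C) (by
    rintro _ ⟨z, rfl⟩
    rw [LinearMap.mem_ker]
    show residue D (a • z) = 0
    rw [residue_eq_zero_iff, Algebra.smul_def]
    exact Ideal.mul_mem_right _ _ ((IsLocalRing.mem_maximalIdeal _).2 fun hu =>
      ((IsLocalRing.mem_maximalIdeal _).1 ham) (isUnit_of_map_unit (algebraMap C D) a hu)))
  haveI : Module.Finite C (ResidueField D) := Module.Finite.of_surjective ψ fun y => by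
    obtain ⟨z, rfl⟩ := residue_surjective y
    exact ⟨Submodule.Quotient.mk z, rfl⟩
  refine RingHom.Finite.of_comp_finite (f := residue C) ?_
  have h1 : (ResidueField.map (algebraMap C D)).comp (residue C) = algebraMap C (ResidueField D) :=
    RingHom.ext fun c => rfl
  rw [h1]
  exact RingHom.finite_algebraMap.2 inferInstance

/-- `cd_p` of the fraction field of a one-dimensional henselian domain versus the residue field -/
theorem cd_fractionField_dimOne (p : ℕ) [Fact p.Prime] (C : Type u) [CommRing C] [IsDomain C] [IsNoetherianRing C]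
    [HenselianLocalRing C] [Ring.KrullDimLE 1 C] (hC : ¬ IsField C) (hp : IsUnit (p : C)) (K : Type u) [Field K]
    [Algebra C K] [IsFractionRing C K] :
    (∀ d, KVanOn {p} (Spec (CommRingCat.of (ResidueField C))) d → KVanOn {p} (Spec (CommRingCat.of K)) (d + 1)) ∧
      ((p ≠ 2 ∨ ¬ ∃ _ : LinearOrder (ResidueField C), IsStrictOrderedRing (ResidueField C)) →
        ∀ d, KVanOn {p} (Spec (CommRingCat.of K)) (d + 1) → KVanOn {p} (Spec (CommRingCat.of (ResidueField C))) d) ∧
      ¬ KVanOn {p} (Spec (CommRingCat.of K)) 0 := by
  obtain ⟨D, _, _, _, _, _, _, _, _, hfin⟩ := exists_henselian_dvr C hC K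
  have hpD : IsUnit (p : D) := by simpa using hp.map (algebraMap C D)
  haveI : FiniteDimensional (ResidueField C) (ResidueField D) := (RingHom.finite_algebraMap (A := ResidueField C) (B := ResidueField D)).1 hfin
  have hpK : (p : K) ≠ 0 := by
    rw [← map_natCast (algebraMap C K)]
    exact (hp.map _).ne_zero
  have hpk : (p : ResidueField C) ≠ 0 := by
    rw [← map_natCast (residue C)]
    exact (hp.map _).ne_zero
  refine ⟨fun d h => kVanOn_succ_of_residueField D K p hpD ?_, fun hord d h => ?_,
    not_kVanOn_zero p D K hpK⟩
  · haveI : IsIntegralHom (Spec.map (CommRingCat.ofHom (algebraMap (ResidueField C) (ResidueField D)))) :=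
      IsIntegralHom.SpecMap_iff.2 Algebra.IsIntegral.isIntegral
    exact h.of_isIntegralHom (Spec.map (CommRingCat.ofHom (algebraMap (ResidueField C) (ResidueField D))))
  · exact kVanOn_of_finite_of_not_orderable p d _ (ResidueField D) hpk hord
      ((kVanOn_iff_of_isUnit p D K hpD d).2 h)

end Groth.Agent.EtPBC
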