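import Groth.Agent.EtPBC.ArtinSchreier
import Groth.Agent.EtPBC.ASFinite
import Groth.Agent.EtPBC.FieldMu
import Groth.Agent.EtMV.Free
import Mathlib

/-!
# `ℤ/p`-cohomology of schemes covered by two affine opens
-/

set_option autoImplicit false
set_option backward.isDefEq.respectTransparency false
set_option backward.isDefEq.respectTransparency.types false
set_option linter.auxLemma false
set_option linter.style.haveILetI false

universe u

open CategoryTheory CategoryTheory.Limits CategoryTheory.Abelian AlgebraicGeometry Opposite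
open Groth.Agent.EtFLC (res res_res res_id)

noncomputable section

namespace Groth.Agent.EtPBC

attribute [local instance 100000] EtCoh.H._proof_1 EtMV.hext
attribute [local instance 200000] EtMV.hextAb

section Ga

variable {X Y : Scheme.{u}} (h : Y ⟶ X) [Etale h] [EtShriek.JCont h]

/-- functions restrict to functions -/
def gaRestrIso : (EtShriek.restrAlong h).obj (EtCoh.Ga X) ≅ EtCoh.Ga Y :=
  (fullyFaithfulSheafToPresheaf Y.smallEtaleTopology AddCommGrpCat.{u + 1}).preimageIso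
    (NatIso.ofComponents (fun _ => Iso.refl _) fun f => by
      rw [Iso.refl_hom, Iso.refl_hom, Category.comp_id, Category.id_comp]
      rfl)

/-- functions pull back to functions along étale maps -/
def gaPullIso : (EtCoh.pull h).obj (EtCoh.Ga X) ≅ EtCoh.Ga Y :=
  ((EtPushStalk.restrPullIso h).app _).symm ≪≫ gaRestrIso h

end Ga

variable {X : Scheme.{u}}

/-- the functions have no cohomology on affine opens -/
theorem subsingleton_ext_Ga (U : X.Opens) (hU : IsAffineOpen U) (n : ℕ) (hn : 1 ≤ n) :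
    Subsingleton (Ext ((EtMV.P X).obj (EtMV.oo U)) (EtCoh.Ga X) n) := by
  haveI := EtMV.jcont_etale U.ι
  haveI : IsAffine (U : Scheme.{u}) := hU
  exact (EtMV.subsingleton_H_iff_of_etale U.ι (EtCoh.Ga X) n).1
    (subsingleton_H_congr (gaPullIso U.ι) n (Groth.Agent.S0109.result _ n hn))

variable (p : ℕ) [hpp : Fact p.Prime] (h0 : (p : Γ(X, ⊤)) = 0)

include h0 in
/-- `ℤ/p` has no cohomology above degree one on affine opens -/
theorem subsingleton_ext_zmod (U : X.Opens) (hU : IsAffineOpen U) (n : ℕ) (hn : 1 ≤ n) :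
    Subsingleton (Ext ((EtMV.P X).obj (EtMV.oo U)) (EtCoh.const X (ZMod p)) (n + 1)) := by
  refine subsingleton_of_forall_eq 0 fun x => ?_
  obtain ⟨y, hy⟩ := Ext.covariant_sequence_exact₁ ((EtMV.P X).obj (EtMV.oo U)) (as_shortExact p h0) x
    (@Subsingleton.elim _ (subsingleton_ext_Ga U hU (n + 1) (by omega)) _ _) (n₀ := n) rfl
  rw [← hy, show y = 0 from @Subsingleton.elim _ (subsingleton_ext_Ga U hU n hn) _ _, Ext.zero_comp]

include h0 in
/-- **`ℤ/p` has no cohomology above degree one if the functions on the overlap decompose** -/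
theorem subsingleton_H_zmod_of_cover {U V : X.Opens} (hUV : U ⊔ V = ⊤) (hU : IsAffineOpen U)
    (hV : IsAffineOpen V) (hW : IsAffineOpen (U ⊓ V))
    (hdec : ∀ f : Γ((↑(U ⊓ V) : Scheme.{u}), ⊤), ∃ (a : Γ((U : Scheme.{u}), ⊤)) (b : Γ((V : Scheme.{u}), ⊤))
      (g : Γ((↑(U ⊓ V) : Scheme.{u}), ⊤)),
      f = (X.homOfLE (inf_le_left : U ⊓ V ≤ U)).appTop a + (X.homOfLE (inf_le_right : U ⊓ V ≤ V)).appTop b +
        (g ^ p - g))
    (q : ℕ) (hq : 2 ≤ q) : Subsingleton (EtCoh.H X (EtCoh.const X (ZMod p)) q) := by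
  obtain ⟨n, rfl⟩ : ∃ n, q = n + 2 := ⟨q - 2, by omega⟩
  refine subsingleton_of_forall_eq 0 fun c => ?_
  let G := EtCoh.const X (ZMod p)
  let x : Ext ((EtMV.P X).obj (EtCoh.top X)) G (n + 2) := (EtMV.preIso (EtMV.θ X) G (n + 2)).symm c
  suffices hx : x = 0 by
    have := congrArg (EtMV.preIso (EtMV.θ X) G (n + 2)) hx
    rwa [AddEquiv.apply_symm_apply, map_zero] at this
  have hS := EtMV.sc_shortExact hUV
  have h2 : (Ext.mk₀ (EtMV.sc U V).g).comp x (zero_add (n + 2)) = 0 := by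
    refine Ext.biprod_ext ?_ ?_
    · exact @Subsingleton.elim _ (subsingleton_ext_zmod p h0 U hU (n + 1) (by omega)) _ _
    · exact @Subsingleton.elim _ (subsingleton_ext_zmod p h0 V hV (n + 1) (by omega)) _ _
  obtain ⟨y, hy⟩ := Ext.contravariant_sequence_exact₃ hS G x h2 (n₀ := n + 1) (by omega)
  rw [← hy]
  rcases Nat.eq_zero_or_pos n with hn | hn
  swap
  · rw [show y = 0 from @Subsingleton.elim _ (subsingleton_ext_zmod p h0 (U ⊓ V) hW n hn) _ _, Ext.comp_zero]
  subst hn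
  obtain ⟨z, hz⟩ := Ext.covariant_sequence_exact₁ ((EtMV.P X).obj (EtMV.oo (U ⊓ V))) (as_shortExact p h0) y
    (@Subsingleton.elim _ (subsingleton_ext_Ga (U ⊓ V) hW 1 le_rfl) _ _) (n₀ := 0) rfl
  obtain ⟨φ, rfl⟩ := (Ext.mk₀_bijective _ _).2 z
  obtain ⟨a, b, g, hf⟩ := hdec (gaVal (EtMV.σ φ))
  let φa : (EtMV.P X).obj (EtMV.oo U) ⟶ EtCoh.Ga X := EtMV.σ.symm (gaSect (U := EtMV.oo U) a)
  let φb : (EtMV.P X).obj (EtMV.oo V) ⟶ EtCoh.Ga X := EtMV.σ.symm (gaSect (U := EtMV.oo V) (-b))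
  let φg : (EtMV.P X).obj (EtMV.oo (U ⊓ V)) ⟶ EtCoh.Ga X := EtMV.σ.symm (gaSect (U := EtMV.oo (U ⊓ V)) g)
  let F := W4c5etcohweilstudent.artinSchreierEndo X p hpp.out h0
  have e : φ = @HAdd.hAdd ((EtMV.P X).obj (EtMV.oo (U ⊓ V)) ⟶ EtCoh.Ga X) _ _ _
      ((EtMV.sc U V).f ≫ biprod.desc φa φb) (φg ≫ F) := by
    refine EtMV.σ.injective ?_
    show _ = EtMV.σ (biprod.lift _ _ ≫ biprod.desc φa φb + φg ≫ F)
    rw [biprod.lift_desc, EtMV.σ_add, EtMV.σ_add, Preadditive.neg_comp, ← Preadditive.comp_neg,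
      EtMV.σ_map, EtMV.σ_map, EtMV.σ_comp φg F]
    show _ = res (EtCoh.Ga X) (EtMV.res inf_le_left) (EtMV.σ φa) +
      res (EtCoh.Ga X) (EtMV.res inf_le_right) (EtMV.σ (-φb)) + F.hom.app _ (EtMV.σ φg)
    have hneg : EtMV.σ (-φb) = gaSect (U := EtMV.oo V) b := by
      have h1 : EtMV.σ (-φb) + EtMV.σ φb = EtMV.σ (0 : (EtMV.P X).obj (EtMV.oo V) ⟶ EtCoh.Ga X) := by
        rw [← EtMV.σ_add, neg_add_cancel]
      have h0' : EtMV.σ (0 : (EtMV.P X).obj (EtMV.oo V) ⟶ EtCoh.Ga X) = 0 := by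
        have := EtMV.σ_add (0 : (EtMV.P X).obj (EtMV.oo V) ⟶ EtCoh.Ga X) 0
        rw [add_zero] at this
        exact left_eq_add.1 this
      rw [h0', Equiv.apply_symm_apply] at h1
      refine (eq_neg_of_add_eq_zero_left h1).trans ?_
      exact congrArg ULift.up (neg_neg b)
    rw [hneg, Equiv.apply_symm_apply, Equiv.apply_symm_apply]
    exact congrArg ULift.up hf
  have hz' : (Ext.mk₀ φ).comp (as_shortExact p h0).extClass (zero_add 1) =
      (Ext.mk₀ (EtMV.sc U V).f).comp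
        ((Ext.mk₀ (biprod.desc φa φb)).comp (as_shortExact p h0).extClass (zero_add 1)) (zero_add 1) := by
    rw [e, Ext.mk₀_add, Ext.add_comp, ← Ext.mk₀_comp_mk₀ φg F,
      Ext.comp_assoc (Ext.mk₀ φg) (Ext.mk₀ F) (as_shortExact p h0).extClass (add_zero 0) (zero_add 1) rfl,
      ← Ext.mk₀_comp_mk₀]
    rw [show (Ext.mk₀ F).comp (as_shortExact p h0).extClass (zero_add 1) = 0 from
        (as_shortExact p h0).comp_extClass, Ext.comp_zero, add_zero,
      Ext.comp_assoc (Ext.mk₀ (EtMV.sc U V).f) _ _ (add_zero 0) (zero_add 1) rfl]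
  rw [← hz, hz']
  exact (Ext.comp_assoc _ _ _ (add_zero 1) (zero_add 1) rfl).symm.trans
    (by rw [ShortComplex.ShortExact.extClass_comp, Ext.zero_comp])

end Groth.Agent.EtPBC
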