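import Groth.Agent.EtPBC.AffineLef
import Groth.Agent.S9683
import Mathlib

/-!
# Affine Lefschetz in all dimensions
-/

set_option autoImplicit false
set_option backward.isDefEq.respectTransparency false
set_option backward.isDefEq.respectTransparency.types false
set_option linter.auxLemma false
set_option linter.style.haveILetI false
set_option linter.unusedSectionVars false
set_option maxHeartbeats 1000000

universe u

open CategoryTheory CategoryTheory.Limits CategoryTheory.Abelian AlgebraicGeometry Opposite TopologicalSpace IsLocalRing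

noncomputable section

namespace Groth.Agent.EtPBC

attribute [local instance 100000] EtCoh.H._proof_1 EtMV.hext
attribute [local instance 200000] EtMV.hextAb

theorem dim_affSp (k : Type u) [Field k] (n : ℕ) :
    topologicalKrullDim ↥(Spec (CommRingCat.of (MvPolynomial (Fin n) k))) = n := by
  refine (PrimeSpectrum.topologicalKrullDim_eq_ringKrullDim (R := MvPolynomial (Fin n) k)).trans ?_
  rw [MvPolynomial.ringKrullDim_of_isNoetherianRing, Nat.card_fin,
    ringKrullDim_eq_zero_of_field, zero_add]

/-- **affine schemes of dimension `n` over separably closed fields have `cd ≤ n`** -/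
theorem affVan : ∀ n : ℕ, AffVan.{u} n := by
  intro n
  induction n using Nat.strong_induction_on with
  | _ n ih =>
    rcases n with _ | _ | m
    · exact affVan_zero
    · exact affVan_one
    intro k _ _ X _ c _ hn
    rcases isEmpty_or_nonempty X with hE | hne
    · exact fun _ _ F _ q hq => subsingleton_H_of_isEmpty _ F q (by omega)
    let φ : CommRingCat.of k ⟶ Γ(X, ⊤) := Spec.preimage (X.isoSpec.inv ≫ c)
    letI : Algebra k Γ(X, ⊤) := φ.hom.toAlgebra
    have hφ : Spec.map φ = X.isoSpec.inv ≫ c := Spec.map_preimage _
    haveI : Algebra.FiniteType k Γ(X, ⊤) := by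
      have h : LocallyOfFiniteType (Spec.map φ) := by rw [hφ]; infer_instance
      rw [HasRingHomProperty.Spec_iff (P := @LocallyOfFiniteType)] at h
      exact h
    haveI : Nontrivial Γ(X, ⊤) := by
      haveI : Nonempty (PrimeSpectrum Γ(X, ⊤)) := ⟨X.isoSpec.hom hne.some⟩
      exact PrimeSpectrum.nonempty_iff_nontrivial.1 inferInstance
    obtain ⟨s, g, hinj, hfin⟩ := exists_finite_inj_algHom_of_fg k Γ(X, ⊤)
    let f : X ⟶ Spec (CommRingCat.of (MvPolynomial (Fin s) k)) :=
      X.isoSpec.hom ≫ Spec.map (CommRingCat.ofHom g.toRingHom)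
    haveI : IsFinite (Spec.map (CommRingCat.ofHom g.toRingHom)) :=
      (IsFinite.SpecMap_iff _).2 hfin
    haveI : IsFinite f := inferInstance
    have hsurj : Surjective f := by
      haveI : Surjective (Spec.map (CommRingCat.ofHom g.toRingHom)) :=
        ⟨hfin.to_isIntegral.comap_surjective hinj⟩
      infer_instance
    have hs : s ≤ m + 2 := by
      have h := ((S9683.result f).2 hsurj).symm.trans_le hn
      rw [dim_affSp] at h
      exact_mod_cast h
    let cs : Spec (CommRingCat.of (MvPolynomial (Fin s) k)) ⟶ Spec (CommRingCat.of k) :=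
      Spec.map (CommRingCat.ofHom (algebraMap k (MvPolynomial (Fin s) k)))
    rcases Nat.lt_or_ge s (m + 2) with hlt | hge
    · haveI : LocallyOfFiniteType cs := (HasRingHomProperty.Spec_iff (P := @LocallyOfFiniteType)).2
        (RingHom.finiteType_algebraMap.2 inferInstance)
      exact (((ih s hlt k _ cs (dim_affSp k s).le).on Set.univ).mono hlt.le |>.of_isIntegralHom f).univ
    obtain rfl : s = m + 2 := by omega
    let B := MvPolynomial (Fin (m + 1)) k
    letI : Algebra P1.R0.{u} B := ((Int.castRingHom B).comp ULift.ringEquiv.toRingHom).toAlgebra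
    let e : MvPolynomial (Fin (m + 2)) k ≃+* Polynomial B := (MvPolynomial.finSuccEquiv k (m + 1)).toRingEquiv
    let ψ : CommRingCat.of (MvPolynomial (Fin (m + 2)) k) ≅ CommRingCat.of (Polynomial B) := e.toCommRingCatIso
    let h : X ⟶ Spec (CommRingCat.of (Polynomial B)) := f ≫ Spec.map ψ.inv
    haveI : IsIntegralHom h := inferInstance
    haveI : LocallyOfFiniteType (Spec.map (CommRingCat.ofHom (algebraMap k B))) :=
      (HasRingHomProperty.Spec_iff (P := @LocallyOfFiniteType)).2 (RingHom.finiteType_algebraMap.2 inferInstance)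
    have hU : topologicalKrullDim ↥(Spec (CommRingCat.of (Polynomial B))) ≤ ((m + 2 : ℕ) : ℕ) :=
      (Spec.map ψ.hom).isOpenEmbedding.isInducing.topologicalKrullDim_le.trans (dim_affSp k (m + 2)).le
    have hline := kVan_line_affine k (B := B) hU (by omega) (dim_affSp k (m + 1)).le (fun j hj => ih j hj)
    exact ((hline.on Set.univ).of_isIntegralHom h).univ

/-- **affine schemes over arbitrary fields** -/
theorem kVanOn_affine {K : Type u} [Field K] {X : Scheme.{u}} [IsAffine X] (f : X ⟶ Spec (CommRingCat.of K))
    [LocallyOfFiniteType f] {n : ℕ} (hn : topologicalKrullDim X ≤ n) {e : ℕ}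
    (hK : KVanOn Set.univ (Spec (CommRingCat.of K)) e) : KVanOn Set.univ X (n + e) :=
  affVan_field (affVan n) f hn hK

end Groth.Agent.EtPBC
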