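import Groth.Agent.EtPBC.AffineLefSupp
import Groth.Agent.EtBCQ.EtaleBC
import Mathlib

/-!
# Higher direct images along affine morphisms
-/

set_option autoImplicit false
set_option backward.isDefEq.respectTransparency false
set_option backward.isDefEq.respectTransparency.types false
set_option linter.auxLemma false
set_option linter.style.haveILetI false
set_option linter.unusedSectionVars false
set_option maxHeartbeats 1000000

universe u

open CategoryTheory CategoryTheory.Limits CategoryTheory.Abelian AlgebraicGeometry Opposite TopologicalSpace IsLocalRing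

noncomputable section

namespace Groth.Agent.EtPBC

attribute [local instance 100000] EtCoh.H._proof_1 EtMV.hext
attribute [local instance 200000] EtMV.hextAb

variable {K : Type u} [Field K]

theorem resDim_preimmersion {X Z : Scheme.{u}} (c : X ⟶ Spec (CommRingCat.of K)) (i : Z ⟶ X) [IsPreimmersion i]
    (z : Z) (m : ℕ) : ResDim (i ≫ c) z m ↔ ResDim c (i z) m := by
  unfold ResDim
  rw [kStr_comp_eq, trdg_comp_integral_right _ _ (RingHom.isIntegral_of_surjective _ (surjective_residueFieldMap i z))]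

theorem trdg_image_le {X Y : Scheme.{u}} (c : Y ⟶ Spec (CommRingCat.of K)) (f : X ⟶ Y) (x : X) :
    trdg (kStr c (f x)) ≤ trdg (kStr (f ≫ c) x) := by
  rw [kStr_comp_eq, ← trdg_comp]
  exact le_self_add

theorem zeroAt_of_zeroAt_pull {X Y : Scheme.{u}} (f : Y ⟶ X) (F : EtCoh.Ab X) (y : Y)
    (h : ZeroAt ((EtCoh.pull f).obj F) y) : ZeroAt F (f y) := by
  obtain ⟨Ω, _, _, ζ, hζ⟩ := exists_geomPt y
  refine (isZero_stalk_iff_zeroAt ?_ F).1 (((isZero_stalk_iff_zeroAt hζ _).2 h).of_iso
    ((EtStalk.stalkPullIso f ζ).app F))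
  subst hζ
  rfl

variable (B : Type u) [CommRing B] [Algebra K B]

local notation "YB" => Spec (CommRingCat.of B)

/-- **affine schemes over a strict localisation, after fixing independent functions** -/
theorem kVanOn_xR_indep {X : Scheme.{u}} [IsAffine X] (g : X ⟶ YB) (cX : X ⟶ Spec (CommRingCat.of K))
    [LocallyOfFiniteType cX] (hc : g ≫ Spec.map (CommRingCat.ofHom (algebraMap K B)) = cX) (y : YB) {r : ℕ}
    (b : Fin r → B) (hb : AlgebraicIndependent K (fun i => Ideal.Quotient.mk y.asIdeal (b i))) {n : ℕ}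
    (hn : topologicalKrullDim X ≤ n) (R : Type u) [CommRing R] [IsLocalRing R] [HenselianLocalRing R]
    [IsSepClosed (ResidueField R)] [Algebra ((YB).presheaf.stalk y) R]
    [IsLocalHom (algebraMap ((YB).presheaf.stalk y) R)]
    [_root_.Hensel.IsStrictHenselization ((YB).presheaf.stalk y) R] :
    KVanOn Set.univ (EtStrictLoc.xR g y R) (n - r + 0) := by
  let P := MvPolynomial (Fin r) K
  let θ : P →ₐ[K] B := MvPolynomial.aeval b
  let b₀ : YB ⟶ affSp K r := Spec.map (CommRingCat.ofHom θ.toRingHom)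
  have hgen : ∀ p : P, θ p ∈ y.asIdeal → p = 0 := by
    intro p hp
    have h0 : MvPolynomial.aeval (fun i => Ideal.Quotient.mk y.asIdeal (b i)) p = 0 := by
      have e : (Ideal.Quotient.mkₐ K y.asIdeal).comp θ =
          MvPolynomial.aeval (fun i => Ideal.Quotient.mk y.asIdeal (b i)) :=
        MvPolynomial.algHom_ext fun i => by simp [θ]
      rw [← e]
      exact Ideal.Quotient.eq_zero_iff_mem.2 hp
    exact hb.eq_zero_of_aeval_eq_zero p h0
  let τ : P →+* R := (Spec.preimage (Hens2.specOf YB y R ≫ b₀)).hom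
  have hτ : Spec.map (CommRingCat.ofHom τ) = Hens2.specOf YB y R ≫ b₀ := Spec.map_preimage _
  have hunit : ∀ p : nonZeroDivisors P, IsUnit (τ p) := fun p => by
    by_contra hu
    have h1 : (p : P) ∈ ((Spec.map (CommRingCat.ofHom τ)) (closedPoint R)).asIdeal := hu
    rw [hτ, Scheme.Hom.comp_apply, specOf_closedPoint] at h1
    exact nonZeroDivisors.ne_zero p.2 (hgen _ h1)
  let K₀ := FractionRing P
  let τ₀ : K₀ →+* R := IsLocalization.lift hunit
  obtain ⟨Ω, _, _, _, _, ι, hι⟩ := exists_sepClosure_hom (K := K₀) (R := R) τ₀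
  letI : Algebra P Ω := ((algebraMap K₀ Ω).comp (algebraMap P K₀)).toAlgebra
  haveI : IsScalarTower P K₀ Ω := IsScalarTower.of_algebraMap_eq fun _ => rfl
  let rω : Spec (CommRingCat.of R) ⟶ Spec (CommRingCat.of Ω) := Spec.map (CommRingCat.ofHom ι)
  have hrω : rω ≫ affPt (k := K) (r := r) Ω = Hens2.specOf YB y R ≫ b₀ := by
    rw [← hτ, ← Spec.map_comp]
    refine congrArg Spec.map (CommRingCat.hom_ext (RingHom.ext fun p => ?_))
    show ι (algebraMap K₀ Ω (algebraMap P K₀ p)) = τ p
    rw [← RingHom.comp_apply ι, hι]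
    exact IsLocalization.lift_eq hunit p
  haveI : IsAffineHom g := isAffineHom_of_isAffine _
  let a₀ : X ⟶ affSp K r := g ≫ b₀
  have ha : a₀ ≫ affSpC K r = cX := by
    show (g ≫ b₀) ≫ _ = _
    rw [Category.assoc, ← hc, ← Spec.map_comp]
    exact congrArg (g ≫ ·) (congrArg Spec.map (CommRingCat.hom_ext (RingHom.ext fun c => θ.commutes c)))
  haveI : IsAffine (pullback a₀ (affPt (k := K) (r := r) Ω)) := isAffine_pullback_of_affine _ _
  haveI : LocallyOfFiniteType (a₀ ≫ affSpC K r) := by rw [ha]; infer_instance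
  haveI : LocallyOfFiniteType a₀ := locallyOfFiniteType_of_comp a₀ (affSpC K r)
  exact kVanOn_xR_of g y R a₀ (affPt (k := K) (r := r) Ω) (pullback.snd g (Hens2.specOf YB y R) ≫ rω)
    (by rw [Category.assoc, hrω, ← Category.assoc, ← pullback.condition, Category.assoc]) (n - r + 0)
    (cohDimLE_stage (affVan (n - r)) (pullback.snd a₀ _) (dim_pullback_affPt cX a₀ ha Ω hn) (kVanOn_sepClosed Ω))

/-- **affine target: killed sheaves with small support** -/
theorem zeroAt_Rpush_spec {X : Scheme.{u}} [IsAffine X] (f : X ⟶ YB) (cX : X ⟶ Spec (CommRingCat.of K))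
    [LocallyOfFiniteType cX] (hc : f ≫ Spec.map (CommRingCat.ofHom (algebraMap K B)) = cX) (y : YB) {r a q : ℕ}
    (b : Fin r → B) (hb : AlgebraicIndependent K (fun i => Ideal.Quotient.mk y.asIdeal (b i)))
    (F : EtCoh.Ab X) {m : ℕ} (hm : 0 < m) (hF : Killed m F) (h0 : ∀ x, ¬ ResDim cX x a → ZeroAt F x)
    (hq : a - r < q) : ZeroAt ((EtCoh.Rpush f q).obj F) y := by
  haveI : IsLocallyNoetherian X := LocallyOfFiniteType.isLocallyNoetherian cX
  haveI : IsNoetherian X := {}
  haveI : IsAffineHom f := isAffineHom_of_isAffine _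
  obtain ⟨R, _, _, _, _, hR⟩ := EtBCQ.exists_sh ((YB).presheaf.stalk y)
  haveI : HenselianLocalRing R := hR.henselian
  haveI : IsSepClosed (ResidueField R) := hR.isSepClosure.1
  refine (isZero_stalk_iff_zeroAt (EtBCQ.geomPt_apply y R) _).1 ?_
  obtain ⟨e⟩ := EtStrictLoc.nonempty_stalkRpush f y R q
  refine IsZero.of_iso ?_ (e.app F)
  refine @AddCommGrpCat.isZero_of_subsingleton _ ?_
  let P : X → Prop := fun x => ResDim cX x a
  obtain ⟨hcol⟩ := nonempty_isColimit_csuppCocone (P := P) F (fun x x' h hx => hx.of_specializes cX h) h0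
  let p₁ := pullback.fst f (Hens2.specOf YB y R)
  haveI := EtColimH.preservesColimitsOfShape_HF (X := EtStrictLoc.xR f y R) q (ClosedSupps P)
  haveI : PreservesColimitsOfSize.{u + 1, u + 1} (EtCoh.pull p₁) := (EtCoh.pullPushAdj p₁).leftAdjoint_preservesColimits
  refine subsingleton_of_forall_eq 0 fun s => ?_
  obtain ⟨C, sC, rfl⟩ := Concrete.isColimit_exists_rep _
    (isColimitOfPreserves (EtCoh.pull p₁ ⋙ EtCoh.HF (EtStrictLoc.xR f y R) q) hcol) s
  let Kp := (csuppDiag P F).obj C
  let ι := (Scheme.IdealSheafData.vanishingIdeal C.down.1).subschemeι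
  have hr : Set.range ι = (C.down.1 : Set X) := by
    show Set.range (Scheme.IdealSheafData.vanishingIdeal C.down.1).subschemeι = _
    rw [Scheme.IdealSheafData.range_subschemeι, Scheme.IdealSheafData.coe_support_vanishingIdeal]
  haveI : IsAffine (Scheme.IdealSheafData.vanishingIdeal C.down.1).subscheme := isAffine_of_isAffineHom ι
  have hdim : topologicalKrullDim ↥(Scheme.IdealSheafData.vanishingIdeal C.down.1).subscheme ≤ a :=
    dim_le_of_resDim (ι ≫ cX) fun z => (resDim_closedImmersion cX ι z a).2 (C.down.2 _ (hr.le ⟨z, rfl⟩))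
  have hkv := kVanOn_xR_indep B (ι ≫ f) (ι ≫ cX) (by rw [Category.assoc, hc]) y b hb hdim R
  let i' : EtStrictLoc.xR (ι ≫ f) y R ⟶ EtStrictLoc.xR f y R :=
    pullback.map _ _ _ _ ι (𝟙 _) (𝟙 _) (by simp) (by simp)
  have hi' : Set.range i' = p₁ ⁻¹' Set.range ι := by
    show Set.range (pullback.map _ _ _ _ ι (𝟙 _) (𝟙 _) _ _) = _
    rw [Scheme.Pullback.range_map]
    simp [p₁]
  have sq : IsPullback i' (pullback.fst (ι ≫ f) (Hens2.specOf YB y R)) p₁ ι := by
    refine IsPullback.of_right ?_ (pullback.lift_fst _ _ _) (IsPullback.of_hasPullback f (Hens2.specOf YB y R)).flip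
    exact (show i' ≫ pullback.snd f (Hens2.specOf YB y R) = pullback.snd (ι ≫ f) (Hens2.specOf YB y R) from
      (pullback.lift_snd _ _ _).trans (Category.comp_id _)).symm ▸
      (IsPullback.of_hasPullback (ι ≫ f) (Hens2.specOf YB y R)).flip
  haveI : IsClosedImmersion i' := MorphismProperty.of_isPullback (P := @IsClosedImmersion) sq.flip inferInstance
  have hKk : Killed m Kp := killed_of_mono (kernel.ι (csuppUnit P F C)) hF
  haveI : Subsingleton (EtCoh.H (EtStrictLoc.xR f y R) ((EtCoh.pull p₁).obj Kp) q) := by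
    refine subsingleton_H_of_closedImmersion i' _ hm (killed_pull p₁ hKk) (fun w hw => ?_) q
      (hkv.univ m hm _ (killed_pull i' (killed_pull p₁ hKk)) q (by omega))
    refine zeroAt_pull p₁ Kp w (zeroAt_csuppKernel P F C _ fun h => hw ?_)
    rw [hi']
    exact hr.ge h
  rw [show sC = 0 from @Subsingleton.elim (EtCoh.H (EtStrictLoc.xR f y R) ((EtCoh.pull p₁).obj Kp) q) _ _ _]
  exact map_zero _

/-- torsion sheaves reduce to killed ones -/
theorem zeroAt_Rpush_of_tor {X Y : Scheme.{u}} (f : X ⟶ Y) [QuasiCompact f] [QuasiSeparated f] [CompactSpace X]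
    [QuasiSeparatedSpace X] (F : EtCoh.Ab X) (hF : EtCoh.IsTorsion F) (q : ℕ) (y : Y)
    (h : ∀ m : ℕ, 0 < m → ZeroAt ((EtCoh.Rpush f q).obj (EtColimH.tor F m)) y) :
    ZeroAt ((EtCoh.Rpush f q).obj F) y := by
  obtain ⟨R, _, _, _, _, hR⟩ := EtBCQ.exists_sh (Y.presheaf.stalk y)
  haveI : HenselianLocalRing R := hR.henselian
  haveI : IsSepClosed (ResidueField R) := hR.isSepClosure.1
  refine (isZero_stalk_iff_zeroAt (EtBCQ.geomPt_apply y R) _).1 ?_
  obtain ⟨e⟩ := EtStrictLoc.nonempty_stalkRpush f y R q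
  refine IsZero.of_iso ?_ (e.app F)
  refine @AddCommGrpCat.isZero_of_subsingleton _ ?_
  obtain ⟨hcol⟩ := EtAcycX.nonempty_isColimit_kdCocone Set.univ F (isLTorsion_univ_of_isTorsion hF)
  let p₁ := pullback.fst f (Hens2.specOf Y y R)
  haveI : CompactSpace ↥(EtStrictLoc.xR f y R) := QuasiCompact.compactSpace_of_compactSpace (pullback.snd f _)
  haveI : QuasiSeparatedSpace ↥(EtStrictLoc.xR f y R) := quasiSeparatedSpace_of_quasiSeparated (pullback.snd f _)
  haveI := EtColimH.preservesColimitsOfShape_HF (X := EtStrictLoc.xR f y R) q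
    (EtColimH.Expo.{u} (EtAcyc.PrimesIn Set.univ))
  haveI : PreservesColimitsOfSize.{u + 1, u + 1} (EtCoh.pull p₁) := (EtCoh.pullPushAdj p₁).leftAdjoint_preservesColimits
  refine subsingleton_of_forall_eq 0 fun s => ?_
  obtain ⟨a, sa, rfl⟩ := Concrete.isColimit_exists_rep _
    (isColimitOfPreserves (EtCoh.pull p₁ ⋙ EtCoh.HF (EtStrictLoc.xR f y R) q) hcol) s
  have hz : IsZero ((EtCoh.stalk (Hens2.geomPt Y y R)).obj ((EtCoh.Rpush f q).obj (EtColimH.tor F a.down.down.1))) :=
    (isZero_stalk_iff_zeroAt (EtBCQ.geomPt_apply y R) _).2 (h _ a.down.down.2.1)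
  haveI : Subsingleton (EtCoh.H (EtStrictLoc.xR f y R) ((EtCoh.pull p₁).obj (EtColimH.tor F a.down.down.1)) q) :=
    AddCommGrpCat.subsingleton_of_isZero (hz.of_iso (e.app _).symm)
  rw [show sa = 0 from @Subsingleton.elim
    (EtCoh.H (EtStrictLoc.xR f y R) ((EtCoh.pull p₁).obj (EtColimH.tor F a.down.down.1)) q) _ _ _]
  exact map_zero _

/-- **higher direct images along affine morphisms: supports** -/
theorem zeroAt_Rpush_affine {X Y : Scheme.{u}} (cX : X ⟶ Spec (CommRingCat.of K)) (cY : Y ⟶ Spec (CommRingCat.of K))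
    [LocallyOfFiniteType cX] [QuasiCompact cX] [LocallyOfFiniteType cY] [QuasiCompact cY] (f : X ⟶ Y)
    (w : f ≫ cY = cX) [IsAffineHom f] {a q : ℕ} (F : EtCoh.Ab X) (hF : EtCoh.IsTorsion F)
    (h0 : ∀ x, ¬ ResDim cX x a → ZeroAt F x) (y : Y)
    (hy : a < q ∨ (0 < q ∧ q ≤ a ∧ ¬ ResDim cY y (a - q))) : ZeroAt ((EtCoh.Rpush f q).obj F) y := by
  haveI : CompactSpace X := QuasiCompact.compactSpace_of_compactSpace cX
  haveI : IsLocallyNoetherian X := LocallyOfFiniteType.isLocallyNoetherian cX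
  refine zeroAt_Rpush_of_tor f F hF q y fun m hm => ?_
  obtain ⟨U, hU, hyU, -⟩ := exists_isAffineOpen_mem_and_subset (x := y) (U := (⊤ : Y.Opens)) trivial
  let A : Type u := Γ(Y, U)
  let j : Spec (CommRingCat.of A) ⟶ Y := hU.fromSpec
  obtain ⟨z, hz⟩ : y ∈ Set.range j := by erw [hU.range_fromSpec]; exact hyU
  let φ : CommRingCat.of K ⟶ CommRingCat.of A := Spec.preimage (j ≫ cY)
  letI : Algebra K A := φ.hom.toAlgebra
  have hφ : Spec.map (CommRingCat.ofHom (algebraMap K A)) = j ≫ cY := Spec.map_preimage _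
  haveI : LocallyOfFiniteType (Spec.map (CommRingCat.ofHom (algebraMap K A))) := by rw [hφ]; infer_instance
  haveI : Algebra.FiniteType K A := by
    have h := ‹LocallyOfFiniteType (Spec.map (CommRingCat.ofHom (algebraMap K A)))›
    rw [HasRingHomProperty.Spec_iff (P := @LocallyOfFiniteType)] at h
    exact h
  let t := pullback.fst f j
  let f' := pullback.snd f j
  haveI : IsAffineHom f' := MorphismProperty.pullback_snd _ _ ‹IsAffineHom f›
  haveI : IsAffine (pullback f j) := isAffine_of_isAffineHom f'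
  haveI := EtPullExact.pull_preservesFiniteLimits t
  haveI := EtBCQ.isIso_bcQ_etale j f f' t (IsPullback.of_hasPullback f j) (EtColimH.tor F m) q
  let e := asIso (EtBC.bcQ f j f' t (IsPullback.of_hasPullback f j).w q (EtColimH.tor F m))
  have hFm : Killed m ((EtCoh.pull t).obj (EtColimH.tor F m)) := killed_pull t ((killed_iff _ _).2 (EtAcycX.kd_tor F m))
  have h0' : ∀ x, ¬ ResDim (t ≫ cX) x a → ZeroAt ((EtCoh.pull t).obj (EtColimH.tor F m)) x := fun x hx =>
    zeroAt_pull t _ x (zeroAt_tor F (h0 _ fun h => hx ((resDim_preimmersion cX t x a).2 h)) m)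
  have hc : f' ≫ Spec.map (CommRingCat.ofHom (algebraMap K A)) = t ≫ cX := by
    rw [hφ, ← w, ← Category.assoc, ← Category.assoc, pullback.condition]
  subst hz
  refine zeroAt_of_zeroAt_pull j _ z (zeroAt_of_iso e.symm ?_)
  rcases hy with hq | ⟨hq0, hqa, hy⟩
  · refine zeroAt_Rpush_spec A f' (t ≫ cX) hc z (r := 0) ![] ?_ _ hm hFm h0' (by omega)
    exact algebraicIndependent_empty_type_iff.2 (RingHom.injective _)
  · obtain ⟨b, hb⟩ := exists_indep A z (j := a - q) (by rw [hφ, resDim_preimmersion]; exact hy)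
    exact zeroAt_Rpush_spec A f' (t ≫ cX) hc z b hb _ hm hFm h0' (by omega)

/-- degree zero: direct images do not enlarge the support -/
theorem zeroAt_Rpush_zero {X Y : Scheme.{u}} (cX : X ⟶ Spec (CommRingCat.of K)) (cY : Y ⟶ Spec (CommRingCat.of K))
    [LocallyOfFiniteType cX] [LocallyOfFiniteType cY] (f : X ⟶ Y) (w : f ≫ cY = cX) [QuasiCompact f] [QuasiSeparated f]
    {a : ℕ} (F : EtCoh.Ab X) (h0 : ∀ x, ¬ ResDim cX x a → ZeroAt F x) (y : Y) (hy : ¬ ResDim cY y a) :
    ZeroAt ((EtCoh.Rpush f 0).obj F) y := by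
  obtain ⟨R, _, _, _, _, hR⟩ := EtBCQ.exists_sh (Y.presheaf.stalk y)
  haveI : HenselianLocalRing R := hR.henselian
  haveI : IsSepClosed (ResidueField R) := hR.isSepClosure.1
  refine (isZero_stalk_iff_zeroAt (EtBCQ.geomPt_apply y R) _).1 ?_
  obtain ⟨e⟩ := EtStrictLoc.nonempty_stalkRpush f y R 0
  refine (@AddCommGrpCat.isZero_of_subsingleton _ ?_).of_iso (e.app F)
  refine subsingleton_H_of_isZero (isZero_of_zeroAt _ fun v => zeroAt_pull _ F v (h0 _ fun hx => hy ?_)) 0
  have h1 : f ((pullback.fst f (Hens2.specOf Y y R)) v) ⤳ y := by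
    have hc := congr($(pullback.condition (f := f) (g := Hens2.specOf Y y R)) v)
    rw [show f ((pullback.fst f (Hens2.specOf Y y R)) v) =
      Hens2.specOf Y y R ((pullback.snd f (Hens2.specOf Y y R)) v) from hc]
    have h2 := (IsLocalRing.specializes_closedPoint ((pullback.snd f (Hens2.specOf Y y R)) v)).map
      (Hens2.specOf Y y R).continuous
    rwa [specOf_closedPoint] at h2
  refine ResDim.of_specializes cY h1 (le_trans ?_ hx)
  rw [← w]
  exact trdg_image_le cY f _

end Groth.Agent.EtPBC
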