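import Groth.Agent.EtPBC.AffineLefMain
import Mathlib

/-!
# Affine schemes: sheaves supported in small dimension
-/

set_option autoImplicit false
set_option backward.isDefEq.respectTransparency false
set_option backward.isDefEq.respectTransparency.types false
set_option linter.auxLemma false
set_option linter.style.haveILetI false
set_option linter.unusedSectionVars false
set_option maxHeartbeats 1000000

universe u

open CategoryTheory CategoryTheory.Limits CategoryTheory.Abelian AlgebraicGeometry Opposite TopologicalSpace IsLocalRing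

noncomputable section

namespace Groth.Agent.EtPBC

attribute [local instance 100000] EtCoh.H._proof_1 EtMV.hext
attribute [local instance 200000] EtMV.hextAb

theorem zeroAt_of_notMem_supp {X : Scheme.{u}} (F : EtCoh.Ab X) {x : X} (hx : x ∉ EtPBC.supp F) : ZeroAt F x := by
  obtain ⟨Ω, i₁, i₂, ξ, hξ⟩ := exists_geomPt x
  refine (isZero_stalk_iff_zeroAt hξ F).1 ?_
  by_contra h
  exact hx ⟨Ω, i₁, i₂, ξ, Set.eq_singleton_iff_unique_mem.2 ⟨⟨default, hξ⟩, by
    rintro _ ⟨w, rfl⟩
    rw [Subsingleton.elim (α := ↥(Spec (CommRingCat.of Ω))) w default, hξ]⟩, h⟩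

theorem zeroAt_tor {X : Scheme.{u}} (F : EtCoh.Ab X) {x : X} (h : ZeroAt F x) (a : ℕ) :
    ZeroAt (EtColimH.tor F a) x := zeroAt_of_mono (kernel.ι (a • 𝟙 F)) h

variable {K : Type u} [Field K] {X : Scheme.{u}} [IsAffine X] (c : X ⟶ Spec (CommRingCat.of K))
  [LocallyOfFiniteType c]

/-- killed sheaves supported in small dimension -/
theorem subsingleton_H_killed_of_resDim {e : ℕ} (hK : KVanOn Set.univ (Spec (CommRingCat.of K)) e) {j : ℕ}
    (G : EtCoh.Ab X) {N : ℕ} (hN : 0 < N) (hG : Killed N G) (h0 : ∀ x, ¬ ResDim c x j → ZeroAt G x) (q : ℕ)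
    (hq : j + e < q) : Subsingleton (EtCoh.H X G q) := by
  haveI : IsLocallyNoetherian X := LocallyOfFiniteType.isLocallyNoetherian c
  haveI : IsNoetherian X := {}
  refine subsingleton_H_of_suppPred G (fun x y hxy hx => hx.of_specializes c hxy) h0 q fun C hC K' i hi hK' => ?_
  let ι := (Scheme.IdealSheafData.vanishingIdeal C).subschemeι
  have hr : Set.range ι = (C : Set X) := by
    show Set.range (Scheme.IdealSheafData.vanishingIdeal C).subschemeι = _
    rw [Scheme.IdealSheafData.range_subschemeι, Scheme.IdealSheafData.coe_support_vanishingIdeal]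
  haveI := hi
  have hKN : Killed N K' := killed_of_mono i hG
  refine subsingleton_H_of_closedImmersion ι K' hN hKN (fun x hx => hK' x fun h => hx (hr.symm ▸ h)) q ?_
  haveI : IsAffine (Scheme.IdealSheafData.vanishingIdeal C).subscheme := isAffine_of_isAffineHom ι
  refine (kVanOn_affine (ι ≫ c) (dim_le_of_resDim (ι ≫ c) fun z => ?_) hK).univ N hN _ (killed_pull ι hKN) q hq
  rw [resDim_closedImmersion]
  exact hC _ (hr.le ⟨z, rfl⟩)

/-- torsion sheaves supported in small dimension -/
theorem subsingleton_H_torsion_of_resDim {e : ℕ} (hK : KVanOn Set.univ (Spec (CommRingCat.of K)) e) {j : ℕ}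
    (F : EtCoh.Ab X) (hF : EtCoh.IsTorsion F) (h0 : ∀ x, ¬ ResDim c x j → ZeroAt F x) (q : ℕ)
    (hq : j + e < q) : Subsingleton (EtCoh.H X F q) := by
  have hF' := isLTorsion_univ_of_isTorsion hF
  obtain ⟨hc⟩ := EtAcycX.nonempty_isColimit_kdCocone Set.univ F hF'
  haveI := EtColimH.preservesColimitsOfShape_HF (X := X) q (EtColimH.Expo.{u} (EtAcyc.PrimesIn Set.univ))
  refine subsingleton_of_forall_eq 0 fun s => ?_
  obtain ⟨a, sa, rfl⟩ := Concrete.isColimit_exists_rep _ (isColimitOfPreserves (EtCoh.HF X q) hc) s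
  haveI := subsingleton_H_killed_of_resDim c hK ((EtAcycX.kdDiag Set.univ F).obj a) a.down.down.2.1
    ((killed_iff _ _).2 (EtAcycX.kd_tor F _)) (fun x hx => zeroAt_tor F (h0 x hx) _) q hq
  rw [show sa = 0 from @Subsingleton.elim (EtCoh.H X ((EtAcycX.kdDiag Set.univ F).obj a) q) _ _ _]
  exact map_zero _

end Groth.Agent.EtPBC
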