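import Groth.Agent.EtPBC.FieldCd
import Groth.Agent.EtPBC.GmH2
import Groth.Agent.S13295
import Groth.Agent.S13269
import Groth.Agent.S13292
import Groth.Agent.S7734
import Mathlib.RingTheory.SimpleModule.WedderburnArtin

/-!
# Fields all of whose finite extensions have trivial Brauer group
-/

set_option autoImplicit false
set_option backward.isDefEq.respectTransparency false
set_option backward.isDefEq.respectTransparency.types false
set_option linter.auxLemma false
set_option linter.style.haveILetI false

universe u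

open CategoryTheory CategoryTheory.Limits CategoryTheory.Abelian AlgebraicGeometry Opposite
open scoped TensorProduct

noncomputable section

namespace Groth.Agent.EtPBC

attribute [local instance 100000] EtCoh.H._proof_1 EtMV.hext
attribute [local instance 200000] EtMV.hextAb

/-- a central simple algebra is split when there is no nontrivial central division algebra -/
theorem splits_self_of_trivial (K : Type u) [Field K]
    (h : ∀ (D : Type u) [DivisionRing D] [Algebra K D] [Algebra.IsCentral K D] [FiniteDimensional K D],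
      Module.finrank K D = 1)
    (A : Type u) [Ring A] [Algebra K A] [Algebra.IsCentral K A] [IsSimpleRing A] [FiniteDimensional K A] :
    Curves.Splits K A K := by
  classical
  haveI := IsArtinianRing.of_finite K A
  obtain ⟨n, hn, D, _, _, _, ⟨e⟩⟩ := IsSimpleRing.exists_algEquiv_matrix_divisionRing_finite K A
  haveI : Algebra.IsCentral K D := ⟨fun z hz => by
    have h1 : Matrix.scalar (Fin n) z ∈ Subalgebra.center K (Matrix (Fin n) (Fin n) D) :=
      Subalgebra.mem_center_iff.2 fun M => (Matrix.scalar_commute z (fun r => (Commute.symm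
        (Subalgebra.mem_center_iff.1 hz r))) M).eq.symm
    have h2 : e.symm (Matrix.scalar (Fin n) z) ∈ Subalgebra.center K A :=
      Subalgebra.mem_center_iff.2 fun a => e.injective (by
        rw [map_mul, map_mul, e.apply_symm_apply]; exact Subalgebra.mem_center_iff.1 h1 (e a))
    obtain ⟨r, hr⟩ := Algebra.mem_bot.1 (Algebra.IsCentral.center_eq_bot K A ▸ h2)
    have h3 := congrArg e hr
    rw [e.commutes, e.apply_symm_apply] at h3
    refine Algebra.mem_bot.2 ⟨r, ?_⟩
    have h4 := congrFun (congrFun h3 ⟨0, NeZero.pos n⟩) ⟨0, NeZero.pos n⟩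
    simpa [Matrix.algebraMap_matrix_apply] using h4⟩
  have hb : Function.Bijective (Algebra.ofId K D) := by
    refine ⟨(algebraMap K D).injective, fun d => ?_⟩
    obtain ⟨c, hc⟩ := (finrank_eq_one_iff_of_nonzero' (1 : D) one_ne_zero).1 (h D) d
    exact ⟨c, (Algebra.algebraMap_eq_smul_one c).trans hc⟩
  exact ⟨n, NeZero.ne n, ⟨(Algebra.TensorProduct.lid K A).trans
    (e.trans (AlgEquiv.ofBijective (Algebra.ofId K D) hb).symm.mapMatrix)⟩⟩

/-- **trivial Brauer groups give surjective norms** -/
theorem normSurj_of_brauer_trivial (K : Type u) [Field K]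
    (hBr : ∀ (K' : Type u) [Field K'] [Algebra K K'] [FiniteDimensional K K'] (D : Type u) [DivisionRing D]
      [Algebra K' D] [Algebra.IsCentral K' D] [FiniteDimensional K' D], Module.finrank K' D = 1)
    (p : ℕ) [Fact p.Prime] : NormSurj p K := by
  intro K' _ _ _ _ L _ _ _ _ hdeg x hx
  obtain ⟨σ, hσ⟩ := exists_generator p K' L hdeg
  obtain ⟨B, -, hB⟩ := Groth.Agent.S13295.result K' L σ hσ (Units.mk0 x hx)
  obtain ⟨h1, h2, -⟩ := Groth.Agent.S13269.result K' L σ hσ (Units.mk0 x hx) B hB
  haveI := h1
  haveI := h2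
  exact ((Groth.Agent.S13292.result K' L σ hσ (Units.mk0 x hx) B hB).1).1
    (splits_self_of_trivial K' (fun D => hBr K' D) B)

variable (K : Type u) [Field K] (hN : ∀ (p : ℕ) [Fact p.Prime], NormSurj p K)

include hN in
theorem cdOne_of_forall_normSurj (p : ℕ) [hp : Fact p.Prime] : CdOne p K := by
  by_cases h : (p : K) = 0
  · haveI : CharP K p := (CharP.charP_iff_prime_eq_zero hp.out).2 h
    exact cdOne_of_charP p K
  · exact cdOne_of_normSurj p K h (hN p)

/-- a torsion class killed prime by prime vanishes -/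
theorem eq_zero_of_isOfFinAddOrder {A : Type*} [AddCommGroup A]
    (h : ∀ (p : ℕ) [Fact p.Prime] (x : A), (∃ m : ℕ, p ^ m • x = 0) → x = 0) (x : A)
    (hx : IsOfFinAddOrder x) : x = 0 := by
  obtain ⟨m, hm, hm'⟩ := isOfFinAddOrder_iff_nsmul_eq_zero.1 hx
  clear hx
  induction m using Nat.strong_induction_on generalizing x with
  | _ m ih =>
    rcases Nat.lt_or_ge m 2 with h1 | h2
    · obtain rfl : m = 1 := by omega
      simpa using hm'
    obtain ⟨c, hc⟩ := Nat.minFac_dvd m
    have hp : m.minFac.Prime := Nat.minFac_prime (by omega)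
    haveI := Fact.mk hp
    have hc0 : 0 < c := Nat.pos_of_ne_zero (by rintro rfl; omega)
    have hlt : c < m := by rw [hc]; exact lt_mul_of_one_lt_left hc0 hp.one_lt
    exact ih c hlt x hc0 (h m.minFac (c • x) ⟨1, by rw [pow_one, ← mul_nsmul', ← hc, hm']⟩)

include hN in
/-- cohomological dimension at most one -/
theorem subsingleton_H_torsion (F : EtCoh.Ab (Spec (CommRingCat.of K))) (hF : EtCoh.IsTorsion F) (q : ℕ)
    (hq : 2 ≤ q) : Subsingleton (EtCoh.H (Spec (CommRingCat.of K)) F q) := by
  obtain ⟨n, rfl⟩ : ∃ n, q = n + 1 := ⟨q - 1, by omega⟩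
  exact subsingleton_of_forall_eq 0 fun x => eq_zero_of_isOfFinAddOrder
    (fun p _ y hy => cdOne_of_forall_normSurj K hN p F hF (n + 1) (by omega) y hy) x
    (EtTorsPoint.isOfFinAddOrder_H_field F n x)

include hN in
/-- `G_m` is acyclic -/
theorem subsingleton_H_Gm (q : ℕ) (hq : 1 ≤ q) :
    Subsingleton (EtCoh.H (Spec (CommRingCat.of K)) (EtCoh.Gm (Spec (CommRingCat.of K))) q) := by
  rcases (show q = 1 ∨ q = 2 ∨ 3 ≤ q by omega) with rfl | rfl | h3
  · exact Misc3.KummerField.subsingleton_H1_Gm K
  · exact subsingleton_of_forall_eq 0 fun x => eq_zero_of_isOfFinAddOrder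
      (fun p _ y hy => primaryTorsion_H2_Gm p (hN p) y hy) x (EtTorsPoint.isOfFinAddOrder_H_field _ 1 x)
  · obtain ⟨n, rfl⟩ : ∃ n, q = n + 1 := ⟨q - 1, by omega⟩
    exact subsingleton_of_forall_eq 0 fun x => eq_zero_of_isOfFinAddOrder
      (fun p _ y hy => Groth.Agent.S7734.result K p 1 (cdOne_of_forall_normSurj K hN p) _ (n + 1) (by omega) y hy)
      x (EtTorsPoint.isOfFinAddOrder_H_field _ n x)

end Groth.Agent.EtPBC
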