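import Groth.Agent.EtPBC.CdDimRing
import Groth.Agent.Hensel.BranchSum
import Mathlib

/-!
# Dimension functions from codimensions
-/

set_option autoImplicit false
set_option backward.isDefEq.respectTransparency false
set_option backward.isDefEq.respectTransparency.types false
set_option linter.auxLemma false
set_option linter.style.haveILetI false
set_option linter.unusedSectionVars false
set_option maxHeartbeats 1000000

universe u

open CategoryTheory CategoryTheory.Limits AlgebraicGeometry IsLocalRing

noncomputable section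

namespace Groth.Agent.EtPBC

/-- height plus dimension of the quotient -/
theorem height_add_ringKrullDim_quotient_le {A : Type u} [CommRing A] (p : PrimeSpectrum A) :
    (p.asIdeal.height : WithBot ℕ∞) + ringKrullDim (A ⧸ p.asIdeal) ≤ ringKrullDim A := by
  haveI : Nonempty (PrimeSpectrum A) := ⟨p⟩
  haveI : Nonempty (PrimeSpectrum.zeroLocus (R := A) (p.asIdeal : Set A)) := ⟨⟨p, fun _ h => h⟩⟩
  have hc : ringKrullDim (A ⧸ p.asIdeal) ≤ (Order.coheight p : WithBot ℕ∞) := by
    rw [ringKrullDim_quotient, Order.krullDim_eq_iSup_length, WithBot.coe_le_coe, iSup_le_iff]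
    intro l
    have h1 := Order.length_le_coheight (x := p) (p := l.map Subtype.val fun _ _ h => h) (by
      exact l.head.2)
    simpa using h1
  have h2 : (p.asIdeal.height : WithBot ℕ∞) + Order.coheight p ≤ ringKrullDim A := by
    rw [ringKrullDim, Order.krullDim_eq_iSup_height_add_coheight_of_nonempty, ← WithBot.coe_add, WithBot.coe_le_coe]
    refine le_trans (le_of_eq ?_) (le_iSup (fun a : PrimeSpectrum A => Order.height a + Order.coheight a) p)
    rw [PrimeSpectrum.height_eq_orderHeight]
  exact (add_le_add le_rfl hc).trans h2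

variable {X : Scheme.{u}}

/-- the local rings at a generalisation -/
theorem ringKrullDim_stalk_specializes [IsLocallyNoetherian X] {x y : X} (h : x ⤳ y) :
    ∃ p : PrimeSpectrum (X.presheaf.stalk y), p.asIdeal = RingHom.ker (Cyc.specMap y x h) ∧
      ringKrullDim (X.presheaf.stalk x) = p.asIdeal.height := by
  let A := X.presheaf.stalk y
  let g : A ⟶ X.residueField x := X.presheaf.stalkSpecializes h ≫ X.residue x
  let p : Spec A := Spec.map g (default : ↥(Spec (X.residueField x)))
  have hp : p.asIdeal = RingHom.ker (Cyc.specMap y x h) := by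
    show ((default : ↥(Spec (X.residueField x))).asIdeal).comap g.hom = _
    rw [show (default : ↥(Spec (X.residueField x))).asIdeal = ⊥ from Ideal.eq_bot_of_prime _]
    rfl
  refine ⟨p, hp, ?_⟩
  have hj : Spec.map g ≫ X.fromSpecStalk y = X.fromSpecResidueField x := by
    show Spec.map (X.presheaf.stalkSpecializes h ≫ X.residue x) ≫ _ = _
    rw [Spec.map_comp, Category.assoc, Scheme.SpecMap_stalkSpecializes_fromSpecStalk]
    rfl
  have hpx : X.fromSpecStalk y p = x := by
    rw [show X.fromSpecStalk y p = (Spec.map g ≫ X.fromSpecStalk y) (default : ↥(Spec (X.residueField x))) from rfl,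
      hj, Scheme.fromSpecResidueField_apply]
  let f := (X.fromSpecStalk y).stalkMap p
  haveI : Flat (X.fromSpecStalk y) := flat_locι y
  have hfl : f.hom.Flat := Flat.stalkMap _ p
  have hb : Function.Bijective f.hom := by
    refine ⟨?_, (X.fromSpecStalk y).stalkMap_surjective p⟩
    letI := f.hom.toAlgebra
    haveI : Module.Flat (X.presheaf.stalk (X.fromSpecStalk y p)) ((Spec A).presheaf.stalk p) := hfl
    haveI : IsLocalHom (algebraMap (X.presheaf.stalk (X.fromSpecStalk y p)) ((Spec A).presheaf.stalk p)) :=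
      inferInstanceAs (IsLocalHom f.hom)
    haveI := Module.FaithfullyFlat.of_flat_of_isLocalHom (A := X.presheaf.stalk (X.fromSpecStalk y p))
      (B := (Spec A).presheaf.stalk p)
    exact FaithfulSMul.algebraMap_injective (X.presheaf.stalk (X.fromSpecStalk y p)) ((Spec A).presheaf.stalk p)
  letI : Algebra A ((Spec A).presheaf.stalk p) :=
    inferInstanceAs (Algebra A ((Spec.structureSheaf A).presheaf.stalk p))
  haveI : IsLocalization.AtPrime ((Spec A).presheaf.stalk p) p.asIdeal :=
    inferInstanceAs (IsLocalization.AtPrime ((Spec.structureSheaf A).presheaf.stalk p) p.asIdeal)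
  rw [← hpx, ringKrullDim_eq_of_ringEquiv (RingEquiv.ofBijective f.hom hb),
    IsLocalization.AtPrime.ringKrullDim_eq_height p.asIdeal]

/-- **the dimension of the closure over a strict henselisation** -/
theorem exists_dim_fibre [IsLocallyNoetherian X] {x y : X} (h : x ⤳ y) (R : Type u) [CommRing R] [IsLocalRing R]
    [Algebra (X.presheaf.stalk y) R] [IsLocalHom (algebraMap (X.presheaf.stalk y) R)]
    [_root_.Hensel.IsStrictHenselization (X.presheaf.stalk y) R] :
    ∃ cx cy e : ℕ, ringKrullDim (X.presheaf.stalk x) = cx ∧ ringKrullDim (X.presheaf.stalk y) = cy ∧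
      ringKrullDim (R ⧸ (RingHom.ker (Cyc.specMap y x h)).map (algebraMap (X.presheaf.stalk y) R)) = e ∧
      cx + e ≤ cy ∧ (x ≠ y → 0 < e) := by
  obtain ⟨p, hp, hx⟩ := ringKrullDim_stalk_specializes h
  rw [← hp]
  let A := X.presheaf.stalk y
  let I := p.asIdeal
  have hle := height_add_ringKrullDim_quotient_le p
  obtain ⟨cy, hcy⟩ := exists_nat_ringKrullDim A
  obtain ⟨cx, hcx⟩ := exists_nat_ringKrullDim (X.presheaf.stalk x)
  obtain ⟨e, he⟩ := exists_nat_ringKrullDim (A ⧸ I)
  haveI : IsLocalHom (algebraMap (A ⧸ I) (R ⧸ I.map (algebraMap A R))) := ⟨fun a ha => by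
    obtain ⟨a, rfl⟩ := Ideal.Quotient.mk_surjective a
    haveI : IsLocalHom (Ideal.Quotient.mk (I.map (algebraMap A R))) := by
      haveI : Nontrivial (R ⧸ I.map (algebraMap A R)) := Ideal.Quotient.nontrivial_iff.2 fun h => by
        have h2 : I.map (algebraMap A R) ≤ maximalIdeal R :=
          (Ideal.map_mono (le_maximalIdeal p.isPrime.ne_top)).trans (((local_hom_TFAE (algebraMap A R)).out 0 2).1 ‹_›)
        exact (maximalIdeal.isMaximal R).ne_top (top_le_iff.1 (h ▸ h2))
      exact IsLocalHom.of_surjective _ Ideal.Quotient.mk_surjective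
    exact ((IsUnit.of_map (Ideal.Quotient.mk (I.map (algebraMap A R))) (algebraMap A R a) ha).of_map
      (algebraMap A R) a).map _⟩
  haveI : Nontrivial (R ⧸ I.map (algebraMap A R)) := Ideal.Quotient.nontrivial_iff.2 fun h => by
    have h2 : I.map (algebraMap A R) ≤ maximalIdeal R :=
      (Ideal.map_mono (le_maximalIdeal p.isPrime.ne_top)).trans (((local_hom_TFAE (algebraMap A R)).out 0 2).1 ‹_›)
    exact (maximalIdeal.isMaximal R).ne_top (top_le_iff.1 (h ▸ h2))
  haveI : IsLocalRing (R ⧸ I.map (algebraMap A R)) := IsLocalRing.of_surjective' _ Ideal.Quotient.mk_surjective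
  haveI : IsLocalRing (A ⧸ I) := IsLocalRing.of_surjective' _ Ideal.Quotient.mk_surjective
  haveI := Hensel.isStrictHenselization_quotient (A := A) (S := R) I
  refine ⟨cx, cy, e, hcx, hcy, ?_, ?_, fun hne => ?_⟩
  · rw [Hensel.strictHenselization_ringKrullDim (A ⧸ I) (R ⧸ I.map (algebraMap A R))]
    exact he
  · rw [← hx, hcx, hcy, he] at hle
    exact_mod_cast hle
  · by_contra h0
    obtain rfl : e = 0 := by omega
    haveI : Ring.KrullDimLE 0 (A ⧸ I) := (Ring.krullDimLE_iff).2 he.le
    have hmax : I.IsMaximal := Ideal.Quotient.maximal_of_isField _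
      (Ring.KrullDimLE.isField_of_isDomain (R := A ⧸ I))
    have hpm : I = maximalIdeal A := eq_maximalIdeal hmax
    refine hne (eq_of_specializes_ker h ?_)
    rw [← hp]
    exact hpm
where
  eq_of_specializes_ker {x y : X} (h : x ⤳ y)
      (hk : RingHom.ker (Cyc.specMap y x h) = maximalIdeal (X.presheaf.stalk y)) : x = y :=
    (DvrDom.eq_of_stalkSpecializes_maximalIdeal h fun a ha => by
      rw [← hk] at ha
      exact (residue_eq_zero_iff _).1 ha).symm
  exists_nat_ringKrullDim (A : Type u) [CommRing A] [IsNoetherianRing A] [IsLocalRing A] :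
      ∃ n : ℕ, ringKrullDim A = n := by
    obtain ⟨n, hn⟩ : ∃ n : ℕ∞, ringKrullDim A = n := ⟨_, (WithBot.coe_unbot _ ringKrullDim_ne_bot).symm⟩
    have hlt := ringKrullDim_lt_top (R := A)
    rw [hn] at hlt
    obtain ⟨k, rfl⟩ := ENat.ne_top_iff_exists.1 (WithBot.coe_lt_coe.1 hlt).ne
    exact ⟨k, hn⟩

end Groth.Agent.EtPBC
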