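import Groth.Agent.EtPBC.CdDimLoc
import Groth.Agent.EtPBC.CdSupport
import Groth.Agent.EtPBC.CdLeray
import Groth.Agent.EtPBC.Curve
import Mathlib

/-!
# Cohomological dimension by a dimension function on the points
-/

set_option autoImplicit false
set_option backward.isDefEq.respectTransparency false
set_option backward.isDefEq.respectTransparency.types false
set_option linter.auxLemma false
set_option linter.style.haveILetI false
set_option linter.unusedSectionVars false
set_option maxHeartbeats 1000000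

universe u

open CategoryTheory CategoryTheory.Limits CategoryTheory.Abelian AlgebraicGeometry Opposite TopologicalSpace

noncomputable section

namespace Groth.Agent.EtPBC

attribute [local instance 100000] EtCoh.H._proof_1 EtMV.hext
attribute [local instance 200000] EtMV.hextAb

variable {X : Scheme.{u}}

/-- the points over a strict henselisation -/
abbrev ptFibre (x y : X) (R : Type u) [CommRing R] [IsLocalRing R] [Algebra (X.presheaf.stalk y) R] : Scheme.{u} :=
  pullback (X.fromSpecResidueField x) (Hens2.specOf X y R)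

/-- a point over a strict henselisation at a non-specialisation is empty -/
theorem isEmpty_ptFibre {x y : X} (hxy : ¬ x ⤳ y) (R : Type u) [CommRing R] [IsLocalRing R]
    [Algebra (X.presheaf.stalk y) R] : IsEmpty ↑(ptFibre x y R) := ⟨fun z => hxy <| by
  have hc := congr($(pullback.condition (f := X.fromSpecResidueField x) (g := Hens2.specOf X y R)) z)
  have h2 : Hens2.specOf X y R ((pullback.snd (X.fromSpecResidueField x) (Hens2.specOf X y R)) z) ∈
      Set.range (X.fromSpecStalk y) := ⟨_, rfl⟩
  rw [← Scheme.Hom.comp_apply, ← hc, Scheme.Hom.comp_apply, Scheme.fromSpecResidueField_apply,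
    Scheme.range_fromSpecStalk] at h2
  exact h2⟩

/-- **the hypotheses of a dimension function** -/
structure DimFun (L : Set ℕ) (φ : X → ℕ) : Prop where
  point : ∀ x : X, KVanOn L (Spec (X.residueField x)) (φ x)
  fibre : ∀ x y : X, x ⤳ y → x ≠ y → ∀ (R : Type u) [CommRing R] [IsLocalRing R] [Algebra (X.presheaf.stalk y) R]
    [IsLocalHom (algebraMap (X.presheaf.stalk y) R)] [_root_.Hensel.IsStrictHenselization (X.presheaf.stalk y) R],
    ∃ d : ℕ, d + 1 + φ y ≤ φ x ∧ KVanOn L (ptFibre x y R) d

/-- the induction hypothesis -/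
def SmallVan (φ : X → ℕ) (m n : ℕ) : Prop :=
  ∀ j ≤ n, ∀ G : EtCoh.Ab X, Killed m G → (∀ x, ¬ φ x < j → ZeroAt G x) → ∀ q, j ≤ q → Subsingleton (EtCoh.H X G q)

/-- off the support the stalks vanish -/
theorem zeroAt_of_notMem_supp' (F : EtCoh.Ab X) (x : X) (hx : x ∉ EtPBC.supp F) : ZeroAt F x := by
  obtain ⟨Ω, _, _, ξ, hξ⟩ := exists_geomPt x
  refine (isZero_stalk_iff_zeroAt hξ F).1 (by_contra fun h => hx ⟨Ω, inferInstance, inferInstance, ξ, ?_, h⟩)
  exact Set.eq_singleton_iff_unique_mem.2 ⟨⟨default, hξ⟩, fun _ ⟨t, ht⟩ => by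
    rw [← ht, Subsingleton.elim t default, hξ]⟩

variable {L : Set ℕ} {φ : X → ℕ} (hφ : DimFun L φ)
include hφ

/-- the function decreases under specialisation -/
theorem DimFun.lt {x y : X} (h : x ⤳ y) (hne : x ≠ y) : φ y < φ x := by
  obtain ⟨R, _, _, _, _, hR⟩ := EtBCQ.exists_sh (X.presheaf.stalk y)
  obtain ⟨d, hd, -⟩ := hφ.fibre x y h hne R
  omega

theorem DimFun.le {x y : X} (h : x ⤳ y) : φ y ≤ φ x := by
  by_cases hne : x = y
  · subst hne; rfl
  · exact (hφ.lt h hne).le

theorem DimFun.isMaxPt {Z : Scheme.{u}} (ι : Z ⟶ X) [IsClosedImmersion ι] {n : ℕ} (hn : ∀ z, φ (ι z) ≤ n) {z : Z}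
    (hz : φ (ι z) = n) : IsMaxPt z := by
  intro w hw
  by_contra hne
  have := hφ.lt (hw.map ι.continuous) (fun h => hne (ι.isClosedEmbedding.injective h))
  have := hn w
  omega

variable [IsNoetherian X] {m : ℕ} (hm : EtAcyc.PrimesIn L m)
include hm

/-- higher direct images from the points of largest value -/
theorem zeroAt_rpush_dim {Z : Scheme.{u}} [IsNoetherian Z] (ι : Z ⟶ X) [IsClosedImmersion ι] {x : Z} (hx : IsMaxPt x)
    (G : EtCoh.Ab (locScheme x)) (hG : Killed m G) (z : Z) (r : ℕ) (hr0 : 0 < r) (hr : φ (ι x) ≤ r + φ (ι z)) :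
    ZeroAt ((EtCoh.Rpush (locι x) r).obj G) z := by
  by_cases hzx : z = x
  · subst hzx
    obtain ⟨r, rfl⟩ : ∃ j, r = j + 1 := ⟨r - 1, by omega⟩
    exact zeroAt_rpush hx G r z hx
  haveI := quasiCompact_locι hx
  haveI : IsPreimmersion (locι x) := inferInstanceAs (IsPreimmersion (Z.fromSpecStalk x))
  obtain ⟨R₀, _, _, _, _, hR₀⟩ := EtBCQ.exists_sh (X.presheaf.stalk (ι z))
  obtain ⟨d, hd, hW⟩ : ∃ d : ℕ, d < r ∧ KVanOn L (ptFibre (ι x) (ι z) R₀) d := by
    by_cases hxz : ι x ⤳ ι z
    · obtain ⟨d, hd, hW⟩ := hφ.fibre _ _ hxz (fun h => hzx (ι.isClosedEmbedding.injective h).symm) R₀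
      exact ⟨d, by omega, hW⟩
    · haveI := isEmpty_ptFibre hxz R₀
      exact ⟨0, hr0, fun _ _ F _ q hq => subsingleton_H_of_isEmpty _ F q hq⟩
  obtain ⟨R, _, _, _, _, hR, hk⟩ := kVanOn_pullback_closedImmersion ι x z R₀ hW
  haveI : HenselianLocalRing R := hR.henselian
  haveI : IsSepClosed (IsLocalRing.ResidueField R) := hR.isSepClosure.1
  refine (isZero_stalk_iff_zeroAt (EtBCQ.geomPt_apply z R) _).1 ?_
  obtain ⟨e⟩ := EtStrictLoc.nonempty_stalkRpush (locι x) z R r
  refine IsZero.of_iso ?_ (e.app G)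
  refine @AddCommGrpCat.isZero_of_subsingleton _ ?_
  let s := Hens2.specOf Z z R
  show Subsingleton (EtCoh.H (pullback (locι x) s) ((EtCoh.pull (pullback.fst (locι x) s)).obj G) r)
  let i : Spec (Z.residueField x) ⟶ locScheme x := Spec.map (Z.residue x)
  haveI := subsingleton_locScheme hx
  haveI : IsClosedImmersion i := IsClosedImmersion.spec_of_surjective _ (Scheme.residue_surjective Z x)
  haveI : Surjective i := ⟨fun t => ⟨default, Subsingleton.elim _ _⟩⟩
  have hi : i ≫ locι x = Z.fromSpecResidueField x := rfl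
  let w : pullback (Z.fromSpecResidueField x) s ⟶ pullback (locι x) s :=
    pullback.lift (pullback.fst _ _ ≫ i) (pullback.snd _ _) (by rw [Category.assoc, hi, pullback.condition])
  have sq : IsPullback (pullback.fst (Z.fromSpecResidueField x) s) w i (pullback.fst (locι x) s) := by
    refine IsPullback.of_bot ?_ (pullback.lift_fst _ _ _).symm (IsPullback.of_hasPullback (locι x) s)
    rw [hi, show w ≫ pullback.snd (locι x) s = pullback.snd (Z.fromSpecResidueField x) s from pullback.lift_snd _ _ _]
    exact IsPullback.of_hasPullback (Z.fromSpecResidueField x) s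
  haveI : IsIntegralHom w := MorphismProperty.of_isPullback (P := @IsIntegralHom) sq inferInstance
  haveI : UniversallyInjective w := MorphismProperty.of_isPullback (P := @UniversallyInjective) sq inferInstance
  haveI : Surjective w := MorphismProperty.of_isPullback (P := @Surjective) sq ‹_›
  exact subsingleton_H_of_univHomeo w _ r (hk m hm _ (killed_pull w (killed_pull _ hG)) r hd)

/-- the induction hypothesis on a closed subscheme -/
theorem subsingleton_H_small {Z : Scheme.{u}} (ι : Z ⟶ X) [IsClosedImmersion ι] {n : ℕ} (ih : SmallVan φ m n) {j : ℕ}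
    (hj : j ≤ n) (G : EtCoh.Ab Z) (hG : Killed m G) (h0 : ∀ z, ¬ φ (ι z) < j → ZeroAt G z) (q : ℕ) (hq : j ≤ q) :
    Subsingleton (EtCoh.H Z G q) :=
  (subsingleton_H_iff_push ι G (fun r => EtIntegral.Rpush_succ_isZero ι G r) q).1
    (ih j hj _ (killed_push ι hG) (fun x hx => zeroAt_push_of_zeroAt ι G (isLTorsion_univ_of_killed hm.1 hG) x
      fun z hz => h0 z (hz.symm ▸ hx)) q hq)

/-- direct images from a point of largest value -/
theorem subsingleton_H_push_dim {Z : Scheme.{u}} [IsNoetherian Z] (ι : Z ⟶ X) [IsClosedImmersion ι] {n : ℕ}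
    (ih : SmallVan φ m n) (hle : ∀ z, φ (ι z) ≤ n) {x : Z} (hx : φ (ι x) = n) (G : EtCoh.Ab (locScheme x))
    (hG : Killed m G) (q : ℕ) (hq : n < q) : Subsingleton (EtCoh.H Z ((EtCoh.push (locι x)).obj G) q) := by
  have hmax := hφ.isMaxPt ι hle hx
  refine subsingleton_H_push_of_Rpush (locι x) hm.1 n G hG (fun r hr => ?_) q hq ?_ (fun p r hr hrn hpr => ?_)
  · exact isZero_of_zeroAt _ fun z => zeroAt_rpush_dim hφ hm ι hmax G hG z r (by omega) (by omega)
  · let i : Spec (Z.residueField x) ⟶ locScheme x := Spec.map (Z.residue x)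
    haveI := subsingleton_locScheme hmax
    haveI : IsClosedImmersion i := IsClosedImmersion.spec_of_surjective _ (Scheme.residue_surjective Z x)
    haveI : Surjective i := ⟨fun t => ⟨default, Subsingleton.elim _ _⟩⟩
    haveI : IsClosedImmersion (Spec.map (ι.residueFieldMap x)) := IsClosedImmersion.spec_of_surjective _ fun c => by
      obtain ⟨c, rfl⟩ := Scheme.residue_surjective Z x c
      obtain ⟨d, rfl⟩ := ι.stalkMap_surjective x c
      exact ⟨X.residue (ι x) d, ConcreteCategory.congr_hom (Scheme.residue_residueFieldMap ι x) d⟩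
    exact subsingleton_H_of_univHomeo i _ q
      (((hφ.point (ι x)).mono hx.le).of_isIntegralHom (Spec.map (ι.residueFieldMap x)) m hm _ (killed_pull i hG) q hq)
  · exact subsingleton_H_small hφ hm ι ih (j := n - r) (by omega) _ (killed_Rpush _ _ hG)
      (fun z hz => zeroAt_rpush_dim hφ hm ι hmax G hG z r hr (by omega)) p (by omega)

/-- dévissage along the points of largest value -/
theorem subsingleton_H_dim_aux {Z : Scheme.{u}} [IsNoetherian Z] (ι : Z ⟶ X) [IsClosedImmersion ι] {n : ℕ}
    (ih : SmallVan φ m n) (hle : ∀ z, φ (ι z) ≤ n) (S : Finset Z) :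
    ∀ G : EtCoh.Ab Z, Killed m G → (∀ z : Z, φ (ι z) = n → z ∉ S → ZeroAt G z) →
    ∀ q : ℕ, n < q → Subsingleton (EtCoh.H Z G q) := by
  classical
  induction S using Finset.induction with
  | empty =>
    exact fun G hG h0 q hq => subsingleton_H_small hφ hm ι ih le_rfl G hG
      (fun z hz => h0 z (le_antisymm (hle z) (not_lt.1 hz)) (Finset.notMem_empty z)) q hq.le
  | @insert x S hxS ihS =>
    intro G hGN hG q hq
    by_cases hxn : φ (ι x) = n
    swap
    · exact ihS G hGN (fun z hz hzS => hG z hz (by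
        simp only [Finset.mem_insert, not_or]
        exact ⟨fun h => hxn (h ▸ hz), hzS⟩)) q hq
    have hx : IsMaxPt x := hφ.isMaxPt ι hle hxn
    let j : locScheme x ⟶ Z := locι x
    let u : G ⟶ (EtCoh.push j).obj ((EtCoh.pull j).obj G) := (EtCoh.pullPushAdj j).unit.app G
    obtain ⟨Ω, _, _, ξ, hξ, hb⟩ := bijective_stalk_unit_loc hx G
    haveI hK : Subsingleton (EtCoh.H Z (kernel u) q) := by
      refine ihS _ (killed_of_mono (kernel.ι u) hGN) (fun z hz hzS => ?_) q hq
      by_cases hzx : z = x
      · subst hzx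
        exact zeroAt_kernel hξ u hb.1
      · exact zeroAt_of_mono (kernel.ι u) (hG z hz (by simp [hzx, hzS]))
    have hC : ∀ z, ¬ φ (ι z) < n → ZeroAt (cokernel u) z := fun z hz => by
      by_cases hzx : z = x
      · subst hzx
        exact zeroAt_cokernel hξ u hb.2
      · exact zeroAt_of_epi (cokernel.π u)
          (zeroAt_push hx _ z (hφ.isMaxPt ι hle (le_antisymm (hle z) (not_lt.1 hz))) hzx)
    let I := cokernel (kernel.ι u)
    let p : G ⟶ I := cokernel.π (kernel.ι u)
    let v : I ⟶ (EtCoh.push j).obj ((EtCoh.pull j).obj G) := cokernel.desc _ u (kernel.condition u)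
    haveI : Mono v := (ShortComplex.exact_iff_mono_cokernel_desc
      (ShortComplex.mk (kernel.ι u) u (kernel.condition u))).1
      (ShortComplex.exact_of_f_is_kernel _ (kernelIsKernel u))
    have hA : (ShortComplex.mk (kernel.ι u) p (cokernel.condition _)).ShortExact :=
      { exact := ShortComplex.exact_of_g_is_cokernel _ (cokernelIsCokernel _) }
    have hB : (ShortComplex.mk v (cokernel.π v) (cokernel.condition v)).ShortExact :=
      { exact := ShortComplex.exact_of_g_is_cokernel _ (cokernelIsCokernel _) }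
    have hCk : Killed m (cokernel v) := killed_of_epi (cokernel.π v) (killed_push j (killed_pull j hGN))
    have hCv : ∀ z, ¬ φ (ι z) < n → ZeroAt (cokernel v) z := fun z hz => by
      have hw : u ≫ cokernel.π v = 0 := by
        rw [← cokernel.π_desc (kernel.ι u) u (kernel.condition u), Category.assoc]
        exact (congrArg (p ≫ ·) (cokernel.condition v)).trans comp_zero
      haveI : Epi (cokernel.desc u (cokernel.π v) hw) :=
        epi_of_epi_fac (cokernel.π_desc u (cokernel.π v) hw)
      exact zeroAt_of_epi (cokernel.desc u (cokernel.π v) hw) (hC z hz)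
    have hI : Subsingleton (EtCoh.H Z I q) := by
      obtain ⟨q', rfl⟩ : ∃ j, q = j + 1 := ⟨q - 1, by omega⟩
      refine subsingleton_of_forall_eq 0 fun c' => ?_
      obtain ⟨d, hd⟩ := Ext.covariant_sequence_exact₁ (EtCoh.const Z ℤ) hB c'
        (@Subsingleton.elim _ (subsingleton_H_push_dim hφ hm ι ih hle hxn _ (killed_pull j hGN) _ hq) _ _)
        (n₀ := q') rfl
      haveI := subsingleton_H_small hφ hm ι ih le_rfl (cokernel v) hCk hCv q' (by omega)
      rw [← hd, show d = 0 from @Subsingleton.elim (EtCoh.H Z (cokernel v) q') _ d 0, Ext.zero_comp]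
    exact subsingleton_H_X₂ hA q hK hI

/-- the induction -/
theorem smallVan : ∀ n : ℕ, SmallVan φ m n := by
  intro n
  induction n with
  | zero =>
    intro j hj G _ h0 q _
    exact subsingleton_H_of_isZero (isZero_of_zeroAt _ fun x => h0 x (by omega)) q
  | succ n ih =>
    intro j hj G hG h0 q hq
    rcases Nat.lt_or_ge j (n + 1) with hlt | hge
    · exact ih j (by omega) G hG h0 q hq
    obtain rfl : j = n + 1 := by omega
    refine subsingleton_H_of_suppPred G (fun x y hxy hx => lt_of_le_of_lt (hφ.le hxy) hx) h0 q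
      fun C hC K i hi hK => ?_
    haveI := hi
    let ι := (Scheme.IdealSheafData.vanishingIdeal C).subschemeι
    have hr : Set.range ι = C := by
      rw [Scheme.IdealSheafData.range_subschemeι, Scheme.IdealSheafData.coe_support_vanishingIdeal]
    refine subsingleton_H_of_closedImmersion ι K hm.1 (killed_of_mono i hG) (fun x hx => hK x fun hxC => hx (hr.ge hxC))
      q ?_
    haveI : IsLocallyNoetherian (Scheme.IdealSheafData.vanishingIdeal C).subscheme :=
      LocallyOfFiniteType.isLocallyNoetherian ι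
    haveI : CompactSpace (Scheme.IdealSheafData.vanishingIdeal C).subscheme :=
      QuasiCompact.compactSpace_of_compactSpace ι
    haveI : IsNoetherian (Scheme.IdealSheafData.vanishingIdeal C).subscheme := {}
    have hle : ∀ z, φ (ι z) ≤ n := fun z => Nat.lt_succ_iff.1 (hC _ (hr.le ⟨z, rfl⟩))
    have hfin : {z | φ (ι z) = n}.Finite :=
      (finite_isMaxPt _).subset fun z hz => hφ.isMaxPt ι hle hz
    exact subsingleton_H_dim_aux hφ hm ι ih hle hfin.toFinset _ (killed_pull ι (killed_of_mono i hG))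
      (fun z hz hzS => absurd (hfin.mem_toFinset.2 hz) hzS) q (by omega)

omit hm in
/-- **cohomology of torsion sheaves vanishes above the values on the support** -/
theorem DimFun.subsingleton_H (F : EtCoh.Ab X) (hF : EtAcyc.IsLTorsion L F) (q : ℕ)
    (h0 : ∀ x, ¬ φ x < q → ZeroAt F x) : Subsingleton (EtCoh.H X F q) := by
  obtain ⟨hc⟩ := EtAcycX.nonempty_isColimit_kdCocone L F hF
  haveI := EtColimH.preservesColimitsOfShape_HF (X := X) q (EtColimH.Expo.{u} (EtAcyc.PrimesIn L))
  refine subsingleton_of_forall_eq 0 fun c => ?_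
  obtain ⟨a, ca, rfl⟩ := Concrete.isColimit_exists_rep _ (isColimitOfPreserves (EtCoh.HF X q) hc) c
  haveI : Mono ((EtAcycX.kdCocone L F).ι.app a) := inferInstanceAs (Mono (kernel.ι _))
  haveI := smallVan hφ a.down.down.2 q q le_rfl ((EtAcycX.kdDiag L F).obj a)
    ((killed_iff _ _).2 (EtAcycX.kd_tor F _)) (fun x hx => zeroAt_of_mono ((EtAcycX.kdCocone L F).ι.app a) (h0 x hx))
    q le_rfl
  rw [show ca = 0 from @Subsingleton.elim (EtCoh.H X ((EtAcycX.kdDiag L F).obj a) q) _ _ _]
  exact map_zero _

omit hm in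
/-- **primary torsion sheaves** -/
theorem DimFun.subsingleton_H_primary {ℓ : ℕ} (hL : L = {ℓ}) [Fact ℓ.Prime] (F : EtCoh.Ab X)
    (hF : Dix.IsPrimaryTorsion ℓ F) (q : ℕ) (hq : ∀ x ∈ EtPBC.supp F, φ x < q) : Subsingleton (EtCoh.H X F q) := by
  subst hL
  exact hφ.subsingleton_H F (isLTorsion_of_isPrimaryTorsion ℓ F hF) q
    fun x hx => zeroAt_of_notMem_supp' F x fun h => hx (hq x h)

end Groth.Agent.EtPBC
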