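import Groth.Agent.EtPBC.FieldDescent
import Groth.Agent.EtLimit.Push
import Groth.Agent.LimPoint.Basic

/-!
# The residue field at a point as a limit of affine neighbourhoods
-/

set_option autoImplicit false
set_option backward.isDefEq.respectTransparency false
set_option backward.isDefEq.respectTransparency.types false
set_option linter.auxLemma false
set_option linter.style.haveILetI false

universe u

open CategoryTheory CategoryTheory.Limits CategoryTheory.Abelian AlgebraicGeometry Opposite TopologicalSpace

noncomputable section

namespace Groth.Agent.EtPBC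

attribute [local instance 100000] EtCoh.H._proof_1 EtMV.hext
attribute [local instance 200000] EtMV.hextAb

/-- affine neighbourhoods bound the cohomological dimension of the residue field -/
theorem kVanOn_residueField_of_affineOpens {X : Scheme.{u}} (x : X) (d : ℕ)
    (h : ∀ V : X.Opens, IsAffineOpen V → x ∈ V → EtCoh.CohDimLE (V : Scheme.{u}) d) :
    KVanOn Set.univ (Spec (X.residueField x)) d := by
  let D := LimPoint.specDiagram x
  haveI : ∀ i, IsAffine (D.obj i) := fun i => isAffine_Spec _
  haveI : ∀ {i j} (a : i ⟶ j), IsAffineHom (D.map a) := fun {i j} a => isAffineHom_of_isAffine _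
  have hD : ∀ i, EtCoh.CohDimLE (D.obj i) d := fun i => by
    let e : D.obj i ⟶ ((i.1 : X.Opens) : Scheme.{u}) := i.2.1.isoSpec.inv
    haveI : IsIso e := inferInstanceAs (IsIso i.2.1.isoSpec.inv)
    exact cohDimLE_of_kVanOn ((kVanOn_of_cohDimLE (L := Set.univ) (h i.1 i.2.1 i.2.2)).of_isIntegralHom e)
  have hlim := EtLimit.cohDimLE_limit D _ (LimPoint.isLimitSpecDiagram x) d hD
  have h1 : KVanOn Set.univ (Spec (X.presheaf.stalk x)) d := kVanOn_of_cohDimLE hlim
  haveI : IsClosedImmersion (Spec.map (X.residue x)) :=
    IsClosedImmersion.spec_of_surjective _ (Scheme.residue_surjective X x)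
  exact h1.of_isIntegralHom (Spec.map (X.residue x))

end Groth.Agent.EtPBC
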