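import Groth.Agent.EtPBC.CdDimLowerDvr
import Groth.Agent.EtPBC.CdDimCodim
import Groth.Agent.EtPBC.HensDvrLower
import Groth.Agent.EtPBC.HensDvrPos
import Groth.Agent.SegreDim.Noether

/-!
# `dim R ≤ cd_p (Frac R)` for Noetherian local domains with `p` invertible
-/

set_option autoImplicit false
set_option backward.isDefEq.respectTransparency false
set_option linter.style.haveILetI false

universe u

open CategoryTheory AlgebraicGeometry IsLocalRing

noncomputable section

namespace Groth.Agent.EtPBC

variable (p : ℕ) [hpp : Fact p.Prime]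

/-- a finite local domain extension of the same dimension inside a finite extension of the fraction field -/
theorem exists_local_extension (R : Type u) [CommRing R] [IsDomain R] [IsNoetherianRing R] [IsLocalRing R]
    (K : Type u) [Field K] [Algebra R K] [IsFractionRing R K] (L : Type u) [Field L] (f : K →+* L) (hf : f.Finite)
    (n : ℕ) (hn : (n : WithBot ℕ∞) ≤ ringKrullDim R) :
    ∃ (R' : Type u) (_ : CommRing R') (_ : IsDomain R') (_ : IsNoetherianRing R') (_ : IsLocalRing R')
      (_ : Algebra R' L) (_ : IsFractionRing R' L), (n : WithBot ℕ∞) ≤ ringKrullDim R' ∧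
      (IsUnit (p : R) → IsUnit (p : R')) := by
  classical
  letI : Algebra K L := f.toAlgebra
  haveI : FiniteDimensional K L := hf
  letI : Algebra R L := (f.comp (algebraMap R K)).toAlgebra
  haveI : IsScalarTower R K L := IsScalarTower.of_algebraMap_eq fun _ => rfl
  obtain ⟨s, hs⟩ : ∃ s : Finset L, Submodule.span K (s : Set L) = ⊤ := Module.Finite.fg_top
  haveI : Algebra.IsAlgebraic K L := Algebra.IsAlgebraic.of_finite K L
  have hscale : ∀ x : L, ∃ r : R, r ≠ 0 ∧ IsIntegral R (r • x) := fun x => by
    obtain ⟨y, hy, h⟩ := exists_integral_multiples R K ({x} : Finset L)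
    exact ⟨y, hy, h x (Finset.mem_singleton_self x)⟩
  choose r hr hint using hscale
  let t : Finset L := s.image fun x => r x • x
  let B := Algebra.adjoin R (t : Set L)
  have htint : ∀ x ∈ (t : Set L), IsIntegral R x := by
    intro x hx
    obtain ⟨y, -, rfl⟩ := Finset.mem_image.1 (Finset.mem_coe.1 hx)
    exact hint y
  haveI hBfin : Module.Finite R B :=
    Module.Finite.iff_fg.2 (fg_adjoin_of_finite t.finite_toSet htint)
  haveI : Algebra.IsIntegral R B := Algebra.IsIntegral.of_finite R B
  haveI : IsNoetherianRing B := IsNoetherianRing.of_finite R B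
  have hinj : Function.Injective (algebraMap R B) := fun a b hab =>
    IsFractionRing.injective R K (f.injective (congrArg Subtype.val hab))
  -- generation
  obtain ⟨ψ, hψ⟩ := exists_extend_field B (FractionRing B) L (algebraMap B L) Subtype.val_injective
  have hψ' : ∀ b : B, ψ (algebraMap B (FractionRing B) b) = (b : L) := fun b => RingHom.congr_fun hψ b
  have hK : ∀ k : K, algebraMap K L k ∈ ψ.fieldRange := by
    intro k
    obtain ⟨a, b, -, rfl⟩ := IsFractionRing.div_surjective (A := R) k
    rw [map_div₀]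
    exact div_mem ⟨algebraMap B _ (algebraMap R B a), hψ' _⟩ ⟨algebraMap B _ (algebraMap R B b), hψ' _⟩
  have hall : ∀ z : L, z ∈ ψ.fieldRange := by
    intro z
    have hz : z ∈ Submodule.span K (s : Set L) := hs ▸ Submodule.mem_top
    induction hz using Submodule.span_induction with
    | mem x hx =>
      have h1 : r x • x ∈ ψ.fieldRange :=
        ⟨algebraMap B _ ⟨r x • x, Algebra.subset_adjoin (Finset.mem_coe.2 (Finset.mem_image_of_mem _ hx))⟩, hψ' _⟩
      have h2 : algebraMap R L (r x) ≠ 0 :=
        (map_ne_zero_iff (algebraMap R L) (f.injective.comp (IsFractionRing.injective R K))).2 (hr x)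
      have h3 := div_mem h1 (hK (algebraMap R K (r x)))
      rwa [Algebra.smul_def, ← IsScalarTower.algebraMap_apply, mul_div_cancel_left₀ _ h2] at h3
    | zero => exact zero_mem _
    | add x y _ _ hx hy => exact add_mem hx hy
    | smul k x _ hx => rw [Algebra.smul_def]; exact mul_mem (hK k) hx
  haveI : FaithfulSMul B L := (faithfulSMul_iff_algebraMap_injective B L).2 Subtype.val_injective
  haveI : IsFractionRing B L := by
    refine IsFractionRing.of_field B L fun z => ?_
    obtain ⟨w, rfl⟩ := hall z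
    obtain ⟨x, y, -, rfl⟩ := IsFractionRing.div_surjective (A := B) w
    exact ⟨x, y, by rw [map_div₀, hψ', hψ']; rfl⟩
  -- a maximal ideal of large height
  have hdim : (n : WithBot ℕ∞) ≤ ringKrullDim B := by
    rwa [← SegreDim.ringKrullDim_eq_of_injective_integral (A := R) (B := B) hinj]
  haveI : Nontrivial B := inferInstance
  obtain ⟨l, hl⟩ := Order.le_krullDim_iff.1 hdim
  obtain ⟨M, hM, hlM⟩ := Ideal.exists_le_maximal l.last.asIdeal l.last.isPrime.ne_top
  haveI := hM
  let R' := Localization.AtPrime M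
  letI : Algebra R' L := (IsLocalization.lift (M := M.primeCompl) (S := R') (g := algebraMap B L) fun y => by
    refine IsUnit.mk0 _ ((map_ne_zero_iff _ (IsFractionRing.injective B L)).2 fun h => y.2 ?_)
    rw [h]; exact M.zero_mem).toAlgebra
  haveI : IsScalarTower B R' L := IsScalarTower.of_algebraMap_eq fun x => (IsLocalization.lift_eq _ x).symm
  haveI : IsFractionRing R' L := IsFractionRing.isFractionRing_of_isDomain_of_isLocalization M.primeCompl R' L
  haveI : IsNoetherianRing R' := IsLocalization.isNoetherianRing M.primeCompl R' inferInstance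
  refine ⟨R', inferInstance, inferInstance, inferInstance, inferInstance, inferInstance, inferInstance, ?_,
    fun hp => ?_⟩
  · rw [IsLocalization.AtPrime.ringKrullDim_eq_height M R', PrimeSpectrum.height_eq_orderHeight (p := ⟨M, hM.isPrime⟩)]
    have h1 : (l.length : ℕ∞) ≤ Order.height (⟨M, hM.isPrime⟩ : PrimeSpectrum B) :=
      Order.length_le_height (show l.last ≤ ⟨M, hM.isPrime⟩ from hlM)
    rw [hl] at h1
    exact_mod_cast h1
  · have h := hp.map ((algebraMap B R').comp (algebraMap R B))
    rwa [map_natCast] at h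

/-- the first step of a longest chain -/
theorem exists_height_one (R : Type u) [CommRing R] [IsDomain R] (n : ℕ) (hn : ringKrullDim R = (n + 1 : ℕ)) :
    ∃ P : PrimeSpectrum R, P.asIdeal.height = 1 ∧ (n : WithBot ℕ∞) ≤ ringKrullDim (R ⧸ P.asIdeal) := by
  obtain ⟨l, hl⟩ := Order.le_krullDim_iff.1 hn.ge
  let P := l ⟨1, by omega⟩
  have h1 : (1 : ℕ∞) ≤ P.asIdeal.height := by
    rw [PrimeSpectrum.height_eq_orderHeight]
    refine Order.one_le_iff_pos.2 (Order.height_pos.2 fun hmin => ?_)
    have h01 : l ⟨0, by omega⟩ < P := l.strictMono (Fin.mk_lt_mk.2 Nat.one_pos)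
    exact (lt_of_lt_of_le h01 (hmin h01.le)).false
  have h2 : (n : WithBot ℕ∞) ≤ ringKrullDim (R ⧸ P.asIdeal) := by
    rw [ringKrullDim_quotient]
    refine Order.le_krullDim_iff.2 ⟨⟨n, fun i => ⟨l ⟨i + 1, by omega⟩, ?_⟩, fun i => ?_⟩, rfl⟩
    · exact l.monotone (show (⟨1, by omega⟩ : Fin (l.length + 1)) ≤ ⟨i + 1, by omega⟩ from Fin.mk_le_mk.2 (by omega))
    · exact l.strictMono (show (⟨i + 1, by omega⟩ : Fin (l.length + 1)) < ⟨(i : ℕ) + 1 + 1, by omega⟩ from
        Fin.mk_lt_mk.2 (by omega))
  refine ⟨P, le_antisymm ?_ h1, h2⟩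
  have h3 := (add_le_add le_rfl h2).trans (height_add_ringKrullDim_quotient_le P)
  rw [hn] at h3
  generalize P.asIdeal.height = a at h3 h1 ⊢
  induction a using ENat.recTopCoe with
  | top =>
    have h5 : (⊤ : ℕ∞) + (n : ℕ∞) ≤ ((n + 1 : ℕ) : ℕ∞) := by exact_mod_cast h3
    simp at h5
  | coe a =>
    have h4 : ((a + n : ℕ) : WithBot ℕ∞) ≤ ((n + 1 : ℕ) : WithBot ℕ∞) := by exact_mod_cast h3
    have : a + n ≤ n + 1 := by exact_mod_cast h4
    exact_mod_cast (show a ≤ 1 by omega)

/-- the residue extension and one step down -/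
theorem exists_step (R : Type u) [CommRing R] [IsDomain R] [IsNoetherianRing R] [IsLocalRing R] (hp : IsUnit (p : R))
    (K : Type u) [Field K] [Algebra R K] [IsFractionRing R K] (n : ℕ) (hn : ringKrullDim R = (n + 1 : ℕ)) {d : ℕ}
    (hK : KVanOn {p} (Spec (CommRingCat.of K)) d) :
    ∃ d', d = d' + 1 ∧ ∃ (R' : Type u) (_ : CommRing R') (_ : IsDomain R') (_ : IsNoetherianRing R')
      (_ : IsLocalRing R') (L : Type u) (_ : Field L) (_ : Algebra R' L) (_ : IsFractionRing R' L),
      IsUnit (p : R') ∧ (n : WithBot ℕ∞) ≤ ringKrullDim R' ∧ KVanOn {p} (Spec (CommRingCat.of L)) d' := by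
  obtain ⟨P, hP1, hPn⟩ := exists_height_one R n hn
  let C := Localization.AtPrime P.asIdeal
  haveI : IsNoetherianRing C := IsLocalization.isNoetherianRing P.asIdeal.primeCompl C inferInstance
  have hdimC : ringKrullDim C = 1 := by
    rw [IsLocalization.AtPrime.ringKrullDim_eq_height P.asIdeal C, hP1]
    rfl
  haveI : Ring.KrullDimLE 1 C := Ring.krullDimLE_iff.2 hdimC.le
  have hCf : ¬ IsField C := fun h => by
    rw [ringKrullDim_eq_zero_of_isField h] at hdimC
    exact zero_ne_one hdimC
  letI : Algebra C K := (IsLocalization.lift (M := P.asIdeal.primeCompl) (S := C) (g := algebraMap R K) fun y => by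
    refine IsUnit.mk0 _ ((map_ne_zero_iff _ (IsFractionRing.injective R K)).2 fun h => y.2 ?_)
    rw [h]; exact P.asIdeal.zero_mem).toAlgebra
  haveI : IsScalarTower R C K := IsScalarTower.of_algebraMap_eq fun x => (IsLocalization.lift_eq _ x).symm
  haveI : IsFractionRing C K :=
    IsFractionRing.isFractionRing_of_isDomain_of_isLocalization P.asIdeal.primeCompl C K
  obtain ⟨V, _, _, _, _, _, _, _, _, hfin⟩ := exists_dvr_of_dim_one C hCf K
  obtain ⟨H, _, _, _, _, K', _, _, _, ι, _, f, -, hfi, hbij⟩ := exists_henselization_dvr V K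
  haveI : IsIntegralHom (Spec.map (CommRingCat.ofHom f)) := IsIntegralHom.SpecMap_iff.2 hfi
  have hK' := hK.of_isIntegralHom (Spec.map (CommRingCat.ofHom f))
  have hpH : IsUnit (p : H) := by
    have h := hp.map ((ι.comp (algebraMap C V)).comp (algebraMap R C))
    rwa [map_natCast] at h
  have hpK' : (p : K') ≠ 0 := by
    rw [← map_natCast (algebraMap H K')]
    exact (hpH.map _).ne_zero
  obtain ⟨d', rfl⟩ : ∃ d', d = d' + 1 := Nat.exists_eq_succ_of_ne_zero fun h0 =>
    not_kVanOn_zero p H K' hpK' (h0 ▸ hK')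
  have hκ := (kVanOn_iff_of_isUnit p H K' hpH d').2 hK'
  -- the residue field of `H` is finite over the fraction field of `R / P`
  letI : Algebra (R ⧸ P.asIdeal) (ResidueField C) := inferInstanceAs (Algebra (R ⧸ P.asIdeal) P.asIdeal.ResidueField)
  haveI : IsFractionRing (R ⧸ P.asIdeal) (ResidueField C) :=
    inferInstanceAs (IsFractionRing (R ⧸ P.asIdeal) P.asIdeal.ResidueField)
  haveI : IsLocalRing (R ⧸ P.asIdeal) := IsLocalRing.of_surjective' _ Ideal.Quotient.mk_surjective
  let τ : ResidueField C →+* ResidueField H := (ResidueField.map ι).comp (ResidueField.map (algebraMap C V))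
  have hτ : τ.Finite := (RingHom.Finite.of_surjective _ hbij.2).comp hfin
  obtain ⟨R', _, _, _, _, _, _, hdim, hpR'⟩ :=
    exists_local_extension p (R ⧸ P.asIdeal) (ResidueField C) (ResidueField H) τ hτ n hPn
  refine ⟨d', rfl, R', inferInstance, inferInstance, inferInstance, inferInstance, ResidueField H, inferInstance,
    inferInstance, inferInstance, hpR' ?_, hdim, hκ⟩
  have h := hp.map (Ideal.Quotient.mk P.asIdeal)
  rwa [map_natCast] at h

/-- **`dim R ≤ cd_p (Frac R)`** -/
theorem ringKrullDim_le_of_kVanOn : ∀ (d : ℕ) (R : Type u) [CommRing R] [IsDomain R] [IsNoetherianRing R]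
    [IsLocalRing R], IsUnit (p : R) → ∀ (K : Type u) [Field K] [Algebra R K] [IsFractionRing R K],
    KVanOn {p} (Spec (CommRingCat.of K)) d → ringKrullDim R ≤ d := by
  intro d
  induction d using Nat.strong_induction_on with
  | _ d ih =>
    intro R _ _ _ _ hp K _ _ _ hK
    obtain ⟨m, hm⟩ := exists_dim_fibre.exists_nat_ringKrullDim R
    cases m with
    | zero => rw [hm]; exact_mod_cast Nat.zero_le d
    | succ n =>
      obtain ⟨d', rfl, R', _, _, _, _, L, _, _, _, hp', hn', hL⟩ := exists_step p R hp K n hm hK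
      have h := hn'.trans (ih d' (Nat.lt_succ_self d') R' hp' L hL)
      rw [hm]
      have h' : n ≤ d' := by exact_mod_cast h
      exact_mod_cast Nat.succ_le_succ h'

end Groth.Agent.EtPBC
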