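import Groth.Agent.EtPBC.CdDimFun
import Groth.Agent.DvrDom.Scheme
import Groth.Agent.Hensel.Fibres
import Groth.Agent.Hensel.HenselizationNoeth
import Mathlib

/-!
# A point over a strict henselisation: the fields of the fibre
-/

set_option autoImplicit false
set_option backward.isDefEq.respectTransparency false
set_option backward.isDefEq.respectTransparency.types false
set_option linter.auxLemma false
set_option linter.style.haveILetI false
set_option linter.unusedSectionVars false
set_option maxHeartbeats 1000000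

universe u

open CategoryTheory CategoryTheory.Limits CategoryTheory.Abelian AlgebraicGeometry Opposite TensorProduct IsLocalRing

noncomputable section

namespace Groth.Agent.EtPBC

attribute [local instance 100000] EtCoh.H._proof_1 EtMV.hext
attribute [local instance 200000] EtMV.hextAb

/-- a residue field of a scheme as the target of a preimmersion -/
theorem kVanOn_residueField_preimmersion {L : Set ℕ} {Y X : Scheme.{u}} (f : Y ⟶ X) [IsPreimmersion f] (y : Y) {n : ℕ}
    (h : KVanOn L (Spec (X.residueField (f y))) n) : KVanOn L (Spec (Y.residueField y)) n := by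
  haveI : IsClosedImmersion (Spec.map (f.residueFieldMap y)) := IsClosedImmersion.spec_of_surjective _ fun c => by
    obtain ⟨c, rfl⟩ := Scheme.residue_surjective Y y c
    obtain ⟨d, rfl⟩ := f.stalkMap_surjective y c
    exact ⟨X.residue (f y) d, ConcreteCategory.congr_hom (Scheme.residue_residueFieldMap f y) d⟩
  exact h.of_isIntegralHom (Spec.map (f.residueFieldMap y))

/-- residue fields of affine schemes -/
theorem kVanOn_residueField_spec {L : Set ℕ} (R : Type u) [CommRing R] (P : Spec (CommRingCat.of R)) {n : ℕ}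
    (h : KVanOn L (Spec (CommRingCat.of (FractionRing (R ⧸ P.asIdeal)))) n) :
    KVanOn L (Spec ((Spec (CommRingCat.of R)).residueField P)) n := by
  let e : FractionRing (R ⧸ P.asIdeal) ≃ₐ[R ⧸ P.asIdeal] P.asIdeal.ResidueField := FractionRing.algEquiv _ _
  have h1 : KVanOn L (Spec (CommRingCat.of P.asIdeal.ResidueField)) n :=
    h.of_isIntegralHom (Scheme.Spec.mapIso e.toRingEquiv.toCommRingCatIso.op).hom
  exact h1.of_isIntegralHom (Scheme.Spec.mapIso (Scheme.Spec.residueFieldIso (CommRingCat.of R) P).op.symm).hom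

/-- strict henselisations have trivial fibres: primes over a prime `p` are minimal over `pR` -/
theorem minimalPrimes_of_unramifiedFibres {A R : Type u} [CommRing A] [CommRing R] [Algebra A R]
    (hu : Hensel.UnramifiedFibres A R) {p : Ideal A} {P : Ideal R} [P.IsPrime] (hP : P.comap (algebraMap A R) = p) :
    P ∈ (p.map (algebraMap A R)).minimalPrimes := by
  refine ⟨⟨inferInstance, Ideal.map_le_iff_le_comap.2 hP.ge⟩, fun Q ⟨hQp, hQ⟩ hQP => ?_⟩
  intro x hx
  obtain ⟨t, ht, htx⟩ := hu P inferInstance x hx
  rw [hP] at htx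
  exact (hQp.mem_or_mem (hQ htx)).resolve_left fun h => ht (hQP h)

/-- **points over strict henselisations have the cohomological dimension of the fields of the fibre** -/
theorem kVanOn_ptFibre {L : Set ℕ} {X : Scheme.{u}} [IsLocallyNoetherian X] {x y : X} (hxy : x ⤳ y) (R : Type u)
    [CommRing R] [IsLocalRing R] [Algebra (X.presheaf.stalk y) R] [IsLocalHom (algebraMap (X.presheaf.stalk y) R)]
    [_root_.Hensel.IsStrictHenselization (X.presheaf.stalk y) R] {d : ℕ}
    (hd : ∀ P ∈ ((RingHom.ker (Cyc.specMap y x hxy)).map (algebraMap (X.presheaf.stalk y) R)).minimalPrimes,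
      KVanOn L (Spec (CommRingCat.of (FractionRing (R ⧸ P)))) d) :
    KVanOn L (ptFibre x y R) d := by
  let A := X.presheaf.stalk y
  let h : A ⟶ X.residueField x := X.presheaf.stalkSpecializes hxy ≫ X.residue x
  letI : Algebra A (X.residueField x) := h.hom.toAlgebra
  haveI : IsNoetherianRing R := (Hensel.strictHenselization_isNoetherianRing_iff (R := A) (S := R)).1 inferInstance
  haveI : Algebra.EssFiniteType A (X.residueField x) := by
    refine RingHom.essFiniteType_algebraMap.1 ?_
    show h.hom.EssFiniteType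
    exact RingHom.EssFiniteType.comp (DvrDom.essFiniteType_stalkSpecializes hxy)
      (RingHom.FiniteType.of_surjective _ (Scheme.residue_surjective X x)).essFiniteType
  let B := (X.residueField x) ⊗[A] R
  haveI : IsNoetherianRing B := by
    haveI : IsNoetherianRing (R ⊗[A] X.residueField x) := Algebra.EssFiniteType.isNoetherianRing R _
    exact isNoetherianRing_of_ringEquiv _ (Algebra.TensorProduct.comm A R (X.residueField x)).toRingEquiv
  let a := Spec.map h
  let b := Spec.map (CommRingCat.ofHom (algebraMap A R))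
  have hj : a ≫ X.fromSpecStalk y = X.fromSpecResidueField x := by
    show Spec.map (X.presheaf.stalkSpecializes hxy ≫ X.residue x) ≫ _ = _
    rw [Spec.map_comp, Category.assoc, Scheme.SpecMap_stalkSpecializes_fromSpecStalk]
    rfl
  have hs : b ≫ X.fromSpecStalk y = Hens2.specOf X y R := rfl
  let c : ptFibre x y R ⟶ pullback a b :=
    pullback.lift (pullback.fst _ _) (pullback.snd _ _) (by
      rw [← cancel_mono (X.fromSpecStalk y), Category.assoc, Category.assoc, hj, hs, pullback.condition])
  haveI : IsIso c := ⟨pullback.lift (pullback.fst _ _) (pullback.snd _ _)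
      (by rw [← hj, ← hs, ← Category.assoc, ← Category.assoc, pullback.condition]),
    pullback.hom_ext (by simp [c]) (by simp [c]), pullback.hom_ext (by simp [c]) (by simp [c])⟩
  haveI : IsPreimmersion (a ≫ X.fromSpecStalk y) := hj ▸ inferInstance
  haveI : IsPreimmersion a := IsPreimmersion.of_comp a (X.fromSpecStalk y)
  let g : Spec (CommRingCat.of B) ⟶ Spec (CommRingCat.of R) := (pullbackSpecIso A (X.residueField x) R).inv ≫ pullback.snd a b
  haveI : IsPreimmersion (pullback.snd a b) := inferInstance
  haveI : IsPreimmersion g := inferInstance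
  have hg : ∀ w, (g w).asIdeal.comap (algebraMap A R) = RingHom.ker (Cyc.specMap y x hxy) := fun w => by
    have h1 : g ≫ b = ((pullbackSpecIso A (X.residueField x) R).inv ≫ pullback.fst a b) ≫ a := by
      simp only [g, Category.assoc, pullback.condition]
    have h2 := congrArg (fun m => (m w).asIdeal) h1
    simp only [Scheme.Hom.comp_apply] at h2
    refine h2.trans ?_
    show ((((pullbackSpecIso A (X.residueField x) R).inv ≫ pullback.fst a b) w).asIdeal).comap h.hom = _
    rw [show (((pullbackSpecIso A (X.residueField x) R).inv ≫ pullback.fst a b) w).asIdeal = ⊥ from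
      Ideal.eq_bot_of_prime _]
    rfl
  have hmin : ∀ w, (g w).asIdeal ∈
      ((RingHom.ker (Cyc.specMap y x hxy)).map (algebraMap A R)).minimalPrimes := fun w =>
    minimalPrimes_of_unramifiedFibres (Hensel.strictHenselization_unramifiedFibres A R) (hg w)
  have hdim : DimFun (X := Spec (CommRingCat.of B)) L (fun _ => d) :=
    ⟨fun w => kVanOn_residueField_preimmersion g w (kVanOn_residueField_spec R _ (hd _ (hmin w))),
      fun w v hwv hne => absurd (g.isEmbedding.injective (PrimeSpectrum.ext (le_antisymm
        ((PrimeSpectrum.le_iff_specializes _ _).2 (hwv.map g.continuous))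
        ((hmin v).2 (hmin w).1 ((PrimeSpectrum.le_iff_specializes _ _).2 (hwv.map g.continuous)))))) hne⟩
  have hB : KVanOn L (Spec (CommRingCat.of B)) d := fun m hm F hF q hq =>
    smallVan hdim hm q q le_rfl F hF (fun _ hn => absurd hq hn) q le_rfl
  exact hB.of_isIntegralHom (c ≫ (pullbackSpecIso A (X.residueField x) R).hom)

/-- dimension functions from the fields of the fibres -/
theorem dimFun_of_fields {L : Set ℕ} {X : Scheme.{u}} [IsLocallyNoetherian X] {φ : X → ℕ}
    (h1 : ∀ x : X, KVanOn L (Spec (X.residueField x)) (φ x))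
    (h2 : ∀ (x y : X) (hxy : x ⤳ y), x ≠ y → ∀ (R : Type u) [CommRing R] [IsLocalRing R]
      [Algebra (X.presheaf.stalk y) R] [IsLocalHom (algebraMap (X.presheaf.stalk y) R)]
      [_root_.Hensel.IsStrictHenselization (X.presheaf.stalk y) R],
      ∀ P ∈ ((RingHom.ker (Cyc.specMap y x hxy)).map (algebraMap (X.presheaf.stalk y) R)).minimalPrimes,
        ∃ d : ℕ, d + 1 + φ y ≤ φ x ∧ KVanOn L (Spec (CommRingCat.of (FractionRing (R ⧸ P)))) d) :
    DimFun L φ := by
  refine ⟨h1, fun x y hxy hne R => ?_⟩
  intros
  let I := (RingHom.ker (Cyc.specMap y x hxy)).map (algebraMap (X.presheaf.stalk y) R)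
  have hI : I ≠ ⊤ := fun h => by
    have h2' : I ≤ maximalIdeal R :=
      (Ideal.map_mono (le_maximalIdeal (RingHom.ker_ne_top _))).trans
        (((local_hom_TFAE (algebraMap (X.presheaf.stalk y) R)).out 0 2).1 ‹_›)
    exact (maximalIdeal.isMaximal R).ne_top (top_le_iff.1 (h ▸ h2'))
  obtain ⟨M, hM, hIM⟩ := Ideal.exists_le_maximal I hI
  obtain ⟨P, hP, -⟩ := Ideal.exists_minimalPrimes_le hIM
  obtain ⟨d₀, hd₀, -⟩ := h2 x y hxy hne R P hP
  refine ⟨φ x - φ y - 1, by omega, kVanOn_ptFibre hxy R fun Q hQ => ?_⟩
  obtain ⟨d, hd, hk⟩ := h2 x y hxy hne R Q hQ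
  exact hk.mono (by omega)

/-- dimension functions from the fields of the fibres, primary torsion -/
theorem dimFun_of_cohDimLEAt {ℓ : ℕ} [Fact ℓ.Prime] {X : Scheme.{u}} [IsLocallyNoetherian X] {φ : X → ℕ}
    (h1 : ∀ x : X, Dix.CohDimLEAt (Spec (X.residueField x)) ℓ (φ x))
    (h2 : ∀ (x y : X) (hxy : x ⤳ y), x ≠ y → ∀ (R : Type u) [CommRing R] [IsLocalRing R]
      [Algebra (X.presheaf.stalk y) R] [IsLocalHom (algebraMap (X.presheaf.stalk y) R)]
      [_root_.Hensel.IsStrictHenselization (X.presheaf.stalk y) R],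
      ∀ P ∈ ((RingHom.ker (Cyc.specMap y x hxy)).map (algebraMap (X.presheaf.stalk y) R)).minimalPrimes,
        ∃ d : ℕ, d + 1 + φ y ≤ φ x ∧ Dix.CohDimLEAt (Spec (CommRingCat.of (FractionRing (R ⧸ P)))) ℓ d) :
    DimFun {ℓ} φ :=
  dimFun_of_fields (fun x => kVanOn_of_cohDimLEAt (h1 x)) fun x y hxy hne R _ _ _ _ _ P hP =>
    let ⟨d, hd, hk⟩ := h2 x y hxy hne R P hP; ⟨d, hd, kVanOn_of_cohDimLEAt hk⟩

end Groth.Agent.EtPBC
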