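import Groth.Agent.EtPBC.CdSerreTwo
import Groth.Agent.EtPBC.HensDvrLower
import Groth.Agent.EtPBC.CdFibre

/-!
# Serre's theorem: `cd_p` of a field is that of its finite extensions

for `p` different from the characteristic, assuming `-1` is a sum of squares when `p = 2`.
-/

set_option autoImplicit false
set_option backward.isDefEq.respectTransparency false
set_option backward.isDefEq.respectTransparency.types false
set_option linter.auxLemma false
set_option linter.style.haveILetI false
set_option linter.unusedSectionVars false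

universe u

open CategoryTheory CategoryTheory.Limits CategoryTheory.Abelian AlgebraicGeometry Opposite Polynomial
open Groth.Agent.GalCohLib (pt ptMap)

noncomputable section

namespace Groth.Agent.EtPBC

attribute [local instance 100000] EtCoh.H._proof_1 EtMV.hext
attribute [local instance 200000] EtMV.hextAb

variable (p : ℕ) [hpp : Fact p.Prime] (d : ℕ)

/-- the bound descends along separable extensions of degree prime to `p` -/
theorem kVanOn_of_finrank_coprime (k : Type u) [Field k] (M : Type u) [Field M] [Algebra k M]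
    [FiniteDimensional k M] [Algebra.IsSeparable k M] (hdeg : ¬ p ∣ Module.finrank k M)
    (h : KVanOn {p} (Spec (CommRingCat.of M)) d) : KVanOn {p} (Spec (CommRingCat.of k)) d := by
  intro m hm G hG q hq
  let X := Spec (CommRingCat.of k)
  let h' := Spec.map (CommRingCat.ofHom (algebraMap k M))
  haveI : Etale h' := GalCohLib.etale_spec k M
  haveI := Groth.Agent.EtPullExact.pull_preservesFiniteLimits h'
  haveI := EtMV.jcont_etale h'
  haveI := h m hm ((EtCoh.pull h').obj G) (killed_pull h' hG) q hq
  refine subsingleton_of_forall_eq 0 fun x => ?_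
  let c := (EtMV.eX X G q).symm x
  have hp0 : m • c = 0 := by
    rw [← map_nsmul, nsmul_eq_zero_of_killed G m hG q x, map_zero]
  have hcK : (Ext.mk₀ ((EtMV.P X).map (EtMV.toTop (pt k M)))).comp c (zero_add q) = 0 :=
    (EtMV.Φe h' G q).map_eq_zero_iff.mp (@Subsingleton.elim (EtCoh.H _ ((EtCoh.pull h').obj G) q) _ _ _)
  have hd := GalCohLib.finrank_nsmul_eq_zero k M G q c hcK
  have e : m = p ^ m.primeFactorsList.length := Nat.eq_prime_pow_of_unique_prime_dvd hm.1.ne'
    fun hp hd => Set.mem_singleton_iff.1 (hm.2 _ hp hd)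
  have hcop : Nat.Coprime m (Module.finrank k M) := by
    rw [e]
    exact Nat.Coprime.pow_left _ ((hpp.out.coprime_iff_not_dvd).mpr hdeg)
  have h1 : addOrderOf c ∣ 1 := by
    rw [← hcop.gcd_eq_one]
    exact Nat.dvd_gcd (addOrderOf_dvd_of_nsmul_eq_zero hp0) (addOrderOf_dvd_of_nsmul_eq_zero hd)
  exact (EtMV.eX X G q).symm.map_eq_zero_iff.mp
    (AddMonoid.addOrderOf_eq_one_iff.mp (Nat.eq_one_of_dvd_one h1))

/-- Galois extensions of `p`-power degree -/
theorem kVanOn_of_pGroup : ∀ (n : ℕ) (k : Type u) [Field k], (p : k) ≠ 0 → (p = 2 → IsSumSq (-1 : k)) →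
    ∀ ζ : k, IsPrimitiveRoot ζ p → ∀ (L : Type u) [Field L] [Algebra k L] [FiniteDimensional k L] [IsGalois k L],
      Module.finrank k L = n → IsPGroup p (L ≃ₐ[k] L) → KVanOn {p} (Spec (CommRingCat.of L)) d →
      KVanOn {p} (Spec (CommRingCat.of k)) d := by
  intro n
  induction n using Nat.strong_induction_on with
  | _ n ih =>
    intro k _ hpk hsq ζ hζ L _ _ _ _ hn hP h
    obtain ⟨a, ha⟩ := IsPGroup.iff_card.1 hP
    rw [IsGalois.card_aut_eq_finrank] at ha
    cases a with
    | zero =>
      have hb : Function.Bijective (algebraMap k L) := by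
        rw [pow_zero] at ha
        refine ⟨(algebraMap k L).injective, fun y => ?_⟩
        have := (Subalgebra.bot_eq_top_of_finrank_eq_one ha).symm ▸ Algebra.mem_top (R := k) (x := y)
        exact Algebra.mem_bot.1 this
      exact kVanOn_of_algHom p d k L k (AlgEquiv.ofBijective (Algebra.ofId k L) hb).symm.toAlgHom h
    | succ a =>
      obtain ⟨H, hH⟩ := Sylow.exists_subgroup_card_pow_prime (G := L ≃ₐ[k] L) p (n := a) (by
        rw [IsGalois.card_aut_eq_finrank, ha]
        exact pow_dvd_pow p (Nat.le_succ a))
      have hidx : H.index = p := by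
        have h1 := H.card_mul_index
        rw [hH, IsGalois.card_aut_eq_finrank, ha, pow_succ] at h1
        exact Nat.eq_of_mul_eq_mul_left (pow_pos hpp.out.pos a) h1
      haveI : H.Normal := Subgroup.normal_of_index_eq_minFac_card (by
        rw [hidx, IsGalois.card_aut_eq_finrank, ha, Nat.pow_minFac a.succ_ne_zero, hpp.out.minFac_eq])
      let F := IntermediateField.fixedField H
      haveI : IsGalois k F := IsGalois.of_fixedField_normal_subgroup H
      haveI : IsGalois F L := IsGalois.tower_top_of_isGalois k F L
      have hFL : Module.finrank F L = p ^ a := by rw [IntermediateField.finrank_fixedField_eq_card, hH]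
      have hkF : Module.finrank k F = p := by
        rw [IntermediateField.finrank_eq_fixingSubgroup_index (F := k) (E' := L) F,
          IntermediateField.fixingSubgroup_fixedField, hidx]
      have hF : KVanOn {p} (Spec (CommRingCat.of F)) d := by
        refine ih (p ^ a) ?_ F ?_ (fun h2 => ?_) (algebraMap k F ζ) (hζ.map_of_injective (algebraMap k F).injective)
          L hFL ?_ h
        · rw [← hn, ha]
          exact pow_lt_pow_right₀ hpp.out.one_lt (Nat.lt_succ_self a)
        · rw [← map_natCast (algebraMap k F)]
          exact (_root_.map_ne_zero _).2 hpk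
        · have h0 : ∀ z : k, IsSumSq z → IsSumSq (algebraMap k F z) := fun z hz => by
            induction hz with
            | zero => rw [map_zero]; exact IsSumSq.zero
            | sq_add b _ ih' => rw [map_add, map_mul]; exact IsSumSq.sq_add _ ih'
          have h1 := h0 _ (hsq h2)
          rwa [map_neg, map_one] at h1
        · exact IsPGroup.of_card (n := a) (by rw [IsGalois.card_aut_eq_finrank, hFL])
      by_cases hp2 : p = 2
      · subst hp2
        exact kVanOn_step_two d k (by exact_mod_cast hpk) (hsq rfl) F hkF hF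
      · exact kVanOn_step_odd p d hp2 k hpk F hkF ζ hζ hF

/-- **Serre's theorem**, separable extensions -/
theorem kVanOn_of_finite_separable (k k' : Type u) [Field k] [Field k'] [Algebra k k'] [FiniteDimensional k k']
    [Algebra.IsSeparable k k'] (hpk : (p : k) ≠ 0) (hsq : p = 2 → IsSumSq (-1 : k))
    (h : KVanOn {p} (Spec (CommRingCat.of k')) d) : KVanOn {p} (Spec (CommRingCat.of k)) d := by
  have hp := hpp.out
  obtain ⟨M, _, _, _, _, z, hz, -⟩ := exists_root_extension p k' (by
    rw [← map_natCast (algebraMap k k')]; exact (_root_.map_ne_zero _).2 hpk)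
  letI : Algebra k M := ((algebraMap k' M).comp (algebraMap k k')).toAlgebra
  haveI : IsScalarTower k k' M := IsScalarTower.of_algebraMap_eq fun _ => rfl
  haveI : FiniteDimensional k M := FiniteDimensional.trans k k' M
  haveI : Algebra.IsSeparable k M := Algebra.IsSeparable.trans k k' M
  let Ω := SeparableClosure k
  let L := IntermediateField.normalClosure k M Ω
  haveI : IsGalois k L := IsGalois.normalClosure k M Ω
  let e : M →ₐ[k] Ω := IsSepClosed.lift
  let eL : M →ₐ[k] L := AlgHom.codRestrict e L.toSubalgebra fun x => e.fieldRange_le_normalClosure ⟨x, rfl⟩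
  have hL : KVanOn {p} (Spec (CommRingCat.of L)) d :=
    kVanOn_of_algHom p d k k' L (eL.comp (IsScalarTower.toAlgHom k k' M)) h
  obtain ⟨S⟩ : Nonempty (Sylow p (L ≃ₐ[k] L)) := inferInstance
  let k0 := IntermediateField.fixedField (S : Subgroup (L ≃ₐ[k] L))
  haveI : Algebra.IsSeparable k k0 := Algebra.isSeparable_tower_bot_of_isSeparable k k0 L
  haveI : IsGalois k0 L := IsGalois.tower_top_of_isGalois k k0 L
  have hP : IsPGroup p (L ≃ₐ[k0] L) := by
    refine IsPGroup.of_equiv ?_ (IntermediateField.fixingSubgroupEquiv k0)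
    rw [IntermediateField.fixingSubgroup_fixedField]
    exact S.isPGroup'
  have hdeg : ¬ p ∣ Module.finrank k k0 := by
    have h0 := IntermediateField.finrank_eq_fixingSubgroup_index (F := k) (E' := L) k0
    rw [IntermediateField.fixingSubgroup_fixedField] at h0
    intro hd
    exact S.not_dvd_index (h0 ▸ hd)
  have hzL : IsPrimitiveRoot (eL z) p := hz.map_of_injective eL.toRingHom.injective
  have hint : IsIntegral k0 (eL z) := Algebra.IsIntegral.isIntegral _
  have h1 : (IntermediateField.adjoin k0 ({eL z} : Set L)) = ⊥ := by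
    rw [← IntermediateField.finrank_eq_one_iff]
    obtain ⟨a, ha⟩ := IsPGroup.iff_card.1 hP
    rw [IsGalois.card_aut_eq_finrank, ← Module.finrank_mul_finrank k0 (IntermediateField.adjoin k0 ({eL z} : Set L)) L]
      at ha
    obtain ⟨i, -, hi⟩ := (Nat.dvd_prime_pow hp).1 (Dvd.intro _ ha)
    rw [hi]
    cases i with
    | zero => rfl
    | succ i =>
      exfalso
      have h2 : Module.finrank k0 (IntermediateField.adjoin k0 ({eL z} : Set L)) ≤ p - 1 := by
        rw [IntermediateField.adjoin.finrank hint]
        have hr : Polynomial.aeval (eL z) (Polynomial.cyclotomic p k0) = 0 := by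
          rw [Polynomial.aeval_def, ← Polynomial.eval_map, Polynomial.map_cyclotomic]
          exact hzL.isRoot_cyclotomic hp.pos
        refine (Polynomial.natDegree_le_of_dvd (minpoly.dvd k0 (eL z) hr) (Polynomial.cyclotomic_ne_zero p k0)).trans ?_
        rw [Polynomial.natDegree_cyclotomic, Nat.totient_prime hp]
      rw [hi] at h2
      have : p ≤ p ^ (i + 1) := Nat.le_self_pow (Nat.succ_ne_zero i) p
      have := hp.two_le
      omega
  obtain ⟨ζ, hζ⟩ := IntermediateField.mem_bot.1 (h1 ▸ IntermediateField.mem_adjoin_simple_self k0 (eL z))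
  refine kVanOn_of_finrank_coprime p d k k0 hdeg ?_
  refine kVanOn_of_pGroup p d _ k0 ?_ (fun h2 => ?_) ζ ?_ L rfl hP hL
  · rw [← map_natCast (algebraMap k k0)]; exact (_root_.map_ne_zero _).2 hpk
  · have h0 : ∀ z : k, IsSumSq z → IsSumSq (algebraMap k k0 z) := fun z hz => by
      induction hz with
      | zero => rw [map_zero]; exact IsSumSq.zero
      | sq_add b _ ih' => rw [map_add, map_mul]; exact IsSumSq.sq_add _ ih'
    have h3 := h0 _ (hsq h2)
    rwa [map_neg, map_one] at h3
  · exact IsPrimitiveRoot.of_map_of_injective (f := algebraMap k0 L) (hζ.symm ▸ hzL) (algebraMap k0 L).injective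

/-- **Serre's theorem** -/
theorem kVanOn_of_finite (k k' : Type u) [Field k] [Field k'] [Algebra k k'] [FiniteDimensional k k']
    (hpk : (p : k) ≠ 0) (hsq : p = 2 → IsSumSq (-1 : k))
    (h : KVanOn {p} (Spec (CommRingCat.of k')) d) : KVanOn {p} (Spec (CommRingCat.of k)) d := by
  refine kVanOn_of_finite_separable p d k (separableClosure k k') hpk hsq ?_
  exact kVanOn_of_cohDimLEAt (cohDimLEAt_of_isPurelyInseparable (separableClosure k k') k'
    (cohDimLEAt_of_kVanOn h))

/-- Serre's theorem for fields without orderings -/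
theorem kVanOn_of_finite_of_not_orderable (k k' : Type u) [Field k] [Field k'] [Algebra k k']
    [FiniteDimensional k k'] (hpk : (p : k) ≠ 0)
    (hord : p ≠ 2 ∨ ¬ ∃ _ : LinearOrder k, IsStrictOrderedRing k)
    (h : KVanOn {p} (Spec (CommRingCat.of k')) d) : KVanOn {p} (Spec (CommRingCat.of k)) d := by
  refine kVanOn_of_finite p d k k' hpk (fun h2 => ?_) h
  by_contra hns
  exact hord.elim (fun h0 => h0 h2) (fun h0 => h0 (exists_ordering_of_not_isSumSq k hns))

end Groth.Agent.EtPBC
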