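import Groth.Agent.EtPBC.CdDimLower
import Groth.Agent.EtPBC.CdSerre

/-!
# `cd_p κ + dim R ≤ cd_p (Frac R)` for Noetherian local domains
-/

set_option autoImplicit false
set_option backward.isDefEq.respectTransparency false
set_option linter.style.haveILetI false
set_option linter.unusedSectionVars false

universe u

open CategoryTheory CategoryTheory.Limits AlgebraicGeometry Opposite IsLocalRing

noncomputable section

namespace Groth.Agent.EtPBC

variable (p : ℕ) [hpp : Fact p.Prime]

/-- one step down, keeping the fraction field of a height one quotient -/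
theorem exists_step_quotient (R : Type u) [CommRing R] [IsDomain R] [IsNoetherianRing R] [IsLocalRing R]
    (hp : IsUnit (p : R))
    (hord : p ≠ 2 ∨ ∀ (F : Type u) [Field F] (_ : R →+* F), ¬ ∃ _ : LinearOrder F, IsStrictOrderedRing F)
    (K : Type u) [Field K] [Algebra R K] [IsFractionRing R K] (n : ℕ) (hn : ringKrullDim R = (n + 1 : ℕ)) {d : ℕ}
    (hK : KVanOn {p} (Spec (CommRingCat.of K)) d) :
    ∃ (P : Ideal R) (_ : P.IsPrime) (d' : ℕ), d = d' + 1 ∧ ringKrullDim (R ⧸ P) = n ∧
      KVanOn {p} (Spec (CommRingCat.of P.ResidueField)) d' := by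
  obtain ⟨P, hP1, hPn⟩ := exists_height_one R n hn
  let C := Localization.AtPrime P.asIdeal
  haveI : IsNoetherianRing C := IsLocalization.isNoetherianRing P.asIdeal.primeCompl C inferInstance
  have hdimC : ringKrullDim C = 1 := by
    rw [IsLocalization.AtPrime.ringKrullDim_eq_height P.asIdeal C, hP1]
    rfl
  haveI : Ring.KrullDimLE 1 C := Ring.krullDimLE_iff.2 hdimC.le
  have hCf : ¬ IsField C := fun h => by
    rw [ringKrullDim_eq_zero_of_isField h] at hdimC
    exact zero_ne_one hdimC
  letI : Algebra C K := (IsLocalization.lift (M := P.asIdeal.primeCompl) (S := C) (g := algebraMap R K) fun y => by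
    refine IsUnit.mk0 _ ((map_ne_zero_iff _ (IsFractionRing.injective R K)).2 fun h => y.2 ?_)
    rw [h]; exact P.asIdeal.zero_mem).toAlgebra
  haveI : IsScalarTower R C K := IsScalarTower.of_algebraMap_eq fun x => (IsLocalization.lift_eq _ x).symm
  haveI : IsFractionRing C K :=
    IsFractionRing.isFractionRing_of_isDomain_of_isLocalization P.asIdeal.primeCompl C K
  obtain ⟨V, _, _, _, _, _, _, _, _, hfin⟩ := exists_dvr_of_dim_one C hCf K
  obtain ⟨H, _, _, _, _, K', _, _, _, ι, _, f, -, hfi, hbij⟩ := exists_henselization_dvr V K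
  haveI : IsIntegralHom (Spec.map (CommRingCat.ofHom f)) := IsIntegralHom.SpecMap_iff.2 hfi
  have hK' := hK.of_isIntegralHom (Spec.map (CommRingCat.ofHom f))
  have hpH : IsUnit (p : H) := by
    have h := hp.map ((ι.comp (algebraMap C V)).comp (algebraMap R C))
    rwa [map_natCast] at h
  have hpK' : (p : K') ≠ 0 := by
    rw [← map_natCast (algebraMap H K')]
    exact (hpH.map _).ne_zero
  obtain ⟨d', rfl⟩ : ∃ d', d = d' + 1 := Nat.exists_eq_succ_of_ne_zero fun h0 =>
    not_kVanOn_zero p H K' hpK' (h0 ▸ hK')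
  have hκ := (kVanOn_iff_of_isUnit p H K' hpH d').2 hK'
  let τ : ResidueField C →+* ResidueField H := (ResidueField.map ι).comp (ResidueField.map (algebraMap C V))
  have hτ : τ.Finite := (RingHom.Finite.of_surjective _ hbij.2).comp hfin
  letI : Algebra (ResidueField C) (ResidueField H) := τ.toAlgebra
  haveI : FiniteDimensional (ResidueField C) (ResidueField H) := hτ
  have hpC : (p : ResidueField C) ≠ 0 := by
    rw [← map_natCast ((residue C).comp (algebraMap R C))]
    exact (hp.map _).ne_zero
  refine ⟨P.asIdeal, inferInstance, d', rfl, le_antisymm ?_ hPn, kVanOn_of_finite_of_not_orderable p d'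
    (ResidueField C) (ResidueField H) hpC (hord.imp_right fun h => h _ ((residue C).comp (algebraMap R C))) hκ⟩
  have h1 : ringKrullDim (R ⧸ P.asIdeal) + 1 ≤ ringKrullDim R := by
    have h2 := height_add_ringKrullDim_quotient_le P
    rw [hP1] at h2
    rw [add_comm]
    exact_mod_cast h2
  haveI : IsLocalRing (R ⧸ P.asIdeal) := IsLocalRing.of_surjective' _ Ideal.Quotient.mk_surjective
  obtain ⟨e, he⟩ := exists_dim_fibre.exists_nat_ringKrullDim (R ⧸ P.asIdeal)
  rw [he, hn] at h1
  rw [he]
  exact_mod_cast (Nat.le_of_succ_le_succ (by exact_mod_cast h1 : e + 1 ≤ n + 1))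

/-- **`cd_p κ + dim R ≤ cd_p (Frac R)`** -/
theorem kVanOn_residueField_of_kVanOn : ∀ (m : ℕ) (R : Type u) [CommRing R] [IsDomain R] [IsNoetherianRing R]
    [IsLocalRing R], IsUnit (p : R) →
    (p ≠ 2 ∨ ∀ (F : Type u) [Field F] (_ : R →+* F), ¬ ∃ _ : LinearOrder F, IsStrictOrderedRing F) →
    ringKrullDim R = m → ∀ (K : Type u) [Field K] [Algebra R K] [IsFractionRing R K] (d : ℕ),
    KVanOn {p} (Spec (CommRingCat.of K)) d →
    KVanOn {p} (Spec (CommRingCat.of (ResidueField R))) (d - m) := by
  intro m
  induction m with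
  | zero =>
    intro R _ _ _ _ hp hord hm K _ _ _ d hK
    haveI : Ring.KrullDimLE 0 R := Ring.krullDimLE_iff.2 hm.le
    have hF : IsField R := Ring.KrullDimLE.isField_of_isDomain
    letI := hF.toField
    let g : K →+* ResidueField R :=
      IsFractionRing.lift (K := K) (g := residue R) (residue R).injective
    have hg : g.IsIntegral := RingHom.isIntegral_of_surjective _ fun y => by
      obtain ⟨y, rfl⟩ := residue_surjective y
      exact ⟨algebraMap R K y, IsFractionRing.lift_algebraMap _ y⟩
    haveI : IsIntegralHom (Spec.map (CommRingCat.ofHom g)) := IsIntegralHom.SpecMap_iff.2 hg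
    simpa using hK.of_isIntegralHom (Spec.map (CommRingCat.ofHom g))
  | succ n ih =>
    intro R _ _ _ _ hp hord hm K _ _ _ d hK
    obtain ⟨P, _, d', rfl, hdim, hκ⟩ := exists_step_quotient p R hp hord K n hm hK
    haveI : IsLocalRing (R ⧸ P) := IsLocalRing.of_surjective' _ Ideal.Quotient.mk_surjective
    haveI : IsLocalHom (Ideal.Quotient.mk P) := IsLocalHom.of_surjective _ Ideal.Quotient.mk_surjective
    have h1 := ih (R ⧸ P) (by simpa using hp.map (Ideal.Quotient.mk P))
      (hord.imp_right fun h F _ g => h F (g.comp (Ideal.Quotient.mk P))) hdim P.ResidueField d' hκ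
    let f := ResidueField.map (Ideal.Quotient.mk P)
    have hf : Function.Bijective f := ⟨f.injective, fun y => by
      obtain ⟨y, rfl⟩ := residue_surjective y
      obtain ⟨a, rfl⟩ := Ideal.Quotient.mk_surjective y
      exact ⟨residue R a, rfl⟩⟩
    rw [Nat.add_sub_add_right]
    exact h1.of_isIntegralHom (Scheme.Spec.mapIso (RingEquiv.ofBijective f hf).toCommRingCatIso.op).inv

end Groth.Agent.EtPBC
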