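import Groth.Agent.EtPBC.ShDim
import Groth.Agent.EtPBC.AffineLefRel
import Groth.Agent.EtPBC.CdDimLoc
import Mathlib

/-!
# Affine Lefschetz over strict localisations of algebraic schemes
-/

set_option autoImplicit false
set_option backward.isDefEq.respectTransparency false
set_option backward.isDefEq.respectTransparency.types false
set_option linter.auxLemma false
set_option linter.style.haveILetI false
set_option linter.unusedSectionVars false
set_option maxHeartbeats 1000000

universe u

open CategoryTheory CategoryTheory.Limits CategoryTheory.Abelian AlgebraicGeometry Opposite TopologicalSpace IsLocalRing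

noncomputable section

namespace Groth.Agent.EtPBC

attribute [local instance 100000] EtCoh.H._proof_1 EtMV.hext
attribute [local instance 200000] EtMV.hextAb

/-- transcendence degrees of residue fields of affine schemes -/
theorem trdg_kStr_spec {k : Type u} [Field k] (B : Type u) [CommRing B] [Algebra k B] (y : Spec (CommRingCat.of B)) :
    trdg (kStr (Spec.map (CommRingCat.ofHom (algebraMap k B))) y) = Algebra.trdeg k (B ⧸ y.asIdeal) := by
  let P := y.asIdeal
  have e : kStr (Spec.map (CommRingCat.ofHom (algebraMap k B))) y =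
      ((Scheme.Spec.residueFieldIso (CommRingCat.of B) y).inv).hom.comp (algebraMap k P.ResidueField) := by
    have hh : CommRingCat.ofHom (kStr (Spec.map (CommRingCat.ofHom (algebraMap k B))) y) =
        CommRingCat.ofHom (algebraMap k P.ResidueField) ≫ (Scheme.Spec.residueFieldIso (CommRingCat.of B) y).inv := by
      apply Spec.map_injective
      rw [kStr_spec, Spec.map_comp, ← Scheme.Spec.map_residueFieldIso_inv_eq_fromSpecResidueField, Category.assoc,
        ← Spec.map_comp (f := CommRingCat.ofHom (algebraMap k B))]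
      rfl
    exact congrArg CommRingCat.Hom.hom hh
  rw [e, trdg_comp_integral_right _ _ (RingHom.isIntegral_of_surjective _
    (ConcreteCategory.bijective_of_isIso (Scheme.Spec.residueFieldIso (CommRingCat.of B) y).inv).2)]
  show @Algebra.trdeg k P.ResidueField _ _ (algebraMap k P.ResidueField).toAlgebra = _
  rw [show (algebraMap k P.ResidueField).toAlgebra = (inferInstance : Algebra k P.ResidueField) from
    Algebra.algebra_ext _ _ fun _ => rfl]
  haveI : FaithfulSMul (B ⧸ P) P.ResidueField :=
    (faithfulSMul_iff_algebraMap_injective _ _).2 (IsFractionRing.injective _ _)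
  haveI : FaithfulSMul k (B ⧸ P) :=
    (faithfulSMul_iff_algebraMap_injective _ _).2 (algebraMap k (B ⧸ P)).injective
  haveI : Algebra.IsAlgebraic (B ⧸ P) P.ResidueField := IsLocalization.isAlgebraic _ (nonZeroDivisors (B ⧸ P))
  rw [← trdeg_add_eq k (B ⧸ P) (A := P.ResidueField), trdeg_eq_zero (R := B ⧸ P) (A := P.ResidueField), add_zero]

/-- independent functions at a point -/
theorem exists_indep_eq {k : Type u} [Field k] (B : Type u) [CommRing B] [Algebra k B] [Algebra.FiniteType k B]
    (y : Spec (CommRingCat.of B)) {r : ℕ} (hr : trdg (kStr (Spec.map (CommRingCat.ofHom (algebraMap k B))) y) = r) :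
    ∃ b : Fin r → B, AlgebraicIndependent k (fun i => Ideal.Quotient.mk y.asIdeal (b i)) := by
  cases r with
  | zero =>
    exact ⟨Fin.elim0, algebraicIndependent_empty_type_iff.2 (algebraMap k (B ⧸ y.asIdeal)).injective⟩
  | succ j =>
    refine exists_indep B y fun h => ?_
    unfold ResDim at h
    rw [hr, Nat.cast_le] at h
    omega

variable (K : Type u) [Field K] (B : Type u) [CommRing B] [Algebra K B] [Algebra.FiniteType K B]

local notation "YB" => Spec (CommRingCat.of B)
local notation "cB" => Spec.map (CommRingCat.ofHom (algebraMap K B))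

/-- points of schemes over a strict localisation -/
theorem trdg_over_sh (y : YB) (R : Type u) [CommRing R] [IsLocalRing R] [Algebra ((YB).presheaf.stalk y) R]
    [IsLocalHom (algebraMap ((YB).presheaf.stalk y) R)] [_root_.Hensel.IsStrictHenselization ((YB).presheaf.stalk y) R]
    {X : Scheme.{u}} (f : X ⟶ Spec (CommRingCat.of R)) (x : X) {r a b : ℕ} (hr : trdg (kStr cB y) = r)
    (ha : ringKrullDim (R ⧸ (f.base x).asIdeal) = a) (hb : trdg (f.residueFieldMap x).hom = b) :
    trdg (kStr (f ≫ Hens2.specOf YB y R ≫ cB) x) = ((a + r + b : ℕ) : Cardinal.{u}) := by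
  let A : Type u := (YB).presheaf.stalk y
  let θ : B →+* A := (StructureSheaf.toStalk B y).hom
  letI : Algebra B A := θ.toAlgebra
  haveI : IsLocalization.AtPrime A y.asIdeal :=
    inferInstanceAs (IsLocalization.AtPrime ((Spec.structureSheaf B).presheaf.stalk y) y.asIdeal)
  haveI : IsNoetherianRing B := Algebra.FiniteType.isNoetherianRing K B
  haveI : IsNoetherianRing A := IsLocalization.isNoetherianRing y.asIdeal.primeCompl A inferInstance
  letI : Algebra K A := (θ.comp (algebraMap K B)).toAlgebra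
  haveI : IsScalarTower K B A := IsScalarTower.of_algebraMap_eq fun _ => rfl
  haveI : Algebra.EssFiniteType K A :=
    haveI : Algebra.EssFiniteType B A := Algebra.EssFiniteType.of_isLocalization A y.asIdeal.primeCompl
    Algebra.EssFiniteType.comp K B A
  letI : Algebra K R := ((algebraMap A R).comp (algebraMap K A)).toAlgebra
  haveI : IsScalarTower K A R := IsScalarTower.of_algebraMap_eq fun _ => rfl
  have hst : (YB).fromSpecStalk y ≫ cB = Spec.map (CommRingCat.ofHom (algebraMap K A)) := by
    rw [Spec.fromSpecStalk_eq', ← Spec.map_comp]; rfl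
  have hR : Hens2.specOf YB y R ≫ cB = Spec.map (CommRingCat.ofHom (algebraMap K R)) := by
    show (Spec.map (CommRingCat.ofHom (algebraMap A R)) ≫ (YB).fromSpecStalk y) ≫ cB = _
    rw [Category.assoc, hst, ← Spec.map_comp]; rfl
  have hy : kStr cB y = (residue A).comp (algebraMap K A) := by
    have hh : CommRingCat.ofHom (kStr cB y) = CommRingCat.ofHom (algebraMap K A) ≫ (YB).residue y := by
      apply Spec.map_injective
      rw [kStr_spec, Spec.map_comp, ← hst, ← Category.assoc]; rfl
    exact congrArg CommRingCat.Hom.hom hh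
  let P : Ideal R := (f.base x).asIdeal
  haveI : P.IsPrime := (f.base x).isPrime
  obtain ⟨d, t, s, hd, ht, hs, hsum⟩ := sh_dim_formula (A := A) (R := R) P (K := K)
  have hda : d = a := by exact_mod_cast hd.symm.trans ha
  have htr : t = r := by
    have h1 : trdg (kStr cB y) = Algebra.trdeg K (ResidueField A) := by
      rw [hy]
      show @Algebra.trdeg K (ResidueField A) _ _ ((residue A).comp (algebraMap K A)).toAlgebra = _
      rw [show ((residue A).comp (algebraMap K A)).toAlgebra = (inferInstance : Algebra K (ResidueField A)) from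
        Algebra.algebra_ext _ _ fun _ => rfl]
    rw [hr, ht] at h1
    exact_mod_cast h1.symm
  haveI := isAlgebraic_sh_quotient (A := A) (R := R) P
  haveI : FaithfulSMul (A ⧸ P.under A) (R ⧸ P) := inferInstance
  haveI : IsScalarTower K (A ⧸ P.under A) (R ⧸ P) := IsScalarTower.of_algebraMap_eq fun _ => rfl
  have h2 := trdeg_add_eq K (A ⧸ P.under A) (A := R ⧸ P)
  rw [trdeg_eq_zero (R := A ⧸ P.under A) (A := R ⧸ P), add_zero, hs] at h2
  rw [hR, kStr_comp_eq, ← trdg_comp, hb, trdg_kStr_spec R (f.base x)]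
  show Algebra.trdeg K (R ⧸ P) + _ = _
  rw [← h2, ← Nat.cast_add, Nat.cast_inj]
  omega

include K in
/-- **affine schemes over strict localisations: killed sheaves** -/
theorem subsingleton_H_over_sh_killed (y : YB) (R : Type u) [CommRing R] [IsLocalRing R]
    [Algebra ((YB).presheaf.stalk y) R] [IsLocalHom (algebraMap ((YB).presheaf.stalk y) R)]
    [_root_.Hensel.IsStrictHenselization ((YB).presheaf.stalk y) R]
    {X : Scheme.{u}} (f : X ⟶ Spec (CommRingCat.of R)) [IsAffineHom f] [LocallyOfFiniteType f]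
    (G : EtCoh.Ab X) {m : ℕ} (hm : 0 < m) (hG : Killed m G) {d : ℕ}
    (hδ : ∀ x, ZeroAt G x ∨ ∃ a b : ℕ, ringKrullDim (R ⧸ (f.base x).asIdeal) = a ∧
      trdg (f.residueFieldMap x).hom = b ∧ a + b ≤ d)
    (q : ℕ) (hq : d < q) : Subsingleton (EtCoh.H X G q) := by
  classical
  haveI hR : _root_.Hensel.IsStrictHenselization ((YB).presheaf.stalk y) R := ‹_›
  haveI : HenselianLocalRing R := hR.henselian
  haveI : IsSepClosed (ResidueField R) := hR.isSepClosure.1
  haveI : IsNoetherianRing B := Algebra.FiniteType.isNoetherianRing K B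
  haveI : IsNoetherianRing R :=
    (Hensel.strictHenselization_isNoetherianRing_iff (R := (YB).presheaf.stalk y) (S := R)).1 inferInstance
  haveI : IsAffine X := isAffine_of_isAffineHom f
  haveI : IsLocallyNoetherian X := LocallyOfFiniteType.isLocallyNoetherian f
  haveI : IsNoetherian X := {}
  haveI : LocallyOfFiniteType cB :=
    (HasRingHomProperty.Spec_iff (P := @LocallyOfFiniteType)).2
      (RingHom.finiteType_algebraMap.2 (inferInstance : Algebra.FiniteType K B))
  obtain ⟨r, hr, -⟩ := exists_trdg_eq cB y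
  obtain ⟨b, hb⟩ := exists_indep_eq B y hr
  -- generators
  let φ : R →+* Γ(X, ⊤) := ((Scheme.ΓSpecIso (CommRingCat.of R)).inv ≫ f.appTop).hom
  have hφ : Spec.map (CommRingCat.ofHom φ) = X.isoSpec.inv ≫ f := by
    rw [show CommRingCat.ofHom φ = (Scheme.ΓSpecIso (CommRingCat.of R)).inv ≫ f.appTop from rfl, Spec.map_comp,
      ← Scheme.isoSpec_Spec_inv, ← Scheme.isoSpec_inv_naturality]
  have hft : φ.FiniteType := by
    have h1 : LocallyOfFiniteType (Spec.map (CommRingCat.ofHom φ)) := by rw [hφ]; infer_instance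
    exact (HasRingHomProperty.Spec_iff (P := @LocallyOfFiniteType)).1 h1
  letI : Algebra R Γ(X, ⊤) := φ.toAlgebra
  haveI : Algebra.FiniteType R Γ(X, ⊤) := hft
  obtain ⟨n, π, hπ⟩ := Algebra.FiniteType.iff_quotient_mvPolynomial''.1 (inferInstance : Algebra.FiniteType R Γ(X, ⊤))
  let Pb := MvPolynomial (Fin n) B
  let g₀ : Spec (CommRingCat.of Pb) ⟶ YB := Spec.map (CommRingCat.ofHom (algebraMap B Pb))
  let θ₀ : B →+* ↥((YB).presheaf.stalk y) := (StructureSheaf.toStalk B y).hom
  let σR : B →+* R := (algebraMap ↥((YB).presheaf.stalk y) R).comp θ₀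
  have hσR : Spec.map (CommRingCat.ofHom σR) = Hens2.specOf YB y R := by
    show _ = Spec.map (CommRingCat.ofHom (algebraMap ↥((YB).presheaf.stalk y) R)) ≫ (YB).fromSpecStalk y
    rw [Spec.fromSpecStalk_eq', ← Spec.map_comp]; rfl
  let ev : Pb →+* Γ(X, ⊤) := MvPolynomial.eval₂Hom (φ.comp σR) fun i => π (MvPolynomial.X i)
  let h₀ : X ⟶ Spec (CommRingCat.of Pb) := X.isoSpec.hom ≫ Spec.map (CommRingCat.ofHom ev)
  have hw₀ : h₀ ≫ g₀ = f ≫ Hens2.specOf YB y R := by
    rw [← hσR, ← cancel_epi X.isoSpec.inv]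
    simp only [h₀, g₀, Category.assoc, Iso.inv_hom_id_assoc]
    rw [← reassoc_of% hφ, ← Spec.map_comp, ← Spec.map_comp]
    refine congrArg Spec.map (CommRingCat.hom_ext (RingHom.ext fun c => ?_))
    exact MvPolynomial.eval₂Hom_C (φ.comp σR) (fun i => π (MvPolynomial.X i)) c
  haveI : IsAffineHom g₀ := isAffineHom_of_isAffine _
  let ι : X ⟶ EtStrictLoc.xR g₀ y R := pullback.lift h₀ f hw₀
  haveI : IsClosedImmersion ι := by
    letI : Algebra B R := σR.toAlgebra
    have hs : Hens2.specOf YB y R = Spec.map (CommRingCat.ofHom (algebraMap B R)) := hσR.symm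
    let e : EtStrictLoc.xR g₀ y R ≅ Spec (CommRingCat.of (TensorProduct B Pb R)) :=
      pullback.congrHom rfl hs ≪≫ pullbackSpecIso B Pb R
    haveI : IsClosedImmersion (X.isoSpec.inv ≫ ι ≫ e.hom) := by
      obtain ⟨ψ, hψ⟩ : ∃ ψ : CommRingCat.of (TensorProduct B Pb R) ⟶ Γ(X, ⊤), X.isoSpec.inv ≫ ι ≫ e.hom = Spec.map ψ :=
        ⟨Spec.preimage _, (Spec.map_preimage _).symm⟩
      rw [hψ]
      refine IsClosedImmersion.spec_of_surjective _ fun c => ?_
      have hL : CommRingCat.ofHom (algebraMap Pb (TensorProduct B Pb R)) ≫ ψ = CommRingCat.ofHom ev := by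
        apply Spec.map_injective
        rw [Spec.map_comp, ← hψ]
        simp [e, ι, h₀, g₀]
      have hRt : CommRingCat.ofHom (Algebra.TensorProduct.includeRight (R := B) (A := Pb) (B := R)).toRingHom ≫ ψ =
          CommRingCat.ofHom φ := by
        apply Spec.map_injective
        rw [Spec.map_comp, ← hψ, hφ]
        simp [e, ι, g₀]
      obtain ⟨p, rfl⟩ := hπ c
      induction p using MvPolynomial.induction_on with
      | C a =>
        refine ⟨(Algebra.TensorProduct.includeRight (R := B) (A := Pb) (B := R)) a, ?_⟩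
        exact (ConcreteCategory.congr_hom hRt a).trans (π.commutes a).symm
      | add p q hp hq =>
        obtain ⟨p', hp'⟩ := hp
        obtain ⟨q', hq'⟩ := hq
        exact ⟨p' + q', by rw [map_add, map_add, hp', hq']⟩
      | mul_X p i hp =>
        obtain ⟨p', hp'⟩ := hp
        refine ⟨p' * algebraMap Pb (TensorProduct B Pb R) (MvPolynomial.X i), ?_⟩
        rw [map_mul, map_mul, hp']
        refine congrArg (π p * ·) ?_
        exact (ConcreteCategory.congr_hom hL (MvPolynomial.X i)).trans (MvPolynomial.eval₂Hom_X' _ _ i)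
    haveI : IsClosedImmersion (ι ≫ e.hom) := (MorphismProperty.cancel_left_of_respectsIso @IsClosedImmersion X.isoSpec.inv _).1 ‹_›
    exact (MorphismProperty.cancel_right_of_respectsIso @IsClosedImmersion ι e.hom).1 ‹_›
  let c₀ : Spec (CommRingCat.of Pb) ⟶ Spec (CommRingCat.of K) := g₀ ≫ cB
  haveI : LocallyOfFiniteType g₀ := (HasRingHomProperty.Spec_iff (P := @LocallyOfFiniteType)).2
    (RingHom.finiteType_algebraMap.2 (inferInstance : Algebra.FiniteType B Pb))
  haveI : LocallyOfFiniteType c₀ := inferInstance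
  refine subsingleton_H_of_suppPred G (P := fun x => ResDim c₀ (h₀ x) (d + r))
    (fun x x' h hx => hx.of_specializes c₀ (h.map h₀.continuous)) (fun x hx => ?_) q fun C hC N i hi hN => ?_
  · refine (hδ x).resolve_right fun ⟨a, b', ha, hb', hle⟩ => hx ?_
    refine (trdg_image_le c₀ h₀ x).trans ?_
    rw [show h₀ ≫ c₀ = f ≫ Hens2.specOf YB y R ≫ cB by rw [← Category.assoc, hw₀, Category.assoc],
      trdg_over_sh K B y R f x hr ha hb', Nat.cast_le]
    omega
  haveI := hi
  obtain ⟨S, hSf, hS1, hS2, hCe⟩ := NoetherianSpace.exists_finite_set_isClosed_irreducible C.isClosed'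
  have hSc : ∀ J ∈ S, IsClosed J ∧ IsIrreducible J := fun J hJ => ⟨hS1 J hJ, hS2 J hJ⟩
  haveI := hSf.to_subtype
  let T : Closeds (Spec (CommRingCat.of Pb)) := ⟨⋃ J : {J // J ∈ S}, closure {h₀ (hSc J.1 J.2).2.genericPoint},
    isClosed_iUnion_of_finite fun _ => isClosed_closure⟩
  have hmem : ∀ x ∈ C, h₀ x ∈ T := by
    intro x hx
    have hx' : x ∈ (C.carrier : Set X) := hx
    rw [hCe] at hx'
    obtain ⟨J, hJ, hxJ⟩ := hx'
    exact Set.mem_iUnion.2 ⟨⟨J, hJ⟩, specializes_iff_mem_closure.1
      (((hSc J hJ).2.isGenericPoint_genericPoint_closure.specializes (subset_closure hxJ)).map h₀.continuous)⟩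
  have hT : ∀ t ∈ T, ResDim c₀ t (d + r) := by
    intro t ht
    obtain ⟨J, hJ⟩ := Set.mem_iUnion.1 ht
    refine ResDim.of_specializes c₀ (specializes_iff_mem_closure.2 hJ) (hC _ ?_)
    show _ ∈ C.carrier
    rw [hCe]
    refine ⟨J.1, J.2, ?_⟩
    have := (hSc J.1 J.2).2.isGenericPoint_genericPoint_closure.mem
    rwa [(hSc J.1 J.2).1.closure_eq] at this
  let z := (Scheme.IdealSheafData.vanishingIdeal T).subschemeι
  have hz : Set.range z = (T : Set _) := by
    show Set.range (Scheme.IdealSheafData.vanishingIdeal T).subschemeι = _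
    rw [Scheme.IdealSheafData.range_subschemeι, Scheme.IdealSheafData.coe_support_vanishingIdeal]
  haveI : IsAffine (Scheme.IdealSheafData.vanishingIdeal T).subscheme := isAffine_of_isAffineHom z
  have hdim : topologicalKrullDim ↥(Scheme.IdealSheafData.vanishingIdeal T).subscheme ≤ (d + r : ℕ) :=
    dim_le_of_resDim (z ≫ c₀) fun w => (resDim_closedImmersion c₀ z w (d + r)).2 (hT _ (hz.le ⟨w, rfl⟩))
  have hkv := kVanOn_xR_indep B (z ≫ g₀) (z ≫ c₀) (Category.assoc _ _ _) y b hb hdim R
  let s := Hens2.specOf YB y R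
  let i' : EtStrictLoc.xR (z ≫ g₀) y R ⟶ EtStrictLoc.xR g₀ y R :=
    pullback.map _ _ _ _ z (𝟙 _) (𝟙 _) (by simp) (by simp)
  have hi' : Set.range i' = (pullback.fst g₀ s) ⁻¹' Set.range z := by
    show Set.range (pullback.map _ _ _ _ z (𝟙 _) (𝟙 _) _ _) = _
    rw [Scheme.Pullback.range_map]
    simp [s]
  have sq : IsPullback i' (pullback.fst (z ≫ g₀) s) (pullback.fst g₀ s) z := by
    refine IsPullback.of_right ?_ (pullback.lift_fst _ _ _) (IsPullback.of_hasPullback g₀ s).flip
    exact (show i' ≫ pullback.snd g₀ s = pullback.snd (z ≫ g₀) s from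
      (pullback.lift_snd _ _ _).trans (Category.comp_id _)).symm ▸
      (IsPullback.of_hasPullback (z ≫ g₀) s).flip
  haveI : IsClosedImmersion i' := MorphismProperty.of_isPullback (P := @IsClosedImmersion) sq.flip inferInstance
  have hNk : Killed m N := killed_of_mono i hG
  refine (subsingleton_H_iff_push ι N (fun j => EtIntegral.Rpush_succ_isZero ι N j) q).1 ?_
  refine subsingleton_H_of_closedImmersion i' _ hm (killed_push ι hNk) (fun w hw => ?_) q
    (hkv.univ m hm _ (killed_pull i' (killed_push ι hNk)) q (by omega))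
  refine zeroAt_push_of_zeroAt ι N (isLTorsion_univ_of_killed hm hNk) w fun x hx => hN x fun hxC => hw ?_
  rw [hi', Set.mem_preimage, hz, ← hx, show pullback.fst g₀ s (ι x) = h₀ x from
    congrArg (fun m : X ⟶ _ => m x) (pullback.lift_fst h₀ f hw₀)]
  exact hmem x hxC

include K in
/-- **affine schemes over strict localisations: torsion sheaves** -/
theorem subsingleton_H_over_sh (y : YB) (R : Type u) [CommRing R] [IsLocalRing R]
    [Algebra ((YB).presheaf.stalk y) R] [IsLocalHom (algebraMap ((YB).presheaf.stalk y) R)]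
    [_root_.Hensel.IsStrictHenselization ((YB).presheaf.stalk y) R]
    {X : Scheme.{u}} (f : X ⟶ Spec (CommRingCat.of R)) [IsAffineHom f] [LocallyOfFiniteType f]
    (F : EtCoh.Ab X) (hF : EtCoh.IsTorsion F) {d : ℕ}
    (hδ : ∀ x, ZeroAt F x ∨ ∃ a b : ℕ, ringKrullDim (R ⧸ (f.base x).asIdeal) = a ∧
      trdg (f.residueFieldMap x).hom = b ∧ a + b ≤ d)
    (q : ℕ) (hq : d < q) : Subsingleton (EtCoh.H X F q) := by
  haveI : IsAffine X := isAffine_of_isAffineHom f
  obtain ⟨hc⟩ := EtAcycX.nonempty_isColimit_kdCocone Set.univ F (isLTorsion_univ_of_isTorsion hF)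
  haveI := EtColimH.preservesColimitsOfShape_HF (X := X) q (EtColimH.Expo.{u} (EtAcyc.PrimesIn Set.univ))
  refine subsingleton_of_forall_eq 0 fun c => ?_
  obtain ⟨a, ca, rfl⟩ := Concrete.isColimit_exists_rep _ (isColimitOfPreserves (EtCoh.HF X q) hc) c
  haveI : Mono ((EtAcycX.kdCocone Set.univ F).ι.app a) := inferInstanceAs (Mono (kernel.ι _))
  haveI := subsingleton_H_over_sh_killed K B y R f ((EtAcycX.kdDiag Set.univ F).obj a) a.down.down.2.1
    ((killed_iff _ _).2 (EtAcycX.kd_tor F _))
    (fun x => (hδ x).imp (zeroAt_of_mono ((EtAcycX.kdCocone Set.univ F).ι.app a)) id) q hq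
  rw [show ca = 0 from @Subsingleton.elim (EtCoh.H X ((EtAcycX.kdDiag Set.univ F).obj a) q) _ _ _]
  exact map_zero _

/-- a strict henselisation at a point of a scheme as one at a point of an affine chart -/
theorem exists_chart_sh {K : Type u} [Field K] {Y : Scheme.{u}} (g : Y ⟶ Spec (CommRingCat.of K))
    [LocallyOfFiniteType g] (y : Y) (R : Type u) [CommRing R] [IsLocalRing R] [Algebra (Y.presheaf.stalk y) R]
    [IsLocalHom (algebraMap (Y.presheaf.stalk y) R)] [_root_.Hensel.IsStrictHenselization (Y.presheaf.stalk y) R] :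
    ∃ (B : Type u) (_ : CommRing B) (_ : Algebra K B) (_ : Algebra.FiniteType K B) (y' : Spec (CommRingCat.of B))
      (alg : Algebra ((Spec (CommRingCat.of B)).presheaf.stalk y') R)
      (_ : IsLocalHom (algebraMap ((Spec (CommRingCat.of B)).presheaf.stalk y') R)),
      _root_.Hensel.IsStrictHenselization ((Spec (CommRingCat.of B)).presheaf.stalk y') R := by
  obtain ⟨U, hU, hyU, -⟩ := exists_isAffineOpen_mem_and_subset (x := y) (U := (⊤ : Y.Opens)) trivial
  let j := hU.fromSpec
  obtain ⟨y', rfl⟩ : ∃ y', j y' = y := by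
    have : y ∈ Set.range hU.fromSpec := by rw [hU.range_fromSpec]; exact hyU
    exact this
  let φ : K →+* Γ(Y, U) := (Spec.preimage (j ≫ g)).hom
  have hφ : Spec.map (CommRingCat.ofHom φ) = j ≫ g := Spec.map_preimage _
  letI : Algebra K Γ(Y, U) := φ.toAlgebra
  haveI : Algebra.FiniteType K Γ(Y, U) := by
    haveI : LocallyOfFiniteType (Spec.map (CommRingCat.ofHom φ)) := by rw [hφ]; infer_instance
    exact (HasRingHomProperty.Spec_iff (P := @LocallyOfFiniteType)).1 ‹_›
  let e := (asIso (j.stalkMap y')).commRingCatIsoToRingEquiv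
  letI : Algebra (Y.presheaf.stalk (j y')) ((Spec (CommRingCat.of Γ(Y, U))).presheaf.stalk y') := e.toRingHom.toAlgebra
  letI alg : Algebra ((Spec (CommRingCat.of Γ(Y, U))).presheaf.stalk y') R :=
    ((algebraMap (Y.presheaf.stalk (j y')) R).comp e.symm.toRingHom).toAlgebra
  haveI : IsScalarTower (Y.presheaf.stalk (j y')) ((Spec (CommRingCat.of Γ(Y, U))).presheaf.stalk y') R :=
    IsScalarTower.of_algebraMap_eq fun a => by
      show _ = algebraMap _ R (e.symm (e a))
      rw [e.symm_apply_apply]
  haveI hloc : IsLocalHom (algebraMap ((Spec (CommRingCat.of Γ(Y, U))).presheaf.stalk y') R) := ⟨fun x hx => by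
    have h1 := (IsUnit.of_map (algebraMap (Y.presheaf.stalk (j y')) R) (e.symm x) hx).map e
    rwa [e.apply_symm_apply] at h1⟩
  exact ⟨Γ(Y, U), inferInstance, inferInstance, inferInstance, y', alg, hloc,
    isStrictHenselization_of_bijective (A := Y.presheaf.stalk (j y')) e.bijective⟩

end Groth.Agent.EtPBC
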