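import Groth.Agent.EtPBC.CdPProper
import Groth.Agent.CohFinite.Linear
import Groth.Agent.CohFinite.PushLinear
import Groth.Agent.S0027
import Groth.Agent.Lich.Compact
import Groth.Agent.RefStalk.Refl
import Groth.Agent.S0458
import Mathlib

/-!
# Coherent cohomology in degree `dim` is finite-dimensional; vanishing of `H^q(T, ℤ/p)` above `dim`
-/

set_option autoImplicit false
set_option backward.isDefEq.respectTransparency false
set_option backward.isDefEq.respectTransparency.types false
set_option linter.auxLemma false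
set_option linter.style.haveILetI false
set_option linter.unusedSectionVars false

universe u

open CategoryTheory CategoryTheory.Limits AlgebraicGeometry Opposite Abelian

noncomputable section

namespace Groth.Agent.EtPBC

attribute [local instance 100000] EtCoh.H._proof_1 EtMV.hext
attribute [local instance 200000] EtMV.hextAb

variable {k : Type u} [Field k] {X : Scheme.{u}}

theorem moduleFinite_HH_dim [X.Over (Spec (CommRingCat.of k))] (f : X ⟶ Spec (CommRingCat.of k))
    (hf : X ↘ Spec (CommRingCat.of k) = f) [IsSeparated f] [LocallyOfFiniteType f] [QuasiCompact f]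
    {n : ℕ} (hn : topologicalKrullDim X ≤ n) (M : X.Modules) (hM : Coh.IsCoh M) :
    Module.Finite k (Coh.HH X M n) := by
  classical
  subst hf
  rcases isEmpty_or_nonempty X with hX | hX
  · haveI : IsProper (X ↘ Spec (CommRingCat.of k)) := inferInstance
    exact Groth.Agent.S0002.result k X M hM n
  haveI : IsLocallyNoetherian X := LocallyOfFiniteType.isLocallyNoetherian (X ↘ Spec (CommRingCat.of k))
  haveI : CompactSpace X := QuasiCompact.compactSpace_of_compactSpace (X ↘ Spec (CommRingCat.of k))
  haveI : IsNoetherian X := {}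
  refine S0027.result X (fun M => Module.Finite k (Coh.HH X M n)) ?_ ?_ ?_ M hM
  · rintro A B ⟨e⟩ hA
    haveI := hA
    refine Module.Finite.of_surjective (CohFinite.hhMap k e.hom n) fun x => ⟨CohFinite.hhMap k e.inv n x, ?_⟩
    show Sheaf.H.map _ n (Sheaf.H.map _ n x) = x
    rw [← Sheaf.H.map_comp_apply, ← Functor.map_comp, Iso.inv_hom_id, CategoryTheory.Functor.map_id]
    exact Sheaf.H.map_id_apply _
  · intro S hS _ _ _ h1 h3
    haveI := h1
    haveI := h3
    exact CohFinite.finite_of_shortExact_mid k hS n
  · intro Z i hi hZint I ι _ hI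
    haveI := hi
    haveI := hZint
    let g : Z ⟶ Spec (CommRingCat.of k) := i ≫ (X ↘ Spec (CommRingCat.of k))
    letI : Z.Over (Spec (CommRingCat.of k)) := ⟨g⟩
    haveI : IsLocallyNoetherian Z := LocallyOfFiniteType.isLocallyNoetherian g
    haveI : CompactSpace Z := QuasiCompact.compactSpace_of_compactSpace g
    haveI : IsNoetherian Z := {}
    haveI : Coh.IsQCoh I := hI
    haveI : I.IsQuasicoherent := hI
    have hIcoh : Coh.IsCoh I := QC.isCoh_of_mono ι RefStalk.isCoh_structureModule hI
    have hdim : topologicalKrullDim Z ≤ n :=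
      i.isClosedEmbedding.isEmbedding.isInducing.topologicalKrullDim_le.trans hn
    refine (CohFinite.finite_push_iff k i rfl I (CohQC.directAcyclic_of_isAffineHom i I) n).1 ?_
    by_cases hp : IsProper g
    · haveI : IsProper (Z ↘ Spec (CommRingCat.of k)) := hp
      exact Groth.Agent.S0002.result k Z I hIcoh n
    · obtain ⟨m, hm⟩ : ∃ m : ℕ, topologicalKrullDim Z = m := ⟨_, Rigid.topologicalKrullDim_eq_pdim g⟩
      have hmn : m ≤ n := by
        rw [hm] at hdim
        exact_mod_cast hdim
      haveI : Subsingleton (Coh.HH Z I n) := by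
        rcases hmn.lt_or_eq with hlt | rfl
        · exact S0458.result (X := Z.toPresheafedSpace.carrier) m hm.le (Coh.toAb I) n hlt
        · exact Lich.subsingleton_hh_of_not_isProper Z g I hIcoh m hm hp
      exact Module.Finite.of_finite

variable (p : ℕ) [hp : Fact p.Prime] [IsSepClosed k] [CharP k p]

/-- `H^q(X, ℤ/p) = 0` for `q > dim X` -/
theorem subsingleton_H_zmod_dim (f : X ⟶ Spec (CommRingCat.of k)) [IsSeparated f] [LocallyOfFiniteType f]
    [QuasiCompact f] {n : ℕ} (hn : topologicalKrullDim X ≤ n) (q : ℕ) (hq : n < q) :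
    Subsingleton (EtCoh.H X (EtCoh.const X (ZMod p)) q) := by
  letI : X.Over (Spec (CommRingCat.of k)) := ⟨f⟩
  haveI : IsLocallyNoetherian X := LocallyOfFiniteType.isLocallyNoetherian f
  haveI : CompactSpace X := QuasiCompact.compactSpace_of_compactSpace f
  haveI : IsNoetherian X := {}
  obtain ⟨m, rfl⟩ : ∃ m, q = m + 1 := ⟨q - 1, by omega⟩
  have h0 : (p : Γ(X, ⊤)) = 0 := natCast_eq_zero_of_over p f
  have hvan : ∀ j : ℕ, n < j → Subsingleton (Coh.HH X (Coh.structureModule X) j) := fun j hj =>
    S0458.result (X := X.toPresheafedSpace.carrier) n hn (Coh.toAb (Coh.structureModule X)) j hj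
  have hfin : Module.Finite k (Coh.HH X (Coh.structureModule X) m) := by
    rcases (Nat.lt_succ_iff.1 hq).eq_or_lt with rfl | hlt
    · exact moduleFinite_HH_dim f rfl hn _ (Devissage.isCoh_unit X)
    · haveI := hvan m hlt
      exact Module.Finite.of_finite
  refine subsingleton_of_forall_eq 0 fun x => ?_
  have hGa : Subsingleton (EtCoh.H X (EtCoh.Ga X) (m + 1)) := by
    obtain ⟨e⟩ := Groth.Agent.S0110.result X (m + 1)
    haveI := hvan (m + 1) hq
    exact e.toEquiv.subsingleton
  have hS := as_shortExact p h0
  obtain ⟨y, hy⟩ := Ext.covariant_sequence_exact₁ _ hS x (@Subsingleton.elim _ hGa _ _) (n₀ := m) rfl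
  obtain ⟨z, hz⟩ := surjective_asH p f h0 m rfl hfin y
  rw [← hy, ← hz]
  show Ext.comp (Ext.comp z (Ext.mk₀ (W4c5etcohweilstudent.artinSchreierEndo X p hp.out h0)) (add_zero m))
    hS.extClass rfl = 0
  rw [Ext.comp_assoc z _ _ (add_zero m) (zero_add 1) (by omega)]
  erw [hS.comp_extClass]
  simp only [Ext.comp_zero]

end Groth.Agent.EtPBC
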