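import Groth.Agent.EpsLan.Compare
import Mathlib

/-!
# Comparison of `Ext` groups along a functor exact on a class, natural in endomorphisms
-/

set_option autoImplicit false
set_option linter.style.haveILetI false
set_option backward.isDefEq.respectTransparency false

universe w w' v v' u' u''

noncomputable section

namespace Groth.Agent.EtPBC

open CategoryTheory CategoryTheory.Limits CategoryTheory.Abelian

/-- an isomorphism between the targets of two surjections, compatible with given maps -/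
theorem exists_equiv_of_surjective {A B A' B' : Type*} [AddCommGroup A] [AddCommGroup B] [AddCommGroup A']
    [AddCommGroup B'] (δ : A →+ B) (δ' : A' →+ B') (h : Function.Surjective δ) (h' : Function.Surjective δ')
    (e : A ≃+ A') (hk : ∀ a, δ a = 0 ↔ δ' (e a) = 0) : ∃ E : B ≃+ B', ∀ a, E (δ a) = δ' (e a) := by
  choose s hs using h
  have hwd : ∀ a a', δ a = δ a' → δ' (e a) = δ' (e a') := fun a a' haa => by
    rw [← sub_eq_zero, ← map_sub, ← map_sub, ← hk, map_sub, sub_eq_zero]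
    exact haa
  let f : B →+ B' := AddMonoidHom.mk' (fun b => δ' (e (s b))) fun b c => by
    rw [hwd (s (b + c)) (s b + s c) (by rw [map_add, hs, hs, hs]), map_add, map_add]
  have hf : ∀ a, f (δ a) = δ' (e a) := fun a => hwd _ _ (hs _)
  have hbij : Function.Bijective f := by
    refine ⟨(injective_iff_map_eq_zero f).2 fun b hb => ?_, fun b' => ?_⟩
    · rw [← hs b, hf] at hb
      exact (hs b).symm.trans ((hk _).2 hb)
    · obtain ⟨a', rfl⟩ := h' b'
      exact ⟨δ (e.symm a'), by rw [hf, AddEquiv.apply_symm_apply]⟩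
  exact ⟨AddEquiv.ofBijective f hbij, hf⟩

variable {A : Type u'} [Category.{v} A] [Abelian A] [EnoughInjectives A] [HasExt.{w} A]
  {B : Type u''} [Category.{v'} B] [Abelian B] [HasExt.{w'} B]
  (Φ : A ⥤ B) [Φ.Additive] [PreservesFiniteLimits Φ] (Cl : A → Prop)
  (hCl : ∀ S : ShortComplex A, S.ShortExact → Injective S.X₂ → Cl S.X₁ → Epi (Φ.map S.g) ∧ Cl S.X₃)
  (M : B) (hac : ∀ I : A, Injective I → ∀ j : ℕ, Subsingleton (Ext.{w'} M (Φ.obj I) (j + 1)))
  (Q : A) (e₀ : ∀ F : A, Ext.{w'} M (Φ.obj F) 0 ≃+ Ext.{w} Q F 0)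
  (he₀ : ∀ {F G : A} (g : F ⟶ G) (x : Ext.{w'} M (Φ.obj F) 0),
    e₀ G (x.comp (Ext.mk₀ (Φ.map g)) (add_zero 0)) = (e₀ F x).comp (Ext.mk₀ g) (add_zero 0))

include hCl hac he₀ in
/-- **the comparison, natural in endomorphisms** -/
theorem exists_ext_equiv_natural (q : ℕ) : ∀ F : A, Cl F → ∃ E : Ext.{w'} M (Φ.obj F) q ≃+ Ext.{w} Q F q,
    ∀ (g : F ⟶ F) (x : Ext.{w'} M (Φ.obj F) q),
      E (x.comp (Ext.mk₀ (Φ.map g)) (add_zero q)) = (E x).comp (Ext.mk₀ g) (add_zero q) := by
  induction q with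
  | zero => exact fun F _ => ⟨e₀ F, fun g x => he₀ g x⟩
  | succ q ih =>
    intro F hF
    let S : ShortComplex A := ShortComplex.mk (Injective.ι F) (cokernel.π (Injective.ι F)) (cokernel.condition _)
    have hS : S.ShortExact := { exact := ShortComplex.exact_of_g_is_cokernel _ (cokernelIsCokernel _) }
    haveI hI : Injective S.X₂ := inferInstanceAs (Injective (Injective.under F))
    obtain ⟨hepi, hP'⟩ := hCl S hS hI hF
    haveI : Epi (S.map Φ).g := hepi
    haveI : Mono (S.map Φ).f := inferInstanceAs (Mono (Φ.map (Injective.ι F)))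
    have hS' : (S.map Φ).ShortExact :=
      { exact := hS.exact.map_of_mono_of_preservesKernel Φ hS.mono_f inferInstance }
    haveI : Subsingleton (Ext.{w'} M (S.map Φ).X₂ (q + 1)) := hac _ hI q
    haveI : Subsingleton (Ext.{w} Q S.X₂ (q + 1)) := subsingleton_of_forall_eq 0 fun x => Ext.eq_zero_of_injective x
    let δ' : Ext.{w'} M (Φ.obj S.X₃) q →+ Ext.{w'} M (Φ.obj F) (q + 1) := hS'.extClass.postcomp M rfl
    let δ : Ext.{w} Q S.X₃ q →+ Ext.{w} Q F (q + 1) := hS.extClass.postcomp Q rfl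
    obtain ⟨ε, hε⟩ := ih S.X₃ hP'
    obtain ⟨ε', hε', hker⟩ : ∃ ε' : Ext.{w'} M (Φ.obj S.X₃) q ≃+ Ext.{w} Q S.X₃ q,
        (∀ (g : S.X₃ ⟶ S.X₃) (x : Ext.{w'} M (Φ.obj S.X₃) q),
          ε' (x.comp (Ext.mk₀ (Φ.map g)) (add_zero q)) = (ε' x).comp (Ext.mk₀ g) (add_zero q)) ∧
        ∀ a, δ' a = 0 ↔ δ (ε' a) = 0 := by
      cases q with
      | zero =>
        refine ⟨e₀ S.X₃, fun g x => he₀ g x, fun a => ?_⟩
        refine (EpsLan.extClass_eq_zero_iff hS' M 0 a).trans (Iff.trans ?_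
          (EpsLan.extClass_eq_zero_iff hS Q 0 _).symm)
        constructor
        · rintro ⟨y, rfl⟩
          exact ⟨e₀ S.X₂ y, (he₀ S.g y).symm⟩
        · rintro ⟨y, hy⟩
          refine ⟨(e₀ S.X₂).symm y, (e₀ S.X₃).injective ((he₀ S.g _).trans ?_)⟩
          rw [AddEquiv.apply_symm_apply]
          exact hy
      | succ m =>
        refine ⟨ε, hε, fun a => ?_⟩
        haveI : Subsingleton (Ext.{w'} M (S.map Φ).X₂ (m + 1)) := hac _ hI m
        haveI : Subsingleton (Ext.{w} Q S.X₂ (m + 1)) :=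
          subsingleton_of_forall_eq 0 fun x => Ext.eq_zero_of_injective x
        refine (EpsLan.extClass_eq_zero_iff hS' M (m + 1) a).trans (Iff.trans ?_
          (EpsLan.extClass_eq_zero_iff hS Q (m + 1) _).symm)
        constructor
        · rintro ⟨y, rfl⟩
          exact ⟨0, by rw [Subsingleton.elim y 0, map_zero, map_zero, map_zero]⟩
        · rintro ⟨y, hy⟩
          refine ⟨0, ε.injective ?_⟩
          rw [← hy, Subsingleton.elim y 0, map_zero, map_zero, map_zero]
    obtain ⟨E, hE⟩ := exists_equiv_of_surjective δ' δ (EpsLan.surjective_extClass hS' M q)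
      (EpsLan.surjective_extClass hS Q q) ε' hker
    refine ⟨E, fun g x => ?_⟩
    obtain ⟨y, rfl⟩ := EpsLan.surjective_extClass hS' M q x
    let g₂ : S.X₂ ⟶ S.X₂ := Injective.factorThru (g ≫ Injective.ι F) (Injective.ι F)
    have h₂ : Injective.ι F ≫ g₂ = g ≫ Injective.ι F := Injective.comp_factorThru _ _
    let g₃ : S.X₃ ⟶ S.X₃ := cokernel.map (Injective.ι F) (Injective.ι F) g g₂ h₂
    let φ : S ⟶ S := ShortComplex.homMk g g₂ g₃ h₂.symm (cokernel.π_desc _ _ _).symm
    have n' := ShortComplex.ShortExact.extClass_naturality hS' hS' (Φ.mapShortComplex.map φ)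
    have n := ShortComplex.ShortExact.extClass_naturality hS hS φ
    have k' : (δ' y).comp (Ext.mk₀ (Φ.map g)) (add_zero (q + 1)) = δ' (y.comp (Ext.mk₀ (Φ.map g₃)) (add_zero q)) := by
      show (y.comp hS'.extClass rfl).comp (Ext.mk₀ (Φ.map g)) _ = (y.comp (Ext.mk₀ (Φ.map g₃)) _).comp hS'.extClass rfl
      rw [Ext.comp_assoc y _ _ rfl (add_zero 1) (by omega), Ext.comp_assoc_of_second_deg_zero]
      exact congrArg (fun z => y.comp z rfl) n'
    have k : (δ (ε' y)).comp (Ext.mk₀ g) (add_zero (q + 1)) = δ ((ε' y).comp (Ext.mk₀ g₃) (add_zero q)) := by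
      show ((ε' y).comp hS.extClass rfl).comp (Ext.mk₀ g) _ = ((ε' y).comp (Ext.mk₀ g₃) _).comp hS.extClass rfl
      rw [Ext.comp_assoc (ε' y) _ _ rfl (add_zero 1) (by omega), Ext.comp_assoc_of_second_deg_zero]
      exact congrArg (fun z => (ε' y).comp z rfl) n
    show E ((δ' y).comp _ _) = (E (δ' y)).comp _ _
    rw [k', hE, hE, k, hε']

end Groth.Agent.EtPBC
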