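import Groth.Agent.EtPBC.CdPExtCmp
import Groth.Agent.EtAssocLib.Compare
import Groth.Agent.EtAssocLib.Ga
import Groth.Agent.QC.Closure
import Groth.Agent.EtMV.Base
import Mathlib

/-!
# Etale cohomology of `𝔾ₐ` is Zariski cohomology of `O`, compatibly with scalars
-/

set_option autoImplicit false
set_option backward.isDefEq.respectTransparency false
set_option backward.isDefEq.respectTransparency.types false
set_option linter.auxLemma false
set_option linter.style.haveILetI false
set_option maxHeartbeats 1000000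

universe u

open CategoryTheory CategoryTheory.Limits AlgebraicGeometry TopologicalSpace Opposite Abelian

noncomputable section

namespace Groth.Agent.EtPBC

open Groth.Agent.EtAssocLib Groth.Agent.AdeqLib Groth.Agent.QC Groth.Agent.QDescent

attribute [local instance 100000] EtCoh.H._proof_1 EtMV.hext
attribute [local instance 200000] EtMV.hextAb

local notation "Kf" => Scheme.fppfPrecoverage

variable {S : Scheme.{u}}

/-- a global function on an étale scheme over `S` -/
abbrev etScal (c : Γ(S, ⊤)) (U : S.Etale) : Γ(U.left, ⊤) := U.hom.appTop c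

/-- multiplication by a global function on `𝔾ₐ` -/
def gaMul (c : Γ(S, ⊤)) : EtCoh.Ga S ⟶ EtCoh.Ga S :=
  ⟨{ app := fun U => AddCommGrpCat.uliftFunctor.{u + 1}.map
        (AddCommGrpCat.ofHom (AddMonoidHom.mulLeft (etScal c U.unop)))
     naturality := by
       intro U V g
       ext ⟨x⟩
       refine congrArg ULift.up ?_
       show etScal c V.unop * g.unop.left.appTop (show Γ(U.unop.left, ⊤) from x) =
         g.unop.left.appTop (etScal c U.unop * (show Γ(U.unop.left, ⊤) from x))
       rw [map_mul]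
       congr 1
       exact (congr($(congrArg Scheme.Hom.appTop (MorphismProperty.Over.w g.unop)).hom c)).symm }⟩

theorem gaMul_app (c : Γ(S, ⊤)) (U : S.Etale) (x : Γ(U.left, ⊤)) :
    (gaMul c).hom.app (op U) (ULift.up x) = ULift.up (etScal c U * x) := rfl

variable (F : S.Modules) [F.IsQuasicoherent]

/-- multiplication by a global function on the big sheaf -/
def bigMul (c : Γ(S, ⊤)) : big F ⟶ big F :=
  ⟨{ app := fun T => AddCommGrpCat.ofHom
      (AddEquiv.ulift.symm.toAddMonoidHom.comp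
        ((DistribSMul.toAddMonoidHom _ (T.unop.hom.appTop c : Γ(T.unop.left, ⊤))).comp AddEquiv.ulift.toAddMonoidHom))
     naturality := by
       intro T T' φ
       ext x
       refine ULift.ext _ _ ?_
       change T'.unop.hom.appTop c • tr (modQ F).obj φ.unop ⊤ ⊤ le_top x.down =
         tr (modQ F).obj φ.unop ⊤ ⊤ le_top (T.unop.hom.appTop c • x.down)
       rw [tr_smul]
       congr 1
       have h : φ.unop.left ≫ T.unop.hom = T'.unop.hom := Over.w φ.unop
       rw [← h, Scheme.Hom.comp_appTop, ConcreteCategory.comp_apply]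
       exact (congr($(Scheme.Hom.appLE_eq_app (f := φ.unop.left) (U := ⊤)).hom (T.unop.hom.appTop c))).symm }⟩

theorem bigMul_app (c : Γ(S, ⊤)) (T : Over S) (x : Γ((Scheme.Modules.pullback T.hom).obj F, ⊤)) :
    (bigMul F c).hom.app (op T) (ULift.up x) = ULift.up (T.hom.appTop c • x) := rfl

/-- the identification with the structure module respects multiplication -/
theorem exists_gaIso : ∃ i : EtCoh.Ga S ≅ (EtFppf.aPush S).obj (big (Coh.structureModule S) (hF := isQCoh_unit S)),
    ∀ c : Γ(S, ⊤), gaMul c ≫ i.hom =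
      i.hom ≫ (EtFppf.aPush S).map (@bigMul S (Coh.structureModule S) (isQCoh_unit S) c) := by
  haveI : (Coh.structureModule S).IsQuasicoherent := isQCoh_unit S
  let e : ∀ U : S.Etale, ((EtCoh.Ga S).obj.obj (op U) : Type (u + 1)) ≃+
      ULift.{u + 1} Γ((Scheme.Modules.pullback U.hom).obj (Coh.structureModule S), ⊤) := fun U =>
    AddEquiv.ulift.trans ((gaEquiv S U.hom).symm.trans AddEquiv.ulift.symm)
  have hnat : ∀ (U U' : S.Etale) (g : U' ⟶ U) (s : (EtCoh.Ga S).obj.obj (op U)),
      (e U' ((EtCoh.Ga S).obj.map g.op s)).down = tr (modQ (Coh.structureModule S)).obj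
        ((EtFppf.a S).map g) ⊤ ⊤ le_top (e U s).down := fun U U' g s => by
    apply (gaEquiv S U'.hom).injective
    refine Eq.trans ?_ (gaEquiv_cmp S g.left (Over.w g.hom) le_top ((gaEquiv S U.hom).symm s.down)).symm
    refine ((gaEquiv S U'.hom).apply_symm_apply _).trans ?_
    refine Eq.trans ?_ (congrArg (fun r : Γ(U.left, ⊤) => (g.left.appLE ⊤ ⊤ le_top).hom r)
      ((gaEquiv S U.hom).apply_symm_apply s.down).symm)
    exact (congr($(Scheme.Hom.appLE_eq_app (f := g.left) (U := ⊤)).hom s.down)).symm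
  let i : EtCoh.Ga S ≅ (EtFppf.aPush S).obj (big (Coh.structureModule S)) :=
    (fullyFaithfulSheafToPresheaf _ _).preimageIso (NatIso.ofComponents (fun U => (e U.unop).toAddCommGrpIso) fun {U V} g => by
      ext s
      exact ULift.ext _ _ (hnat U.unop V.unop g.unop s))
  refine ⟨i, fun c => ?_⟩
  have hi : ∀ (U : S.Etale) (s : (EtCoh.Ga S).obj.obj (op U)), i.hom.hom.app (op U) s = e U s := fun U s => rfl
  ext U s
  obtain ⟨U⟩ := U
  obtain ⟨s⟩ := s
  show i.hom.hom.app (op U) ((gaMul c).hom.app (op U) ⟨s⟩) = (bigMul _ c).hom.app _ (i.hom.hom.app (op U) ⟨s⟩)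
  rw [hi, hi]
  refine ULift.ext _ _ ?_
  show (gaEquiv S U.hom).symm (etScal c U * (show Γ(U.left, ⊤) from s)) =
    U.hom.appTop c • (gaEquiv S U.hom).symm (show Γ(U.left, ⊤) from s)
  apply (gaEquiv S U.hom).injective
  refine ((gaEquiv S U.hom).apply_symm_apply _).trans ?_
  refine Eq.trans ?_ (Scheme.Modules.Hom.app_smul (PicLoc.pullbackStructureIso U.hom).hom
    (U.hom.appTop c) ((gaEquiv S U.hom).symm s)).symm
  exact congrArg (fun r : Γ(U.left, ⊤) => etScal c U * r) ((gaEquiv S U.hom).apply_symm_apply s).symm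

/-- multiplication on opens -/
theorem resZarBigIso_mul (c : Γ(S, ⊤)) :
    (uu S).map (Coh.smulAb F c) ≫ (resZarBigIso F).hom =
      (resZarBigIso F).hom ≫ (BigSite.resZar Kf S).map (bigMul F c) := by
  have hi : ∀ (U : S.Opens) (s : ((uu S).obj (Coh.toAb F)).obj.obj (op U)),
      (resZarBigIso F).hom.hom.app (op U) s = ULift.up (zarMap F U s.down) := fun U s => by
    rw [resZarBigIso, Functor.preimageIso_hom]
    show (((sheafToPresheaf _ _).map ((sheafToPresheaf (Opens.grothendieckTopology S) AddCommGrpCat).preimage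
      (X := (uu S).obj (Coh.toAb F)) _)).app (op U)) s = _
    rw [Functor.map_preimage]
    rfl
  ext U s
  obtain ⟨(U : S.Opens)⟩ := U
  obtain ⟨s⟩ := s
  show (resZarBigIso F).hom.hom.app (op U) (((uu S).map (Coh.smulAb F c)).hom.app (op U) ⟨s⟩) =
    (bigMul F c).hom.app _ ((resZarBigIso F).hom.hom.app (op U) ⟨s⟩)
  rw [hi, hi]
  refine ULift.ext _ _ ?_
  show zarMap F U ((show Γ(S, U) from S.presheaf.map (homOfLE (le_top : U ≤ ⊤)).op c) • (@id Γ(F, U) s)) =
    (Scheme.Opens.ι U).appTop c • zarMap F U (@id Γ(F, U) s)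
  show res _ _ (OmegaSh.pullSect U.ι F U (_ • @id Γ(F, U) s)) = _ • res _ _ (OmegaSh.pullSect U.ι F U (@id Γ(F, U) s))
  rw [OmegaSh.pullSect_smul, res_smul]
  congr 1
  have h1 := congr($(Scheme.Hom.map_appLE U.ι (U := U) (U' := ⊤) (e := (U.ι_preimage_self).ge) (homOfLE (le_top : U ≤ ⊤)).op).hom c)
  refine Eq.trans ?_ (h1.trans (congr($(Scheme.Hom.appLE_eq_app (f := U.ι) (U := ⊤)).hom c)))
  rfl

instance uu_additive : (uu S).Additive := ⟨fun {_ _ _ _} => Sheaf.hom_ext (by ext U x; rfl)⟩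

instance uu_preservesFiniteLimits : PreservesFiniteLimits (uu S) := by
  haveI : PreservesFiniteLimits (uu S ⋙ sheafToPresheaf _ _) :=
    inferInstanceAs (PreservesFiniteLimits (sheafToPresheaf _ _ ⋙
      (Functor.whiskeringRight _ _ _).obj AddCommGrpCat.uliftFunctor.{u + 1}))
  exact preservesFiniteLimits_of_reflects_of_preserves (uu S) (sheafToPresheaf _ _)

/-- **the comparison** -/
theorem exists_gaEquiv (X : Scheme.{u}) (q : ℕ) :
    ∃ E : EtCoh.H X (EtCoh.Ga X) q ≃+ Coh.HH X (Coh.structureModule X) q,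
      ∀ (c : Γ(X, ⊤)) (x : EtCoh.H X (EtCoh.Ga X) q),
        E (Ext.comp x (Ext.mk₀ (gaMul c)) (add_zero q)) = (show Coh.Γtop X from c) • E x := by
  haveI hO : (Coh.structureModule X).IsQuasicoherent := isQCoh_unit X
  let O := Coh.structureModule X
  haveI : (EtFppf.aPush X).IsRightAdjoint := (EtFppf.aAdj X).isRightAdjoint
  haveI : PreservesFiniteLimits (BigSite.resZar Kf X) :=
    have := (BigSite.piZarAdj Kf X).rightAdjoint_preservesLimits
    PreservesLimitsOfSize.preservesFiniteLimits.{u, u} _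
  obtain ⟨i, hi⟩ := exists_gaIso (S := X)
  have hC : IsTerminal (EtCoh.top X) := MorphismProperty.Over.mkIdTerminal _ X
  have hD : IsTerminal ((EtFppf.a X).obj (EtCoh.top X)) := Over.mkIdTerminal
  let eC := fun G => AddEquiv.trans ((constantSheafAdj X.smallEtaleTopology AddCommGrpCat.{u + 1} hC).homAddEquiv
    (AddCommGrpCat.of (ULift ℤ)) G) (AddCommGrpCat.uliftZMultiplesAddEquiv _)
  let eD := fun G => AddEquiv.trans ((constantSheafAdj (EtFppf.J X) AddCommGrpCat.{u + 1} hD).homAddEquiv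
    (AddCommGrpCat.of (ULift ℤ)) G) (AddCommGrpCat.uliftZMultiplesAddEquiv _)
  obtain ⟨E₁, hE₁⟩ := exists_ext_equiv_natural (EtFppf.aPush X) (fun G => TExact (S := X) G)
    (fun Y hY hI h => ⟨epi_aPush Y hY h, haveI := hI; texact_quotient hY h (texact_injective _)⟩) _
    (fun I hI j => by
      haveI := hI
      haveI : Injective ((EtFppf.aPush X).obj I) := BigSiteLib.injective_resEt Scheme.fppfPrecoverage X I
      exact subsingleton_of_forall_eq 0 fun y => Ext.eq_zero_of_injective y) _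
    (fun G => Ext.addEquiv₀.trans ((eC _).trans ((eD G).symm.trans Ext.addEquiv₀.symm)))
    (fun {G G'} g y => by
      obtain ⟨χ, rfl⟩ := (Ext.mk₀_bijective _ _).2 y
      have hm : ∀ {K : EtFppf.AbF X} (ψ : _ ⟶ (EtFppf.aPush X).obj K),
          (Ext.addEquiv₀.trans ((eC ((EtFppf.aPush X).obj K)).trans ((eD K).symm.trans Ext.addEquiv₀.symm))) (Ext.mk₀ ψ) =
            Ext.mk₀ ((eD K).symm (eC _ ψ)) := fun ψ => by
        rw [AddEquiv.trans_apply, AddEquiv.trans_apply, AddEquiv.trans_apply,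
          show Ext.addEquiv₀ (Ext.mk₀ ψ) = ψ from Ext.addEquiv₀.apply_symm_apply ψ]
        rfl
      rw [Ext.mk₀_comp_mk₀, hm, hm, Ext.mk₀_comp_mk₀]
      congr 1
      apply (eD G').injective
      rw [AddEquiv.apply_symm_apply]
      have hCg : eC _ (χ ≫ (EtFppf.aPush X).map g) =
          g.hom.app (op ((EtFppf.a X).obj (EtCoh.top X))) (eC _ χ) := by
        simp only [eC, AddEquiv.trans_apply]; rfl
      have hDg : ∀ z : _ ⟶ G, eD G' (z ≫ g) = g.hom.app (op ((EtFppf.a X).obj (EtCoh.top X))) (eD G z) := fun z => by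
        simp only [eD, AddEquiv.trans_apply]; rfl
      exact hCg.trans ((congrArg (g.hom.app (op ((EtFppf.a X).obj (EtCoh.top X))))
        ((eD G).apply_symm_apply _)).symm.trans (hDg _).symm)) q (big O) (texact_big (modQ O))
  obtain ⟨E₂, hE₂⟩ := exists_ext_equiv_natural (BigSite.resZar Kf X) (fun G => TExact (S := X) G)
    (fun Y hY hI h => ⟨(resZar_shortExact hY h).epi_g, haveI := hI; texact_quotient hY h (texact_injective _)⟩) _
    (fun I hI j => haveI := hI; zarH_acyclic I j) _
    (fun G => h0Equiv (BigSite.zarIncl X) (topTerminal X) topOverTerminal G)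
    (fun {G G'} g y => (h0Equiv_natural (BigSite.zarIncl X) (topTerminal X) topOverTerminal g y).symm)
    q (big O) (texact_big (modQ O))
  obtain ⟨E₃, hE₃⟩ := exists_ext_equiv_natural (uu X) (fun _ => True)
    (fun Y hY _ _ => ⟨(shortExact_uu hY).epi_g, trivial⟩) _
    (fun I hI j => by
      haveI := hI
      exact zflasque_acyclic (zflasque_uu I) j) _
    (fun G => (uuH0 G).trans AddEquiv.ulift)
    (fun {G G'} g y => (uuH0_natural g y).symm) q (Coh.toAb O) trivial
  let E₀ : EtCoh.H X (EtCoh.Ga X) q ≃+ EtCoh.H X ((EtFppf.aPush X).obj (big O)) q :=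
    ((EtCoh.HF X q).mapIso i).addCommGroupIsoToAddEquiv
  let E' : EtZar.H ((BigSite.resZar Kf X).obj (big O)) q ≃+ EtZar.H ((uu X).obj (Coh.toAb O)) q :=
    ((Sheaf.functorH (Opens.grothendieckTopology X) q).mapIso (resZarBigIso O).symm).addCommGroupIsoToAddEquiv
  refine ⟨E₀.trans (E₁.trans ((E₂.symm.trans E').trans E₃)), fun c x => ?_⟩
  have h0 : ∀ z, E₀ z = Ext.comp z (Ext.mk₀ i.hom) (add_zero q) := fun z => rfl
  have h' : ∀ z, E' z = Ext.comp z (Ext.mk₀ (resZarBigIso O).inv) (add_zero q) := fun z => rfl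
  have a1 : E₁ (E₀ (Ext.comp x (Ext.mk₀ (gaMul c)) (add_zero q))) =
      Ext.comp (E₁ (E₀ x)) (Ext.mk₀ (bigMul O c)) (add_zero q) := by
    rw [← hE₁, h0, h0, Ext.comp_assoc_of_second_deg_zero, Ext.comp_assoc_of_second_deg_zero,
      Ext.mk₀_comp_mk₀, Ext.mk₀_comp_mk₀, hi]
  have a2 : ∀ z, E₂.symm (Ext.comp z (Ext.mk₀ (bigMul O c)) (add_zero q)) =
      Ext.comp (E₂.symm z) (Ext.mk₀ ((BigSite.resZar Kf X).map (bigMul O c))) (add_zero q) := fun z => by
    apply E₂.injective
    rw [AddEquiv.apply_symm_apply, hE₂, AddEquiv.apply_symm_apply]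
  have a3 : ∀ z, E' (Ext.comp z (Ext.mk₀ ((BigSite.resZar Kf X).map (bigMul O c))) (add_zero q)) =
      Ext.comp (E' z) (Ext.mk₀ ((uu X).map (Coh.smulAb O c))) (add_zero q) := fun z => by
    rw [h', h', Ext.comp_assoc_of_second_deg_zero, Ext.comp_assoc_of_second_deg_zero,
      Ext.mk₀_comp_mk₀, Ext.mk₀_comp_mk₀]
    congr 2
    rw [Iso.eq_inv_comp, ← Category.assoc, ← resZarBigIso_mul O c, Category.assoc, Iso.hom_inv_id, Category.comp_id]
  simp only [AddEquiv.trans_apply]
  rw [a1, a2, a3, hE₃]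
  rfl

end Groth.Agent.EtPBC
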