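import Groth.Agent.EtPBC.CdTensor
import Groth.Agent.EtPBC.LocSheaf
import Mathlib

/-!
# Higher direct images from a point
-/

set_option autoImplicit false
set_option backward.isDefEq.respectTransparency false
set_option backward.isDefEq.respectTransparency.types false
set_option linter.auxLemma false
set_option linter.style.haveILetI false
set_option linter.unusedSectionVars false
set_option maxHeartbeats 1000000

universe u

open CategoryTheory CategoryTheory.Limits CategoryTheory.Abelian AlgebraicGeometry Opposite TensorProduct

noncomputable section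

namespace Groth.Agent.EtPBC

attribute [local instance 100000] EtCoh.H._proof_1 EtMV.hext
attribute [local instance 200000] EtMV.hextAb

variable {X : Scheme.{u}}

/-- a field over the local ring at `y` with small transcendence degree at `x` -/
def PointBound (x y : X) (h : x ⤳ y) (n : ℕ) : Prop :=
  ∃ (K : Type u) (_ : Field K) (φ : K →+* X.presheaf.stalk y),
    @Algebra.trdeg K (X.residueField x) _ _
      ((((X.presheaf.stalkSpecializes h ≫ X.residue x).hom).comp φ).toAlgebra) ≤ n

/-- the points of a point over a strict localisation form a scheme of small cohomological dimension -/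
theorem kVanOn_pullback_point {L : Set ℕ} (x y : X) {n : ℕ} (hb : ∀ h : x ⤳ y, PointBound x y h n) (R : Type u)
    [CommRing R] [IsLocalRing R] [Algebra (X.presheaf.stalk y) R] [IsLocalHom (algebraMap (X.presheaf.stalk y) R)]
    [_root_.Hensel.IsStrictHenselization (X.presheaf.stalk y) R] :
    KVanOn L (pullback (X.fromSpecResidueField x) (Hens2.specOf X y R)) n := by
  by_cases hxy : x ⤳ y
  · obtain ⟨K, _, φ, hK⟩ := hb hxy
    let A := X.presheaf.stalk y
    let h : A ⟶ X.residueField x := X.presheaf.stalkSpecializes hxy ≫ X.residue x
    letI : Algebra A (X.residueField x) := h.hom.toAlgebra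
    letI : Algebra K A := φ.toAlgebra
    letI : Algebra K (X.residueField x) := (h.hom.comp φ).toAlgebra
    haveI : IsScalarTower K A (X.residueField x) := IsScalarTower.of_algebraMap_eq fun _ => rfl
    have hk := kVanOn_tensor_strictHenselization (L := L) (K := K) (A := A) R (X.residueField x) n hK
    haveI : Mono (X.fromSpecStalk y) := inferInstance
    let a := Spec.map h
    let b := Spec.map (CommRingCat.ofHom (algebraMap A R))
    have hj : a ≫ X.fromSpecStalk y = X.fromSpecResidueField x := by
      show Spec.map (X.presheaf.stalkSpecializes hxy ≫ X.residue x) ≫ _ = _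
      rw [Spec.map_comp, Category.assoc, Scheme.SpecMap_stalkSpecializes_fromSpecStalk]
      rfl
    have hs : b ≫ X.fromSpecStalk y = Hens2.specOf X y R := rfl
    let c : pullback (X.fromSpecResidueField x) (Hens2.specOf X y R) ⟶ pullback a b :=
      pullback.lift (pullback.fst _ _) (pullback.snd _ _) (by
        rw [← cancel_mono (X.fromSpecStalk y), Category.assoc, Category.assoc, hj, hs, pullback.condition])
    haveI : IsIso c := ⟨pullback.lift (pullback.fst _ _) (pullback.snd _ _)
        (by rw [← hj, ← hs, ← Category.assoc, ← Category.assoc, pullback.condition]),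
      pullback.hom_ext (by simp [c]) (by simp [c]), pullback.hom_ext (by simp [c]) (by simp [c])⟩
    exact hk.of_isIntegralHom (c ≫ (pullbackSpecIso A (X.residueField x) R).hom)
  · haveI : IsEmpty ↑(pullback (X.fromSpecResidueField x) (Hens2.specOf X y R)) := ⟨fun z => hxy <| by
      have hc := congr($(pullback.condition (f := X.fromSpecResidueField x) (g := Hens2.specOf X y R)) z)
      have h2 : Hens2.specOf X y R ((pullback.snd (X.fromSpecResidueField x) (Hens2.specOf X y R)) z) ∈
          Set.range (X.fromSpecStalk y) := ⟨_, rfl⟩
      rw [← Scheme.Hom.comp_apply, ← hc, Scheme.Hom.comp_apply, Scheme.fromSpecResidueField_apply,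
        Scheme.range_fromSpecStalk] at h2
      exact h2⟩
    exact fun m _ F _ q hq => subsingleton_H_of_isEmpty _ F q (by omega)

/-- **higher direct images from a maximal point** -/
theorem zeroAt_rpush_loc [IsNoetherian X] {x : X} (hx : IsMaxPt x) (G : EtCoh.Ab (locScheme x)) {m : ℕ}
    (hm : 0 < m) (hG : Killed m G) (y : X) {n : ℕ} (hb : ∀ h : x ⤳ y, PointBound x y h n) (q : ℕ) (hq : n < q) :
    ZeroAt ((EtCoh.Rpush (locι x) q).obj G) y := by
  haveI := quasiCompact_locι hx
  haveI : IsPreimmersion (locι x) := inferInstanceAs (IsPreimmersion (X.fromSpecStalk x))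
  obtain ⟨R, _, _, _, _, hR⟩ := EtBCQ.exists_sh (X.presheaf.stalk y)
  haveI : HenselianLocalRing R := hR.henselian
  haveI : IsSepClosed (IsLocalRing.ResidueField R) := hR.isSepClosure.1
  refine (isZero_stalk_iff_zeroAt (EtBCQ.geomPt_apply y R) _).1 ?_
  obtain ⟨e⟩ := EtStrictLoc.nonempty_stalkRpush (locι x) y R q
  refine IsZero.of_iso ?_ (e.app G)
  refine @AddCommGrpCat.isZero_of_subsingleton _ ?_
  let s := Hens2.specOf X y R
  show Subsingleton (EtCoh.H (pullback (locι x) s) ((EtCoh.pull (pullback.fst (locι x) s)).obj G) q)
  let i : Spec (X.residueField x) ⟶ locScheme x := Spec.map (X.residue x)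
  haveI := subsingleton_locScheme hx
  haveI : IsClosedImmersion i := IsClosedImmersion.spec_of_surjective _ (Scheme.residue_surjective X x)
  haveI : Surjective i := ⟨fun t => ⟨default, Subsingleton.elim _ _⟩⟩
  have hi : i ≫ locι x = X.fromSpecResidueField x := rfl
  let w : pullback (X.fromSpecResidueField x) s ⟶ pullback (locι x) s :=
    pullback.lift (pullback.fst _ _ ≫ i) (pullback.snd _ _) (by rw [Category.assoc, hi, pullback.condition])
  have sq : IsPullback (pullback.fst (X.fromSpecResidueField x) s) w i (pullback.fst (locι x) s) := by
    refine IsPullback.of_bot ?_ (pullback.lift_fst _ _ _).symm (IsPullback.of_hasPullback (locι x) s)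
    rw [hi, show w ≫ pullback.snd (locι x) s = pullback.snd (X.fromSpecResidueField x) s from pullback.lift_snd _ _ _]
    exact IsPullback.of_hasPullback (X.fromSpecResidueField x) s
  haveI : IsIntegralHom w := MorphismProperty.of_isPullback (P := @IsIntegralHom) sq inferInstance
  haveI : UniversallyInjective w := MorphismProperty.of_isPullback (P := @UniversallyInjective) sq inferInstance
  haveI : Surjective w := MorphismProperty.of_isPullback (P := @Surjective) sq ‹_›
  exact subsingleton_H_of_univHomeo w _ q ((kVanOn_pullback_point (L := Set.univ) x y hb R).univ m hm _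
    (killed_pull w (killed_pull _ hG)) q hq)

end Groth.Agent.EtPBC
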