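import Mathlib

/-!
# Periodicity and lifting

If a pair of periodicity sequences maps to another one by the identity on the quotient and by `p` on the
subobject, then classes with coefficients killed by `p` vanish as soon as they vanish on the middle term.
-/

set_option autoImplicit false
set_option linter.style.haveILetI false
set_option linter.unusedSectionVars false

universe v w u

open CategoryTheory CategoryTheory.Limits CategoryTheory.Abelian

noncomputable section

namespace Groth.Agent.EtPBC.CyclicAbs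

variable {C : Type u} [Category.{v} C] [Abelian C] [HasExt.{w} C]

theorem ext_eq_zero_of_lift {T F Q Q' : C} (ε : Q ⟶ T) (D : Q ⟶ Q) (N : T ⟶ Q) (ε' : Q' ⟶ T) (D' : Q' ⟶ Q')
    (N' : T ⟶ Q') [Epi ε] [Epi ε'] [Mono N] [Mono N'] (hDε : D ≫ ε = 0) (hDε' : D' ≫ ε' = 0) (hND : N ≫ D = 0)
    (hND' : N' ≫ D' = 0) (he : (ShortComplex.mk D ε hDε).Exact) (he' : (ShortComplex.mk D' ε' hDε').Exact)
    (hnx : (ShortComplex.mk N D hND).Exact) (hnx' : (ShortComplex.mk N' D' hND').Exact)
    (φ : Q' ⟶ Q) (p : ℕ) (hφε : φ ≫ ε = ε') (hφD : D' ≫ φ = φ ≫ D) (hφN : N' ≫ φ = p • N)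
    (hF : p • 𝟙 F = 0) (d : ℕ) (hQ : ∀ n, d < n → ∀ x : Ext Q F n, x = 0) :
    ∀ n, d < n → ∀ c : Ext T F n, c = 0 := by
  intro n hn' c

  let SA := ShortComplex.mk (kernel.ι ε) ε (kernel.condition ε)
  let SA' := ShortComplex.mk (kernel.ι ε') ε' (kernel.condition ε')
  have hA : SA.ShortExact := { exact := ShortComplex.exact_of_f_is_kernel _ (kernelIsKernel ε) }
  have hA' : SA'.ShortExact := { exact := ShortComplex.exact_of_f_is_kernel _ (kernelIsKernel ε') }
  let e := kernel.lift ε D hDε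
  let e' := kernel.lift ε' D' hDε'
  have hNe : N ≫ e = 0 := by rw [← cancel_mono (kernel.ι ε), Category.assoc, kernel.lift_ι, hND, zero_comp]
  have hNe' : N' ≫ e' = 0 := by rw [← cancel_mono (kernel.ι ε'), Category.assoc, kernel.lift_ι, hND', zero_comp]
  haveI : Epi e := he.epi_kernelLift
  haveI : Epi e' := he'.epi_kernelLift
  let SB := ShortComplex.mk N e hNe
  let SB' := ShortComplex.mk N' e' hNe'
  have hBx : SB.Exact := by
    let ψ : SB ⟶ ShortComplex.mk N D hND :=
      { τ₁ := 𝟙 _, τ₂ := 𝟙 _, τ₃ := kernel.ι ε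
        comm₁₂ := by simp [SB]
        comm₂₃ := by simp [SB, e] }
    exact (ShortComplex.exact_iff_of_epi_of_isIso_of_mono ψ).2 hnx
  have hBx' : SB'.Exact := by
    let ψ : SB' ⟶ ShortComplex.mk N' D' hND' :=
      { τ₁ := 𝟙 _, τ₂ := 𝟙 _, τ₃ := kernel.ι ε'
        comm₁₂ := by simp [SB']
        comm₂₃ := by simp [SB', e'] }
    exact (ShortComplex.exact_iff_of_epi_of_isIso_of_mono ψ).2 hnx'
  have hB : SB.ShortExact := { exact := hBx }
  have hB' : SB'.ShortExact := { exact := hBx' }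
  let ι : kernel ε' ⟶ kernel ε := kernel.map ε' ε φ (𝟙 _) (by rw [hφε, Category.comp_id])
  let fA : SA' ⟶ SA :=
    { τ₁ := ι, τ₂ := φ, τ₃ := 𝟙 _
      comm₁₂ := by simp [SA, SA', ι]
      comm₂₃ := by simp [SA, SA', hφε] }
  let fB : SB' ⟶ SB :=
    { τ₁ := p • 𝟙 _, τ₂ := φ, τ₃ := ι
      comm₁₂ := by simp [SB, SB', hφN]
      comm₂₃ := by
        show φ ≫ e = e' ≫ ι
        rw [← cancel_mono (kernel.ι ε)]
        simp [e, e', ι, hφD] }
  let y : Ext (kernel ε) F (n + 1) := hB.extClass.comp c (add_comm 1 n)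
  have hz : (Ext.mk₀ (p • 𝟙 T)).comp c (zero_add n) = 0 := by
    have h1 : ∀ m : ℕ, (Ext.mk₀ (m • 𝟙 T)).comp c (zero_add n) = m • c := fun m => by
      induction m with
      | zero => rw [zero_smul, zero_smul, Ext.mk₀_zero, Ext.zero_comp]
      | succ m ih => rw [succ_nsmul, succ_nsmul, Ext.mk₀_add, Ext.add_comp, ih, Ext.mk₀_id_comp]
    have h2 : ∀ m : ℕ, m • c = c.comp (Ext.mk₀ (m • 𝟙 F)) (add_zero n) := fun m => by
      induction m with
      | zero => rw [zero_smul, zero_smul, Ext.mk₀_zero, Ext.comp_zero]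
      | succ m ih => rw [succ_nsmul, succ_nsmul, Ext.mk₀_add, Ext.comp_add, ← ih, Ext.comp_mk₀_id]
    rw [h1, h2, hF, Ext.mk₀_zero, Ext.comp_zero]
  have h0 : hA.extClass.comp y (show 1 + (n + 1) = n + 2 by omega) = 0 := by
    have ha := ShortComplex.ShortExact.extClass_naturality hA' hA fA
    have hb := ShortComplex.ShortExact.extClass_naturality hB' hB fB
    calc hA.extClass.comp y (show 1 + (n + 1) = n + 2 by omega)
        = ((Ext.mk₀ (𝟙 T)).comp hA.extClass (zero_add 1)).comp y (show 1 + (n + 1) = n + 2 by omega) := by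
          rw [Ext.mk₀_id_comp]
      _ = (hA'.extClass.comp (Ext.mk₀ ι) (add_zero 1)).comp y (show 1 + (n + 1) = n + 2 by omega) := by
          rw [ha]
      _ = hA'.extClass.comp ((Ext.mk₀ ι).comp y (zero_add (n + 1))) (show 1 + (n + 1) = n + 2 by omega) :=
          Ext.comp_assoc _ _ _ _ _ (by omega)
      _ = 0 := by
          have h3 : (Ext.mk₀ ι).comp y (zero_add (n + 1)) = 0 := by
            rw [← Ext.comp_assoc _ _ _ (zero_add 1) (add_comm 1 n) (show 0 + 1 + n = n + 1 by omega)]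
            rw [← hb, Ext.comp_assoc _ _ _ (add_zero 1) (zero_add n) (show 1 + 0 + n = n + 1 by omega), hz,
              Ext.comp_zero]
          rw [h3, Ext.comp_zero]
  obtain ⟨x, hx⟩ := Ext.contravariant_sequence_exact₁ hA F y _ h0
  have hy : y = 0 := by
    rw [← hx, hQ (n + 1) (by omega) x, Ext.comp_zero]
  obtain ⟨x', hx'⟩ := Ext.contravariant_sequence_exact₁ hB F c _ hy
  rw [← hx', hQ n hn' x', Ext.comp_zero]

end Groth.Agent.EtPBC.CyclicAbs
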