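import Groth.Agent.EtPBC.CyclicExact
import Groth.Agent.EtPBC.CyclicExtAbs
import Groth.Agent.EtPBC.CdDevDeg

/-!
# A cyclic extension of degree `p` inside a cyclic extension of degree `p²` does not lower `cd_p`

The periodicity class of the smaller extension is `p` times the one of the bigger extension.
-/

set_option autoImplicit false
set_option backward.isDefEq.respectTransparency false
set_option backward.isDefEq.respectTransparency.types false
set_option linter.auxLemma false
set_option linter.style.haveILetI false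
set_option linter.unusedSectionVars false

universe u

open CategoryTheory CategoryTheory.Limits CategoryTheory.Abelian AlgebraicGeometry Opposite
open Groth.Agent.GalCohLib (pt ptMap)

noncomputable section

namespace Groth.Agent.EtPBC

attribute [local instance 100000] EtCoh.H._proof_1 EtMV.hext
attribute [local instance 200000] EtMV.hextAb

theorem sum_comp_surjective {G H A : Type*} [Group G] [Group H] [Fintype G] [Fintype H] [AddCommMonoid A]
    (r : G →* H) (hr : Function.Surjective r) {m : ℕ} (hm : Fintype.card G = m * Fintype.card H) (f : H → A) :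
    ∑ x, f (r x) = m • ∑ y, f y := by
  classical
  have hc : ∀ y, (Finset.univ.filter fun x => r x = y).card = m := by
    intro y
    have h1 : ∀ z, (Finset.univ.filter fun x => r x = z).card = (Finset.univ.filter fun x => r x = y).card :=
      fun z => MonoidHom.card_fiber_eq_of_mem_range r (hr z) (hr y)
    have h2 : Fintype.card G = Fintype.card H * (Finset.univ.filter fun x => r x = y).card := by
      rw [← Finset.card_univ, Finset.card_eq_sum_card_fiberwise (f := r) (t := Finset.univ) fun _ _ => Finset.mem_univ _,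
        Finset.sum_congr rfl fun z _ => h1 z, Finset.sum_const, smul_eq_mul, Finset.card_univ]
    rw [hm, mul_comm m] at h2
    exact (Nat.eq_of_mul_eq_mul_left Fintype.card_pos h2).symm
  rw [← Finset.sum_fiberwise Finset.univ r fun x => f (r x), Finset.smul_sum]
  refine Finset.sum_congr rfl fun y _ => ?_
  rw [Finset.sum_congr rfl fun x hx => by rw [(Finset.mem_filter.1 hx).2], Finset.sum_const, hc]

variable (p : ℕ) [hpp : Fact p.Prime] (d : ℕ)

namespace Cyclic

variable (k : Type u) [Field k] (M M' : Type u) [Field M] [Field M'] [Algebra k M] [Algebra k M'] [Algebra M M']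
  [IsScalarTower k M M'] [FiniteDimensional k M] [Algebra.IsSeparable k M] [FiniteDimensional k M']
  [Algebra.IsSeparable k M'] [IsGalois k M] [IsGalois k M']

theorem ptMap_aug : (EtMV.P _).map (ptMap k M M') ≫ aug k M = aug k M' := by
  rw [aug, aug, ← Functor.map_comp, EtMV.hom_top_ext (ptMap k M M' ≫ EtMV.toTop (pt k M)) (EtMV.toTop (pt k M'))]

theorem act_ptMap (h : M' ≃ₐ[k] M') :
    act k M' h ≫ ptMap k M M' = ptMap k M M' ≫ act k M (AlgEquiv.restrictNormalHom M h) := by
  apply MorphismProperty.Over.Hom.ext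
  rw [MorphismProperty.Comma.comp_left, MorphismProperty.Comma.comp_left]
  show Spec.map _ ≫ Spec.map _ = Spec.map _ ≫ Spec.map _
  rw [← Spec.map_comp, ← Spec.map_comp]
  congr 1
  exact CommRingCat.hom_ext (RingHom.ext fun x => (h.restrictNormal_commutes M x).symm)

theorem diff_ptMap (h : M' ≃ₐ[k] M') :
    diff k M' h ≫ (EtMV.P _).map (ptMap k M M') =
      (EtMV.P _).map (ptMap k M M') ≫ diff k M (AlgEquiv.restrictNormalHom M h) := by
  rw [diff, diff, Preadditive.sub_comp, Preadditive.comp_sub, Category.id_comp, Category.comp_id,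
    ← Functor.map_comp, act_ptMap, Functor.map_comp]

theorem norm_ptMap (m : ℕ) (hm : Module.finrank k M' = m * Module.finrank k M) :
    norm k M' ≫ (EtMV.P _).map (ptMap k M M') = m • norm k M := by
  classical
  have hinj : ∀ a b : EtCoh.sect (Q₀ k M) (EtCoh.top _),
      EtFLC.res (Q₀ k M) (EtMV.toTop (pt k M')) a = EtFLC.res (Q₀ k M) (EtMV.toTop (pt k M')) b → a = b := by
    intro a b hab
    exact EtFLC.sect_ext (Q₀ k M) fun x => ⟨pt k M', EtMV.toTop (pt k M'),
      (default : ↥(Spec (CommRingCat.of M'))), @Subsingleton.elim ↥(Spec (CommRingCat.of k)) _ _ _, hab⟩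
  apply EtMV.σ.injective
  refine hinj _ _ ?_
  have h2 : ∀ n : ℕ, EtMV.σ (n • norm k M) = n • EtMV.σ (norm k M) := fun n => by
    induction n with
    | zero =>
      rw [zero_smul, zero_smul]
      have h0 := EtMV.σ_add (0 : T₀ k ⟶ Q₀ k M) 0
      rw [add_zero, left_eq_add] at h0
      exact h0
    | succ n ih => rw [succ_nsmul, succ_nsmul, EtMV.σ_add, ih]
  rw [h2, map_nsmul, EtMV.σ_comp]
  rw [show EtFLC.res (Q₀ k M) (EtMV.toTop (pt k M')) (EtMV.σ (norm k M)) =
      EtFLC.res (Q₀ k M) (ptMap k M M') (EtFLC.res (Q₀ k M) (EtMV.toTop (pt k M)) (EtMV.σ (norm k M))) by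
      rw [EtFLC.res_res, EtMV.hom_top_ext (ptMap k M M' ≫ EtMV.toTop (pt k M)) (EtMV.toTop (pt k M'))],
    norm_spec, map_sum]
  rw [← EtFLC.app_res, norm_spec, map_sum]
  refine Eq.trans (Finset.sum_congr rfl fun h _ => ?_)
    (sum_comp_surjective (AlgEquiv.restrictNormalHom M : (M' ≃ₐ[k] M') →* (M ≃ₐ[k] M))
      (AlgEquiv.restrictNormalHom_surjective M') (m := m) ?_ fun g => EtFLC.res (Q₀ k M) (ptMap k M M')
        (EtFLC.res (Q₀ k M) (act k M g) (EtMV.uel (pt k M))))
  · rw [EtFLC.app_res, ← EtMV.σ_eq, EtFLC.res_res, ← act_ptMap, ← EtFLC.res_res]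
    congr 1
    rw [← Category.comp_id ((EtMV.P _).map (ptMap k M M')), EtMV.σ_map]
    rfl
  · rw [← Nat.card_eq_fintype_card, ← Nat.card_eq_fintype_card, IsGalois.card_aut_eq_finrank,
      IsGalois.card_aut_eq_finrank, hm]

end Cyclic

variable (k : Type u) [Field k] (M M' : Type u) [Field M] [Field M'] [Algebra k M] [Algebra k M'] [Algebra M M']
  [IsScalarTower k M M'] [FiniteDimensional k M] [Algebra.IsSeparable k M] [FiniteDimensional k M']
  [Algebra.IsSeparable k M'] [IsGalois k M] [IsGalois k M']

/-- **lifting to a cyclic extension of degree `p²`** -/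
theorem kVanOn_of_cyclic_lift [IsCyclic (M' ≃ₐ[k] M')] (hd : Module.finrank k M' = p * Module.finrank k M)
    (h : KVanOn {p} (Spec (CommRingCat.of M)) d) : KVanOn {p} (Spec (CommRingCat.of k)) d := by
  let X := Spec (CommRingCat.of k)
  obtain ⟨g', hg'⟩ := IsCyclic.exists_generator (α := M' ≃ₐ[k] M')
  let r : (M' ≃ₐ[k] M') →* (M ≃ₐ[k] M) := AlgEquiv.restrictNormalHom M
  have hg : ∀ x, x ∈ Subgroup.zpowers (r g') := fun x => by
    obtain ⟨y, rfl⟩ := AlgEquiv.restrictNormalHom_surjective (F := k) (K₁ := M) M' x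
    obtain ⟨i, rfl⟩ := hg' y
    exact ⟨i, (map_zpow r g' i).symm⟩
  let h' := Spec.map (CommRingCat.ofHom (algebraMap k M))
  haveI : Etale h' := GalCohLib.etale_spec k M
  haveI := Groth.Agent.EtPullExact.pull_preservesFiniteLimits h'
  haveI := EtMV.jcont_etale h'
  haveI := Cyclic.epi_aug k M
  haveI := Cyclic.epi_aug k M'
  haveI := Cyclic.mono_norm k M
  haveI := Cyclic.mono_norm k M'
  have hp1 : ∀ F : EtCoh.Ab X, Killed p F → ∀ n, d < n → Subsingleton (EtCoh.H X F n) := by
    intro F hF n hn
    refine subsingleton_of_forall_eq 0 fun x => ?_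
    refine (EtMV.eX X F n).symm.map_eq_zero_iff.mp ?_
    refine CyclicAbs.ext_eq_zero_of_lift (Cyclic.aug k M) (Cyclic.diff k M (r g')) (Cyclic.norm k M)
      (Cyclic.aug k M') (Cyclic.diff k M' g') (Cyclic.norm k M') (Cyclic.diff_aug k M _) (Cyclic.diff_aug k M' _)
      (Cyclic.norm_diff k M _) (Cyclic.norm_diff k M' _) (Cyclic.exact_diff_aug k M _ hg)
      (Cyclic.exact_diff_aug k M' _ hg') (Cyclic.exact_norm_diff k M _ hg) (Cyclic.exact_norm_diff k M' _ hg')
      ((EtMV.P _).map (ptMap k M M')) p (Cyclic.ptMap_aug k M M') (Cyclic.diff_ptMap k M M' g')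
      (Cyclic.norm_ptMap k M M' p hd) ((killed_iff p F).1 hF) d (fun m hm c => ?_) n hn _
    refine (EtMV.Φe h' F m).map_eq_zero_iff.mp ?_
    exact @Subsingleton.elim (EtCoh.H _ ((EtCoh.pull h').obj F) m)
      (h p ⟨hpp.out.pos, fun l hl hd => Set.mem_singleton_iff.2
        ((Nat.prime_dvd_prime_iff_eq hl hpp.out).1 hd)⟩ _ (killed_pull h' hF) m hm) _ _
  intro m hm F hF n hn
  have e : m = p ^ m.primeFactorsList.length := Nat.eq_prime_pow_of_unique_prime_dvd hm.1.ne'
    fun hp hd => Set.mem_singleton_iff.1 (hm.2 _ hp hd)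
  rw [e] at hF
  clear e hm
  generalize m.primeFactorsList.length = a at hF
  induction a generalizing F with
  | zero =>
    refine subsingleton_of_forall_eq 0 fun x => ?_
    rw [← one_nsmul x]
    exact nsmul_eq_zero_of_killed F 1 (pow_zero p ▸ hF) n x
  | succ a ih =>
    let f : F ⟶ F := p • 𝟙 F
    have hS : (ShortComplex.mk (Abelian.image.ι f) (cokernel.π f) (kernel.condition (cokernel.π f))).ShortExact :=
      { exact := ShortComplex.exact_of_f_is_kernel _ (kernelIsKernel (cokernel.π f)) }
    have hC : Killed p (cokernel f) := by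
      rw [killed_iff]
      rw [← cancel_epi (cokernel.π f), comp_zero, Preadditive.comp_nsmul, Category.comp_id]
      have h0 := cokernel.condition f
      rw [show f = p • 𝟙 F from rfl, Preadditive.nsmul_comp, Category.id_comp] at h0
      exact h0
    have hI : Killed (p ^ a) (Abelian.image f) := by
      rw [killed_iff, ← cancel_epi (Abelian.factorThruImage f), ← cancel_mono (Abelian.image.ι f), comp_zero,
        zero_comp, Preadditive.comp_nsmul, Category.comp_id, Preadditive.nsmul_comp, Abelian.image.fac]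
      have h0 := (killed_iff _ F).1 hF
      rwa [pow_succ, mul_nsmul'] at h0
    refine subsingleton_of_forall_eq 0 fun x => ?_
    haveI := hp1 _ hC n hn
    obtain ⟨y, rfl⟩ := Ext.covariant_sequence_exact₂ (EtCoh.const _ ℤ) hS x
      (@Subsingleton.elim (EtCoh.H X (cokernel f) n) _ _ _)
    rw [show y = 0 from @Subsingleton.elim (EtCoh.H X (Abelian.image f) n) (ih _ hI) y 0, Ext.zero_comp]

end Groth.Agent.EtPBC
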