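import Groth.Agent.EtPBC.RealClosure
import Groth.Agent.EtPBC.CyclicLift
import Groth.Agent.EtPBC.CdSerre
import Groth.Agent.EtPBC.CdTensor
import Groth.Agent.EtPBC.HensDvrPos
import Groth.Agent.EtPBC.FieldTrdeg

/-!
# Orderable fields have infinite `cd_2`
-/

set_option autoImplicit false
set_option backward.isDefEq.respectTransparency false
set_option backward.isDefEq.respectTransparency.types false
set_option linter.auxLemma false
set_option linter.style.haveILetI false
set_option linter.unusedSectionVars false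

universe v w u

open CategoryTheory CategoryTheory.Limits CategoryTheory.Abelian AlgebraicGeometry Opposite Polynomial
open Groth.Agent.GalCohLib (pt ptMap)

noncomputable section

namespace Groth.Agent.EtPBC

namespace CyclicAbs

variable {C : Type u} [Category.{v} C] [Abelian C] [HasExt.{w} C]

/-- the periodicity map is injective where the middle term has no classes -/
theorem ext_eq_zero_of_periodic {T F Q : C} (ε : Q ⟶ T) (D : Q ⟶ Q) (N : T ⟶ Q) [Epi ε] [Mono N] (hDε : D ≫ ε = 0)
    (hND : N ≫ D = 0) (he : (ShortComplex.mk D ε hDε).Exact) (hnx : (ShortComplex.mk N D hND).Exact) (n : ℕ)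
    (h0 : ∀ x : Ext Q F n, x = 0) (h1 : ∀ x : Ext Q F (n + 1), x = 0) (h2 : ∀ c : Ext T F (n + 2), c = 0)
    (c : Ext T F n) : c = 0 := by
  let SA := ShortComplex.mk (kernel.ι ε) ε (kernel.condition ε)
  have hA : SA.ShortExact := { exact := ShortComplex.exact_of_f_is_kernel _ (kernelIsKernel ε) }
  let e := kernel.lift ε D hDε
  have hNe : N ≫ e = 0 := by rw [← cancel_mono (kernel.ι ε), Category.assoc, kernel.lift_ι, hND, Limits.zero_comp]
  haveI : Epi e := he.epi_kernelLift
  let SB := ShortComplex.mk N e hNe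
  have hBx : SB.Exact := by
    let ψ : SB ⟶ ShortComplex.mk N D hND :=
      { τ₁ := 𝟙 _, τ₂ := 𝟙 _, τ₃ := kernel.ι ε
        comm₁₂ := by simp [SB]
        comm₂₃ := by simp [SB, e] }
    exact (ShortComplex.exact_iff_of_epi_of_isIso_of_mono ψ).2 hnx
  have hB : SB.ShortExact := { exact := hBx }
  let y : Ext (kernel ε) F (n + 1) := hB.extClass.comp c (add_comm 1 n)
  obtain ⟨x, hx⟩ := Ext.contravariant_sequence_exact₁ hA F y (show 1 + (n + 1) = n + 2 by omega) (h2 _)
  have hy : y = 0 := by rw [← hx, h1 x, Ext.comp_zero]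
  obtain ⟨x', hx'⟩ := Ext.contravariant_sequence_exact₁ hB F c _ hy
  rw [← hx', h0 x', Ext.comp_zero]

end CyclicAbs

attribute [local instance 100000] EtCoh.H._proof_1 EtMV.hext
attribute [local instance 200000] EtMV.hextAb

/-- above a separably closed cyclic extension the cohomology is periodic -/
theorem subsingleton_H_of_periodic (k : Type u) [Field k] (M : Type u) [Field M] [Algebra k M]
    [FiniteDimensional k M] [Algebra.IsSeparable k M] [IsGalois k M] [IsCyclic (M ≃ₐ[k] M)] [IsSepClosed M]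
    (F : EtCoh.Ab (Spec (CommRingCat.of k))) (m : ℕ) (hm : 0 < m) (hF : Killed m F) (n : ℕ) (hn : 0 < n)
    (h : Subsingleton (EtCoh.H (Spec (CommRingCat.of k)) F (n + 2))) :
    Subsingleton (EtCoh.H (Spec (CommRingCat.of k)) F n) := by
  let X := Spec (CommRingCat.of k)
  obtain ⟨g, hg⟩ := IsCyclic.exists_generator (α := M ≃ₐ[k] M)
  let h' := Spec.map (CommRingCat.ofHom (algebraMap k M))
  haveI : Etale h' := GalCohLib.etale_spec k M
  haveI := Groth.Agent.EtPullExact.pull_preservesFiniteLimits h'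
  haveI := EtMV.jcont_etale h'
  haveI := Cyclic.epi_aug k M
  haveI := Cyclic.mono_norm k M
  have hQ : ∀ q, 0 < q → ∀ x : Ext ((EtMV.P X).obj (pt k M)) F q, x = 0 := fun q hq x =>
    (EtMV.Φe h' F q).map_eq_zero_iff.mp (@Subsingleton.elim (EtCoh.H _ ((EtCoh.pull h').obj F) q)
      (kVanOn_sepClosed (L := Set.univ) M m ⟨hm, fun _ _ _ => Set.mem_univ _⟩ _ (killed_pull h' hF) q hq) _ _)
  refine subsingleton_of_forall_eq 0 fun x => ?_
  refine (EtMV.eX X F n).symm.map_eq_zero_iff.mp ?_
  refine CyclicAbs.ext_eq_zero_of_periodic (Cyclic.aug k M) (Cyclic.diff k M g) (Cyclic.norm k M)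
    (Cyclic.diff_aug k M g) (Cyclic.norm_diff k M g) (Cyclic.exact_diff_aug k M g hg)
    (Cyclic.exact_norm_diff k M g hg) n (hQ n hn) (hQ (n + 1) (by omega)) (fun c => ?_) _
  exact (EtMV.eX X F (n + 2)).map_eq_zero_iff.mp
    (@Subsingleton.elim (EtCoh.H X F (n + 2)) h _ _)

/-- `R(√-1)` is separably closed -/
theorem isSepClosed_of_maxReal (R : Type u) [Field R] [CharZero R] (hR : RealClos.IsMaxReal R) (M : Type u) [Field M]
    [Algebra R M] [FiniteDimensional R M] (hdeg : Module.finrank R M = 2) (i : M) (hi : i * i = -1) :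
    IsSepClosed M := by
  refine IsSepClosed.of_exists_root M fun f hf hirr hsep => ?_
  let N := SplittingField f
  haveI : IsScalarTower R M N := inferInstance
  haveI : FiniteDimensional R N := FiniteDimensional.trans R M N
  haveI : Algebra.IsSeparable R N := Algebra.IsAlgebraic.isSeparable_of_perfectField
  let Ω := AlgebraicClosure R
  let G := IntermediateField.normalClosure R N Ω
  haveI : IsGalois R G := IsGalois.normalClosure R N Ω
  let e : N →ₐ[R] Ω := IsAlgClosed.lift
  let eG : N →ₐ[R] G := AlgHom.codRestrict e G.toSubalgebra fun x => e.fieldRange_le_normalClosure ⟨x, rfl⟩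
  have hG := hR.finrank_le_two G (eG (algebraMap M N i)) (by
    rw [← map_mul, ← map_mul, hi, map_neg, map_one, map_neg, map_one])
  have hle : Module.finrank R N ≤ 2 :=
    (LinearMap.finrank_le_finrank_of_injective (f := eG.toLinearMap) eG.toRingHom.injective).trans hG.le
  have hmul := Module.finrank_mul_finrank R M N
  rw [hdeg] at hmul
  have h1 : Module.finrank M N = 1 := by
    have : 0 < Module.finrank M N := Module.finrank_pos
    omega
  have hb : Function.Surjective (algebraMap M N) := fun y => by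
    have := (Subalgebra.bot_eq_top_of_finrank_eq_one h1).symm ▸ Algebra.mem_top (R := M) (x := y)
    exact Algebra.mem_bot.1 this
  have hd0 : (f.map (algebraMap M N)).degree ≠ 0 := by
    rw [degree_map]; exact (degree_pos_of_irreducible hirr).ne'
  obtain ⟨x, hx⟩ := Splits.exists_eval_eq_zero (SplittingField.splits f) hd0
  obtain ⟨z, rfl⟩ := hb x
  refine ⟨z, (algebraMap M N).injective ?_⟩
  rwa [Polynomial.eval_map, eval₂_at_apply, ← map_zero (algebraMap M N)] at hx

/-- **semireal fields have infinite `cd_2`** -/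
theorem not_kVanOn_two_of_semireal (L : Type u) [Field L] (hL : ¬ IsSumSq (-1 : L)) (d : ℕ) :
    ¬ KVanOn {2} (Spec (CommRingCat.of L)) d := by
  intro hd
  haveI : Fact (Nat.Prime 2) := ⟨Nat.prime_two⟩
  obtain ⟨R, _, _, _, hR⟩ := RealClos.exists_maxReal L hL
  have hdR : KVanOn {2} (Spec (CommRingCat.of R)) d := kVanOn_of_isAlgebraic hd R
  haveI : IsSemireal R := IsSemireal.of_not_isSumSq_neg_one hR.semireal
  haveI : CharZero R := inferInstance
  have hsq : ∀ b : R, b ^ 2 ≠ -1 := fun b hb => hR.semireal (by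
    have := IsSumSq.mul_self b
    rwa [← sq, hb] at this)
  have H : Irreducible (X ^ 2 - C (-1 : R)) := X_pow_sub_C_irreducible_of_prime Nat.prime_two hsq
  haveI := Fact.mk H
  let M := AdjoinRoot (X ^ 2 - C (-1 : R))
  haveI : FiniteDimensional R M := (monic_X_pow_sub_C (-1 : R) two_ne_zero).finite_adjoinRoot
  let i : M := AdjoinRoot.root _
  have hi : i * i = -1 := by
    have h0 := AdjoinRoot.eval₂_root (X ^ 2 - C (-1 : R))
    rw [eval₂_sub, eval₂_X_pow, eval₂_C, sub_eq_zero] at h0
    rw [← sq]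
    exact h0.trans (by simp)
  have hrk : (primitiveRoots 2 R).Nonempty := ⟨-1, (mem_primitiveRoots two_pos).2 <| by
    refine IsPrimitiveRoot.iff_orderOf.2 (orderOf_eq_prime (by simp) ?_)
    norm_num⟩
  haveI : IsSplittingField R M (X ^ 2 - C (-1 : R)) := isSplittingField_AdjoinRoot_X_pow_sub_C hrk H
  haveI : IsGalois R M := isGalois_of_isSplittingField_X_pow_sub_C hrk H M
  haveI : IsCyclic (M ≃ₐ[R] M) := isCyclic_of_isSplittingField_X_pow_sub_C hrk H M
  have hdeg : Module.finrank R M = 2 := finrank_of_isSplittingField_X_pow_sub_C hrk H M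
  haveI : IsSepClosed M := isSepClosed_of_maxReal R hR M hdeg i hi
  -- periodicity
  let X₀ := Spec (CommRingCat.of R)
  have hmem : EtAcyc.PrimesIn {2} 2 := ⟨two_pos, fun l hl hd =>
    Set.mem_singleton_iff.2 ((Nat.prime_dvd_prime_iff_eq hl Nat.prime_two).1 hd)⟩
  have hvan : ∀ j n, 0 < n → d < n + 2 * j → Subsingleton (EtCoh.H X₀ (EtCoh.mu X₀ 2) n) := by
    intro j
    induction j with
    | zero => exact fun n _ hn => hdR 2 hmem _ (killed_mu 2) n (by simpa using hn)
    | succ j ih =>
      exact fun n hn0 hn => subsingleton_H_of_periodic R M _ 2 two_pos (killed_mu 2) n hn0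
        (ih (n + 2) (by omega) (by omega))
  haveI := hvan d 1 one_pos (by omega)
  have hu : IsUnit (2 : Γ(X₀, ⊤)) := by
    rw [← map_ofNat (Scheme.ΓSpecIso (CommRingCat.of R)).inv.hom 2]
    exact (IsUnit.mk0 (2 : R) two_ne_zero).map _
  have hm : Epi (EtCoh.powMap X₀ 2) := Groth.Agent.S0108.result X₀ 2 (by exact_mod_cast hu)
  obtain ⟨b, hb⟩ := exists_pow_eq_of_kumClass_eq_zero 2 R hm (-1 : Rˣ) (Subsingleton.elim _ _)
  exact hsq b (by simpa using hb)

/-- orderable fields have infinite `cd_2` -/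
theorem not_kVanOn_two_of_orderable (L : Type u) [Field L] (h : ∃ _ : LinearOrder L, IsStrictOrderedRing L) (d : ℕ) :
    ¬ KVanOn {2} (Spec (CommRingCat.of L)) d := by
  obtain ⟨o, ho⟩ := h
  exact not_kVanOn_two_of_semireal L (IsSemireal.not_isSumSq_neg_one L) d

end Groth.Agent.EtPBC
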