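import Mathlib

/-!
# A field without ordering has `-1` as a sum of squares (Artin–Schreier)
-/

set_option autoImplicit false
set_option linter.style.haveILetI false

universe u

namespace Groth.Agent.EtPBC

variable (k : Type u) [Field k]

/-- a preordered subsemiring: contains the squares but not `-1` -/
def IsPre (T : Subsemiring k) : Prop := (∀ x : k, x * x ∈ T) ∧ (-1 : k) ∉ T

theorem exists_maximal_pre (h : ¬ IsSumSq (-1 : k)) : ∃ T : Subsemiring k, Maximal (IsPre k) T := by
  have h0 : IsPre k (Subsemiring.closure (Set.range fun x : k => x * x)) := by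
    refine ⟨fun x => Subsemiring.subset_closure ⟨x, rfl⟩, fun hm => h ?_⟩
    generalize (-1 : k) = z at hm ⊢
    induction hm using Subsemiring.closure_induction with
    | mem y hy => obtain ⟨x, rfl⟩ := hy; exact IsSumSq.mul_self x
    | zero => exact IsSumSq.zero
    | one => exact mul_one (1 : k) ▸ IsSumSq.mul_self (1 : k)
    | add x y _ _ hx hy => exact hx.add hy
    | mul x y _ _ hx hy => exact hx.mul hy
  obtain ⟨T, -, hT⟩ := zorn_le_nonempty₀ {T : Subsemiring k | IsPre k T} (fun c hc hch y hy => by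
    refine ⟨sSup c, ⟨fun x => ?_, fun hm => ?_⟩, fun z hz => le_sSup hz⟩
    · exact (le_sSup hy : y ≤ sSup c) ((hc hy).1 x)
    · rw [Subsemiring.mem_sSup_of_directedOn ⟨y, hy⟩ hch.directedOn] at hm
      obtain ⟨S, hS, hS1⟩ := hm
      exact (hc hS).2 hS1) _ h0
  exact ⟨T, hT⟩

theorem mem_or_neg_mem {T : Subsemiring k} (hT : Maximal (IsPre k) T) (a : k) : a ∈ T ∨ -a ∈ T := by
  by_contra hne
  obtain ⟨ha, hna⟩ := not_or.1 hne
  have hsq := hT.prop.1
  let T' : Subsemiring k :=
    { carrier := {x | ∃ t ∈ T, ∃ s ∈ T, x = t + a * s}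
      zero_mem' := ⟨0, T.zero_mem, 0, T.zero_mem, by ring⟩
      one_mem' := ⟨1, T.one_mem, 0, T.zero_mem, by ring⟩
      add_mem' := by
        rintro _ _ ⟨t, ht, s, hs, rfl⟩ ⟨t', ht', s', hs', rfl⟩
        exact ⟨t + t', T.add_mem ht ht', s + s', T.add_mem hs hs', by ring⟩
      mul_mem' := by
        rintro _ _ ⟨t, ht, s, hs, rfl⟩ ⟨t', ht', s', hs', rfl⟩
        exact ⟨t * t' + a * a * (s * s'), T.add_mem (T.mul_mem ht ht') (T.mul_mem (hsq a) (T.mul_mem hs hs')),
          t * s' + s * t', T.add_mem (T.mul_mem ht hs') (T.mul_mem hs ht'), by ring⟩ }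
  have hle : T ≤ T' := fun x hx => ⟨x, hx, 0, T.zero_mem, by ring⟩
  have hpre : IsPre k T' := by
    refine ⟨fun x => hle (hsq x), ?_⟩
    rintro ⟨t, ht, s, hs, h1⟩
    by_cases hs0 : s = 0
    · exact hT.prop.2 (by rw [h1, hs0, mul_zero, add_zero]; exact ht)
    · have : -a = (1 + t) * s * (s⁻¹ * s⁻¹) := by field_simp; linear_combination h1
      exact hna (this ▸ T.mul_mem (T.mul_mem (T.add_mem T.one_mem ht) hs) (hsq _))
  exact ha (hT.2 hpre hle ⟨0, T.zero_mem, 1, T.one_mem, by ring⟩)

/-- **Artin–Schreier**: a field in which `-1` is not a sum of squares can be ordered. -/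
theorem exists_ordering_of_not_isSumSq (h : ¬ IsSumSq (-1 : k)) :
    ∃ _ : LinearOrder k, IsStrictOrderedRing k := by
  classical
  obtain ⟨T, hT⟩ := exists_maximal_pre k h
  have hanti : ∀ x, x ∈ T → -x ∈ T → x = 0 := fun x hx hnx => by
    by_contra hx0
    exact hT.prop.2 ((show (-1 : k) = -x * x * (x⁻¹ * x⁻¹) by field_simp) ▸
      T.mul_mem (T.mul_mem hnx hx) (hT.prop.1 _))
  let L : LinearOrder k :=
    { le := fun a b => b - a ∈ T
      le_refl := fun a => by simp
      le_trans := fun a b c hab hbc => by simpa using T.add_mem hbc hab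
      le_antisymm := fun a b hab hba =>
        sub_eq_zero.1 (hanti (a - b) hba (by rw [neg_sub]; exact hab))
      le_total := fun a b => (mem_or_neg_mem k hT (b - a)).imp id fun h' => by
        show a - b ∈ T
        rwa [neg_sub] at h'
      toDecidableLE := fun a b => Classical.propDecidable _ }
  refine ⟨L, ?_⟩
  have hadd : IsOrderedAddMonoid k :=
    { add_le_add_left := fun a b hab c => show b + c - (a + c) ∈ T from (add_sub_add_right_eq_sub b a c).symm ▸ hab
      add_le_add_right := fun a b hab c => show c + b - (c + a) ∈ T from (add_sub_add_left_eq_sub b a c).symm ▸ hab }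
  haveI : ZeroLEOneClass k := ⟨show (1 : k) - 0 ∈ T by simp⟩
  refine IsStrictOrderedRing.of_mul_pos fun a b ha hb => lt_of_le_of_ne ?_ (mul_ne_zero ha.ne' hb.ne').symm
  have ha' : a - 0 ∈ T := ha.le
  have hb' : b - 0 ∈ T := hb.le
  show a * b - 0 ∈ T
  rw [sub_zero] at ha' hb' ⊢
  exact T.mul_mem ha' hb'

end Groth.Agent.EtPBC

namespace Groth.Agent.EtPBC

/-- non-orderable fields have non-orderable extensions -/
theorem not_orderable_of_ringHom {k K : Type u} [Field k] [Field K] (f : k →+* K)
    (h : ¬ ∃ _ : LinearOrder k, IsStrictOrderedRing k) : ¬ ∃ _ : LinearOrder K, IsStrictOrderedRing K := by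
  rintro ⟨L, hL⟩
  have hk : IsSumSq (-1 : k) := by
    by_contra hns
    exact h (exists_ordering_of_not_isSumSq k hns)
  have h0 : ∀ z : k, IsSumSq z → IsSumSq (f z) := fun z hz => by
    induction hz with
    | zero => rw [map_zero]; exact IsSumSq.zero
    | sq_add a _ ih => rw [map_add, map_mul]; exact IsSumSq.sq_add _ ih
  have h1 := h0 _ hk
  rw [map_neg, map_one] at h1
  exact IsSemireal.not_isSumSq_neg_one K h1

end Groth.Agent.EtPBC
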