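import Groth.Agent.EtPBC.CyclicLift
import Groth.Agent.EtPBC.FieldOrdering

/-!
# `cd_p` descends along a cyclic extension of degree `p` (Serre), the elementary steps
-/

set_option autoImplicit false
set_option backward.isDefEq.respectTransparency false
set_option backward.isDefEq.respectTransparency.types false
set_option linter.auxLemma false
set_option linter.style.haveILetI false
set_option linter.unusedSectionVars false

universe u

open CategoryTheory CategoryTheory.Limits AlgebraicGeometry Opposite Polynomial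

noncomputable section

namespace Groth.Agent.EtPBC

attribute [local instance 100000] EtCoh.H._proof_1 EtMV.hext
attribute [local instance 200000] EtMV.hextAb

variable (p : ℕ) [hpp : Fact p.Prime] (d : ℕ)

/-- finite extensions do not raise `cd` -/
theorem kVanOn_of_algHom (k M M' : Type u) [Field k] [Field M] [Field M'] [Algebra k M] [Algebra k M']
    [FiniteDimensional k M'] (f : M →ₐ[k] M') (h : KVanOn {p} (Spec (CommRingCat.of M)) d) :
    KVanOn {p} (Spec (CommRingCat.of M')) d := by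
  have hi : f.toRingHom.IsIntegral := by
    refine RingHom.IsIntegral.tower_top (algebraMap k M) f.toRingHom ?_
    rw [show f.toRingHom.comp (algebraMap k M) = algebraMap k M' from RingHom.ext f.commutes]
    exact algebraMap_isIntegral_iff.2 inferInstance
  haveI : IsIntegralHom (Spec.map (CommRingCat.ofHom f.toRingHom)) := IsIntegralHom.SpecMap_iff.2 hi
  exact h.of_isIntegralHom (Spec.map (CommRingCat.ofHom f.toRingHom))

/-- a cyclic extension of degree `p` of a field with the roots of unity is a Kummer extension -/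
theorem exists_kummer (k M : Type u) [Field k] [Field M] [Algebra k M] [IsGalois k M] [FiniteDimensional k M]
    (hdeg : Module.finrank k M = p) (ζ : k) (hζ : IsPrimitiveRoot ζ p) :
    ∃ (a : k) (_ : Irreducible (X ^ p - C a)), Nonempty (M →ₐ[k] AdjoinRoot (X ^ p - C a)) := by
  haveI : IsCyclic (M ≃ₐ[k] M) := isCyclic_of_prime_card (p := p) (by rw [IsGalois.card_aut_eq_finrank, hdeg])
  have hK : (primitiveRoots (Module.finrank k M) k).Nonempty :=
    ⟨ζ, (mem_primitiveRoots Module.finrank_pos).2 (hdeg.symm ▸ hζ)⟩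
  obtain ⟨α, ⟨a, ha⟩, hα⟩ := exists_root_adjoin_eq_top_of_isCyclic k M hK
  have H := irreducible_X_pow_sub_C_of_root_adjoin_eq_top ha.symm hα
  haveI := isSplittingField_X_pow_sub_C_of_root_adjoin_eq_top hK ha.symm hα
  refine ⟨a, hdeg ▸ H, ?_⟩
  let e := adjoinRootXPowSubCEquiv hK H ha.symm
  rw [← hdeg]
  exact ⟨e.symm.toAlgHom⟩

/-- **lifting step** in presence of the `p²`-th roots of unity -/
theorem kVanOn_of_kummer_lift (hp2 : p ≠ 2) (k : Type u) [Field k] (ζ : k) (hζ : IsPrimitiveRoot ζ (p * p)) (a : k)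
    (H : Irreducible (X ^ p - C a))
    (h : KVanOn {p} (Spec (CommRingCat.of (AdjoinRoot (X ^ p - C a)))) d) :
    KVanOn {p} (Spec (CommRingCat.of k)) d := by
  haveI := Fact.mk H
  have hp := hpp.out
  haveI : NeZero p := ⟨hp.ne_zero⟩
  haveI : NeZero (p ^ 2) := ⟨pow_ne_zero _ hp.ne_zero⟩
  have ha : ∀ b : k, b ^ p ≠ a := pow_ne_of_irreducible_X_pow_sub_C H dvd_rfl hp.ne_one
  have H2 : Irreducible (X ^ (p ^ 2) - C a) := X_pow_sub_C_irreducible_of_prime_pow hp hp2 2 ha
  haveI := Fact.mk H2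
  have h1 : (primitiveRoots p k).Nonempty :=
    ⟨ζ ^ p, (mem_primitiveRoots hp.pos).2 (hζ.pow (Nat.mul_pos hp.pos hp.pos) rfl)⟩
  have h2 : (primitiveRoots (p ^ 2) k).Nonempty :=
    ⟨ζ, (mem_primitiveRoots (pow_pos hp.pos 2)).2 (by rw [sq]; exact hζ)⟩
  let M := AdjoinRoot (X ^ p - C a)
  let M' := AdjoinRoot (X ^ (p ^ 2) - C a)
  haveI : IsSplittingField k M (X ^ p - C a) := isSplittingField_AdjoinRoot_X_pow_sub_C h1 H
  haveI : IsSplittingField k M' (X ^ (p ^ 2) - C a) := isSplittingField_AdjoinRoot_X_pow_sub_C h2 H2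
  haveI := IsSplittingField.finiteDimensional M (X ^ p - C a)
  haveI := IsSplittingField.finiteDimensional M' (X ^ (p ^ 2) - C a)
  haveI : IsGalois k M := isGalois_of_isSplittingField_X_pow_sub_C h1 H M
  haveI : IsGalois k M' := isGalois_of_isSplittingField_X_pow_sub_C h2 H2 M'
  haveI : IsCyclic (M' ≃ₐ[k] M') := isCyclic_of_isSplittingField_X_pow_sub_C h2 H2 M'
  have hr : (AdjoinRoot.root (X ^ (p ^ 2) - C a)) ^ (p ^ 2) = algebraMap k M' a := by
    have h0 := AdjoinRoot.eval₂_root (X ^ (p ^ 2) - C a)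
    rw [eval₂_sub, eval₂_X_pow, eval₂_C, sub_eq_zero] at h0
    exact h0
  let ι : M →ₐ[k] M' := AdjoinRoot.liftAlgHom (X ^ p - C a) (Algebra.ofId k M')
    ((AdjoinRoot.root (X ^ (p ^ 2) - C a)) ^ p) (by
      rw [eval₂_sub, eval₂_X_pow, eval₂_C, ← pow_mul, ← sq, hr]
      exact sub_self _)
  letI : Algebra M M' := ι.toRingHom.toAlgebra
  haveI : IsScalarTower k M M' := IsScalarTower.of_algebraMap_eq fun x => (ι.commutes x).symm
  refine kVanOn_of_cyclic_lift p d k M M' ?_ h
  rw [finrank_of_isSplittingField_X_pow_sub_C h1 H M, finrank_of_isSplittingField_X_pow_sub_C h2 H2 M', sq]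

/-- over a field with the `p²`-th roots of unity `cd_p` does not drop in a Kummer extension -/
theorem kVanOn_of_pow_root (hp2 : p ≠ 2) (k : Type u) [Field k] (ζ : k) (hζ : IsPrimitiveRoot ζ (p * p)) (a : k)
    (h : ∀ (N : Type u) [Field N] [Algebra k N] [FiniteDimensional k N] (x : N),
      x ^ p = algebraMap k N a → KVanOn {p} (Spec (CommRingCat.of N)) d) :
    KVanOn {p} (Spec (CommRingCat.of k)) d := by
  by_cases ha : ∃ b : k, b ^ p = a
  · obtain ⟨b, hb⟩ := ha
    exact h k b hb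
  · have H := X_pow_sub_C_irreducible_of_prime hpp.out (not_exists.1 ha)
    haveI := Fact.mk H
    refine kVanOn_of_kummer_lift p d hp2 k ζ hζ a H ?_
    haveI : FiniteDimensional k (AdjoinRoot (X ^ p - C a)) :=
      (monic_X_pow_sub_C a hpp.out.ne_zero).finite_adjoinRoot
    refine h _ (AdjoinRoot.root _) ?_
    have h0 := AdjoinRoot.eval₂_root (X ^ p - C a)
    rw [eval₂_sub, eval₂_X_pow, eval₂_C, sub_eq_zero] at h0
    exact h0

/-- **the step for `p` odd** -/
theorem kVanOn_step_odd (hp2 : p ≠ 2) (k : Type u) [Field k] (hpk : (p : k) ≠ 0) (M : Type u) [Field M]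
    [Algebra k M] [IsGalois k M] [FiniteDimensional k M] (hdeg : Module.finrank k M = p)
    (ζ : k) (hζ : IsPrimitiveRoot ζ p) (h : KVanOn {p} (Spec (CommRingCat.of M)) d) :
    KVanOn {p} (Spec (CommRingCat.of k)) d := by
  classical
  have hp := hpp.out
  obtain ⟨a, H, ⟨f⟩⟩ := exists_kummer p k M hdeg ζ hζ
  haveI := Fact.mk H
  have hroot : ∀ (N : Type u) [Field N] [Algebra k N] [FiniteDimensional k N] (x : N),
      x ^ p = algebraMap k N a → KVanOn {p} (Spec (CommRingCat.of N)) d := fun N _ _ _ x hx =>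
    kVanOn_of_algHom p d k M N ((AdjoinRoot.liftAlgHom (X ^ p - C a) (Algebra.ofId k N) x (by
      rw [eval₂_sub, eval₂_X_pow, eval₂_C, hx]; exact sub_self _)).comp f) h
  by_cases hz : ∃ b : k, b ^ p = ζ
  · obtain ⟨b, rfl⟩ := hz
    refine kVanOn_of_pow_root p d hp2 k b ?_ a (fun N _ _ _ x hx => hroot N x hx)
    have hb0 : b ≠ 0 := fun h0 => (hζ.ne_zero hp.ne_zero) (by rw [h0, zero_pow hp.ne_zero])
    refine IsPrimitiveRoot.iff_orderOf.2 ?_
    rw [← sq]
    refine orderOf_eq_prime_pow (n := 1) (fun h1 => hζ.ne_one hp.one_lt ?_) ?_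
    · rwa [pow_one] at h1
    · rw [show p ^ (1 + 1) = p * p by rw [pow_succ, pow_one], pow_mul, hζ.pow_eq_one]
  · have H1 : Irreducible (X ^ p - C ζ) := X_pow_sub_C_irreducible_of_prime hp (not_exists.1 hz)
    have H2 : Irreducible (X ^ (p ^ 2) - C ζ) := X_pow_sub_C_irreducible_of_prime_pow hp hp2 2 (not_exists.1 hz)
    haveI := Fact.mk H1
    haveI := Fact.mk H2
    let k1 := AdjoinRoot (X ^ p - C ζ)
    let k2 := AdjoinRoot (X ^ (p ^ 2) - C ζ)
    haveI : FiniteDimensional k k1 := (monic_X_pow_sub_C ζ hp.ne_zero).finite_adjoinRoot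
    haveI : FiniteDimensional k k2 := (monic_X_pow_sub_C ζ (pow_ne_zero _ hp.ne_zero)).finite_adjoinRoot
    haveI : NeZero p := ⟨hp.ne_zero⟩
    haveI : NeZero (p ^ 3) := ⟨pow_ne_zero _ hp.ne_zero⟩
    let r1 : k1 := AdjoinRoot.root _
    let r2 : k2 := AdjoinRoot.root _
    have hr1 : r1 ^ p = algebraMap k k1 ζ := by
      have h0 := AdjoinRoot.eval₂_root (X ^ p - C ζ)
      rw [eval₂_sub, eval₂_X_pow, eval₂_C, sub_eq_zero] at h0
      exact h0
    have hr2 : r2 ^ (p ^ 2) = algebraMap k k2 ζ := by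
      have h0 := AdjoinRoot.eval₂_root (X ^ (p ^ 2) - C ζ)
      rw [eval₂_sub, eval₂_X_pow, eval₂_C, sub_eq_zero] at h0
      exact h0
    have hz1 : IsPrimitiveRoot r1 (p * p) := by
      refine IsPrimitiveRoot.iff_orderOf.2 ?_
      rw [← sq]
      refine orderOf_eq_prime_pow (n := 1) (fun h1 => ?_) ?_
      · rw [pow_one, hr1] at h1
        exact (hζ.map_of_injective (algebraMap k k1).injective).ne_one hp.one_lt h1
      · rw [show p ^ (1 + 1) = p * p by rw [pow_succ, pow_one], pow_mul, hr1, ← map_pow, hζ.pow_eq_one, map_one]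
    have hz2 : IsPrimitiveRoot r2 (p ^ 3) := by
      refine IsPrimitiveRoot.iff_orderOf.2 (orderOf_eq_prime_pow (n := 2) (fun h1 => ?_) ?_)
      · rw [hr2] at h1
        exact (hζ.map_of_injective (algebraMap k k2).injective).ne_one hp.one_lt h1
      · rw [show p ^ (2 + 1) = p ^ 2 * p from pow_succ p 2, pow_mul, hr2, ← map_pow, hζ.pow_eq_one, map_one]
    haveI : IsCyclotomicExtension {p ^ 3} k k2 := by
      refine (IsCyclotomicExtension.iff_singleton (p ^ 3) k k2).2 ⟨⟨r2, hz2⟩, fun y => ?_⟩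
      have hy : y ∈ Algebra.adjoin k ({r2} : Set k2) := by
        rw [AdjoinRoot.adjoinRoot_eq_top]; trivial
      exact Algebra.adjoin_mono (by
        rintro _ rfl
        exact hz2.pow_eq_one) hy
    haveI : IsGalois k k2 := IsCyclotomicExtension.isGalois {p ^ 3} k k2
    haveI : IsCyclic (ZMod (p ^ 3))ˣ := ZMod.isCyclic_units_of_prime_pow p hp hp2 3
    haveI : IsCyclic (k2 ≃ₐ[k] k2) :=
      isCyclic_of_injective (hz2.autToPow k) (IsPrimitiveRoot.autToPow_injective k hz2)
    have h1 : (primitiveRoots p k).Nonempty := ⟨ζ, (mem_primitiveRoots hp.pos).2 hζ⟩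
    haveI : IsSplittingField k k1 (X ^ p - C ζ) := isSplittingField_AdjoinRoot_X_pow_sub_C h1 H1
    haveI : IsGalois k k1 := isGalois_of_isSplittingField_X_pow_sub_C h1 H1 k1
    let ι : k1 →ₐ[k] k2 := AdjoinRoot.liftAlgHom (X ^ p - C ζ) (Algebra.ofId k k2) (r2 ^ p) (by
      rw [eval₂_sub, eval₂_X_pow, eval₂_C, ← pow_mul, ← sq, hr2]; exact sub_self _)
    letI : Algebra k1 k2 := ι.toRingHom.toAlgebra
    haveI : IsScalarTower k k1 k2 := IsScalarTower.of_algebraMap_eq fun x => (ι.commutes x).symm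
    refine kVanOn_of_cyclic_lift p d k k1 k2 ?_ ?_
    · rw [(AdjoinRoot.powerBasis (monic_X_pow_sub_C ζ (pow_ne_zero 2 hp.ne_zero)).ne_zero).finrank,
        (AdjoinRoot.powerBasis (monic_X_pow_sub_C ζ hp.ne_zero).ne_zero).finrank,
        AdjoinRoot.powerBasis_dim, AdjoinRoot.powerBasis_dim, natDegree_X_pow_sub_C, natDegree_X_pow_sub_C, sq]
    · refine kVanOn_of_pow_root p d hp2 k1 r1 hz1 (algebraMap k k1 a) fun N _ _ _ x hx => ?_
      letI : Algebra k N := ((algebraMap k1 N).comp (algebraMap k k1)).toAlgebra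
      haveI : IsScalarTower k k1 N := IsScalarTower.of_algebraMap_eq fun _ => rfl
      haveI : FiniteDimensional k N := FiniteDimensional.trans k k1 N
      exact hroot N x hx

end Groth.Agent.EtPBC
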