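import Groth.Agent.EtPBC.CdSerreStep

/-!
# `cd_2` descends along quadratic extensions of fields in which `-1` is a sum of squares
-/

set_option autoImplicit false
set_option backward.isDefEq.respectTransparency false
set_option backward.isDefEq.respectTransparency.types false
set_option linter.auxLemma false
set_option linter.style.haveILetI false
set_option linter.unusedSectionVars false

universe u

open CategoryTheory CategoryTheory.Limits AlgebraicGeometry Opposite Polynomial

noncomputable section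

namespace Groth.Agent.EtPBC

attribute [local instance 100000] EtCoh.H._proof_1 EtMV.hext
attribute [local instance 200000] EtMV.hextAb

variable (d : ℕ)

local instance fact_two : Fact (Nat.Prime 2) := ⟨Nat.prime_two⟩

/-- the Galois group of a cyclic quartic extension built on a quadratic one -/
theorem isGalois_isCyclic_quartic (k M' : Type u) [Field k] [Field M'] [Algebra k M'] [FiniteDimensional k M']
    (hdeg : Module.finrank k M' = 4) (τ : M' →ₐ[k] M') (W : M') (hW : τ (τ W) = -W) (hne : W ≠ -W)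
    (h4 : τ.comp (τ.comp (τ.comp τ)) = AlgHom.id k M') :
    IsGalois k M' ∧ IsCyclic (M' ≃ₐ[k] M') := by
  classical
  let g : M' ≃ₐ[k] M' := AlgEquiv.ofBijective τ (Algebra.IsAlgebraic.algHom_bijective τ)
  have h2 : ¬ g ^ 2 ^ 1 = 1 := fun e => hne (by
    have h0 : τ (τ W) = W := by
      have := DFunLike.congr_fun e W
      rwa [pow_one, sq, AlgEquiv.mul_apply] at this
    exact h0.symm.trans hW)
  have h4' : g ^ 2 ^ (1 + 1) = 1 := by
    refine AlgEquiv.ext fun z => ?_
    rw [show (2 : ℕ) ^ (1 + 1) = 4 by norm_num, show g ^ 4 = g * g * g * g by rw [pow_succ, pow_succ, pow_succ, pow_one], AlgEquiv.mul_apply,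
      AlgEquiv.mul_apply, AlgEquiv.mul_apply]
    exact DFunLike.congr_fun h4 z
  have ho : orderOf g = 4 := orderOf_eq_prime_pow (p := 2) (n := 1) h2 h4'
  have hle : Nat.card (M' ≃ₐ[k] M') ≤ 4 := by
    rw [← hdeg, Nat.card_eq_fintype_card]
    exact AlgEquiv.card_le
  have hge : 4 ≤ Nat.card (M' ≃ₐ[k] M') := ho ▸ orderOf_le_card
  have hcard : Nat.card (M' ≃ₐ[k] M') = 4 := le_antisymm hle hge
  exact ⟨IsGalois.of_card_aut_eq_finrank k M' (by rw [hcard, hdeg]),
    isCyclic_of_orderOf_eq_card g (by rw [ho, hcard])⟩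

/-- the abstract quadratic step -/
theorem kVanOn_of_sum_two_squares' (k M : Type u) [Field k] [Field M] [Algebra k M] [FiniteDimensional k M]
    [IsGalois k M] (hdeg : Module.finrank k M = 2) (h2 : (2 : M) ≠ 0) (s x y : k) (hs : s = x * x + y * y)
    (hns : ∀ b : k, b ^ 2 ≠ s) (hy : y ≠ 0) (r : M) (hr : r ^ 2 = algebraMap k M s) (hr0 : r ≠ 0)
    (σ : M →ₐ[k] M) (hσr : σ r = -r) (hext : ∀ f g : M →ₐ[k] M, f r = g r → f = g)
    (h : KVanOn {2} (Spec (CommRingCat.of M)) d) : KVanOn {2} (Spec (CommRingCat.of k)) d := by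
  classical
  have hy' : algebraMap k M y ≠ 0 := (_root_.map_ne_zero _).2 hy
  have he : algebraMap k M s = algebraMap k M x * algebraMap k M x + algebraMap k M y * algebraMap k M y := by
    simp only [hs, map_add, map_mul]
  have hσσ : σ.comp σ = AlgHom.id k M := hext _ _ (by
    show σ (σ r) = r
    rw [hσr, map_neg, hσr, neg_neg])
  have hG : ∀ g : M ≃ₐ[k] M, g.toAlgHom = AlgHom.id k M ∨ g.toAlgHom = σ := by
    intro g
    have hg : g r ^ 2 = r ^ 2 := by rw [← map_pow, hr, AlgEquiv.commutes]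
    rcases sq_eq_sq_iff_eq_or_eq_neg.1 hg with e | e
    · exact Or.inl (hext _ _ e)
    · exact Or.inr (hext _ _ (e.trans hσr.symm))
  obtain ⟨α, hαdef⟩ : ∃ α : M, α = algebraMap k M s + algebraMap k M x * r := ⟨_, rfl⟩
  have hσα : σ α = algebraMap k M s - algebraMap k M x * r := by
    rw [hαdef, map_add, map_mul, AlgHom.commutes, AlgHom.commutes, hσr]; ring
  have hα : ∀ w : M, w ^ 2 ≠ α := by
    intro w hw
    have hinv : σ (σ w) = w := DFunLike.congr_fun hσσ w
    obtain ⟨t, ht⟩ := (IsGalois.mem_range_algebraMap_iff_fixed (F := k) (E := M) (w * σ w)).2 fun g => by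
      rcases hG g with e | e
      · exact DFunLike.congr_fun e _
      · refine (DFunLike.congr_fun e _).trans ?_
        rw [map_mul, hinv, mul_comm]
    refine hns (t / y) ((algebraMap k M).injective ?_)
    rw [map_pow, map_div₀, ht, div_pow, mul_pow, ← map_pow σ, hw, div_eq_iff (pow_ne_zero 2 hy'), hσα, hαdef]
    linear_combination (algebraMap k M s) * he - (algebraMap k M x) ^ 2 * hr
  have H' : Irreducible (X ^ 2 - C α) := X_pow_sub_C_irreducible_of_prime Nat.prime_two hα
  haveI := Fact.mk H'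
  haveI : FiniteDimensional M (AdjoinRoot (X ^ 2 - C α)) := (monic_X_pow_sub_C α two_ne_zero).finite_adjoinRoot
  haveI : FiniteDimensional k (AdjoinRoot (X ^ 2 - C α)) := FiniteDimensional.trans k M _
  obtain ⟨W, hWdef⟩ : ∃ W : AdjoinRoot (X ^ 2 - C α), W = AdjoinRoot.root _ := ⟨_, rfl⟩
  have hW : W ^ 2 = algebraMap M (AdjoinRoot (X ^ 2 - C α)) α := by
    have h0 := AdjoinRoot.eval₂_root (X ^ 2 - C α)
    rw [eval₂_sub, eval₂_X_pow, eval₂_C, sub_eq_zero] at h0
    rw [hWdef]
    exact h0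
  have hW0 : W ≠ 0 := fun e => hα 0 <| (algebraMap M (AdjoinRoot (X ^ 2 - C α))).injective <| by
    rw [map_pow, map_zero, ← hW, e]
  let ψ : M →ₐ[k] AdjoinRoot (X ^ 2 - C α) := (IsScalarTower.toAlgHom k M _).comp σ
  let R : AdjoinRoot (X ^ 2 - C α) := algebraMap M _ r
  let Y : AdjoinRoot (X ^ 2 - C α) := algebraMap M _ (algebraMap k M y)
  let τ : AdjoinRoot (X ^ 2 - C α) →ₐ[k] AdjoinRoot (X ^ 2 - C α) :=
    AdjoinRoot.liftAlgHom (X ^ 2 - C α) ψ (Y * R / W) (by
      rw [eval₂_sub, eval₂_X_pow, eval₂_C]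
      show (Y * R / W) ^ 2 - algebraMap M (AdjoinRoot (X ^ 2 - C α)) (σ α) = 0
      rw [div_pow, hW, sub_eq_zero, div_eq_iff (by rw [← hW]; exact pow_ne_zero 2 hW0), ← map_mul, ← map_pow,
        ← map_mul]
      congr 1
      linear_combination ((algebraMap k M y) ^ 2 + (algebraMap k M x) ^ 2) * hr - (algebraMap k M s) * he -
        (σ α) * hαdef - (algebraMap k M s + algebraMap k M x * r) * hσα)
  have hτW : τ W = Y * R / W := by
    refine (congrArg τ hWdef).trans ?_; exact AdjoinRoot.liftAlgHom_root (X ^ 2 - C α) ψ (Y * R / W) _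
  have hτM : ∀ m : M, τ (algebraMap M (AdjoinRoot (X ^ 2 - C α)) m) =
      algebraMap M (AdjoinRoot (X ^ 2 - C α)) (σ m) := fun m => by
    show τ (AdjoinRoot.of _ m) = _
    simp [τ, AdjoinRoot.liftAlgHom, ψ]
  have hτR : τ R = -R := by rw [hτM, hσr, map_neg]
  have hτY : τ Y = Y := by rw [hτM, AlgHom.commutes]
  have hR0 : R ≠ 0 := (_root_.map_ne_zero _).2 hr0
  have hY0 : Y ≠ 0 := (_root_.map_ne_zero _).2 hy'
  have hτ2 : τ (τ W) = -W := by
    rw [hτW, map_div₀, map_mul, hτY, hτR, hτW]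
    field_simp
  have hne : W ≠ -W := fun e => by
    have h0 : algebraMap M (AdjoinRoot (X ^ 2 - C α)) 2 * W = 0 := by
      rw [map_ofNat]; linear_combination e
    exact mul_ne_zero ((_root_.map_ne_zero _).2 h2) hW0 h0
  have hM : ∀ m : M, τ (τ (algebraMap M (AdjoinRoot (X ^ 2 - C α)) m)) =
      algebraMap M (AdjoinRoot (X ^ 2 - C α)) m := fun m => by
    rw [hτM, hτM]; exact congrArg _ (DFunLike.congr_fun hσσ m)
  have h4 : τ.comp (τ.comp (τ.comp τ)) = AlgHom.id k _ := by
    refine AdjoinRoot.algHom_ext' (AlgHom.ext fun m => ?_) ?_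
    · show τ (τ (τ (τ (algebraMap M (AdjoinRoot (X ^ 2 - C α)) m)))) = algebraMap M (AdjoinRoot (X ^ 2 - C α)) m
      rw [hM, hM]
    · show τ (τ (τ (τ (AdjoinRoot.root _)))) = AdjoinRoot.root _
      rw [← hWdef, hτ2, map_neg, map_neg, hτ2, neg_neg]
  have hfin : Module.finrank k (AdjoinRoot (X ^ 2 - C α)) = 4 := by
    rw [← Module.finrank_mul_finrank k M, hdeg,
      (AdjoinRoot.powerBasis (monic_X_pow_sub_C α two_ne_zero).ne_zero).finrank, AdjoinRoot.powerBasis_dim,
      natDegree_X_pow_sub_C]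
  obtain ⟨hgal, hcyc⟩ := isGalois_isCyclic_quartic k _ hfin τ W hτ2 hne h4
  exact kVanOn_of_cyclic_lift 2 d k M _ (by rw [hfin, hdeg]) h

/-- a quadratic extension by the square root of a sum of two squares lies in a cyclic quartic extension -/
theorem kVanOn_of_sum_two_squares (k : Type u) [Field k] (h2 : (2 : k) ≠ 0) (s x y : k) (hs : s = x * x + y * y)
    (H : Irreducible (X ^ 2 - C s))
    (h : KVanOn {2} (Spec (CommRingCat.of (AdjoinRoot (X ^ 2 - C s)))) d) :
    KVanOn {2} (Spec (CommRingCat.of k)) d := by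
  haveI := Fact.mk H
  have hns : ∀ b : k, b ^ 2 ≠ s := pow_ne_of_irreducible_X_pow_sub_C H dvd_rfl (by norm_num)
  have hy : y ≠ 0 := fun e => hns x (by linear_combination -hs - y * e)
  haveI : FiniteDimensional k (AdjoinRoot (X ^ 2 - C s)) := (monic_X_pow_sub_C s two_ne_zero).finite_adjoinRoot
  have hr : (AdjoinRoot.root (X ^ 2 - C s)) ^ 2 = algebraMap k _ s := by
    have h0 := AdjoinRoot.eval₂_root (X ^ 2 - C s)
    rw [eval₂_sub, eval₂_X_pow, eval₂_C, sub_eq_zero] at h0
    exact h0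
  have hr0 : AdjoinRoot.root (X ^ 2 - C s) ≠ 0 := fun e => hns 0 <|
    (algebraMap k (AdjoinRoot (X ^ 2 - C s))).injective (by rw [map_pow, map_zero, ← hr, e])
  have hrk : (primitiveRoots 2 k).Nonempty := ⟨-1, (mem_primitiveRoots two_pos).2 <| by
    refine IsPrimitiveRoot.iff_orderOf.2 (orderOf_eq_prime (by simp) fun e => h2 ?_)
    linear_combination -e⟩
  haveI : IsSplittingField k (AdjoinRoot (X ^ 2 - C s)) (X ^ 2 - C s) :=
    isSplittingField_AdjoinRoot_X_pow_sub_C hrk H
  haveI : IsGalois k (AdjoinRoot (X ^ 2 - C s)) := isGalois_of_isSplittingField_X_pow_sub_C hrk H _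
  refine kVanOn_of_sum_two_squares' d k _ (finrank_of_isSplittingField_X_pow_sub_C hrk H _) ?_ s x y hs hns hy
    (AdjoinRoot.root _) hr hr0
    (AdjoinRoot.liftAlgHom (X ^ 2 - C s) (Algebra.ofId k _) (-AdjoinRoot.root _) (by
      rw [eval₂_sub, eval₂_X_pow, eval₂_C, neg_sq, hr]; exact sub_self _))
    (AdjoinRoot.liftAlgHom_root _ _ _ _) (fun f g e => AdjoinRoot.algHom_ext e) h
  rw [← map_ofNat (algebraMap k (AdjoinRoot (X ^ 2 - C s))) 2]
  exact (_root_.map_ne_zero _).2 h2

/-- a finite extension of a field has the bound of the smaller one -/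
theorem kVanOn_root_of_forall (k : Type u) [Field k] (s : k) (H : Irreducible (X ^ 2 - C s)) (L : Type u) [Field L]
    [Algebra k L] [FiniteDimensional k L] (z : L) (hz : z ^ 2 = algebraMap k L s) :
    KVanOn {2} (Spec (CommRingCat.of (AdjoinRoot (X ^ 2 - C s)))) d →
      KVanOn {2} (Spec (CommRingCat.of L)) d := by
  intro h
  haveI := Fact.mk H
  exact kVanOn_of_algHom 2 d k _ L (AdjoinRoot.liftAlgHom (X ^ 2 - C s) (Algebra.ofId k L) z (by
    rw [eval₂_sub, eval₂_X_pow, eval₂_C, hz]; exact sub_self _)) h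

/-- **non-real fields**: if the extensions containing `√-1` have `cd_2 ≤ d` then so does the field -/
theorem kVanOn_two_of_sq_neg_one : ∀ (n : ℕ) (k : Type u) [Field k], (2 : k) ≠ 0 →
    ∀ v : Fin n → k, ∑ i, v i * v i = -1 →
    (∀ (K : Type u) [Field K] [Algebra k K] [FiniteDimensional k K], ∀ i : K, i * i = -1 →
      KVanOn {2} (Spec (CommRingCat.of K)) d) →
    KVanOn {2} (Spec (CommRingCat.of k)) d := by
  intro n
  induction n using Nat.strong_induction_on with
  | _ n ih =>
    intro k _ h2 v hv hK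
    by_cases h1 : ∃ b : k, b * b = -1
    · obtain ⟨b, hb⟩ := h1
      exact hK k b hb
    have hroot : ∀ (s : k), Irreducible (X ^ 2 - C s) →
        ∃ (L : Type u) (_ : Field L) (_ : Algebra k L) (_ : FiniteDimensional k L) (z : L),
          z ^ 2 = algebraMap k L s ∧ (KVanOn {2} (Spec (CommRingCat.of L)) d →
            KVanOn {2} (Spec (CommRingCat.of (AdjoinRoot (X ^ 2 - C s)))) d) := fun s H => by
      haveI := Fact.mk H
      refine ⟨AdjoinRoot (X ^ 2 - C s), inferInstance, inferInstance,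
        (monic_X_pow_sub_C s two_ne_zero).finite_adjoinRoot, AdjoinRoot.root _, ?_, fun h => h⟩
      have h0 := AdjoinRoot.eval₂_root (X ^ 2 - C s)
      rw [eval₂_sub, eval₂_X_pow, eval₂_C, sub_eq_zero] at h0
      exact h0
    match n, v, hv, ih with
    | 0, v, hv, _ => simp at hv
    | 1, v, hv, _ =>
      rw [Fin.sum_univ_one] at hv
      exact absurd ⟨v 0, hv⟩ h1
    | m + 2, v, hv, ih =>
      rw [Fin.sum_univ_succ, Fin.sum_univ_succ] at hv
      obtain ⟨s, hsdef⟩ : ∃ s, s = v 0 * v 0 + v (Fin.succ 0) * v (Fin.succ 0) := ⟨_, rfl⟩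
      have hshort : ∀ (L : Type u) [Field L] [Algebra k L] [FiniteDimensional k L] (z : L),
          z ^ 2 = algebraMap k L s → KVanOn {2} (Spec (CommRingCat.of L)) d := by
        intro L _ _ _ z hz
        refine ih (m + 1) (Nat.lt_succ_self _) L ?_
          (Fin.cons z fun j => algebraMap k L (v j.succ.succ)) ?_ ?_
        · rw [← map_ofNat (algebraMap k L) 2]; exact (_root_.map_ne_zero (algebraMap k L)).2 h2
        · rw [Fin.sum_univ_succ]
          simp only [Fin.cons_zero, Fin.cons_succ, ← map_mul, ← map_sum]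
          rw [← sq, hz, ← map_add, hsdef, add_assoc, hv, map_neg, map_one]
        · intro K _ _ _ i hi
          letI : Algebra k K := ((algebraMap L K).comp (algebraMap k L)).toAlgebra
          haveI : IsScalarTower k L K := IsScalarTower.of_algebraMap_eq fun _ => rfl
          haveI : FiniteDimensional k K := FiniteDimensional.trans k L K
          exact hK K i hi
      by_cases hsq : ∃ b : k, b ^ 2 = s
      · obtain ⟨b, hb⟩ := hsq
        exact hshort k b hb
      · have H := X_pow_sub_C_irreducible_of_prime Nat.prime_two (not_exists.1 hsq)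
        obtain ⟨L, _, _, _, z, hz, hL⟩ := hroot s H
        exact kVanOn_of_sum_two_squares d k h2 s _ _ hsdef H (hL (hshort L z hz))

/-- **the step for `p = 2`** -/
theorem kVanOn_step_two (k : Type u) [Field k] (h2 : (2 : k) ≠ 0) (hsq : IsSumSq (-1 : k)) (M : Type u) [Field M]
    [Algebra k M] [IsGalois k M] [FiniteDimensional k M] (hdeg : Module.finrank k M = 2)
    (h : KVanOn {2} (Spec (CommRingCat.of M)) d) : KVanOn {2} (Spec (CommRingCat.of k)) d := by
  have hz : IsPrimitiveRoot (-1 : k) 2 := by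
    refine IsPrimitiveRoot.iff_orderOf.2 (orderOf_eq_prime (by simp) fun e => h2 ?_)
    linear_combination -e
  obtain ⟨a, H, ⟨f⟩⟩ := exists_kummer 2 k M hdeg (-1) hz
  haveI := Fact.mk H
  obtain ⟨n, v, hv⟩ : ∃ (n : ℕ) (v : Fin n → k), ∑ i, v i * v i = -1 := by
    generalize (-1 : k) = z at hsq
    induction hsq with
    | zero => exact ⟨0, Fin.elim0, by simp⟩
    | sq_add a _ ih =>
      obtain ⟨n, v, hv⟩ := ih
      exact ⟨n + 1, Fin.cons a v, by simp [Fin.sum_univ_succ, hv]⟩
  refine kVanOn_two_of_sq_neg_one d n k h2 v hv fun K _ _ _ i hi => ?_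
  have hK2 : (2 : K) ≠ 0 := by
    rw [← map_ofNat (algebraMap k K) 2]; exact (_root_.map_ne_zero (algebraMap k K)).2 h2
  have hroot : ∀ (N : Type u) [Field N] [Algebra k N] [FiniteDimensional k N] (x : N),
      x ^ 2 = algebraMap k N a → KVanOn {2} (Spec (CommRingCat.of N)) d := fun N _ _ _ x hx =>
    kVanOn_of_algHom 2 d k M N ((AdjoinRoot.liftAlgHom (X ^ 2 - C a) (Algebra.ofId k N) x (by
      rw [eval₂_sub, eval₂_X_pow, eval₂_C, hx]; exact sub_self _)).comp f) h
  let b : K := algebraMap k K a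
  by_cases hb : ∃ z : K, z ^ 2 = b
  · obtain ⟨z, hzb⟩ := hb
    exact hroot K z hzb
  have HK := X_pow_sub_C_irreducible_of_prime Nat.prime_two (not_exists.1 hb)
  haveI := Fact.mk HK
  refine kVanOn_of_sum_two_squares d K hK2 b ((b + 1) / 2) (i * (b - 1) / 2) ?_ HK ?_
  · field_simp
    linear_combination (-(b - 1) ^ 2) * hi
  · haveI : FiniteDimensional K (AdjoinRoot (X ^ 2 - C b)) :=
      (monic_X_pow_sub_C b two_ne_zero).finite_adjoinRoot
    haveI : FiniteDimensional k (AdjoinRoot (X ^ 2 - C b)) := FiniteDimensional.trans k K _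
    refine hroot _ (AdjoinRoot.root _) ?_
    have h0 := AdjoinRoot.eval₂_root (X ^ 2 - C b)
    rw [eval₂_sub, eval₂_X_pow, eval₂_C, sub_eq_zero] at h0
    exact h0.trans (IsScalarTower.algebraMap_apply k K _ a).symm

end Groth.Agent.EtPBC
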