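import Groth.Agent.EtPBC.CdShFraction
import Groth.Agent.CycDim.SpSetup
import Mathlib

/-!
# `cd_p` of generic points of strict henselisations of algebras essentially of finite type over a DVR
-/

set_option autoImplicit false
set_option backward.isDefEq.respectTransparency false
set_option linter.style.haveILetI false
set_option linter.unusedSectionVars false

universe u

open CategoryTheory CategoryTheory.Limits AlgebraicGeometry Opposite IsLocalRing nonZeroDivisors

noncomputable section

namespace Groth.Agent.EtPBC

/-- fields are universally catenary -/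
theorem isUniversallyCatenary_field (K : Type u) [Field K] : CAlg.IsUniversallyCatenary K := by
  haveI : LocCoh.IsCohenMacaulayRing K :=
    { isCohenMacaulayLocalRing_localization := fun p _ => by
        haveI : IsRegularLocalRing (Localization.AtPrime p) := IsRegularRing.isRegularLocalRing_localization p
        exact CMFlat.isCohenMacaulayLocalRing_of_isRegularLocalRing _ }
  exact Catenary.isUniversallyCatenary_of_cm K

variable (p : ℕ) [hpp : Fact p.Prime]

/-- the bound over a field, no hypothesis on the structure map -/
theorem kVanOn_fractionRing_le_dim_field (K : Type u) [Field K] (hp : IsUnit (p : K))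
    (D : Type u) [CommRing D] [IsDomain D] [IsLocalRing D] [Algebra K D] [Algebra.EssFiniteType K D]
    (E : Type u) [CommRing E] [IsDomain E] [HenselianLocalRing E] [IsSepClosed (ResidueField E)] [Algebra D E]
    [IsLocalHom (algebraMap D E)] (hDE : Function.Injective (algebraMap D E)) [Algebra.IsAlgebraic D E]
    (d : ℕ) (hd : ringKrullDim D ≤ d) :
    KVanOn {p} (Spec (CommRingCat.of (FractionRing E))) d := by
  haveI : IsLocalHom (algebraMap K D) := ⟨fun a ha => by
    refine isUnit_iff_ne_zero.2 fun h0 => ?_
    rw [h0, map_zero] at ha
    exact not_isUnit_zero ha⟩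
  exact kVanOn_fractionRing_le_dim p K
    (by rw [IsLocalRing.isField_iff_maximalIdeal_eq.1 (Field.toIsField K)]; exact bot_isPrincipal)
    (isUniversallyCatenary_field K) hp D (algebraMap K D).injective E hDE d hd

/-- the bound over a DVR, no hypothesis on the structure map -/
theorem kVanOn_fractionRing_le_dim_dvr (V : Type u) [CommRing V] [IsDomain V] [IsDiscreteValuationRing V]
    (hp : IsUnit (p : V))
    (D : Type u) [CommRing D] [IsDomain D] [IsLocalRing D] [Algebra V D] [Algebra.EssFiniteType V D]
    (E : Type u) [CommRing E] [IsDomain E] [HenselianLocalRing E] [IsSepClosed (ResidueField E)] [Algebra D E]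
    [IsLocalHom (algebraMap D E)] (hDE : Function.Injective (algebraMap D E)) [Algebra.IsAlgebraic D E]
    (d : ℕ) (hd : ringKrullDim D ≤ d) :
    KVanOn {p} (Spec (CommRingCat.of (FractionRing E))) d := by
  classical
  by_cases hloc : IsLocalHom (algebraMap V D)
  · haveI := hloc
    by_cases hinj : Function.Injective (algebraMap V D)
    · exact kVanOn_fractionRing_le_dim p V (IsPrincipalIdealRing.principal _) (CycSp.uc_dvr (R := V)) hp D hinj E
        hDE d hd
    · have hker : RingHom.ker (algebraMap V D) = maximalIdeal V := by
        haveI := RingHom.ker_isPrime (algebraMap V D)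
        have h : RingHom.ker (algebraMap V D) ≠ ⊥ := fun h => hinj ((RingHom.injective_iff_ker_eq_bot _).2 h)
        exact IsLocalRing.eq_maximalIdeal (Ideal.IsPrime.isMaximal inferInstance h)
      let κ := ResidueField V
      letI : Algebra κ D := (Ideal.Quotient.lift (maximalIdeal V) (algebraMap V D) fun a ha =>
        RingHom.mem_ker.1 (hker.ge ha)).toAlgebra
      haveI : IsScalarTower V κ D := IsScalarTower.of_algebraMap_eq fun _ => rfl
      haveI : Algebra.EssFiniteType κ D := Algebra.EssFiniteType.of_comp V κ D
      exact kVanOn_fractionRing_le_dim_field p κ ((map_natCast (residue V) p) ▸ hp.map (residue V)) D E hDE d hd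
  · obtain ⟨ϖ, hϖ⟩ := IsDiscreteValuationRing.exists_irreducible V
    have hu : IsUnit (algebraMap V D ϖ) := by
      by_contra hnu
      refine hloc ⟨fun a ha => ?_⟩
      by_contra hna
      have hdvd : ϖ ∣ a := Ideal.mem_span_singleton.1 (hϖ.maximalIdeal_eq ▸ (mem_maximalIdeal _).2 hna)
      exact hnu (isUnit_of_dvd_unit (map_dvd _ hdvd) ha)
    have hall : ∀ y : nonZeroDivisors V, IsUnit (algebraMap V D y) := by
      rintro ⟨y, hy⟩
      obtain ⟨n, v, rfl⟩ := IsDiscreteValuationRing.eq_unit_mul_pow_irreducible (nonZeroDivisors.ne_zero hy) hϖ
      rw [map_mul, map_pow]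
      exact (v.isUnit.map _).mul (hu.pow n)
    letI : Algebra (FractionRing V) D := (IsLocalization.lift (M := nonZeroDivisors V) hall).toAlgebra
    haveI : IsScalarTower V (FractionRing V) D := IsScalarTower.of_algebraMap_eq fun x =>
      (IsLocalization.lift_eq hall x).symm
    haveI : Algebra.EssFiniteType (FractionRing V) D := Algebra.EssFiniteType.of_comp V (FractionRing V) D
    exact kVanOn_fractionRing_le_dim_field p (FractionRing V) ((map_natCast (algebraMap V (FractionRing V)) p) ▸ hp.map (algebraMap V (FractionRing V)))
      D E hDE d hd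

end Groth.Agent.EtPBC
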