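import Groth.Agent.EtPBC.HensDvrUpper
import Groth.Agent.EtPBC.FieldTrdeg
import Groth.Agent.EtPBC.CdDimLowerDvr
import Groth.Agent.EtPBC.CdTensor
import Groth.Agent.S0555
import Mathlib

/-!
# `cd_p` of fraction fields of strictly henselian domains algebraic over algebraic local domains

The base is a Noetherian local domain with principal maximal ideal (a field or a DVR).  Lifting a transcendence basis
of the residue extension gives a local ring `W` of the same kind with algebraic residue extension, and the strict
henselisation of `W` sits inside the domain.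
-/

set_option autoImplicit false
set_option backward.isDefEq.respectTransparency false
set_option linter.style.haveILetI false
set_option linter.unusedSectionVars false
set_option maxHeartbeats 1000000

universe u

open CategoryTheory CategoryTheory.Limits AlgebraicGeometry Opposite IsLocalRing nonZeroDivisors

noncomputable section

namespace Groth.Agent.EtPBC

variable (p : ℕ) [hpp : Fact p.Prime]

/-- the bound over a base with principal maximal ideal -/
theorem kVanOn_fractionRing_of_base (W : Type u) [CommRing W] [IsDomain W] [IsNoetherianRing W] [IsLocalRing W]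
    (hW : (maximalIdeal W).IsPrincipal) (hp : IsUnit (p : W)) (E : Type u) [CommRing E] [IsDomain E]
    [HenselianLocalRing E] [IsSepClosed (ResidueField E)] [Algebra W E] [IsLocalHom (algebraMap W E)]
    (hWE : Function.Injective (algebraMap W E)) (n : ℕ) (hn : Algebra.trdeg W E ≤ n) :
    ∃ e : ℕ, e ≤ 1 ∧ (IsField W → e = 0) ∧
      KVanOn {p} (Spec (CommRingCat.of (FractionRing E))) (e + n) := by
  obtain ⟨S, _, _, _, _, hS⟩ := EtBCQ.exists_sh W
  haveI : HenselianLocalRing S := hS.henselian
  haveI hκ := hS.isSepClosure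
  haveI : IsSepClosed (ResidueField S) := hκ.sep_closed
  haveI : Algebra.IsSeparable (ResidueField W) (ResidueField S) := hκ.separable
  -- the map to the domain
  letI : Algebra (ResidueField W) (ResidueField E) := (ResidueField.map (algebraMap W E)).toAlgebra
  let τ : ResidueField S →ₐ[ResidueField W] ResidueField E := IsSepClosed.lift
  obtain ⟨g, ⟨hg, -⟩, -⟩ := hS.universal E (algebraMap W E) τ.toRingHom (RingHom.ext fun x => τ.commutes x)
  have hnorm : IsDomain W ∧ IsIntegrallyClosed W := by
    refine ⟨inferInstance, ?_⟩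
    rcases em (IsField W) with hF | hF
    · letI := hF.toField; infer_instance
    · haveI : IsDiscreteValuationRing W := ((IsDiscreteValuationRing.TFAE W hF).out 0 4).2 hW
      infer_instance
  obtain ⟨hd, -⟩ := (Hensel.strictHenselization_normal_iff W S).2 hnorm
  haveI := hd
  haveI : IsNoetherianRing S := (Hensel.strictHenselization_isNoetherianRing_iff W S).1 inferInstance
  haveI := Hensel.strictHenselization_faithfullyFlat W S
  have hWS : Function.Injective (algebraMap W S) := FaithfulSMul.algebraMap_injective W S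
  have hdim := Hensel.strictHenselization_ringKrullDim (R := W) (S := S)
  -- the dimension
  obtain ⟨e, he1, he0, hK⟩ : ∃ e : ℕ, e ≤ 1 ∧ (IsField W → e = 0) ∧
      KVanOn {p} (Spec (CommRingCat.of (FractionRing S))) e := by
    by_cases hF : IsField W
    · refine ⟨0, Nat.zero_le 1, fun _ => rfl, ?_⟩
      haveI : Ring.KrullDimLE 0 S := Ring.krullDimLE_iff.2 (by
        rw [hdim, ringKrullDim_eq_zero_of_isField hF]; rfl)
      have hSF : IsField S := Ring.KrullDimLE.isField_of_isDomain
      letI : Field S := hSF.toField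
      haveI : IsSepClosed S := Hensel.isSepClosed_of_ringEquiv (RingEquiv.ofBijective (residue S)
        ⟨(residue S).injective, residue_surjective⟩).symm
      let f : S →+* FractionRing S := algebraMap S (FractionRing S)
      haveI : IsIntegralHom (Spec.map (CommRingCat.ofHom f)) := IsIntegralHom.SpecMap_iff.2
        (RingHom.isIntegral_of_surjective _ (IsFractionRing.surjective_iff_isField.2 hSF))
      exact (kVanOn_sepClosed (L := {p}) S).of_isIntegralHom (Spec.map (CommRingCat.ofHom f))
    · refine ⟨1, le_rfl, fun h => absurd h hF, ?_⟩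
      haveI : IsDiscreteValuationRing W := ((IsDiscreteValuationRing.TFAE W hF).out 0 4).2 hW
      obtain ⟨-, hreg, hdim1⟩ := (Hensel.dvr_iff W).1 ⟨inferInstance, inferInstance⟩
      obtain ⟨_, hdvr⟩ := (Hensel.dvr_iff S).2 ⟨hd,
        (Hensel.strictHenselization_isRegularLocalRing_iff (R := W) (S := S)).2 hreg, hdim.trans hdim1⟩
      haveI := hdvr
      have hpS : IsUnit (p : S) := by simpa using hp.map (algebraMap W S)
      exact kVanOn_succ_of_residueField S (FractionRing S) p hpS (kVanOn_sepClosed (L := {p}) (ResidueField S))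
  refine ⟨e, he1, he0, ?_⟩
  -- injectivity
  have hginj : Function.Injective g := by
    rw [RingHom.injective_iff_ker_eq_bot]
    by_contra hne
    haveI := RingHom.ker_isPrime g
    haveI : Ring.KrullDimLE 1 S := Ring.krullDimLE_iff.2 (by
      rw [hdim]
      rcases em (IsField W) with hF | hF
      · rw [ringKrullDim_eq_zero_of_isField hF]; exact zero_le_one
      · haveI : IsDiscreteValuationRing W := ((IsDiscreteValuationRing.TFAE W hF).out 0 4).2 hW
        exact (IsDiscreteValuationRing.ringKrullDim_eq_one W).le)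
    have hmax : RingHom.ker g = maximalIdeal S := IsLocalRing.eq_maximalIdeal
      (Ring.krullDimLE_one_iff_of_noZeroDivisors.1 inferInstance _ hne inferInstance)
    have h0 : ∀ w ∈ maximalIdeal W, w = 0 := fun w hw => hWE (by
      have h1 : algebraMap W S w ∈ RingHom.ker g := by
        rw [hmax]
        exact (mem_maximalIdeal _).2 fun hu => (mem_maximalIdeal _).1 hw (isUnit_of_map_unit _ _ hu)
      rw [RingHom.mem_ker, ← RingHom.comp_apply, hg] at h1
      rw [h1, map_zero])
    have hWF : IsField W := IsLocalRing.isField_iff_maximalIdeal_eq.2 ((Submodule.eq_bot_iff _).2 h0)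
    haveI : Ring.KrullDimLE 0 S := Ring.krullDimLE_iff.2 (by
      rw [hdim, ringKrullDim_eq_zero_of_isField hWF]; rfl)
    have hSF : IsField S := Ring.KrullDimLE.isField_of_isDomain
    exact hne (by rw [hmax, IsLocalRing.isField_iff_maximalIdeal_eq.1 hSF])
  -- transcendence degree
  let K' := FractionRing S
  let L := FractionRing E
  obtain ⟨ψ, hψ⟩ := exists_extend_field S K' L ((algebraMap E L).comp g) ((IsFractionRing.injective E L).comp hginj)
  letI : Algebra K' L := ψ.toAlgebra
  letI : Algebra S L := ((algebraMap E L).comp g).toAlgebra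
  haveI : IsScalarTower S K' L := IsScalarTower.of_algebraMap_eq fun x => (RingHom.congr_fun hψ x).symm
  haveI : IsScalarTower W S L := IsScalarTower.of_algebraMap_eq fun w => by
    show algebraMap W L w = algebraMap E L (g (algebraMap W S w))
    rw [← RingHom.comp_apply g, hg, ← IsScalarTower.algebraMap_apply W E L]
  haveI : FaithfulSMul W E := (faithfulSMul_iff_algebraMap_injective _ _).2 hWE
  haveI : FaithfulSMul E L := (faithfulSMul_iff_algebraMap_injective _ _).2 (IsFractionRing.injective E L)
  haveI : FaithfulSMul W S := (faithfulSMul_iff_algebraMap_injective _ _).2 hWS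
  haveI : FaithfulSMul S L := (faithfulSMul_iff_algebraMap_injective _ _).2
    ((IsFractionRing.injective E L).comp hginj)
  haveI : FaithfulSMul S K' := (faithfulSMul_iff_algebraMap_injective _ _).2 (IsFractionRing.injective S K')
  haveI : FaithfulSMul K' L := (faithfulSMul_iff_algebraMap_injective _ _).2 ψ.injective
  haveI : Algebra.IsAlgebraic E L := IsLocalization.isAlgebraic L (nonZeroDivisors E)
  haveI : Algebra.IsAlgebraic S K' := IsLocalization.isAlgebraic K' (nonZeroDivisors S)
  haveI := isAlgebraic_sh_quotient (A := W) (R := S) (P := (⊥ : Ideal S))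
  haveI : Algebra.IsAlgebraic W S := ⟨isAlgebraic_of_quotient_bot W S hWS⟩
  have e1 := trdeg_add_eq W E (A := L)
  rw [trdeg_eq_zero (R := E) (A := L), add_zero] at e1
  have e2 := trdeg_add_eq W S (A := L)
  rw [trdeg_eq_zero (R := W) (A := S), zero_add, ← e1] at e2
  have e3 := trdeg_add_eq S K' (A := L)
  rw [trdeg_eq_zero (R := S) (A := K'), zero_add, e2] at e3
  exact kVanOn_of_trdeg_le n hK L (e3.trans_le hn)

/-- **`cd_p (Frac E) ≤ dim D`** -/
theorem kVanOn_fractionRing_le_dim (V : Type u) [CommRing V] [IsDomain V] [IsNoetherianRing V] [IsLocalRing V]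
    (hV : (maximalIdeal V).IsPrincipal) (hUC : CAlg.IsUniversallyCatenary V) (hp : IsUnit (p : V))
    (D : Type u) [CommRing D] [IsDomain D] [IsLocalRing D] [Algebra V D] [Algebra.EssFiniteType V D]
    [IsLocalHom (algebraMap V D)] (hVD : Function.Injective (algebraMap V D))
    (E : Type u) [CommRing E] [IsDomain E] [HenselianLocalRing E] [IsSepClosed (ResidueField E)] [Algebra D E]
    [IsLocalHom (algebraMap D E)] (hDE : Function.Injective (algebraMap D E)) [Algebra.IsAlgebraic D E]
    (d : ℕ) (hd : ringKrullDim D ≤ d) :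
    KVanOn {p} (Spec (CommRingCat.of (FractionRing E))) d := by
  classical
  let F := Algebra.EssFiniteType.subalgebra V D
  let M := Algebra.EssFiniteType.submonoid V D
  haveI : IsLocalization M D := inferInstance
  haveI : FaithfulSMul F D := (faithfulSMul_iff_algebraMap_injective _ _).2 Subtype.val_injective
  haveI : FaithfulSMul V D := (faithfulSMul_iff_algebraMap_injective _ _).2 hVD
  haveI : FaithfulSMul V F := (faithfulSMul_iff_algebraMap_injective _ _).2 fun a b h => hVD (congrArg Subtype.val h)
  let q : Ideal F := (maximalIdeal D).under F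
  haveI : q.IsPrime := Ideal.IsPrime.under F _
  let m := maximalIdeal V
  haveI : q.LiesOver m := ⟨by
    rw [Ideal.under_under]
    have h04 := (local_hom_TFAE (algebraMap V D)).out 0 4
    exact (h04.1 inferInstance).symm⟩
  have hform := Groth.Agent.S0555.result V hUC F m q
  -- residue transcendence degree
  let κ := V ⧸ m
  letI : Field κ := Ideal.Quotient.field m
  let Λ := ResidueField D
  letI : Algebra κ Λ := (Ideal.Quotient.lift m ((residue D).comp (algebraMap V D)) fun a ha =>
    (residue_eq_zero_iff _).2 (((mem_maximalIdeal _).2 fun hu =>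
      (mem_maximalIdeal _).1 ha (isUnit_of_map_unit (algebraMap V D) a hu)))).toAlgebra
  let f : F ⧸ q →+* Λ := Ideal.Quotient.lift q ((residue D).comp (algebraMap F D))
    fun a ha => (residue_eq_zero_iff _).2 ha
  letI : Algebra (F ⧸ q) Λ := f.toAlgebra
  haveI : IsScalarTower κ (F ⧸ q) Λ := IsScalarTower.of_algebraMap_eq fun c => by
    obtain ⟨c, rfl⟩ := Ideal.Quotient.mk_surjective c
    rfl
  have hfi : Function.Injective f := by
    refine (injective_iff_map_eq_zero f).2 fun a ha => ?_
    obtain ⟨a, rfl⟩ := Ideal.Quotient.mk_surjective a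
    exact Ideal.Quotient.eq_zero_iff_mem.2 ((residue_eq_zero_iff _).1 ha)
  haveI : FaithfulSMul (F ⧸ q) Λ := (faithfulSMul_iff_algebraMap_injective _ _).2 hfi
  haveI : FaithfulSMul κ (F ⧸ q) := (faithfulSMul_iff_algebraMap_injective _ _).2
    (algebraMap κ (F ⧸ q)).injective
  haveI : Algebra.IsAlgebraic (F ⧸ q) Λ := ⟨fun x => by
    obtain ⟨x, rfl⟩ := residue_surjective x
    obtain ⟨a, s, rfl⟩ := IsLocalization.exists_mk'_eq M x
    have hs : (Ideal.Quotient.mk q (s : F)) ≠ 0 := fun h0 =>
      notMem_maximalIdeal.2 (IsLocalization.map_units D s)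
        ((Ideal.Quotient.eq_zero_iff_mem.1 h0 : (s : F) ∈ q) : algebraMap F D s ∈ maximalIdeal D)
    refine ⟨Polynomial.C (Ideal.Quotient.mk q (s : F)) * Polynomial.X - Polynomial.C (Ideal.Quotient.mk q a),
      fun h => hs ?_, ?_⟩
    · simpa using congrArg (fun r => Polynomial.coeff r 1) h
    · have e := congrArg (residue D) (IsLocalization.mk'_spec D a s)
      rw [map_mul] at e
      simp only [map_sub, map_mul, Polynomial.aeval_C, Polynomial.aeval_X]
      show residue D (algebraMap F D s) * residue D (IsLocalization.mk' D a s) - residue D (algebraMap F D a) = 0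
      rw [← e]
      ring⟩
  have et := trdeg_add_eq κ (F ⧸ q) (A := Λ)
  rw [trdeg_eq_zero (R := F ⧸ q) (A := Λ), add_zero] at et
  haveI := isAlgebraic_of_localization (F := F) (B := D) M
  have es := trdeg_add_eq V F (A := D)
  rw [trdeg_eq_zero (R := F) (A := D), add_zero] at es
  change (q.height : Cardinal.{u}) + Algebra.trdeg κ (F ⧸ q) = (m.height : Cardinal.{u}) + Algebra.trdeg V F at hform
  rw [et, es] at hform
  -- finiteness
  have hq : (q.height : WithBot ℕ∞) ≤ d := by
    rw [show q.height = (maximalIdeal D).height from IsLocalization.height_under M _,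
      IsLocalRing.maximalIdeal_height_eq_ringKrullDim]
    exact hd
  obtain ⟨h, hh⟩ := ENat.ne_top_iff_exists.1 (ne_top_of_le_ne_top (ENat.natCast_ne_top d) (WithBot.coe_le_coe.1 hq))
  obtain ⟨e₀, he₀⟩ := ENat.ne_top_iff_exists.1 (Ideal.height_ne_top_of_isPrime (I := m))
  have hsfin : Algebra.trdeg V D < Cardinal.aleph0 := by
    rw [← es]
    exact trdeg_lt_aleph0_of_finiteType
  obtain ⟨s, hs⟩ := Cardinal.lt_aleph0.1 hsfin
  rw [← hh, ← he₀, hs] at hform
  have htfin : Algebra.trdeg κ Λ < Cardinal.aleph0 := by
    refine lt_of_le_of_lt le_add_self (hform.trans_lt ?_)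
    simp only [Cardinal.ofENat_nat]
    exact Cardinal.add_lt_aleph0 (Cardinal.natCast_lt_aleph0) (Cardinal.natCast_lt_aleph0)
  obtain ⟨t, ht⟩ := Cardinal.lt_aleph0.1 htfin
  rw [ht] at hform
  have hsum : h + t = e₀ + s := by exact_mod_cast hform
  have hhd : h ≤ d := by
    rw [← hh] at hq
    exact_mod_cast hq
  -- lift a transcendence basis
  obtain ⟨B, hB⟩ := exists_isTranscendenceBasis κ Λ
  have hBc : Cardinal.mk B = t := by rw [hB.cardinalMk_eq_trdeg, ht]
  haveI : Finite B := Cardinal.lt_aleph0_iff_finite.1 (by rw [hBc]; exact Cardinal.natCast_lt_aleph0)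
  choose lft hlft using fun b : B => residue_surjective (R := D) (b : Λ)
  let P := MvPolynomial B V
  let g₀ : P →ₐ[V] D := MvPolynomial.aeval lft
  let πP : P →+* MvPolynomial B κ := MvPolynomial.map (Ideal.Quotient.mk m)
  have hcomm : ∀ a : P, residue D (g₀ a) = MvPolynomial.aeval (fun b : B => (b : Λ)) (πP a) := by
    intro a
    induction a using MvPolynomial.induction_on with
    | C c =>
      show residue D (MvPolynomial.aeval lft (MvPolynomial.C c)) = MvPolynomial.aeval (fun b : B => (b : Λ))
        (MvPolynomial.map (Ideal.Quotient.mk m) (MvPolynomial.C c))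
      rw [MvPolynomial.aeval_C, MvPolynomial.map_C, MvPolynomial.aeval_C]
      rfl
    | add a b ha hb => simp only [map_add, ha, hb]
    | mul_X a b ha =>
      rw [map_mul g₀, map_mul (residue D), map_mul πP, map_mul, ha]
      congr 1
      show residue D (MvPolynomial.aeval lft (MvPolynomial.X b)) = MvPolynomial.aeval (fun b : B => (b : Λ))
        (MvPolynomial.map (Ideal.Quotient.mk m) (MvPolynomial.X b))
      rw [MvPolynomial.map_X, MvPolynomial.aeval_X, MvPolynomial.aeval_X]
      exact hlft b
  let 𝔭 : Ideal P := (maximalIdeal D).comap g₀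
  haveI : 𝔭.IsPrime := Ideal.IsPrime.comap _
  obtain ⟨ϖ, hϖ⟩ := hV.principal
  have h𝔭 : 𝔭 = Ideal.span {MvPolynomial.C ϖ} := by
    refine le_antisymm (fun a ha => ?_) ((Ideal.span_singleton_le_iff_mem _).2 ?_)
    · have h1 : πP a = 0 := hB.1 (by rw [← hcomm, map_zero, residue_eq_zero_iff]; exact ha)
      rw [Ideal.mem_span_singleton, MvPolynomial.C_dvd_iff_dvd_coeff]
      intro i
      have h2 : Ideal.Quotient.mk m (a.coeff i) = 0 := by
        rw [← MvPolynomial.coeff_map]
        show (πP a).coeff i = 0
        rw [h1, MvPolynomial.coeff_zero]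
      rw [Ideal.Quotient.eq_zero_iff_mem, show m = maximalIdeal V from rfl, hϖ] at h2
      exact Ideal.mem_span_singleton.1 h2
    · show g₀ (MvPolynomial.C ϖ) ∈ maximalIdeal D
      rw [MvPolynomial.aeval_C, ← residue_eq_zero_iff]
      show algebraMap κ Λ (Ideal.Quotient.mk m ϖ) = 0
      rw [Ideal.Quotient.eq_zero_iff_mem.2 (show ϖ ∈ maximalIdeal V from hϖ ▸ Submodule.mem_span_singleton_self ϖ),
        map_zero]
  haveI : IsNoetherianRing P := inferInstance
  let W := Localization.AtPrime 𝔭
  haveI : IsNoetherianRing W := IsLocalization.isNoetherianRing 𝔭.primeCompl W inferInstance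
  have hWp : (maximalIdeal W).IsPrincipal := ⟨⟨algebraMap P W (MvPolynomial.C ϖ), by
    refine (IsLocalization.AtPrime.map_eq_maximalIdeal 𝔭 W).symm.trans
      ((congrArg (Ideal.map (algebraMap P W)) h𝔭).trans ?_)
    rw [Ideal.map_span, Set.image_singleton]⟩⟩
  have hpW : IsUnit (p : W) := by
    simpa using hp.map ((algebraMap P W).comp MvPolynomial.C)
  let φ : W →+* D := IsLocalization.lift (M := 𝔭.primeCompl) (g := g₀.toRingHom) fun y =>
    notMem_maximalIdeal.1 y.2
  letI : Algebra W D := φ.toAlgebra
  letI : Algebra P D := g₀.toRingHom.toAlgebra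
  haveI : IsScalarTower P W D := IsScalarTower.of_algebraMap_eq fun x => (IsLocalization.lift_eq _ x).symm
  haveI : IsScalarTower V P D := IsScalarTower.of_algebraMap_eq fun x => (g₀.commutes x).symm
  have hVF : IsField V → IsField W := fun hF => by
    refine IsLocalRing.isField_iff_maximalIdeal_eq.2 ((IsLocalization.AtPrime.map_eq_maximalIdeal 𝔭 W).symm.trans
      ((congrArg (Ideal.map (algebraMap P W)) h𝔭).trans ?_))
    have h0 : ϖ = 0 := by
      have := IsLocalRing.isField_iff_maximalIdeal_eq.1 hF
      rw [hϖ] at this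
      exact Submodule.span_singleton_eq_bot.1 this
    simp [h0]
  haveI hlocφ : IsLocalHom (algebraMap W D) := ⟨fun a ha => by
    obtain ⟨a, y, rfl⟩ := IsLocalization.exists_mk'_eq 𝔭.primeCompl a
    refine (IsLocalization.AtPrime.isUnit_mk'_iff W 𝔭 a y).2 fun ha' => ?_
    have h1 : IsUnit (algebraMap W D (IsLocalization.mk' W a y) * algebraMap W D (algebraMap P W y)) :=
      ha.mul ((IsLocalization.map_units W y).map _)
    rw [← map_mul, IsLocalization.mk'_spec, ← IsScalarTower.algebraMap_apply] at h1
    exact notMem_maximalIdeal.2 h1 ha'⟩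
  have hWD : Function.Injective (algebraMap W D) := by
    rw [RingHom.injective_iff_ker_eq_bot]
    by_contra hne
    haveI : Ring.KrullDimLE 1 W := Ring.krullDimLE_iff.2 (by
      rcases em (IsField W) with hF | hF
      · rw [ringKrullDim_eq_zero_of_isField hF]; exact zero_le_one
      · haveI : IsDiscreteValuationRing W := ((IsDiscreteValuationRing.TFAE W hF).out 0 4).2 hWp
        exact (IsDiscreteValuationRing.ringKrullDim_eq_one W).le)
    haveI := RingHom.ker_isPrime (algebraMap W D)
    have hmax : RingHom.ker (algebraMap W D) = maximalIdeal W := IsLocalRing.eq_maximalIdeal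
      (Ring.krullDimLE_one_iff_of_noZeroDivisors.1 inferInstance _ hne inferInstance)
    have h1 : algebraMap P W (MvPolynomial.C ϖ) ∈ RingHom.ker (algebraMap W D) := by
      rw [hmax]
      exact Ideal.mem_comap.1 ((IsLocalization.AtPrime.under_maximalIdeal W 𝔭).ge
        (h𝔭.ge (Ideal.mem_span_singleton_self _)))
    rw [RingHom.mem_ker, ← IsScalarTower.algebraMap_apply, ← MvPolynomial.algebraMap_eq,
      ← IsScalarTower.algebraMap_apply] at h1
    have h2 : ϖ = 0 := hVD (h1.trans (map_zero _).symm)
    have hVF' : IsField V := IsLocalRing.isField_iff_maximalIdeal_eq.2 (by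
      rw [hϖ, h2]; simp)
    exact hne (by rw [hmax, IsLocalRing.isField_iff_maximalIdeal_eq.1 (hVF hVF')])
  letI : Algebra W E := ((algebraMap D E).comp (algebraMap W D)).toAlgebra
  haveI : IsScalarTower W D E := IsScalarTower.of_algebraMap_eq fun _ => rfl
  haveI : IsLocalHom (algebraMap W E) := RingHom.isLocalHom_comp _ _
  have hWE : Function.Injective (algebraMap W E) := hDE.comp hWD
  haveI : FaithfulSMul W D := (faithfulSMul_iff_algebraMap_injective _ _).2 hWD
  haveI : FaithfulSMul D E := (faithfulSMul_iff_algebraMap_injective _ _).2 hDE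
  have hPW : Function.Injective (algebraMap P W) :=
    IsLocalization.injective W 𝔭.primeCompl_le_nonZeroDivisors
  haveI : FaithfulSMul P W := (faithfulSMul_iff_algebraMap_injective _ _).2 hPW
  haveI : FaithfulSMul P D := (faithfulSMul_iff_algebraMap_injective _ _).2 (by
    rw [IsScalarTower.algebraMap_eq P W D]; exact hWD.comp hPW)
  haveI : FaithfulSMul V P := (faithfulSMul_iff_algebraMap_injective _ _).2 (MvPolynomial.C_injective _ _)
  haveI := isAlgebraic_of_localization (F := P) (B := W) 𝔭.primeCompl
  have e1 := trdeg_add_eq W D (A := E)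
  rw [trdeg_eq_zero (R := D) (A := E), add_zero] at e1
  have e2 := trdeg_add_eq P W (A := D)
  rw [trdeg_eq_zero (R := P) (A := W), zero_add] at e2
  have e3 := trdeg_add_eq V P (A := D)
  rw [MvPolynomial.trdeg_of_isDomain, Cardinal.lift_id, hBc, ← e2, hs] at e3
  obtain ⟨r, hr⟩ := Cardinal.lt_aleph0.1 (show Algebra.trdeg W D < Cardinal.aleph0 from
    lt_of_le_of_lt le_add_self (e3.trans_lt Cardinal.natCast_lt_aleph0))
  rw [hr] at e3
  have hts : t + r = s := by exact_mod_cast e3
  obtain ⟨e, he1, he0, hK⟩ := kVanOn_fractionRing_of_base p W hWp hpW E hWE r (by rw [← e1, hr])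
  refine hK.mono ?_
  by_cases hF : IsField V
  · have := he0 (hVF hF)
    omega
  · have h1 : 1 ≤ e₀ := by
      by_contra h0
      have hm0 : m.height = 0 := by rw [← he₀, show e₀ = 0 by omega]; rfl
      refine hF (IsLocalRing.isField_iff_maximalIdeal_eq.2 ?_)
      have hdim := IsLocalRing.maximalIdeal_height_eq_ringKrullDim (R := V)
      rw [show (maximalIdeal V).height = 0 from hm0] at hdim
      haveI : Ring.KrullDimLE 0 V := Ring.krullDimLE_iff.2 hdim.symm.le
      exact IsLocalRing.isField_iff_maximalIdeal_eq.1 Ring.KrullDimLE.isField_of_isDomain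
    omega

end Groth.Agent.EtPBC
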