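import Groth.Agent.EtPBC.CdDimSum
import Groth.Agent.EtPBC.FieldTrdeg

/-!
# `cd_p k + t ≤ cd_p k'` for finitely generated extensions of transcendence degree `t`
-/

set_option autoImplicit false
set_option backward.isDefEq.respectTransparency false
set_option linter.style.haveILetI false
set_option linter.unusedSectionVars false

universe u

open CategoryTheory CategoryTheory.Limits AlgebraicGeometry Opposite IsLocalRing Polynomial

noncomputable section

namespace Groth.Agent.EtPBC

variable (p : ℕ) [hpp : Fact p.Prime]

/-- the rational function field in one variable -/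
theorem kVanOn_of_fractionRing_polynomial (F : Type u) [Field F] (hp : (p : F) ≠ 0)
    (hord : p ≠ 2 ∨ ¬ ∃ _ : LinearOrder F, IsStrictOrderedRing F) (e : ℕ)
    (h : KVanOn {p} (Spec (CommRingCat.of (FractionRing (Polynomial F)))) e) :
    1 ≤ e ∧ KVanOn {p} (Spec (CommRingCat.of F)) (e - 1) := by
  let K := FractionRing (Polynomial F)
  let P : Ideal (Polynomial F) := Ideal.span {X}
  haveI hPm : P.IsMaximal :=
    PrincipalIdealRing.isMaximal_of_irreducible (irreducible_X : Irreducible (X : Polynomial F))
  have hP0 : P ≠ ⊥ := by simp [P, Ideal.span_singleton_eq_bot]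
  let R := Localization.AtPrime P
  haveI : IsDiscreteValuationRing R := IsLocalization.AtPrime.isDiscreteValuationRing_of_dedekind_domain _ hP0 R
  letI : Algebra R K := (IsLocalization.lift (M := P.primeCompl) (S := R) (g := algebraMap (Polynomial F) K) fun y => by
    refine IsUnit.mk0 _ ((map_ne_zero_iff _ (IsFractionRing.injective (Polynomial F) K)).2 fun h => y.2 ?_)
    rw [h]; exact P.zero_mem).toAlgebra
  haveI : IsScalarTower (Polynomial F) R K := IsScalarTower.of_algebraMap_eq fun x => (IsLocalization.lift_eq _ x).symm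
  haveI : IsFractionRing R K := IsFractionRing.isFractionRing_of_isDomain_of_isLocalization P.primeCompl R K
  let i : F →+* R := (algebraMap (Polynomial F) R).comp C
  have hpR : IsUnit (p : R) := by simpa using (isUnit_iff_ne_zero.2 hp).map i
  have hdim : ringKrullDim R = (1 : ℕ) := by
    rw [Nat.cast_one]
    exact IsDiscreteValuationRing.ringKrullDim_eq_one R
  have hordR : p ≠ 2 ∨ ∀ (G : Type u) [Field G] (_ : R →+* G), ¬ ∃ _ : LinearOrder G, IsStrictOrderedRing G :=
    hord.imp_right fun h G _ g => not_orderable_of_ringHom (g.comp i) h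
  have h1 := ringKrullDim_le_of_kVanOn p e R hpR K h
  rw [hdim] at h1
  refine ⟨by exact_mod_cast h1, ?_⟩
  have h2 := kVanOn_residueField_of_kVanOn p 1 R hpR hordR hdim K e h
  let f : F →+* ResidueField R := (residue R).comp i
  have hf : Function.Bijective f := by
    refine ⟨f.injective, fun y => ?_⟩
    obtain ⟨y, rfl⟩ := residue_surjective y
    obtain ⟨a, s, rfl⟩ := IsLocalization.exists_mk'_eq P.primeCompl y
    have hs : (s : Polynomial F).coeff 0 ≠ 0 := fun h0 => s.2 (Ideal.mem_span_singleton.2 (X_dvd_iff.2 h0))
    refine ⟨a.coeff 0 / (s : Polynomial F).coeff 0, ?_⟩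
    have hred : ∀ b : Polynomial F, residue R (algebraMap _ R b) = f (b.coeff 0) := by
      intro b
      show _ = residue R (algebraMap (Polynomial F) R (C (b.coeff 0)))
      rw [← sub_eq_zero, ← map_sub, ← map_sub, residue_eq_zero_iff, ← Ideal.mem_comap]
      rw [show (maximalIdeal R).comap (algebraMap (Polynomial F) R) = P from IsLocalization.AtPrime.under_maximalIdeal R P]
      exact Ideal.mem_span_singleton.2 (X_dvd_iff.2 (by simp))
    rw [map_div₀, div_eq_iff ((_root_.map_ne_zero f).2 hs), ← hred, ← hred, ← map_mul, IsLocalization.mk'_spec]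
  exact h2.of_isIntegralHom (Scheme.Spec.mapIso (RingEquiv.ofBijective f hf).toCommRingCatIso.op).inv

/-- **the lower bound** -/
theorem kVanOn_of_fg_extension : ∀ (t : ℕ) (k k' : Type u) [Field k] [Field k'] [Algebra k k'],
    (∃ s : Finset k', IntermediateField.adjoin k (s : Set k') = ⊤) → (p : k) ≠ 0 →
    (p ≠ 2 ∨ ¬ ∃ _ : LinearOrder k, IsStrictOrderedRing k) → Algebra.trdeg k k' = t → ∀ d : ℕ,
    KVanOn {p} (Spec (CommRingCat.of k')) d →
    t ≤ d ∧ KVanOn {p} (Spec (CommRingCat.of k)) (d - t) := by
  intro t
  induction t with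
  | zero =>
    intro k k' _ _ _ hfg hp hord ht d hd
    haveI : FaithfulSMul k k' := (faithfulSMul_iff_algebraMap_injective _ _).2 (algebraMap k k').injective
    haveI : Algebra.IsAlgebraic k k' := trdeg_eq_zero_iff.1 (by simpa using ht)
    obtain ⟨s, hs⟩ := hfg
    haveI : FiniteDimensional k k' := by
      haveI := IntermediateField.finiteDimensional_adjoin (K := k) (S := (s : Set k'))
        fun x _ => Algebra.IsIntegral.isIntegral x
      exact Module.Finite.equiv ((IntermediateField.equivOfEq hs).trans IntermediateField.topEquiv).toLinearEquiv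
    exact ⟨Nat.zero_le d, kVanOn_of_finite_of_not_orderable p d k k' hp hord hd⟩
  | succ n ih =>
    intro k k' _ _ _ hfg hp hord ht d hd
    haveI : FaithfulSMul k k' := (faithfulSMul_iff_algebraMap_injective _ _).2 (algebraMap k k').injective
    have hna : ¬ Algebra.IsAlgebraic k k' := fun h => by
      have h0 := trdeg_eq_zero_iff.2 h
      rw [ht] at h0
      exact Nat.succ_ne_zero n (by exact_mod_cast h0)
    obtain ⟨x, hx⟩ : ∃ x : k', Transcendental k x := by
      simpa [Algebra.isAlgebraic_def, Transcendental] using hna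
    have hinj : Function.Injective (Polynomial.aeval (R := k) x) := transcendental_iff_injective.1 hx
    let L₀ := FractionRing (Polynomial k)
    let g : L₀ →ₐ[k] k' := IsFractionRing.liftAlgHom hinj
    letI : Algebra L₀ k' := g.toRingHom.toAlgebra
    haveI : IsScalarTower k L₀ k' := IsScalarTower.of_algebraMap_eq fun z => (g.commutes z).symm
    haveI : FaithfulSMul k L₀ := (faithfulSMul_iff_algebraMap_injective _ _).2 (algebraMap k L₀).injective
    haveI : FaithfulSMul L₀ k' := (faithfulSMul_iff_algebraMap_injective _ _).2 (algebraMap L₀ k').injective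
    haveI : Algebra.IsAlgebraic (Polynomial k) L₀ := IsLocalization.isAlgebraic L₀ (nonZeroDivisors (Polynomial k))
    haveI : FaithfulSMul k (Polynomial k) :=
      (faithfulSMul_iff_algebraMap_injective _ _).2 Polynomial.C_injective
    have e0 := trdeg_add_eq k (Polynomial k) (A := L₀)
    rw [Polynomial.trdeg_of_isDomain, trdeg_eq_zero (R := Polynomial k) (A := L₀), add_zero] at e0
    have e1 := trdeg_add_eq k L₀ (A := k')
    rw [← e0, ht] at e1
    have ht' : Algebra.trdeg L₀ k' = n := by
      refine Cardinal.eq_of_add_eq_add_left ?_ Cardinal.one_lt_aleph0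
      rw [e1, Nat.cast_succ, add_comm]
    obtain ⟨s, hs⟩ := hfg
    obtain ⟨hn, h1⟩ := ih L₀ k' ⟨s, by
      apply IntermediateField.restrictScalars_injective k
      rw [IntermediateField.restrictScalars_top, eq_top_iff, ← hs, IntermediateField.adjoin_le_iff]
      exact IntermediateField.subset_adjoin L₀ _⟩
      (by rw [← map_natCast (algebraMap k L₀)]; exact (_root_.map_ne_zero _).2 hp)
      (hord.imp_right (not_orderable_of_ringHom (algebraMap k L₀))) ht' d hd
    obtain ⟨h2, h3⟩ := kVanOn_of_fractionRing_polynomial p k hp hord (d - n) h1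
    exact ⟨by omega, by rwa [Nat.sub_sub] at h3⟩

end Groth.Agent.EtPBC
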