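import Groth.Agent.EtPBC.CurveCount
import Groth.Agent.EtPBC.AffineCurve
import Groth.Agent.EtPBC.CurveGm
import Groth.Agent.CurveCompl.AffineOpen
import Mathlib

/-!
# Opens with finite nonempty complement in a smooth proper curve
-/

set_option autoImplicit false
set_option backward.isDefEq.respectTransparency false
set_option backward.isDefEq.respectTransparency.types false
set_option linter.auxLemma false
set_option linter.style.haveILetI false
set_option linter.unusedSectionVars false

universe u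

open CategoryTheory CategoryTheory.Limits CategoryTheory.Abelian AlgebraicGeometry Opposite TopologicalSpace

noncomputable section

namespace Groth.Agent.EtPBC

attribute [local instance 100000] EtCoh.H._proof_1 EtMV.hext
attribute [local instance 200000] EtMV.hextAb

variable {k : Type u} [Field k] [IsAlgClosed k] {C : Scheme.{u}} {f : C ⟶ Spec (CommRingCat.of k)}
  [IsIntegral C] (hC : Curve.IsSmoothProperCurve k C f)

include hC in
/-- a cofinite open contains the generic point -/
theorem genericPoint_mem_of_finite_compl (U : C.Opens) (hUc : ((U : Set C)ᶜ).Finite) : genericPoint C ∈ U := by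
  by_contra hη
  have hU : (U : Set C) = ∅ := Set.eq_empty_iff_forall_notMem.2 fun z hz =>
    hη ((genericPoint_specializes z).mem_open U.isOpen hz)
  rw [hU, Set.compl_empty] at hUc
  haveI := hC.1
  haveI : JacobsonSpace C := LocallyOfFiniteType.jacobsonSpace f
  have hA : IsClosed ({genericPoint C}ᶜ : Set C) := by
    rw [← Set.biUnion_of_singleton ({genericPoint C}ᶜ : Set C)]
    exact (hUc.subset (Set.subset_univ _)).isClosed_biUnion fun z hz => CurveFF.isClosed_of_ne_generic hC hz
  obtain ⟨z, hz, hzc⟩ := nonempty_inter_closedPoints ⟨_, Set.mem_singleton (genericPoint C)⟩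
    ((compl_compl ({genericPoint C} : Set C)) ▸ hA.isOpen_compl).isLocallyClosed
  exact CurveFF.not_isClosed_generic hC (Set.mem_singleton_iff.1 hz ▸ (mem_closedPoints_iff.1 hzc))

include hC in
theorem isClosed_of_notMem_cofinite {U : C.Opens} (hUc : ((U : Set C)ᶜ).Finite) {x : C} (hx : x ∉ U) :
    IsClosed ({x} : Set C) :=
  CurveFF.isClosed_of_ne_generic hC fun h => hx (h ▸ genericPoint_mem_of_finite_compl hC U hUc)

include hC in
/-- such opens are affine, so have cohomological dimension one -/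
theorem cohDimLE_open (U : C.Opens) (hUc : ((U : Set C)ᶜ).Finite) {x : C} (hx : x ∉ U) :
    EtCoh.CohDimLE (U : Scheme.{u}) 1 := by
  haveI := hC.1
  haveI : IsLocallyNoetherian C := LocallyOfFiniteType.isLocallyNoetherian f
  letI : C.Over (Spec (CommRingCat.of k)) := ⟨f⟩
  haveI : IsProper (C ↘ Spec (CommRingCat.of k)) := hC.1
  have hdisc : DiscreteTopology ↥((U : Set C)ᶜ) := by
    haveI := hUc.to_subtype
    haveI : T1Space ↥((U : Set C)ᶜ) := ⟨fun z => by
      convert (isClosed_of_notMem_cofinite hC hUc z.2).preimage continuous_subtype_val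
      ext w; simp [Subtype.ext_iff]⟩
    infer_instance
  haveI : IsAffine (U : Scheme.{u}) := CurveCompl.isAffineOpen_of_ne_top k hC.2.2.2
    ⟨_, genericPoint_mem_of_finite_compl hC U hUc⟩ hx hdisc
  exact cohDimLE_affine_curve (U : Scheme.{u}) (U.ι ≫ f)
    (U.ι.isOpenEmbedding.isInducing.topologicalKrullDim_le.trans hC.2.2.2.le)

/-- cohomology of `μ_n` on an open, as classes with constant coefficients -/
theorem nonempty_mu_equiv (f : C ⟶ Spec (CommRingCat.of k)) (U : C.Opens) {n : ℕ} (hn : 1 ≤ n) (hnk : (n : k) ≠ 0)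
    (q : ℕ) : Nonempty (EtCoh.H (U : Scheme.{u}) (EtCoh.mu (U : Scheme.{u}) n) q ≃+ hOn n U q) := by
  obtain ⟨e⟩ := nonempty_hOn_equiv (n := n) U q
  exact ⟨(((EtCoh.HF (U : Scheme.{u}) q).mapIso (kRootOf (U.ι ≫ f) hn hnk).iso.symm).addCommGroupIsoToAddEquiv).trans
    e.symm⟩

include hC in
theorem subsingleton_hOn_open (U : C.Opens) (hUc : ((U : Set C)ᶜ).Finite) {x : C} (hx : x ∉ U) {n : ℕ} (hn : 1 ≤ n)
    (hnk : (n : k) ≠ 0) (q : ℕ) (hq : 2 ≤ q) :
    Subsingleton (EtCoh.H (U : Scheme.{u}) (EtCoh.mu (U : Scheme.{u}) n) q) ∧ Subsingleton (hOn n U q) := by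
  have h : Subsingleton (EtCoh.H (U : Scheme.{u}) (EtCoh.mu (U : Scheme.{u}) n) q) :=
    cohDimLE_open hC U hUc hx _ (fun V s v => ⟨V, 𝟙 V, ⟨v, rfl⟩, isOfFinAddOrder_iff_nsmul_eq_zero.2
      ⟨n, hn, by rw [op_id, CategoryTheory.Functor.map_id]; exact killed_mu n V s⟩⟩) q (by omega)
  obtain ⟨e⟩ := nonempty_mu_equiv f U hn hnk q
  exact ⟨h, e.symm.toEquiv.subsingleton⟩

end Groth.Agent.EtPBC
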