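import Groth.Agent.EtPBC.AffineCurve
import Groth.Agent.EtMV.MVOpens
import Groth.Agent.EtMV.Base
import Groth.Agent.GalCohLib.FieldTransfer
import Groth.Agent.RegDual.Scheme
import Groth.Agent.S1607
import Mathlib

/-!
# Restriction in degree two on curves
-/

set_option autoImplicit false
set_option backward.isDefEq.respectTransparency false
set_option backward.isDefEq.respectTransparency.types false
set_option linter.auxLemma false
set_option linter.style.haveILetI false
set_option linter.unusedSectionVars false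

universe u

open CategoryTheory CategoryTheory.Limits CategoryTheory.Abelian AlgebraicGeometry Opposite

noncomputable section

namespace Groth.Agent.EtPBC

attribute [local instance 100000] EtCoh.H._proof_1 EtMV.hext
attribute [local instance 200000] EtMV.hextAb

variable {k : Type u} [Field k] [IsAlgClosed k] {X : Scheme.{u}}

open EtMV (oo res P)

/-- adding an open with vanishing overlap keeps restriction surjective -/
theorem surjective_precomp_of_overlap {U A W : X.Opens} (hU : U ≤ W) (hA : A ≤ W) (hUA : W ≤ U ⊔ A) (G : EtCoh.Ab X)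
    (q : ℕ) (h : Subsingleton (Ext ((P X).obj (oo (U ⊓ A))) G q)) (e : Ext ((P X).obj (oo U)) G q) :
    ∃ y : Ext ((P X).obj (oo W)) G q, (Ext.mk₀ ((P X).map (res hU))).comp y (zero_add q) = e := by
  have hS := EtMV.sc'_shortExact hU hA hUA
  haveI := h
  let x₂ : Ext (EtMV.sc' hU hA).X₂ G q :=
    (Ext.mk₀ (biprod.fst : (P X).obj (oo U) ⊞ (P X).obj (oo A) ⟶ (P X).obj (oo U))).comp e (zero_add q)
  obtain ⟨y, hy⟩ := Ext.contravariant_sequence_exact₂ hS G x₂ (@Subsingleton.elim (Ext (EtMV.sc' hU hA).X₁ G q) h _ _)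
  let i : (P X).obj (oo U) ⟶ (EtMV.sc' hU hA).X₂ :=
    (biprod.inl : (P X).obj (oo U) ⟶ (P X).obj (oo U) ⊞ (P X).obj (oo A))
  refine ⟨y, ?_⟩
  have h1 := congrArg (fun t => (Ext.mk₀ i).comp t (zero_add q)) hy
  simp only [x₂, Ext.mk₀_comp_mk₀_assoc] at h1
  have hg : i ≫ (EtMV.sc' hU hA).g = (P X).map (res hU) := biprod.inl_desc _ _
  have hf : i ≫ (biprod.fst : (P X).obj (oo U) ⊞ (P X).obj (oo A) ⟶ (P X).obj (oo U)) = 𝟙 _ := biprod.inl_fst
  rw [hg, hf, Ext.mk₀_id_comp] at h1
  exact h1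

variable (f : X ⟶ Spec (CommRingCat.of k)) [IsSeparated f] [LocallyOfFiniteType f] [QuasiCompact f]
  (hdim : topologicalKrullDim X ≤ 1)

include f hdim in
theorem subsingleton_ext_affineOpen {F : EtCoh.Ab X} (hF : EtCoh.IsTorsion F) (V : X.Opens) (hV : IsAffineOpen V) :
    Subsingleton (Ext ((P X).obj (oo V)) F 2) := by
  haveI : IsAffine (V : Scheme.{u}) := hV
  haveI := EtPullExact.pull_preservesFiniteLimits V.ι
  haveI := cohDimLE_affine_curve (k := k) (V : Scheme.{u}) (V.ι ≫ f)
    (V.ι.isOpenEmbedding.isInducing.topologicalKrullDim_le.trans hdim) _ (GalCohLib.isTorsion_pull V.ι F hF) 2 one_lt_two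
  exact (EtMV.Φ V F 2).toEquiv.subsingleton

include f hdim in
/-- **`H²` of a curve restricts onto `H²` of an open** -/
theorem surjective_Hpull_two_open {F : EtCoh.Ab X} (hF : EtCoh.IsTorsion F) (U : X.Opens)
    [PreservesFiniteLimits (EtCoh.pull U.ι)] : Function.Surjective (EtCore.Hpull U.ι F 2) := by
  classical
  haveI : IsNoetherian X := isNoetherian_of_field f
  obtain ⟨S, hS, hSc⟩ := (isCompact_univ : IsCompact (Set.univ : Set X)).elim_finite_subcover
    (fun A : X.affineOpens => ((A : X.Opens) : Set X)) (fun A => A.1.isOpen) (fun x _ => by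
      obtain ⟨A, hA, hxA, -⟩ := exists_isAffineOpen_mem_and_subset (X := X) (x := x) (U := ⊤) trivial
      exact Set.mem_iUnion.2 ⟨⟨A, hA⟩, hxA⟩) |>.imp fun S h => (⟨trivial, h⟩ : True ∧ _)
  have step : ∀ (T : Finset X.affineOpens) (e : Ext ((P X).obj (oo U)) F 2),
      ∃ (W : X.Opens) (hW : U ≤ W) (_ : ∀ A ∈ T, (A : X.Opens) ≤ W) (y : Ext ((P X).obj (oo W)) F 2),
        (Ext.mk₀ ((P X).map (res hW))).comp y (zero_add 2) = e := by
    intro T e
    induction T using Finset.induction with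
    | empty =>
      refine ⟨U, le_rfl, fun A hA => absurd hA (Finset.notMem_empty A), e, ?_⟩
      rw [EtMV.hom_oo_ext (res (le_refl U)) (𝟙 _), CategoryTheory.Functor.map_id, Ext.mk₀_id_comp]
    | @insert A T _ ih =>
      obtain ⟨W, hW, hT, y, hy⟩ := ih
      have hov : Subsingleton (Ext ((P X).obj (oo (W ⊓ A.1))) F 2) := by
        refine subsingleton_ext_affineOpen f hdim hF _ ?_
        haveI : IsAffine (A.1 : Scheme.{u}) := A.2
        haveI : IsNoetherian (A.1 : Scheme.{u}) := isNoetherian_of_field (A.1.ι ≫ f)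
        have h := S1607.result (A.1 : Scheme.{u}) (fun z => ⟨inferInstance,
          (RegDual.ringKrullDim_stalk_le_topologicalKrullDim z).trans
            (A.1.ι.isOpenEmbedding.isInducing.topologicalKrullDim_le.trans hdim)⟩) (A.1.ι ⁻¹ᵁ W)
          (TopologicalSpace.NoetherianSpace.isCompact _)
        have h2 := h.image_of_isOpenImmersion A.1.ι
        rwa [Scheme.Hom.image_preimage_eq_opensRange_inf, Scheme.Opens.opensRange_ι, inf_comm] at h2
      obtain ⟨z, hz⟩ := surjective_precomp_of_overlap (le_sup_left : W ≤ W ⊔ A.1) le_sup_right le_rfl F 2 hov y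
      refine ⟨W ⊔ A.1, hW.trans le_sup_left, fun B hB => ?_, z, ?_⟩
      · rcases Finset.mem_insert.1 hB with rfl | hB
        · exact le_sup_right
        · exact (hT B hB).trans le_sup_left
      · rw [EtMV.hom_oo_ext (res (hW.trans le_sup_left)) (res hW ≫ res le_sup_left), Functor.map_comp,
          ← Ext.mk₀_comp_mk₀_assoc, hz, hy]
  intro c
  obtain ⟨W, hW, hT, y, hy⟩ := step S ((EtMV.Φ U F 2).symm c)
  have htop : W = ⊤ := top_le_iff.1 fun x hx => by
    obtain ⟨A, hA, hxA⟩ := Set.mem_iUnion₂.1 (hSc (Set.mem_univ x))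
    exact hT A hA hxA
  obtain ⟨γ⟩ := EtMV.exists_lift (X := X) (T := EtCoh.top X) (U := W) (fun x _ => by rw [htop]; trivial)
  let x : Ext ((P X).obj (EtCoh.top X)) F 2 := (Ext.mk₀ ((P X).map γ)).comp y (zero_add 2)
  refine ⟨(Ext.mk₀ (EtMV.θ X).hom).comp x (zero_add 2), ?_⟩
  rw [EtMV.Hpull_eq, Ext.mk₀_comp_mk₀_assoc, Iso.inv_hom_id, Ext.mk₀_id_comp, ← EtMV.Φ_res,
    Ext.mk₀_comp_mk₀_assoc, ← Functor.map_comp, EtMV.hom_oo_ext (EtMV.toTop (oo U) ≫ γ) (res hW), hy,
    AddEquiv.apply_symm_apply]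

end Groth.Agent.EtPBC
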