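import Groth.Agent.EtPBC.SkyCoprod
import Groth.Agent.EtPBC.CurveRestrTwo
import Mathlib

/-!
# High degree cohomology of curves: rational sheaves and non-separated curves
-/

set_option autoImplicit false
set_option backward.isDefEq.respectTransparency false
set_option backward.isDefEq.respectTransparency.types false
set_option linter.auxLemma false
set_option linter.style.haveILetI false
set_option linter.unusedSectionVars false

universe u

open CategoryTheory CategoryTheory.Limits CategoryTheory.Abelian AlgebraicGeometry Opposite TopologicalSpace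

noncomputable section

namespace Groth.Agent.EtPBC

attribute [local instance 100000] EtCoh.H._proof_1 EtMV.hext
attribute [local instance 200000] EtMV.hextAb

open EtMV (oo res P)

variable {X : Scheme.{u}}

/-- **rational sheaves on integral curves** -/
theorem subsingleton_H_of_uniquelyDivisible [IsNoetherian X] [IsIntegral X] (hdim : topologicalKrullDim X ≤ 1)
    (hsep : ∀ x : X, IsClosed ({x} : Set X) → IsSepClosed (X.residueField x)) (F : EtCoh.Ab X)
    (hdiv : ∀ n : ℕ, 0 < n → IsIso (n • 𝟙 F)) (q : ℕ) (hq : 2 ≤ q) : Subsingleton (EtCoh.H X F q) := by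
  obtain ⟨m, rfl⟩ : ∃ m, q = m + 1 := ⟨q - 1, by omega⟩
  let η : X := genericPoint X
  have hmax : IsMaxPt η := fun y hy => (hy.antisymm ((genericPoint_spec X).specializes (Set.mem_univ y))).eq
  have heq : ∀ z : X, ¬ IsClosed ({z} : Set X) → z = η := fun z hz =>
    (isMaxPt_of_not_closed hdim hz η ((genericPoint_spec X).specializes (Set.mem_univ z))).symm
  let i : Spec (CommRingCat.of X.functionField) ⟶ X := X.fromSpecStalk η
  let u := (EtCoh.pullPushAdj (locι η)).unit.app F
  have hK : SuppClosed (kernel u) := fun z hz => by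
    obtain rfl := heq z hz
    obtain ⟨Ω, _, _, ξ, hξ, hb⟩ := bijective_stalk_unit_loc hmax F
    exact zeroAt_kernel hξ u hb.1
  have hC : SuppClosed (cokernel u) := fun z hz => by
    obtain rfl := heq z hz
    obtain ⟨Ω, _, _, ξ, hξ, hb⟩ := bijective_stalk_unit_loc hmax F
    exact zeroAt_cokernel hξ u hb.2
  haveI := isIso_H_map_of_suppClosed hsep u hK hC (m + 1) (by omega) (fun e => absurd e (by omega))
  refine subsingleton_of_forall_eq 0 fun c => ?_
  obtain ⟨n, hn, hnc⟩ := isOfFinAddOrder_iff_nsmul_eq_zero.1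
    (EtTorsPoint.isOfFinAddOrder_H_push i m _ (((EtCoh.HF X (m + 1)).map u).hom c))
  have hc : n • c = 0 := ((ConcreteCategory.isIso_iff_bijective ((EtCoh.HF X (m + 1)).map u)).1 inferInstance).1
    ((map_nsmul ((EtCoh.HF X (m + 1)).map u).hom n c).trans (hnc.trans (map_zero _).symm))
  haveI := hdiv n hn
  have h1 : Ext.comp c (Ext.mk₀ (n • 𝟙 F)) (add_zero (m + 1)) = 0 := by
    rw [show Ext.mk₀ (n • 𝟙 F) = n • Ext.mk₀ (𝟙 F) from map_nsmul Ext.addEquiv₀.symm n (𝟙 F)]
    refine (map_nsmul (AddMonoidHom.mk' (fun e : Ext F F 0 => Ext.comp c e (add_zero (m + 1)))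
      fun a b => Ext.comp_add _ _ _ _) n (Ext.mk₀ (𝟙 F))).trans ?_
    show n • Ext.comp c (Ext.mk₀ (𝟙 F)) (add_zero (m + 1)) = 0
    rw [Ext.comp_mk₀_id]
    exact hc
  rw [← Ext.comp_mk₀_id c, ← IsIso.hom_inv_id (n • 𝟙 F), ← Ext.mk₀_comp_mk₀,
    ← Ext.comp_assoc_of_second_deg_zero, h1, Ext.zero_comp]

variable {k : Type u} [Field k] [IsAlgClosed k] (f : X ⟶ Spec (CommRingCat.of k)) [LocallyOfFiniteType f]
  [CompactSpace X] [IsNoetherian X] (hdim : topologicalKrullDim X ≤ 1)

include f hdim in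
theorem subsingleton_ext_affineOpen_ge {F : EtCoh.Ab X} (hF : EtCoh.IsTorsion F) (V : X.Opens) (hV : IsAffineOpen V)
    (q : ℕ) (hq : 1 < q) : Subsingleton (Ext ((P X).obj (oo V)) F q) := by
  haveI : IsAffine (V : Scheme.{u}) := hV
  haveI := EtPullExact.pull_preservesFiniteLimits V.ι
  haveI := cohDimLE_affine_curve (k := k) (V : Scheme.{u}) (V.ι ≫ f)
    (V.ι.isOpenEmbedding.isInducing.topologicalKrullDim_le.trans hdim) _ (GalCohLib.isTorsion_pull V.ι F hF) q hq
  exact (EtMV.Φ V F q).toEquiv.subsingleton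

include f hdim in
/-- **torsion sheaves on curves have no cohomology in degrees three and up** -/
theorem subsingleton_H_torsion_ge_three {F : EtCoh.Ab X} (hF : EtCoh.IsTorsion F) (q : ℕ) (hq : 3 ≤ q) :
    Subsingleton (EtCoh.H X F q) := by
  classical
  obtain ⟨m, rfl⟩ : ∃ m, q = m + 1 := ⟨q - 1, by omega⟩
  obtain ⟨S, hSc⟩ := (isCompact_univ : IsCompact (Set.univ : Set X)).elim_finite_subcover
    (fun A : X.affineOpens => ((A : X.Opens) : Set X)) (fun A => A.1.isOpen) (fun x _ => by
      obtain ⟨A, hA, hxA, -⟩ := exists_isAffineOpen_mem_and_subset (X := X) (x := x) (U := ⊤) trivial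
      exact Set.mem_iUnion.2 ⟨⟨A, hA⟩, hxA⟩)
  have step : ∀ T : Finset X.affineOpens, Subsingleton (Ext ((P X).obj (oo (T.sup fun A => A.1))) F (m + 1)) := by
    intro T
    induction T using Finset.induction with
    | empty =>
      refine subsingleton_ext_affineOpen_ge f hdim hF _ ?_ _ (by omega)
      rw [Finset.sup_empty]
      exact isAffineOpen_bot X
    | @insert A T _ ih =>
      rw [Finset.sup_insert]
      let W : X.Opens := T.sup fun A => A.1
      have hov : Subsingleton (Ext ((P X).obj (oo (W ⊓ A.1))) F m) := by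
        refine subsingleton_ext_affineOpen_ge f hdim hF _ ?_ m (by omega)
        haveI : IsAffine (A.1 : Scheme.{u}) := A.2
        haveI : LocallyOfFiniteType (A.1.ι ≫ f) := inferInstance
        haveI : IsNoetherian (A.1 : Scheme.{u}) := isNoetherian_of_field (A.1.ι ≫ f)
        have h := S1607.result (A.1 : Scheme.{u}) (fun z => ⟨inferInstance,
          (RegDual.ringKrullDim_stalk_le_topologicalKrullDim z).trans
            (A.1.ι.isOpenEmbedding.isInducing.topologicalKrullDim_le.trans hdim)⟩) (A.1.ι ⁻¹ᵁ W)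
          (TopologicalSpace.NoetherianSpace.isCompact _)
        have h2 := h.image_of_isOpenImmersion A.1.ι
        rwa [Scheme.Hom.image_preimage_eq_opensRange_inf, Scheme.Opens.opensRange_ι, inf_comm] at h2
      have hS := EtMV.sc'_shortExact (le_sup_right : W ≤ A.1 ⊔ W) (le_sup_left : A.1 ≤ A.1 ⊔ W) (sup_comm A.1 W).le
      refine subsingleton_of_forall_eq 0 fun e => ?_
      have hA := subsingleton_ext_affineOpen_ge f hdim hF A.1 A.2 (m + 1) (by omega)
      have h2 : Subsingleton (Ext (EtMV.sc' (le_sup_right : W ≤ A.1 ⊔ W) (le_sup_left : A.1 ≤ A.1 ⊔ W)).X₂ F (m + 1)) := by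
        refine subsingleton_of_forall_eq 0 fun (x : Ext ((P X).obj (oo W) ⊞ (P X).obj (oo A.1)) F (m + 1)) => ?_
        show x = 0
        rw [← Ext.mk₀_id_comp x, ← biprod.total, Ext.mk₀_add, Ext.add_comp, ← Ext.mk₀_comp_mk₀, ← Ext.mk₀_comp_mk₀,
          Ext.comp_assoc_of_second_deg_zero, Ext.comp_assoc_of_second_deg_zero,
          @Subsingleton.elim _ ih ((Ext.mk₀ biprod.inl).comp x (zero_add (m + 1))) 0,
          @Subsingleton.elim _ hA ((Ext.mk₀ biprod.inr).comp x (zero_add (m + 1))) 0, Ext.comp_zero, Ext.comp_zero,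
          add_zero]
      obtain ⟨d, hd⟩ := Ext.contravariant_sequence_exact₃ hS F e (@Subsingleton.elim _ h2 _ _) (n₀ := m)
        (by omega)
      rw [← hd, show d = 0 from @Subsingleton.elim (Ext (EtMV.sc' _ _).X₁ F m) hov d 0, Ext.comp_zero]
  have htop : S.sup (fun A => A.1) = (⊤ : X.Opens) := top_le_iff.1 fun x _ => by
    obtain ⟨A, hA, hxA⟩ := Set.mem_iUnion₂.1 (hSc (Set.mem_univ x))
    exact (Finset.le_sup (f := fun A : X.affineOpens => A.1) hA) hxA
  haveI h0 := step S
  obtain ⟨γ⟩ := EtMV.exists_lift (X := X) (T := EtCoh.top X) (U := S.sup fun A => A.1)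
    (fun x _ => by rw [htop]; trivial)
  refine subsingleton_of_forall_eq 0 fun c => ?_
  obtain ⟨e, rfl⟩ := (EtMV.eX X F (m + 1)).surjective c
  have he : e = (Ext.mk₀ ((P X).map γ)).comp ((Ext.mk₀ ((P X).map (EtMV.toTop _))).comp e (zero_add (m + 1)))
      (zero_add (m + 1)) := by
    rw [Ext.mk₀_comp_mk₀_assoc, ← Functor.map_comp, EtMV.hom_top_ext (γ ≫ EtMV.toTop _) (𝟙 _),
      CategoryTheory.Functor.map_id, Ext.mk₀_id_comp]
  rw [he, @Subsingleton.elim _ h0 ((Ext.mk₀ ((P X).map (EtMV.toTop _))).comp e (zero_add (m + 1))) 0, Ext.comp_zero,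
    map_zero]

end Groth.Agent.EtPBC
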