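import Groth.Agent.EtPBC.CurveKummer
import Groth.Agent.CurveFF.Basic
import Groth.Agent.CurveRR.Deg
import Mathlib

/-!
# Counting units and classes on the opens of a smooth proper curve
-/

set_option autoImplicit false
set_option backward.isDefEq.respectTransparency false
set_option backward.isDefEq.respectTransparency.types false
set_option linter.auxLemma false
set_option linter.style.haveILetI false
set_option linter.unusedSectionVars false

universe u

open CategoryTheory CategoryTheory.Limits CategoryTheory.Abelian AlgebraicGeometry Opposite TopologicalSpace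
open Groth.Agent.EtPicLib (oval exists_oval oval_injective oval_add)

noncomputable section

namespace Groth.Agent.EtPBC

attribute [local instance 100000] EtCoh.H._proof_1 EtMV.hext
attribute [local instance 200000] EtMV.hextAb

variable {k : Type u} [Field k] [IsAlgClosed k] {C : Scheme.{u}} (f : C ⟶ Spec (CommRingCat.of k)) {n : ℕ}

include f in
theorem toGlobal_natCast_unit (hnk : (n : k) ≠ 0) : IsUnit (n : Γ(C, ⊤)) := by
  rw [← map_natCast (Coh.toGlobal f)]
  exact (isUnit_iff_ne_zero.2 hnk).map _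

/-- roots of unity over an algebraically closed field -/
def kRootOf (hn : 1 ≤ n) (hnk : (n : k) ≠ 0) : KRoot C n :=
  haveI : NeZero (n : k) := ⟨hnk⟩
  { one_le := hn
    unit := toGlobal_natCast_unit f hnk
    ζ := Coh.toGlobal f (HasEnoughRootsOfUnity.exists_primitiveRoot k n).choose
    cyclo := by
      have hζ := (HasEnoughRootsOfUnity.exists_primitiveRoot k n).choose_spec
      have h := hζ.isRoot_cyclotomic (by omega)
      rw [Polynomial.IsRoot, ← Polynomial.map_cyclotomic_int, Polynomial.eval_map, ← algebraMap_int_eq,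
        ← Polynomial.aeval_def] at h
      exact (Polynomial.aeval_algHom_apply (Coh.toGlobal f).toIntAlgHom _ _).trans
        ((congrArg _ h).trans (map_zero _)) }

variable [IsIntegral C] (hC : Curve.IsSmoothProperCurve k C f)

/-- constants restricted to an open -/
def cstOn (U : C.Opens) : k →+* Γ(C, U) := (C.presheaf.map (homOfLE le_top).op).hom.comp (Coh.toGlobal f)

include f in
theorem card_torsion_units (hn : 1 ≤ n) (hnk : (n : k) ≠ 0) {U : C.Opens} (hU : (U : Set C).Nonempty) :
    Nonempty (Additive ↥(rootsOfUnity n k) ≃+ Chi.T n (unitsOn U)) := by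
  haveI : NeZero (n : k) := ⟨hnk⟩
  haveI : NeZero n := ⟨by omega⟩
  haveI : Nonempty U := hU.to_subtype
  have hex : ∀ z : ↥(rootsOfUnity n k), ∃ s : Chi.T n (unitsOn U), oval s.1 = cstOn f U (z.1 : k) := fun z => by
    obtain ⟨s, hs⟩ := exists_oval (X := C) (U := U) (z.1.isUnit.map (cstOn f U))
    refine ⟨⟨s, ?_⟩, hs⟩
    show n • s = 0
    apply oval_injective
    rw [oval_nsmul, oval_zero', hs, ← map_pow, ← Units.val_pow_eq_pow_val, (mem_rootsOfUnity _ _).1 z.2,
      Units.val_one, map_one]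
  choose φ hφ using hex
  let Φ : Additive ↥(rootsOfUnity n k) →+ Chi.T n (unitsOn U) :=
    AddMonoidHom.mk' (fun z => φ (Additive.toMul z)) fun a b => by
      apply Subtype.ext
      apply oval_injective
      show oval (φ (Additive.toMul (a + b))).1 = oval ((φ (Additive.toMul a)).1 + (φ (Additive.toMul b)).1)
      rw [oval_add, hφ, hφ, hφ, ← map_mul, toMul_add, Subgroup.coe_mul, Units.val_mul]
  have hinj : Function.Injective Φ := fun a b h => by
    have h2 := congrArg (fun s : Chi.T n (unitsOn U) => oval s.1) h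
    change oval (φ (Additive.toMul a)).1 = oval (φ (Additive.toMul b)).1 at h2
    rw [hφ, hφ] at h2
    exact congrArg Additive.ofMul (Subtype.ext (Units.ext ((cstOn f U).injective h2)))
  refine ⟨AddEquiv.ofBijective Φ ⟨hinj, fun s => ?_⟩⟩
  -- a root of `T ^ n - 1` in a domain which has `n` constant roots
  obtain ⟨ζ, hζ⟩ := HasEnoughRootsOfUnity.exists_primitiveRoot k n
  have hζ' : IsPrimitiveRoot (cstOn f U ζ) n := hζ.map_of_injective (cstOn f U).injective
  have hs : oval s.1 ^ n = 1 := by rw [← oval_nsmul, show n • s.1 = 0 from s.2, oval_zero']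
  obtain ⟨i, -, hi⟩ := hζ'.eq_pow_of_pow_eq_one hs
  refine ⟨Additive.ofMul (hζ.toRootsOfUnity ^ i), Subtype.ext (oval_injective ?_)⟩
  show oval (φ (hζ.toRootsOfUnity ^ i)).1 = oval s.1
  rw [hφ, ← hi, ← map_pow]
  rfl

include hC in
/-- **counting on the complement of finitely many points** -/
theorem card_units_pic [NeZero n] (a₀ b₀ c₀ : ℕ) (ha : Nat.card (Chi.M n (unitsOn (⊤ : C.Opens))) = a₀)
    (hb : Nat.card (Chi.T n (picOn (⊤ : C.Opens))) = b₀) (hc : Nat.card (Chi.M n (picOn (⊤ : C.Opens))) = c₀)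
    (h0 : a₀ ≠ 0 ∧ b₀ ≠ 0 ∧ c₀ ≠ 0) : ∀ (S : Finset C), (∀ x ∈ S, IsClosed ({x} : Set C)) →
    ∀ W : C.Opens, (W : Set C) = (S : Set C)ᶜ →
      Nat.card (Chi.M n (unitsOn W)) ≠ 0 ∧ Nat.card (Chi.T n (picOn W)) ≠ 0 ∧ Nat.card (Chi.M n (picOn W)) ≠ 0 ∧
      Nat.card (Chi.M n (unitsOn W)) * Nat.card (Chi.T n (picOn W)) * c₀ =
        n ^ S.card * a₀ * b₀ * Nat.card (Chi.M n (picOn W)) := by
  classical
  haveI := hC.1
  haveI : IsLocallyNoetherian C := LocallyOfFiniteType.isLocallyNoetherian f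
  haveI : CompactSpace C := QuasiCompact.compactSpace_of_compactSpace f
  haveI : IsNoetherian C := {}
  have hdim : topologicalKrullDim C ≤ 1 := hC.2.2.2.le
  have hne := CurveFF.not_isClosed_generic hC
  intro S
  induction S using Finset.induction with
  | empty =>
    intro _ W hW
    obtain rfl : W = ⊤ := Opens.ext (by simpa using hW)
    rw [ha, hb, hc]
    exact ⟨h0.1, h0.2.1, h0.2.2, by simp⟩
  | @insert x S hxS ih =>
    intro hcl W' hW'
    have hx : IsClosed ({x} : Set C) := hcl x (Finset.mem_insert_self x S)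
    have hSc : IsClosed (S : Set C) := by
      rw [← Set.biUnion_of_singleton (S : Set C)]
      exact S.finite_toSet.isClosed_biUnion fun z hz => hcl z (Finset.mem_insert_of_mem hz)
    let W : C.Opens := ⟨(S : Set C)ᶜ, hSc.isOpen_compl⟩
    obtain ⟨h1, h2, h3, h4⟩ := ih (fun z hz => hcl z (Finset.mem_insert_of_mem hz)) W rfl
    have hxW : x ∈ W := fun h => hxS h
    obtain rfl : W' = compl₁ hx ⊓ W := Opens.ext (by
      rw [hW', Finset.coe_insert]
      ext z
      simp [W, compl₁])
    haveI := CurveFF.stalk_dvr hC hx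
    obtain ⟨D⟩ := exists_ptDat hdim W hx hxW
    obtain ⟨g1, g2, g3, g4⟩ := Chi.step n (uRes (inf_le_right : compl₁ hx ⊓ W ≤ W)) (D.ord hne) D.cls
      (pRes (inf_le_right : compl₁ hx ⊓ W ≤ W)) (D.uRes_injective_compl hne) (D.ord_eq_zero_iff hne)
      (D.zsmul_cls_eq_zero_iff hne)
      (fun p => ⟨D.exists_zsmul_cls hne p, fun ⟨m, hm⟩ => by
        rw [← hm, map_zsmul, show pRes _ D.cls = 0 from cRes_cls D, smul_zero]⟩)
      (fun c => exists_extension_point hne hdim hxW c) h1 h2 h3
    refine ⟨g1, g2, g3, ?_⟩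
    apply Nat.eq_of_mul_eq_mul_right (Nat.pos_of_ne_zero h3)
    rw [Finset.card_insert_of_notMem hxS]
    calc Nat.card (Chi.M n (unitsOn (compl₁ hx ⊓ W))) * Nat.card (Chi.T n (picOn (compl₁ hx ⊓ W))) * c₀ *
          Nat.card (Chi.M n (picOn W))
        = n * (Nat.card (Chi.M n (unitsOn W)) * Nat.card (Chi.T n (picOn W)) * c₀) *
            Nat.card (Chi.M n (picOn (compl₁ hx ⊓ W))) := by
          rw [mul_right_comm _ c₀, g4]; ring
      _ = n ^ (S.card + 1) * a₀ * b₀ * Nat.card (Chi.M n (picOn (compl₁ hx ⊓ W))) * Nat.card (Chi.M n (picOn W)) := by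
          rw [h4]; ring

/-- on the whole curve every unit is an `n`-th power -/
theorem card_cotors_units_top [IsProper f] [NeZero n] : Nat.card (Chi.M n (unitsOn (⊤ : C.Opens))) = 1 := by
  letI : Field Γ(C, ⊤) := (isField_of_universallyClosed k f).toField
  let F : CommRingCat.of k ⟶ Γ(C, ⊤) := (Scheme.ΓSpecIso _).inv ≫ f.appTop
  letI : Algebra k Γ(C, ⊤) := F.hom.toAlgebra
  haveI : Algebra.IsIntegral k Γ(C, ⊤) := ⟨by
    have : F.hom.IsIntegral := by
      apply RingHom.isIntegral_respectsIso.2 (e := (Scheme.ΓSpecIso _).symm.commRingCatIsoToRingEquiv)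
      exact isIntegral_appTop_of_universallyClosed f
    exact this⟩
  have hb : Function.Bijective F.hom := IsAlgClosed.algebraMap_bijective_of_isIntegral (k := k) (K := Γ(C, ⊤))
  refine Nat.card_eq_one_iff_unique.2 ⟨⟨fun a b => ?_⟩, ⟨0⟩⟩
  suffices h : ∀ s : Chi.M n (unitsOn (⊤ : C.Opens)), s = 0 by rw [h a, h b]
  intro s
  obtain ⟨s, rfl⟩ := QuotientAddGroup.mk_surjective s
  refine (Chi.mk_eq_zero_iff n s).2 ?_
  obtain ⟨c, hc⟩ := hb.2 (oval s)
  obtain ⟨d, hd⟩ := IsAlgClosed.exists_pow_nat_eq c (Nat.pos_of_ne_zero (NeZero.ne n))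
  have hd0 : d ≠ 0 := fun h => by
    have hs := EtPicLib.isUnit_oval s
    rw [← hc, ← hd, h, zero_pow (NeZero.ne n), map_zero] at hs
    exact not_isUnit_zero hs
  obtain ⟨t, ht⟩ := exists_oval (X := C) (U := ⊤) ((isUnit_iff_ne_zero.2 hd0).map F.hom)
  exact ⟨t, oval_injective (by rw [oval_nsmul, ht, ← map_pow, hd, hc])⟩

end Groth.Agent.EtPBC
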