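import Groth.Agent.EtPBC.CurveFinSmooth
import Groth.Agent.EtPBC.AffineCurve
import Groth.Agent.EtCons.PushFinite
import Groth.Agent.Castel.SurfRes
import Mathlib

/-!
# Finiteness for constant sheaves on integral curves
-/

set_option autoImplicit false
set_option backward.isDefEq.respectTransparency false
set_option backward.isDefEq.respectTransparency.types false
set_option linter.auxLemma false
set_option linter.style.haveILetI false
set_option linter.unusedSectionVars false
set_option maxHeartbeats 1000000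

universe u

open CategoryTheory CategoryTheory.Limits CategoryTheory.Abelian AlgebraicGeometry Opposite TopologicalSpace IsLocalRing

noncomputable section

namespace Groth.Agent.EtPBC

attribute [local instance 100000] EtCoh.H._proof_1 EtMV.hext
attribute [local instance 200000] EtMV.hextAb

variable {k : Type u} [Field k] [IsAlgClosed k]

/-- **constant sheaves on integral curves have finite cohomology** -/
theorem finite_H_const_integral (C : Scheme.{u}) (c : C ⟶ Spec (CommRingCat.of k)) [LocallyOfFiniteType c]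
    [IsSeparated c] [QuasiCompact c] [IsIntegral C] (hdim : topologicalKrullDim C ≤ 1) {ℓ : ℕ} [hℓ : Fact ℓ.Prime]
    (hℓk : (ℓ : k) ≠ 0) (q : ℕ) : Finite (EtCoh.H C (EtCoh.const C (ZMod ℓ)) q) := by
  classical
  haveI : IsNoetherian C := isNoetherian_of_field c
  haveI : NeZero ℓ := ⟨hℓ.out.ne_zero⟩
  haveI : Finite (ZMod ℓ) := inferInstance
  have hsep : ∀ x : C, IsClosed ({x} : Set C) → IsSepClosed (C.residueField x) :=
    fun x hx => isSepClosed_of_isClosed c x hx
  by_cases hall : ∀ x : C, IsClosed ({x} : Set C)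
  · rcases Nat.eq_zero_or_pos q with rfl | hq
    · have huniv : (Set.univ : Set C).Finite :=
        (finite_closed_of_closedPts C _ isClosed_univ fun x _ => hall x)
      exact finite_H_zero_of_constructible_supp _ (EtCons.isConstructible_const (ZMod ℓ)) huniv.toFinset
        fun x hx => absurd (huniv.mem_toFinset.2 trivial) hx
    · haveI := subsingleton_H_of_suppClosed hsep (EtCoh.const C (ZMod ℓ)) (fun x hx => absurd (hall x) hx) q hq
      infer_instance
  obtain ⟨d, Y, cY, j, _, _, hjc, hjd, _, _, -, hdimY⟩ := CurveCompl.exists_completion c hdim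
  let fY : Y ⟶ Spec (CommRingCat.of k) := cY ≫ CohB1.ProjSpace.toSpec d k
  haveI : IsProper fY := inferInstance
  haveI : IsNoetherian Y := isNoetherian_of_field fY
  haveI : QuasiCompact j := inferInstance
  haveI : IsReduced Y := IsSchemeTheoreticallyDominant.isReduced j
  haveI : IrreducibleSpace Y := exists_irreducible_of_dense j hjd
  haveI : IsIntegral Y := isIntegral_of_irreducibleSpace_of_isReduced Y
  have hdimY' : topologicalKrullDim Y = 1 := by
    refine le_antisymm hdimY ?_
    push Not at hall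
    obtain ⟨x, hx⟩ := hall
    refine le_trans ?_ ((topologicalKrullDim_subspace_le C (closure ({x} : Set C))).trans
      j.isOpenEmbedding.isInducing.topologicalKrullDim_le)
    letI := specializationOrder C
    rw [BMCoh.topologicalKrullDim_closure_singleton, show Order.height x = _ from (WeilLib.exists_pdim_eq_trd c x).2]
    exact_mod_cast Nat.one_le_iff_ne_zero.2 fun h0 => hx ((WeilLib.pdim_eq_zero_iff c x).1 h0)
  letI : Y.Over (Spec (CommRingCat.of k)) := ⟨fY⟩
  haveI : IsProper (Y ↘ Spec (CommRingCat.of k)) := inferInstanceAs (IsProper fY)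
  letI : Field (Y.presheaf.stalk (genericPoint Y)) := inferInstanceAs (Field Y.functionField)
  let g := Y.fromSpecStalk (genericPoint Y)
  haveI : QuasiCompact (g ≫ fY) := inferInstance
  haveI : QuasiSeparated (g ≫ fY) := inferInstance
  haveI : QuasiCompact g := QuasiCompact.of_comp g fY
  haveI : QuasiSeparated g := QuasiSeparated.of_comp g fY
  obtain ⟨hfin, hnorm, hdimN⟩ := Groth.Agent.S4454.result k Y
    (fun x hx => W7Nef.ringKrullDim_stalk_of_isClosed hdimY' hx)
    Y.functionField (RingHom.id _) (RingHom.Finite.id _) g (by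
      rw [show CommRingCat.ofHom (RingHom.id Y.functionField) = 𝟙 _ from rfl]
      exact ((congrArg (· ≫ g) (Spec.map_id _)).trans (Category.id_comp g)).symm)
  haveI : IsFinite (Curv2.normalizationι Y) := hfin
  haveI : IsIntegral (Spec (CommRingCat.of Y.functionField)) := inferInstance
  let X := g.normalization
  let ν : X ⟶ Y := g.fromNormalization
  haveI : IsFinite ν := hfin
  haveI : IsIntegral X := inferInstanceAs (IsIntegral g.normalization)
  haveI : IsProper (ν ≫ fY) := inferInstance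
  haveI : LocallyOfFiniteType (ν ≫ fY) := inferInstance
  haveI : IsNoetherian X := isNoetherian_of_field (ν ≫ fY)
  let O : Y.Opens := j.opensRange
  let W : X.Opens := ν ⁻¹ᵁ O
  obtain ⟨D, hD, hDiso⟩ := BMCoh.exists_isIso_normalizationι Y
  haveI : IsIso (ν ∣_ D) := hDiso
  have hηD : genericPoint Y ∈ D := (genericPoint_specializes (hD.some)).mem_open D.2 hD.some_mem
  have hηO : genericPoint Y ∈ O :=
    (genericPoint_specializes (j (genericPoint C))).mem_open O.2 ⟨genericPoint C, rfl⟩
  have hjη : j (genericPoint C) = genericPoint Y := by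
    refine (Specializes.antisymm ?_ (genericPoint_specializes _)).eq
    obtain ⟨u', hu⟩ := DomLib.exists_specializes j (y := genericPoint Y) (hjd _)
    exact (((genericPoint_specializes u').map j.continuous).trans hu)
  obtain ⟨w₀, hw₀⟩ := (asIso (ν ∣_ D)).hom.surjective ⟨genericPoint Y, hηD⟩
  let w₁ : X := (ν ⁻¹ᵁ D).ι w₀
  have hw₁ : ν w₁ = genericPoint Y := by
    rw [← Scheme.Hom.comp_apply, ← morphismRestrict_ι, Scheme.Hom.comp_apply]
    exact congrArg D.ι hw₀
  have hdimX : topologicalKrullDim X = 1 := by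
    have hsurj : Surjective ν := by
      refine ⟨fun z => ?_⟩
      have hclosed : IsClosed (Set.range ν) := ν.isClosedMap.isClosed_range
      exact (genericPoint_specializes z).mem_closed hclosed ⟨w₁, hw₁⟩
    exact ((S9683.result ν).2 hsurj).trans hdimY'
  haveI : Smooth (ν ≫ fY) := Castel.smooth_of_regular_stalks (ν ≫ fY) fun x => by
    haveI := (hnorm x).1
    haveI := (hnorm x).2
    exact Catenary.isRegularLocalRing_of_normal ((RegDual.ringKrullDim_stalk_le_topologicalKrullDim x).trans hdimX.le)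
  letI : X.Over (Spec (CommRingCat.of k)) := ⟨ν ≫ fY⟩
  have hX : Curve.IsSmoothProperCurve k X (X ↘ Spec (CommRingCat.of k)) :=
    ⟨inferInstanceAs (IsProper (ν ≫ fY)), inferInstanceAs (Smooth (ν ≫ fY)), inferInstance, hdimX⟩
  have hw₁W : w₁ ∈ W := show ν w₁ ∈ O by rw [hw₁]; exact hηO
  have hWc : ((W : Set X)ᶜ).Finite := finite_compl_of_nonempty hdimX.le ⟨w₁, hw₁W⟩
  have hWfin := finite_H_open_smooth hX W hWc hℓk q
  -- the map to the curve
  let π : (W : Scheme.{u}) ⟶ C := (ν ∣_ O) ≫ j.isoOpensRange.inv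
  haveI : IsFinite (ν ∣_ O) := inferInstance
  haveI : IsFinite π := inferInstance
  haveI : LocallyOfFinitePresentation π := InfLift.lfp_of_lft π
  have hπj : π ≫ j = W.ι ≫ ν := by
    rw [Category.assoc, Scheme.Hom.isoOpensRange_inv_comp, morphismRestrict_ι]
  let V : (W : Scheme.{u}).Opens := W.ι ⁻¹ᵁ (ν ⁻¹ᵁ D)
  have hlift : Set.range (V.ι ≫ W.ι) ⊆ Set.range (ν ⁻¹ᵁ D).ι := by
    rw [Scheme.Opens.range_ι]
    rintro _ ⟨t, rfl⟩
    exact t.2
  haveI : IsOpenImmersion (V.ι ≫ π) := by
    let l := IsOpenImmersion.lift (ν ⁻¹ᵁ D).ι (V.ι ≫ W.ι) hlift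
    have hl : l ≫ (ν ⁻¹ᵁ D).ι = V.ι ≫ W.ι := IsOpenImmersion.lift_fac _ _ _
    haveI : IsOpenImmersion (l ≫ (ν ⁻¹ᵁ D).ι) := by rw [hl]; infer_instance
    haveI : IsOpenImmersion l := IsOpenImmersion.of_comp l (ν ⁻¹ᵁ D).ι
    haveI : IsOpenImmersion ((V.ι ≫ π) ≫ j) := by
      rw [Category.assoc, hπj, ← Category.assoc, ← hl, Category.assoc, ← morphismRestrict_ι]
      infer_instance
    exact IsOpenImmersion.of_comp (V.ι ≫ π) j
  -- the closed points outside
  have hηC : genericPoint C ∈ j ⁻¹ᵁ D := by show j (genericPoint C) ∈ D; rw [hjη]; exact hηD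
  have hSfin : ((j ⁻¹ᵁ D : C.Opens) : Set C)ᶜ.Finite := finite_compl_of_nonempty hdim ⟨_, hηC⟩
  let e := (EtCoh.pullPushAdj π).unit.app (EtCoh.const C (ZMod ℓ))
  have hiso : ∀ x ∉ hSfin.toFinset, IsoAt e x := by
    intro x hx
    have hxD : j x ∈ D := by_contra fun h => hx (hSfin.mem_toFinset.2 h)
    obtain ⟨v₀, hv₀⟩ := (asIso (ν ∣_ D)).hom.surjective ⟨j x, hxD⟩
    have hv₁ : ν ((ν ⁻¹ᵁ D).ι v₀) = j x := by
      rw [← Scheme.Hom.comp_apply, ← morphismRestrict_ι, Scheme.Hom.comp_apply]
      exact congrArg D.ι hv₀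
    have hvW : (ν ⁻¹ᵁ D).ι v₀ ∈ W := show ν _ ∈ O by rw [hv₁]; exact ⟨x, rfl⟩
    have hvV : (⟨_, hvW⟩ : (W : Scheme.{u})) ∈ V := show ν ((ν ⁻¹ᵁ D).ι v₀) ∈ D by rw [hv₁]; exact hxD
    obtain ⟨Ω, _, _, ζ, hζ⟩ := exists_geomPt (X := (V : Scheme.{u})) ⟨⟨_, hvW⟩, hvV⟩
    have hb := bijective_stalk_unit π (EtCoh.const C (ZMod ℓ)) (ζ ≫ V.ι)
      (injective_stalkPushHom_of_open π V.ι (fun γ hγ => by
        rw [Scheme.Opens.range_ι]
        obtain ⟨t, ht⟩ := hγ
        have h1 : ν (W.ι γ) = ν (W.ι (V.ι t)) := by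
          rw [← Scheme.Hom.comp_apply, ← hπj, Scheme.Hom.comp_apply, ← ht, ← Scheme.Hom.comp_apply _ ν, ← hπj]
          rfl
        show ν (W.ι γ) ∈ D
        rw [h1]
        exact t.2) ζ _)
    refine (isoAt_iff ?_ _).2 hb
    show π (V.ι (ζ default)) = x
    rw [hζ]
    apply j.injective
    rw [← Scheme.Hom.comp_apply, hπj]
    exact hv₁
  have hG : EtPBC.IsConstructible ((EtCoh.push π).obj ((EtCoh.pull π).obj (EtCoh.const C (ZMod ℓ)))) :=
    EtCons.isConstructible_push π (EtCons.isConstructible_pull π (EtCons.isConstructible_const (ZMod ℓ)))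
  refine (finite_H_iff_of_isoAt hsep e (EtCons.isConstructible_const (ZMod ℓ)) hG hSfin.toFinset
    (fun x hx => isClosed_of_subset_compl hdim ⟨_, hηC⟩ (Set.singleton_subset_iff.2 (hSfin.mem_toFinset.1 hx))) hiso q).2 ?_
  haveI := hWfin
  haveI : Finite (EtCoh.H (W : Scheme.{u}) ((EtCoh.pull π).obj (EtCoh.const C (ZMod ℓ))) q) :=
    finite_H_of_iso (EtCons.pullConstM π (ZMod ℓ)) q
  exact finite_H_push π _ q

end Groth.Agent.EtPBC
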