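import Groth.Agent.EtPBC.CurveMu
import Groth.Agent.EtPBC.CurveFinBase
import Groth.Agent.EtPBC.CurvePic
import Mathlib

/-!
# Finiteness for opens of smooth proper curves
-/

set_option autoImplicit false
set_option backward.isDefEq.respectTransparency false
set_option backward.isDefEq.respectTransparency.types false
set_option linter.auxLemma false
set_option linter.style.haveILetI false
set_option linter.unusedSectionVars false
set_option maxHeartbeats 1000000

universe u

open CategoryTheory CategoryTheory.Limits CategoryTheory.Abelian AlgebraicGeometry Opposite TopologicalSpace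

noncomputable section

namespace Groth.Agent.EtPBC

attribute [local instance 100000] EtCoh.H._proof_1 EtMV.hext
attribute [local instance 200000] EtMV.hextAb

/-- classes on the whole space -/
def extTopEquiv (X : Scheme.{u}) (G : EtCoh.Ab X) (q : ℕ) :
    EtCoh.H X G q ≃+ Ext ((EtMV.P X).obj (EtMV.oo (⊤ : X.Opens))) G q where
  toFun x := (Ext.mk₀ (topIso' X).inv).comp x (zero_add q)
  invFun x := (Ext.mk₀ (topIso' X).hom).comp x (zero_add q)
  left_inv x := by
    show Ext.comp _ (Ext.comp _ x (zero_add q)) (zero_add q) = x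
    rw [Ext.mk₀_comp_mk₀_assoc, Iso.hom_inv_id, Ext.mk₀_id_comp]
  right_inv x := by
    show Ext.comp _ (Ext.comp _ x (zero_add q)) (zero_add q) = x
    rw [Ext.mk₀_comp_mk₀_assoc, Iso.inv_hom_id, Ext.mk₀_id_comp]
  map_add' x y := Ext.comp_add _ _ _ _

variable {k : Type u} [Field k] [IsAlgClosed k]

theorem natCast_residueField_ne_zero {X : Scheme.{u}} (c : X ⟶ Spec (CommRingCat.of k)) {n : ℕ} (hn : (n : k) ≠ 0)
    (x : X) : (n : X.residueField x) ≠ 0 := by
  let ψ : k →+* X.residueField x :=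
    ((Scheme.ΓSpecIso (CommRingCat.of k)).inv ≫ c.appTop ≫ X.evaluation ⊤ x trivial).hom
  have h := ψ.injective.ne hn
  rwa [map_natCast, map_zero] at h

/-- torsion in the higher cohomology of `G_m` on a curve -/
theorem card_tors_H_Gm {X : Scheme.{u}} [IsNoetherian X] (c : X ⟶ Spec (CommRingCat.of k)) [LocallyOfFiniteType c]
    (hdim : topologicalKrullDim X ≤ 1) {ℓ : ℕ} [hℓ : Fact ℓ.Prime] (hℓk : (ℓ : k) ≠ 0) (i : ℕ) (hi : 2 ≤ i) :
    Nat.card (Chi.T ℓ (EtCoh.H X (EtCoh.Gm X) i)) = 1 := by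
  refine Nat.card_eq_one_iff_unique.2 ⟨⟨fun a b => ?_⟩, ⟨0⟩⟩
  suffices h : ∀ a : Chi.T ℓ (EtCoh.H X (EtCoh.Gm X) i), a = 0 by rw [h a, h b]
  intro a
  refine Subtype.ext (torsion_H_Gm_eq_zero hdim (isSepClosed_of_isClosed c) hℓ.out.pos (fun x _ q hq hd => ?_)
    (fun x _ => ?_) (fun x => natCast_residueField_ne_zero c hℓk x) i hi _ a.2)
  · obtain rfl := (Nat.prime_dvd_prime_iff_eq hq hℓ.out).1 hd
    exact cohDimLEAt_residueField c hdim x q
  · have h := killedVan_of_cohDimLEAt (X.residueField x) (cohDimLEAt_residueField c hdim x ℓ) 1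
    rwa [pow_one] at h

/-- **constant sheaves on opens of smooth proper curves have finite cohomology** -/
theorem finite_H_open_smooth {C : Scheme.{u}} [C.Over (Spec (CommRingCat.of k))]
    (hC : Curve.IsSmoothProperCurve k C (C ↘ Spec (CommRingCat.of k))) (W : C.Opens)
    (hWc : ((W : Set C)ᶜ).Finite) {ℓ : ℕ} [hℓ : Fact ℓ.Prime] (hℓk : (ℓ : k) ≠ 0) (q : ℕ) :
    Finite (EtCoh.H (W : Scheme.{u}) (EtCoh.const (W : Scheme.{u}) (ZMod ℓ)) q) := by
  haveI : IsIntegral C := hC.2.2.1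
  haveI := hC.1
  haveI : NeZero ℓ := ⟨hℓ.out.ne_zero⟩
  let f := C ↘ Spec (CommRingCat.of k)
  haveI : IsNoetherian C := isNoetherian_of_field f
  haveI : NoetherianSpace ↥(W : Scheme.{u}) := inferInstanceAs (NoetherianSpace ↥(W : Set C))
  haveI : IsNoetherian (W : Scheme.{u}) := {}
  obtain ⟨e⟩ := nonempty_hOn_equiv (n := ℓ) W q
  suffices h : Finite (hOn ℓ W q) from Finite.of_equiv _ e.toEquiv
  let R := kRootOf f hℓ.out.one_lt.le hℓk
  obtain ⟨h1, h2⟩ := card_picOn_top hC (rfl : Module.finrank k (Coh.HH C (Coh.structureModule C) 1) = _) hℓk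
  have hcl : ∀ z ∈ hWc.toFinset, IsClosed ({z} : Set C) := fun z hz =>
    isClosed_of_notMem_cofinite hC hWc (hWc.mem_toFinset.1 hz)
  rcases Nat.lt_or_ge q 3 with hq | hq
  swap
  · haveI : Subsingleton (EtCoh.H (W : Scheme.{u}) (EtCoh.const (W : Scheme.{u}) (ZMod ℓ)) q) :=
      kVan_finiteType (W.ι ≫ f) (n := 1)
        (W.ι.isOpenEmbedding.isInducing.topologicalKrullDim_le.trans (hC.2.2.2.le.trans (by simp))) ℓ hℓ.out.pos _
        (killed_const _ ℓ) q (by omega)
    exact Finite.of_equiv _ e.symm.toEquiv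
  refine Nat.finite_of_card_ne_zero ?_
  obtain ⟨u1, u2, -, -⟩ := card_units_pic f hC 1 _ ℓ (card_cotors_units_top f) h1 h2
    ⟨one_ne_zero, pow_ne_zero _ (NeZero.ne ℓ), NeZero.ne ℓ⟩ hWc.toFinset hcl W
    (by rw [hWc.coe_toFinset, compl_compl])
  interval_cases q
  · rw [card_hOn_zero_curve hC hℓ.out.one_lt.le hℓk ⟨_, genericPoint_mem_of_finite_compl hC W hWc⟩]
    exact NeZero.ne ℓ
  · rw [card_hOn_one R W]
    exact mul_ne_zero u1 u2
  · by_cases hW : W = ⊤
    · subst hW
      rw [card_hOn_succ R ⊤ 1, ← Nat.card_congr (torsCongr (n := ℓ) (extTopEquiv C (EtCoh.Gm C) 2)).toEquiv,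
        card_tors_H_Gm f hC.2.2.2.le hℓk 2 le_rfl, mul_one]
      show Nat.card (Chi.M ℓ (picOn (⊤ : C.Opens))) ≠ 0
      rw [h2]
      exact NeZero.ne ℓ
    · obtain ⟨x, hx⟩ : ∃ x, x ∉ W := by
        by_contra! h
        exact hW (eq_top_iff.2 fun z _ => h z)
      haveI := (subsingleton_hOn_open hC W hWc hx hℓ.out.one_lt.le hℓk 2 le_rfl).2
      exact Nat.card_pos.ne'

end Groth.Agent.EtPBC
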