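import Groth.Agent.EtPBC.CurveFinDev
import Mathlib

/-!
# Orders of constructible torsion sheaves
-/

set_option autoImplicit false
set_option linter.auxLemma false
set_option linter.unusedSectionVars false

universe u

open CategoryTheory CategoryTheory.Limits AlgebraicGeometry Opposite

noncomputable section

namespace Groth.Agent.EtPBC

variable {k : Type u} [Field k] [IsAlgClosed k] {X : Scheme.{u}} (f : X ⟶ Spec (CommRingCat.of k))

theorem natCast_ne_zero_of_isUnit {m : ℕ} (h : IsUnit (m : Γ(Spec (CommRingCat.of k), ⊤))) : (m : k) ≠ 0 := by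
  intro h0
  have h1 := h.map (Scheme.ΓSpecIso (CommRingCat.of k)).hom.hom
  rw [map_natCast, h0] at h1
  exact not_isUnit_zero h1

/-- torsion of orders invertible in `k`, killed by some integer, is killed by one invertible in `k` -/
theorem exists_killedBy_invertible (F : EtCoh.Ab X) {N : ℕ} (hN : 0 < N) (hFN : EtCoh.KilledBy N F)
    (hFt : EtPBC.IsTorsionInvertibleOn (Spec (CommRingCat.of k)) F) :
    ∃ n : ℕ, 0 < n ∧ (n : k) ≠ 0 ∧ EtCoh.KilledBy n F := by
  classical
  have hex : ∃ d, 0 < d ∧ EtCoh.KilledBy d F := ⟨N, hN, hFN⟩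
  obtain ⟨hd, hdF⟩ := Nat.find_spec hex
  refine ⟨Nat.find hex, hd, fun h0 => ?_, hdF⟩
  set d := Nat.find hex with hdef
  let p := ringChar k
  haveI : CharP k p := ringChar.charP k
  have hpd : p ∣ d := (CharP.cast_eq_zero_iff k p d).1 h0
  have hp : p.Prime := (CharP.char_is_prime_or_zero k p).resolve_right fun hp0 => by
    rw [hp0] at hpd
    exact hd.ne' (zero_dvd_iff.1 hpd)
  obtain ⟨e, he⟩ := hpd
  have he0 : 0 < e := Nat.pos_of_mul_pos_left (he ▸ hd)
  refine absurd (Nat.find_min' hex ⟨he0, fun U s => EtFLC.sect_ext F fun x => ?_⟩)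
    (Nat.not_le.2 (by rw [← hdef, he]; exact lt_mul_of_one_lt_left he0 hp.one_lt))
  obtain ⟨V, g, m, ⟨v, hv⟩, hm, hms⟩ := hFt U s x
  refine ⟨V, g, v, hv, ?_⟩
  show F.obj.map g.op (e • s) = F.obj.map g.op 0
  rw [map_zero, map_nsmul]
  set t := F.obj.map g.op s
  have h1 : addOrderOf t ∣ m := addOrderOf_dvd_iff_nsmul_eq_zero.2 hms
  have h2 : addOrderOf t ∣ p * e := addOrderOf_dvd_iff_nsmul_eq_zero.2 (he ▸ hdF V t)
  have hco : Nat.Coprime m p := (Nat.coprime_comm.1 ((hp.coprime_iff_not_dvd).2 fun hpm =>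
    natCast_ne_zero_of_isUnit hm ((CharP.cast_eq_zero_iff k p m).2 hpm)))
  exact addOrderOf_dvd_iff_nsmul_eq_zero.1 ((hco.coprime_dvd_left h1).dvd_of_dvd_mul_left h2)

end Groth.Agent.EtPBC
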