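import Groth.Agent.EtPBC.CurveMu
import Groth.Agent.EtPBC.CurveFinSmooth

/-!
# First cohomology of constant sheaves on a smooth proper curve
-/

set_option autoImplicit false
set_option backward.isDefEq.respectTransparency false
set_option backward.isDefEq.respectTransparency.types false
set_option linter.style.haveILetI false
set_option maxHeartbeats 1000000
set_option synthInstance.maxHeartbeats 400000
set_option linter.auxLemma false
set_option linter.unusedSectionVars false

universe u

open CategoryTheory CategoryTheory.Limits CategoryTheory.Abelian AlgebraicGeometry Opposite TopologicalSpace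

noncomputable section

namespace Groth.Agent.EtPBC

attribute [local instance 100000] EtCoh.H._proof_1 EtMV.hext
attribute [local instance 200000] EtMV.hextAb

variable {k : Type u} [Field k] [IsAlgClosed k] {C : Scheme.{u}} [C.Over (Spec (CommRingCat.of k))]
  (hC : Curve.IsSmoothProperCurve k C (C ↘ Spec (CommRingCat.of k))) {g : ℕ}
  (hg : Module.finrank k (Coh.HH C (Coh.structureModule C) 1) = g) {n : ℕ}

include hC hg in
theorem card_hOn_one_top (hn : 1 ≤ n) (hnk : (n : k) ≠ 0) : Nat.card (hOn n (⊤ : C.Opens) 1) = n ^ (2 * g) := by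
  haveI : IsIntegral C := hC.2.2.1
  haveI := hC.1
  haveI : NeZero n := ⟨by omega⟩
  rw [card_hOn_one (kRootOf (C ↘ Spec (CommRingCat.of k)) hn hnk) ⊤, card_cotors_units_top (C ↘ Spec (CommRingCat.of k)),
    (card_picOn_top hC hg hnk).1, one_mul]

include hC hg in
/-- **`H¹(C, ℤ/n)` is free of rank `2g` over `ℤ/n`** -/
theorem nonempty_H1_zmod_proper (hn : 1 ≤ n) (hnk : (n : k) ≠ 0) :
    Nonempty (EtCoh.H C (EtCoh.const C (ZMod n)) 1 ≃+ (Fin (2 * g) → ZMod n)) := by
  haveI : IsIntegral C := hC.2.2.1
  haveI : NeZero n := ⟨by omega⟩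
  have hU : ((⊤ : C.Opens) : Set C).Nonempty := ⟨genericPoint C, trivial⟩
  have hkill : ∀ x : hOn n (⊤ : C.Opens) 1, n • x = 0 := fun x => by
    have h := comp_mk₀_nsmul_id x n
    rw [(killed_iff n _).1 (killed_const C n), Ext.mk₀_zero, Ext.comp_zero] at h
    exact h.symm
  obtain ⟨e'⟩ := nonempty_equiv_of_counts (m := 2 * g) hkill fun d hd => by
    obtain ⟨b, hb⟩ := hd
    have hd0 : d ≠ 0 := fun h => NeZero.ne n (by rw [hb, h, zero_mul])
    have hb0 : b ≠ 0 := fun h => NeZero.ne n (by rw [hb, h, mul_zero])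
    have hdk : (d : k) ≠ 0 := fun h => hnk (by rw [hb, Nat.cast_mul, h, zero_mul])
    have hbk : (b : k) ≠ 0 := fun h => hnk (by rw [hb, Nat.cast_mul, h, mul_zero])
    subst hb
    rw [card_tors_hOn d b ⊤ hb0 hd0 (card_hOn_zero_curve hC (by omega) hdk hU)
      (card_hOn_zero_curve hC (by omega) hbk hU) (card_hOn_zero_curve hC hn hnk hU)]
    exact card_hOn_one_top hC hg (by omega) hdk
  exact ⟨(extTopEquiv C (EtCoh.const C (ZMod n)) 1).trans e'⟩

end Groth.Agent.EtPBC
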