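import Groth.Agent.EtPBC.CurveH1Proper

/-!
# Second cohomology of constant sheaves on a smooth proper curve
-/

set_option autoImplicit false
set_option backward.isDefEq.respectTransparency false
set_option backward.isDefEq.respectTransparency.types false
set_option linter.style.haveILetI false
set_option maxHeartbeats 1000000
set_option synthInstance.maxHeartbeats 400000
set_option linter.auxLemma false
set_option linter.unusedSectionVars false

universe u

open CategoryTheory CategoryTheory.Limits CategoryTheory.Abelian AlgebraicGeometry Opposite TopologicalSpace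

noncomputable section

namespace Groth.Agent.EtPBC

attribute [local instance 100000] EtCoh.H._proof_1 EtMV.hext
attribute [local instance 200000] EtMV.hextAb

variable {k : Type u} [Field k] [IsAlgClosed k]

/-- Higher cohomology of `G_m` on a curve has no torsion prime to the characteristic. -/
theorem eq_zero_of_nsmul_H_Gm {X : Scheme.{u}} [IsNoetherian X] (c : X ⟶ Spec (CommRingCat.of k))
    [LocallyOfFiniteType c] (hdim : topologicalKrullDim X ≤ 1) {i : ℕ} (hi : 2 ≤ i) :
    ∀ n : ℕ, (n : k) ≠ 0 → ∀ a : EtCoh.H X (EtCoh.Gm X) i, n • a = 0 → a = 0 := by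
  intro n
  induction n using induction_on_primes with
  | zero => exact fun h => absurd Nat.cast_zero h
  | one => exact fun _ a ha => by rwa [one_smul] at ha
  | prime_mul p m hp ih =>
    intro h a ha
    haveI := Fact.mk hp
    rw [Nat.cast_mul, mul_ne_zero_iff] at h
    haveI := (Nat.card_eq_one_iff_unique.1 (card_tors_H_Gm c hdim (ℓ := p) h.1 i hi)).1
    refine ih h.2 a ?_
    exact congrArg Subtype.val (Subsingleton.elim (α := Chi.T p (EtCoh.H X (EtCoh.Gm X) i))
      ⟨m • a, show p • (m • a) = 0 by rw [← mul_smul]; exact ha⟩ 0)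

/-- A quotient by `n` with all smaller quotients of expected size is cyclic. -/
theorem nonempty_cotors_equiv {G : Type*} [AddCommGroup G] (n : ℕ) [NeZero n]
    (hM : ∀ d, d ∣ n → Nat.card (Chi.M d G) = d) : Nonempty (Chi.M n G ≃+ ZMod n) := by
  obtain ⟨e⟩ := nonempty_equiv_of_counts (G := Chi.M n G) (n := n) (m := 1) (fun x => by
      obtain ⟨x, rfl⟩ := QuotientAddGroup.mk_surjective x
      exact (Chi.mk_eq_zero_iff n _).2 ⟨x, rfl⟩) fun d hd => by
    let q : Chi.M n G →+ Chi.M d G := QuotientAddGroup.map _ _ (AddMonoidHom.id G) (by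
      rintro _ ⟨y, rfl⟩
      obtain ⟨b, rfl⟩ := hd
      exact ⟨b • y, by show d • (b • y) = (d * b) • y; rw [mul_smul]⟩)
    have hker : q.ker = (nsmulAddMonoidHom (α := Chi.M n G) d).range := by
      ext x
      obtain ⟨x, rfl⟩ := QuotientAddGroup.mk_surjective x
      constructor
      · intro h
        obtain ⟨y, hy⟩ := (Chi.mk_eq_zero_iff d x).1 h
        exact ⟨QuotientAddGroup.mk y, by rw [← hy]; rfl⟩
      · rintro ⟨y, hy⟩
        obtain ⟨y, rfl⟩ := QuotientAddGroup.mk_surjective y
        rw [AddMonoidHom.mem_ker, ← hy]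
        exact (Chi.mk_eq_zero_iff d _).2 ⟨y, rfl⟩
    have hsurj : Function.Surjective q := fun z => by
      obtain ⟨z, rfl⟩ := QuotientAddGroup.mk_surjective z
      exact ⟨QuotientAddGroup.mk z, rfl⟩
    have h1 := Chi.card_eq_ker_mul_range q
    have h2 := Chi.card_eq_ker_mul_range (nsmulAddMonoidHom (α := Chi.M n G) d)
    rw [hker, AddMonoidHom.range_eq_top.2 hsurj, AddSubgroup.card_top, hM d hd, h2,
      mul_comm (Nat.card (nsmulAddMonoidHom (α := Chi.M n G) d).range) d] at h1
    rw [pow_one]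
    refine Nat.eq_of_mul_eq_mul_right (Nat.pos_of_ne_zero fun h0 => ?_) h1
    rw [h0, mul_zero] at h2
    exact NeZero.ne n ((hM n dvd_rfl).symm.trans h2)
  exact ⟨e.trans (AddEquiv.piUnique (fun _ : Fin 1 => ZMod n))⟩

variable {C : Scheme.{u}} [C.Over (Spec (CommRingCat.of k))]
  (hC : Curve.IsSmoothProperCurve k C (C ↘ Spec (CommRingCat.of k))) {n : ℕ}

include hC in
/-- **`H²(C, ℤ/n) = ℤ/n`** -/
theorem nonempty_H2_zmod_proper (hn : 1 ≤ n) (hnk : (n : k) ≠ 0) :
    Nonempty (EtCoh.H C (EtCoh.const C (ZMod n)) 2 ≃+ ZMod n) := by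
  haveI : IsIntegral C := hC.2.2.1
  haveI := hC.1
  haveI : NeZero n := ⟨by omega⟩
  haveI : IsNoetherian C := isNoetherian_of_field (C ↘ Spec (CommRingCat.of k))
  let R := kRootOf (C ↘ Spec (CommRingCat.of k)) hn hnk
  let G := picOn (⊤ : C.Opens)
  let A := Chi.M n G
  have hM : ∀ d, d ∣ n → Nat.card (Chi.M d G) = d := fun d hd =>
    (card_picOn_top hC (g := _) rfl (fun h => hnk (by
      obtain ⟨b, rfl⟩ := hd
      rw [Nat.cast_mul, h, zero_mul]))).2
  have hbij : Function.Bijective (kBdry R (⊤ : C.Opens) 1) := by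
    refine ⟨kBdry_injective R _ 1, fun x => ?_⟩
    refine (SetLike.ext_iff.1 (range_kBdry R (⊤ : C.Opens) 1) x).2 (Subtype.ext ?_)
    have h := (kTors R (⊤ : C.Opens) 2 x).2
    let e := extTopEquiv C (EtCoh.Gm C) 2
    refine e.symm.injective ?_
    rw [ZeroMemClass.coe_zero, map_zero]
    refine eq_zero_of_nsmul_H_Gm (C ↘ Spec (CommRingCat.of k)) hC.2.2.2.le le_rfl n hnk _ ?_
    rw [← map_nsmul]
    exact (congrArg e.symm h).trans (map_zero _)
  obtain ⟨e'⟩ := nonempty_cotors_equiv (G := G) n hM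
  exact ⟨(extTopEquiv C (EtCoh.const C (ZMod n)) 2).trans ((AddEquiv.ofBijective _ hbij).symm.trans
    (e'))⟩

end Groth.Agent.EtPBC
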