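import Groth.Agent.EtPBC.H2Surj
import Groth.Agent.S0108
import Mathlib

/-!
# The Kummer map from classes of the units to degree two
-/

set_option autoImplicit false
set_option backward.isDefEq.respectTransparency false
set_option backward.isDefEq.respectTransparency.types false
set_option linter.auxLemma false
set_option linter.style.haveILetI false

universe u

open CategoryTheory CategoryTheory.Limits CategoryTheory.Abelian AlgebraicGeometry Opposite
open Groth.Agent.EtFLC (res res_res res_id)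
open Groth.Agent.EtPicLib (uval uval_res uval_injective)

noncomputable section

namespace Groth.Agent.EtPBC

attribute [local instance 100000] EtCoh.H._proof_1 EtMV.hext
attribute [local instance 200000] EtMV.hextAb

variable {X Z : Scheme.{u}}

/-- classes of the units in degree one -/
abbrev H1g (X : Scheme.{u}) : Type (u + 1) := Ext ((EtMV.P X).obj (EtMV.oo (⊤ : X.Opens))) (EtCoh.Gm X) 1

/-- a chosen primitive root of unity and invertibility of its order -/
structure KRoot (X : Scheme.{u}) (n : ℕ) : Type u where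
  one_le : 1 ≤ n
  unit : IsUnit (n : Γ(X, ⊤))
  ζ : Γ(X, ⊤)
  cyclo : Polynomial.aeval ζ (Polynomial.cyclotomic n ℤ) = 0

variable {n : ℕ}

theorem mk₀_comp_nsmul {A B G : EtCoh.Ab X} (f : A ⟶ B) {j : ℕ} (x : Ext B G j) (m : ℕ) :
    (Ext.mk₀ f).comp (m • x) (zero_add j) = m • (Ext.mk₀ f).comp x (zero_add j) := by
  induction m with
  | zero => simp
  | succ m ih => rw [succ_nsmul, succ_nsmul, Ext.comp_add, ih]

theorem comp_mk₀_nsmul_id {A G : EtCoh.Ab X} {j : ℕ} (x : Ext A G j) (m : ℕ) :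
    x.comp (Ext.mk₀ (m • 𝟙 G)) (add_zero j) = m • x := by
  induction m with
  | zero => simp
  | succ m ih => rw [succ_nsmul, succ_nsmul, Ext.mk₀_add, Ext.comp_add, ih, Ext.comp_mk₀_id]

/-- pulled back roots -/
def KRoot.pull (r : KRoot X n) (i : Z ⟶ X) : KRoot Z n where
  one_le := r.one_le
  unit := by
    have := r.unit.map i.appTop.hom
    rwa [map_natCast] at this
  ζ := i.appTop r.ζ
  cyclo := by
    rw [show i.appTop r.ζ = i.appTop.hom.toIntAlgHom r.ζ from rfl, Polynomial.aeval_algHom_apply, r.cyclo, map_zero]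

/-- the identification of the constant sheaf with the roots of unity -/
def KRoot.iso (r : KRoot X n) : EtCoh.const X (ZMod n) ≅ EtCoh.mu X n :=
  (exists_kummer_const n r.one_le r.unit r.ζ r.cyclo).choose

/-- Kummer sequence with constant coefficients -/
def KRoot.seq (r : KRoot X n) : ShortComplex (EtCoh.Ab X) :=
  ShortComplex.mk (r.iso.hom ≫ EtCoh.muι X n) (EtCoh.powMap X n)
    (by rw [Category.assoc, EtCoh.muι, kernel.condition, comp_zero])

theorem KRoot.seq_shortExact (r : KRoot X n) : r.seq.ShortExact := by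
  haveI : Epi (EtCoh.powMap X n) := Groth.Agent.S0108.result X n r.unit
  haveI : Mono (EtCoh.muι X n) := inferInstanceAs (Mono (kernel.ι (EtCoh.powMap X n)))
  haveI : Mono r.seq.f := inferInstanceAs (Mono (r.iso.hom ≫ EtCoh.muι X n))
  haveI : Epi r.seq.g := inferInstanceAs (Epi (EtCoh.powMap X n))
  exact { exact := (ShortComplex.exact_iff_of_iso (ShortComplex.isoMk (S₁ := r.seq)
    (S₂ := ShortComplex.mk _ _ (kernel.condition (EtCoh.powMap X n))) r.iso (Iso.refl _) (Iso.refl _)
    (Category.comp_id _).symm (by simp [KRoot.seq]))).2 (ShortComplex.exact_of_f_is_kernel _ (kernelIsKernel _)) }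

/-- the Kummer map -/
def KRoot.dK (r : KRoot X n) : H1g X →+ EtCoh.H X (EtCoh.const X (ZMod n)) 2 where
  toFun d := ((Ext.mk₀ (topIso' X).hom).comp d (zero_add 1)).comp r.seq_shortExact.extClass (rfl : 1 + 1 = 2)
  map_zero' := by rw [Ext.comp_zero, Ext.zero_comp]
  map_add' a b := by rw [Ext.comp_add, Ext.add_comp]

/-- the Kummer map kills only multiples -/
theorem KRoot.exists_nsmul_of_dK_eq_zero (r : KRoot X n) (d : H1g X) (h : r.dK d = 0) : ∃ c : H1g X, n • c = d := by
  obtain ⟨y, hy⟩ := Ext.covariant_sequence_exact₃ _ r.seq_shortExact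
    ((Ext.mk₀ (topIso' X).hom).comp d (zero_add 1)) rfl h
  refine ⟨(Ext.mk₀ (topIso' X).inv).comp y (zero_add 1), ?_⟩
  have hy' : n • y = (Ext.mk₀ (topIso' X).hom).comp d (zero_add 1) := by
    rw [← hy]
    exact (comp_mk₀_nsmul_id y n).symm
  rw [← mk₀_comp_nsmul, hy', Ext.mk₀_comp_mk₀_assoc, Iso.inv_hom_id, Ext.mk₀_id_comp]

/-- the Kummer map kills multiples -/
theorem KRoot.dK_nsmul (r : KRoot X n) (c : H1g X) : r.dK (n • c) = 0 := by
  have e : Ext.comp ((Ext.mk₀ (topIso' X).hom).comp c (zero_add 1)) (Ext.mk₀ r.seq.g) (add_zero 1) =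
      (Ext.mk₀ (topIso' X).hom).comp (n • c) (zero_add 1) := by
    rw [mk₀_comp_nsmul]
    exact comp_mk₀_nsmul_id _ n
  show Ext.comp ((Ext.mk₀ (topIso' X).hom).comp (n • c) (zero_add 1)) r.seq_shortExact.extClass (rfl : 1 + 1 = 2) = 0
  rw [← e, Ext.comp_assoc_of_second_deg_zero, r.seq_shortExact.comp_extClass, Ext.comp_zero]

/-- everything in degree two comes from degree one -/
theorem KRoot.dK_surjective (r : KRoot X n) (htor : ∀ c : EtCoh.H X (EtCoh.Gm X) 2, n • c = 0 → c = 0) :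
    Function.Surjective r.dK := by
  intro w
  have hw : Ext.comp w (Ext.mk₀ r.seq.f) (add_zero 2) = 0 := by
    refine htor _ ?_
    have h1 : Ext.comp (Ext.comp w (Ext.mk₀ r.seq.f) (add_zero 2)) (Ext.mk₀ r.seq.g) (add_zero 2) = 0 := by
      rw [Ext.comp_assoc_of_third_deg_zero, Ext.mk₀_comp_mk₀, r.seq.zero, Ext.mk₀_zero, Ext.comp_zero]
    rw [← comp_mk₀_nsmul_id]
    exact h1
  obtain ⟨c, hc⟩ := Ext.covariant_sequence_exact₁ (EtCoh.const X ℤ) r.seq_shortExact w hw (n₀ := 1) rfl
  refine ⟨(Ext.mk₀ (topIso' X).inv).comp c (zero_add 1), ?_⟩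
  show Ext.comp ((Ext.mk₀ (topIso' X).hom).comp _ (zero_add 1)) r.seq_shortExact.extClass (rfl : 1 + 1 = 2) = w
  rw [Ext.mk₀_comp_mk₀_assoc, Iso.hom_inv_id, Ext.mk₀_id_comp, hc]

/-- **the Kummer map commutes with pull-back** -/
theorem KRoot.Hpull_dK (r : KRoot X n) (i : Z ⟶ X) [PreservesFiniteLimits (EtCoh.pull i)] (d : H1g X) :
    Ext.comp (EtCore.Hpull i (EtCoh.const X (ZMod n)) 2 (r.dK d)) (Ext.mk₀ (EtCore.pullConst i (ZMod n)).hom)
      (add_zero 2) = (r.pull i).dK (gmH i d) := by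
  have heX := (exists_kummer_const n r.one_le r.unit r.ζ r.cyclo).choose_spec
  have heZ := (exists_kummer_const n r.one_le (r.pull i).unit (r.pull i).ζ (r.pull i).cyclo).choose_spec
  haveI : (EtCoh.pull i).Additive := (EtCoh.pullPushAdj i).left_adjoint_additive
  have hsq : (EtCoh.pull i).map (r.iso.hom ≫ EtCoh.muι X n) ≫ gmCmp i =
      (EtCore.pullConst i (ZMod n)).hom ≫ (r.pull i).iso.hom ≫ EtCoh.muι Z n := by
    apply ((EtCoh.pullPushAdj i).homEquiv (EtCoh.const X (ZMod n)) (EtCoh.Gm Z)).injective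
    rw [Adjunction.homEquiv_unit, Adjunction.homEquiv_unit, Functor.map_comp (EtCoh.push i),
      Functor.map_comp (EtCoh.push i), Adjunction.unit_naturality_assoc, unit_gmCmp, ← Category.assoc]
    refine const_hom_ext _ _ fun m => ?_
    obtain ⟨m, rfl⟩ := ZMod.intCast_surjective m
    show (gmPush i).hom.app _ (((EtCoh.muι X n).hom.app (op (EtCoh.top X))).hom
        (r.iso.hom.hom.app (op (EtCoh.top X)) (EtMV.cst (EtCoh.top X) (m : ZMod n)))) =
      ((r.pull i).iso.hom ≫ EtCoh.muι Z n).hom.app (op ((EtCoh.bc i).obj (EtCoh.top X)))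
        ((EtMV.cUnit i (ZMod n)).hom.app (op (EtCoh.top X)) (EtMV.cst (EtCoh.top X) (m : ZMod n)))
    rw [EtMV.cUnit_cst, ← EtMV.res_cst (EtMV.toTop ((EtCoh.bc i).obj (EtCoh.top X))) (m : ZMod n)]
    refine uval_injective (Eq.trans ?_
      (congrArg uval (EtFLC.app_res ((r.pull i).iso.hom ≫ EtCoh.muι Z n) _ _)).symm)
    rw [uval_res]
    show (pullback.fst (EtCoh.top X).hom i).appTop (uval _) =
      (EtMV.toTop ((EtCoh.bc i).obj (EtCoh.top X))).left.appTop (uval (((EtCoh.muι Z n).hom.app _).hom _))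
    refine ((congrArg _ (heX m)).trans ?_).trans (congrArg _ (heZ m)).symm
    have hu' : Units.map i.appTop.hom.toMonoidHom
        (Units.ofPowEqOne r.ζ n (zeta_pow n r.one_le r.ζ r.cyclo) (by have := r.one_le; omega)) =
        Units.ofPowEqOne (r.pull i).ζ n (zeta_pow n r.one_le (r.pull i).ζ (r.pull i).cyclo)
          (by have := r.one_le; omega) := Units.ext rfl
    rw [← hu', ← map_zpow, Units.coe_map]
    show (pullback.fst (EtCoh.top X).hom i).appTop _ =
      (pullback.snd (EtCoh.top X).hom i).appTop (i.appTop _)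
    rw [← ConcreteCategory.comp_apply, ← Scheme.Hom.comp_appTop, ← pullback.condition, Scheme.Hom.comp_appTop,
      show (EtCoh.top X).hom.appTop = 𝟙 _ from rfl]
    rfl
  let ψ : r.seq.map (EtCoh.pull i) ⟶ (r.pull i).seq :=
    { τ₁ := (EtCore.pullConst i (ZMod n)).hom
      τ₂ := gmCmp i
      τ₃ := gmCmp i
      comm₁₂ := hsq.symm
      comm₂₃ := by
        show gmCmp i ≫ (n • 𝟙 (EtCoh.Gm Z)) = (EtCoh.pull i).map (n • 𝟙 (EtCoh.Gm X)) ≫ gmCmp i
        rw [Preadditive.comp_nsmul, Category.comp_id, Functor.map_nsmul, CategoryTheory.Functor.map_id,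
          Preadditive.nsmul_comp, Category.id_comp] }
  let dX : EtCoh.H X (EtCoh.Gm X) 1 := (Ext.mk₀ (topIso' X).hom).comp d (zero_add 1)
  have h2 : EtCore.Hpull i (EtCoh.const X (ZMod n)) 2 (r.dK d) =
      Ext.comp (EtCore.Hpull i (EtCoh.Gm X) 1 dX) (r.seq_shortExact.map_of_exact (EtCoh.pull i)).extClass
        (rfl : 1 + 1 = 2) := by
    show EtMV.T (EtCoh.pull i) (EtCore.pullConst i ℤ).inv _ 2 (Ext.comp dX r.seq_shortExact.extClass (rfl : 1 + 1 = 2)) = _
    rw [EtMV.T_comp, Ext.mapExactFunctor_extClass]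
    rfl
  rw [h2, Ext.comp_assoc_of_third_deg_zero,
    show (r.seq_shortExact.map_of_exact (EtCoh.pull i)).extClass.comp
        (Ext.mk₀ (EtCore.pullConst i (ZMod n)).hom) (add_zero 1) =
      (Ext.mk₀ (gmCmp i)).comp (r.pull i).seq_shortExact.extClass (zero_add 1) from
        ShortComplex.ShortExact.extClass_naturality (r.seq_shortExact.map_of_exact (EtCoh.pull i))
          (r.pull i).seq_shortExact ψ,
    ← Ext.comp_assoc (EtCore.Hpull i (EtCoh.Gm X) 1 dX) (Ext.mk₀ (gmCmp i)) (r.pull i).seq_shortExact.extClass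
      (add_zero 1) (zero_add 1) rfl, Hpull_topIso']
  rfl

/-- **divisibility descends along maps injective in degree two** -/
theorem KRoot.exists_nsmul_of_gmH (r : KRoot X n) (i : Z ⟶ X) [PreservesFiniteLimits (EtCoh.pull i)]
    (hi : Function.Injective (EtCore.Hpull i (EtCoh.const X (ZMod n)) 2)) (d : H1g X) (c : H1g Z)
    (h : gmH i d = n • c) : ∃ c' : H1g X, n • c' = d := by
  refine r.exists_nsmul_of_dK_eq_zero d (hi ?_)
  have h1 := r.Hpull_dK i d
  rw [h, KRoot.dK_nsmul] at h1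
  have h2 := congrArg (fun t => Ext.comp t (Ext.mk₀ (EtCore.pullConst i (ZMod n)).inv) (add_zero 2)) h1
  rw [map_zero]
  simpa [Ext.comp_assoc_of_third_deg_zero, Ext.mk₀_comp_mk₀] using h2

end Groth.Agent.EtPBC
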