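import Groth.Agent.EtPBC.CurvePoint
import Groth.Agent.EtPBC.ChiAlg
import Groth.Agent.EtPBC.KummerH2
import Groth.Agent.EtCons.ExtZeroConst
import Mathlib

/-!
# The Kummer sequence on an open, counted
-/

set_option autoImplicit false
set_option backward.isDefEq.respectTransparency false
set_option backward.isDefEq.respectTransparency.types false
set_option linter.auxLemma false
set_option linter.style.haveILetI false
set_option linter.unusedSectionVars false

universe u

open CategoryTheory CategoryTheory.Limits CategoryTheory.Abelian AlgebraicGeometry Opposite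

noncomputable section

namespace Groth.Agent.EtPBC

attribute [local instance 100000] EtCoh.H._proof_1 EtMV.hext
attribute [local instance 200000] EtMV.hextAb

variable {X : Scheme.{u}} {n : ℕ}

/-- classes with constant coefficients on an open -/
abbrev hOn (n : ℕ) (W : X.Opens) (q : ℕ) : Type (u + 1) :=
  Ext ((EtMV.P X).obj (EtMV.oo W)) (EtCoh.const X (ZMod n)) q

/-- cohomology of the open subscheme -/
theorem nonempty_hOn_equiv (W : X.Opens) (q : ℕ) :
    Nonempty (hOn n W q ≃+ EtCoh.H (W : Scheme.{u}) (EtCoh.const (W : Scheme.{u}) (ZMod n)) q) := by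
  haveI := Groth.Agent.EtPullExact.pull_preservesFiniteLimits W.ι
  exact ⟨(EtMV.Φ W (EtCoh.const X (ZMod n)) q).trans
    (((EtCoh.HF (W : Scheme.{u}) q).mapIso (EtCons.pullConstM W.ι (ZMod n))).addCommGroupIsoToAddEquiv)⟩

/-- units as homomorphisms out of the free sheaf -/
def ext0Equiv (W : X.Opens) (G : EtCoh.Ab X) :
    EtCoh.sect G (EtMV.oo W) ≃+ Ext ((EtMV.P X).obj (EtMV.oo W)) G 0 :=
  AddEquiv.mk' ((EtMV.σ.symm).trans (Equiv.ofBijective _ (Ext.mk₀_bijective _ _))) fun a b => by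
    show Ext.mk₀ (secHom (a + b)) = Ext.mk₀ (secHom a) + Ext.mk₀ (secHom b)
    rw [secHom_add, Ext.mk₀_add]

theorem ext0Equiv_apply (W : X.Opens) (G : EtCoh.Ab X) (s : EtCoh.sect G (EtMV.oo W)) :
    ext0Equiv W G s = Ext.mk₀ (secHom s) := rfl

variable (r : KRoot X n) (W : X.Opens)

theorem comp_powMap (q : ℕ) (x : Ext ((EtMV.P X).obj (EtMV.oo W)) (EtCoh.Gm X) q) :
    x.comp (Ext.mk₀ (EtCoh.powMap X n)) (add_zero q) = n • x := comp_mk₀_nsmul_id x n

/-- the Kummer map into torsion -/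
def kTors (q : ℕ) : hOn n W q →+ Chi.T n (Ext ((EtMV.P X).obj (EtMV.oo W)) (EtCoh.Gm X) q) :=
  ((Ext.mk₀ r.seq.f).postcomp _ (add_zero q)).codRestrict _ fun x => by
    show n • Ext.comp x (Ext.mk₀ r.seq.f) (add_zero q) = 0
    rw [← comp_powMap]
    show Ext.comp (Ext.comp x (Ext.mk₀ r.seq.f) (add_zero q)) (Ext.mk₀ r.seq.g) (add_zero q) = 0
    rw [Ext.comp_assoc_of_second_deg_zero, Ext.mk₀_comp_mk₀, r.seq.zero, Ext.mk₀_zero, Ext.comp_zero]

theorem kTors_surjective (q : ℕ) : Function.Surjective (kTors r W q) := fun y => by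
  obtain ⟨x, hx⟩ := Ext.covariant_sequence_exact₂ _ r.seq_shortExact y.1 ((comp_powMap W q y.1).trans y.2)
  exact ⟨x, Subtype.ext hx⟩

/-- the boundary map from cotorsion -/
def kBdry (q : ℕ) : Chi.M n (Ext ((EtMV.P X).obj (EtMV.oo W)) (EtCoh.Gm X) q) →+ hOn n W (q + 1) :=
  QuotientAddGroup.lift _ ((r.seq_shortExact.extClass).postcomp _ (rfl : q + 1 = q + 1)) (by
    rintro _ ⟨y, rfl⟩
    show Ext.comp (n • y) r.seq_shortExact.extClass rfl = 0
    rw [← comp_powMap]
    show Ext.comp (Ext.comp y (Ext.mk₀ r.seq.g) (add_zero q)) r.seq_shortExact.extClass rfl = 0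
    rw [Ext.comp_assoc y _ _ (add_zero q) (zero_add 1) (by omega)]
    erw [r.seq_shortExact.comp_extClass]
    simp only [Ext.comp_zero])

theorem kBdry_injective (q : ℕ) : Function.Injective (kBdry r W q) := by
  rw [injective_iff_map_eq_zero]
  intro x hx
  obtain ⟨x, rfl⟩ := QuotientAddGroup.mk_surjective x
  obtain ⟨y, hy⟩ := Ext.covariant_sequence_exact₃ _ r.seq_shortExact x rfl hx
  exact (Chi.mk_eq_zero_iff n x).2 ⟨y, (comp_powMap W q y).symm.trans hy⟩

theorem range_kBdry (q : ℕ) : (kBdry r W q).range = (kTors r W (q + 1)).ker := by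
  ext x
  refine ⟨?_, fun h => ?_⟩
  · rintro ⟨y, rfl⟩
    obtain ⟨y, rfl⟩ := QuotientAddGroup.mk_surjective y
    refine Subtype.ext ?_
    show Ext.comp (Ext.comp y r.seq_shortExact.extClass rfl) (Ext.mk₀ r.seq.f) (add_zero _) = 0
    rw [Ext.comp_assoc y _ _ rfl (add_zero 1) (by omega), r.seq_shortExact.extClass_comp]
    simp only [Ext.comp_zero]
  · obtain ⟨y, hy⟩ := Ext.covariant_sequence_exact₁ _ r.seq_shortExact x (congrArg Subtype.val h) (n₀ := q) rfl
    exact ⟨QuotientAddGroup.mk y, hy⟩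

include r in
theorem card_hOn_succ (q : ℕ) : Nat.card (hOn n W (q + 1)) =
    Nat.card (Chi.M n (Ext ((EtMV.P X).obj (EtMV.oo W)) (EtCoh.Gm X) q)) *
      Nat.card (Chi.T n (Ext ((EtMV.P X).obj (EtMV.oo W)) (EtCoh.Gm X) (q + 1))) := by
  rw [Chi.card_eq_ker_mul_range (kTors r W (q + 1)), ← range_kBdry r W q,
    Nat.card_congr (AddMonoidHom.ofInjective (kBdry_injective r W q)).toEquiv.symm,
    AddMonoidHom.range_eq_top.2 (kTors_surjective r W (q + 1)), AddSubgroup.card_top]

theorem kTors_zero_injective : Function.Injective (kTors r W 0) := by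
  rw [injective_iff_map_eq_zero]
  intro x hx
  haveI := r.seq_shortExact.mono_f
  obtain ⟨u, rfl⟩ := (Ext.mk₀_bijective _ _).2 x
  have h := congrArg Subtype.val hx
  change Ext.comp (Ext.mk₀ u) (Ext.mk₀ r.seq.f) (add_zero 0) = 0 at h
  rw [Ext.mk₀_comp_mk₀, ← Ext.mk₀_zero] at h
  rw [← Ext.mk₀_zero]
  exact congrArg Ext.mk₀ (zero_of_comp_mono r.seq.f ((Ext.mk₀_bijective _ _).1 h))

/-- torsion transported along an equivalence -/
def torsCongr {A B : Type*} [AddCommGroup A] [AddCommGroup B] (e : A ≃+ B) : Chi.T n A ≃+ Chi.T n B where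
  toFun a := ⟨e a.1, show n • e a.1 = 0 by rw [← map_nsmul, show n • a.1 = 0 from a.2, map_zero]⟩
  invFun b := ⟨e.symm b.1, show n • e.symm b.1 = 0 by rw [← map_nsmul, show n • b.1 = 0 from b.2, map_zero]⟩
  left_inv a := Subtype.ext (e.symm_apply_apply a.1)
  right_inv b := Subtype.ext (e.apply_symm_apply b.1)
  map_add' a b := Subtype.ext (map_add e a.1 b.1)

/-- cotorsion transported along an equivalence -/
def cotorsCongr {A B : Type*} [AddCommGroup A] [AddCommGroup B] (e : A ≃+ B) : Chi.M n A ≃+ Chi.M n B :=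
  QuotientAddGroup.congr _ _ e (by
    ext b
    refine ⟨?_, fun ⟨y, hy⟩ => ⟨n • e.symm y, ⟨e.symm y, rfl⟩, ?_⟩⟩
    · rintro ⟨_, ⟨y, rfl⟩, rfl⟩
      exact ⟨e y, (map_nsmul e n y).symm⟩
    · show e (n • e.symm y) = b
      rw [map_nsmul, e.apply_symm_apply]
      exact hy)

include r in
theorem card_hOn_zero : Nat.card (hOn n W 0) = Nat.card (Chi.T n (unitsOn W)) :=
  Nat.card_congr ((AddEquiv.ofBijective (kTors r W 0) ⟨kTors_zero_injective r W, kTors_surjective r W 0⟩).trans
    (torsCongr (ext0Equiv W (EtCoh.Gm X))).symm).toEquiv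

include r in
theorem card_hOn_one : Nat.card (hOn n W 1) = Nat.card (Chi.M n (unitsOn W)) * Nat.card (Chi.T n (picOn W)) := by
  rw [card_hOn_succ r W 0, Nat.card_congr (cotorsCongr (n := n) (ext0Equiv W (EtCoh.Gm X))).toEquiv.symm]

include r in
theorem subsingleton_cotors_picOn (h : Subsingleton (hOn n W 2)) : Nat.card (Chi.M n (picOn W)) = 1 := by
  haveI : Subsingleton (Chi.M n (picOn W)) := (kBdry_injective r W 1).subsingleton
  exact Nat.card_eq_one_iff_unique.2 ⟨inferInstance, ⟨0⟩⟩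

end Groth.Agent.EtPBC
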