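import Groth.Agent.PicCurve.Jacobian
import Groth.Agent.AlgEquivCurve.Main
import Groth.Agent.AVDeg.Torsion
import Groth.Agent.S3239
import Groth.Agent.S12410
import Groth.Agent.PicCurve.PointSum
import Groth.Agent.EtPBC.CurveKummer
import Groth.Agent.AVDeg.DivGroup
import Mathlib

/-!
# Classes of degree zero on a curve over an algebraically closed field are the points of an abelian variety
-/

set_option autoImplicit false
set_option backward.isDefEq.respectTransparency false
set_option backward.isDefEq.respectTransparency.types false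
set_option linter.auxLemma false
set_option linter.style.haveILetI false
set_option linter.unusedSectionVars false
set_option maxHeartbeats 2000000

universe u

open CategoryTheory CategoryTheory.Limits MonoidalCategory CartesianMonoidalCategory MonObj AlgebraicGeometry Opposite
open Groth.Agent.W7Cube (pull pull_pull pull_cls)

attribute [local instance] Groth.Agent.W7Cube.law

noncomputable section

namespace Groth.Agent.EtPBC

open Groth.Agent.PicCurve

variable {k : Type u} [Field k] {X : Scheme.{u}} (f : X ⟶ Spec (CommRingCat.of k)) [IsProper f]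
  [SmoothOfRelativeDimension 1 f] [GeometricallyConnected f] (σ : Spec (CommRingCat.of k) ⟶ X)
  (hσ : σ ≫ f = 𝟙 (Spec (CommRingCat.of k)))
  (hdim : ∀ z : Spec (CommRingCat.of k), topologicalKrullDim ↥(f.fiber z) = 1)
  {J : Over (Spec (CommRingCat.of k))} {uJ : PicLoc.PicSet (PicF.XT f J)}
  (hu : pull (PicF.secT f σ hσ J) uJ = 1) (hu0 : Zero' f J uJ) (hJ : Classifies f σ hσ (Zero' f) J uJ)

include hdim hu hu0 hJ in
/-- the group structure, with the classifying map a homomorphism -/
theorem exists_grpObj_mul : ∃ _ : GrpObj J, ∀ (T : Over (Spec (CommRingCat.of k))) (a b : T ⟶ J),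
    pull (PicF.XTmap f (a * b)) uJ = pull (PicF.XTmap f a) uJ * pull (PicF.XTmap f b) uJ := by
  let Sub : ∀ T : Over (Spec (CommRingCat.of k)), Subgroup (PicLoc.PicSet (PicF.XT f T)) := fun T =>
    { carrier := {c | pull (PicF.secT f σ hσ T) c = 1 ∧ Zero' f T c}
      mul_mem' := fun {a b} ha hb => ⟨by rw [map_mul, ha.1, hb.1, _root_.one_mul],
        fun t => by rw [degC_mul f hdim, ha.2 t, hb.2 t, add_zero]⟩
      one_mem' := ⟨map_one _, degC_one f hdim T⟩
      inv_mem' := fun {a} ha => ⟨by rw [map_inv, ha.1, inv_one], fun t => by rw [degC_inv f hdim, ha.2 t, neg_zero]⟩ }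
  let e : ∀ T : Over (Spec (CommRingCat.of k)), (T ⟶ J) ≃ Sub T := fun T =>
    { toFun := fun g => ⟨pull (PicF.XTmap f g) uJ, pull_secT g hu, fun t => by rw [degC_pull]; exact hu0 _⟩
      invFun := fun c => (hJ T c.1 c.2.1 c.2.2).exists.choose
      left_inv := fun g => (hJ T _ (pull_secT g hu) (fun t => by rw [degC_pull]; exact hu0 _)).unique
        (hJ T _ (pull_secT g hu) (fun t => by rw [degC_pull]; exact hu0 _)).exists.choose_spec rfl
      right_inv := fun c => Subtype.ext (hJ T c.1 c.2.1 c.2.2).exists.choose_spec }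
  let G : ∀ T : Over (Spec (CommRingCat.of k)), Group (T ⟶ J) := fun T => (e T).group
  let F : (Over (Spec (CommRingCat.of k)))ᵒᵖ ⥤ GrpCat.{u} :=
    { obj := fun T => @GrpCat.of (T.unop ⟶ J) (G T.unop)
      map := fun {T T'} h =>
        letI := G T.unop
        letI := G T'.unop
        GrpCat.ofHom (MonoidHom.mk' (fun g => h.unop ≫ g) fun a b => (e T'.unop).injective (by
          have hmul : ∀ (U : Over (Spec (CommRingCat.of k))) (p q : U ⟶ J),
              letI := G U; e U (p * q) = e U p * e U q := fun U p q => (e U).apply_symm_apply _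
          have hnat : ∀ g : T.unop ⟶ J, pull (PicF.XTmap f h.unop) (e T.unop g).1 = (e T'.unop (h.unop ≫ g)).1 :=
            fun g => by
              show pull _ (pull _ uJ) = pull _ uJ
              rw [pull_pull, S12404.XTmap_comp]
          rw [hmul]
          refine Subtype.ext ?_
          show (e T'.unop (h.unop ≫ (a * b))).1 = (e T'.unop (h.unop ≫ a)).1 * (e T'.unop (h.unop ≫ b)).1
          rw [← hnat, ← hnat, ← hnat]
          exact (congrArg (fun c : Sub T.unop => pull (PicF.XTmap f h.unop) c.1) (hmul T.unop a b)).trans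
            (map_mul _ _ _)))
      map_id := fun T => by
        letI := G T.unop
        exact GrpCat.hom_ext (MonoidHom.ext fun g => Category.id_comp g)
      map_comp := fun {T T' T''} a b => by
        letI := G T.unop
        exact GrpCat.hom_ext (MonoidHom.ext fun g => Category.assoc b.unop a.unop g) }
  let Gr : GrpObj J := GrpObj.ofRepresentableBy J F
    { homEquiv := fun {T} => Equiv.refl _
      homEquiv_comp := fun {T T'} h g => rfl }
  refine ⟨Gr, fun T a b => ?_⟩
  letI := Gr
  have hμ : (μ[J] : J ⊗ J ⟶ J) = @HMul.hMul _ _ _ (@instHMul _ (G (J ⊗ J)).toMul) (fst J J) (snd J J) := rfl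
  have h1 : pull (PicF.XTmap f μ[J]) uJ = pull (PicF.XTmap f (fst J J)) uJ * pull (PicF.XTmap f (snd J J)) uJ := by
    rw [hμ]
    exact congrArg Subtype.val ((e (J ⊗ J)).apply_symm_apply (e _ (fst J J) * e _ (snd J J)))
  rw [Hom.mul_def, ← S12404.XTmap_comp, ← pull_pull, h1, map_mul, pull_pull, pull_pull, S12404.XTmap_comp,
    S12404.XTmap_comp, lift_fst, lift_snd]

include hdim hu hu0 hJ in
/-- the group of points is the group of classes of degree zero -/
theorem exists_points_hom [GrpObj J]
    (hm : ∀ (T : Over (Spec (CommRingCat.of k))) (a b : T ⟶ J),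
      pull (PicF.XTmap f (a * b)) uJ = pull (PicF.XTmap f a) uJ * pull (PicF.XTmap f b) uJ) :
    ∃ ψ : Additive (AVDeg.one' k ⟶ J) →+ Additive (PicLoc.PicSet (PicF.XT f (AVDeg.one' k))),
      Function.Injective ψ ∧ ∀ c, c ∈ ψ.range ↔ Zero' f (AVDeg.one' k) (Additive.toMul c) := by
  let ψ : Additive (AVDeg.one' k ⟶ J) →+ Additive (PicLoc.PicSet (PicF.XT f (AVDeg.one' k))) :=
    AddMonoidHom.mk' (fun a => Additive.ofMul (pull (PicF.XTmap f (Additive.toMul a)) uJ)) fun a b =>
      congrArg Additive.ofMul (hm _ (Additive.toMul a) (Additive.toMul b))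
  have hz : ∀ g : AVDeg.one' k ⟶ J, Zero' f (AVDeg.one' k) (pull (PicF.XTmap f g) uJ) := fun g t => by
    rw [degC_pull]
    exact hu0 _
  refine ⟨ψ, fun a b h => ?_, fun c => ⟨?_, fun h => ?_⟩⟩
  · exact Additive.toMul.injective ((hJ _ _ (pull_secT _ hu) (hz (Additive.toMul a))).unique rfl
      (congrArg Additive.toMul h).symm)
  · rintro ⟨a, rfl⟩
    exact hz _
  · obtain ⟨g, hg, -⟩ := hJ (AVDeg.one' k) (Additive.toMul c) (PicInf.PicZeroGroup.picSet_point _) h
    exact ⟨Additive.ofMul g, congrArg Additive.ofMul hg⟩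

include hdim hu hu0 hJ in
theorem isCommMonObj_of_mul [GrpObj J]
    (hm : ∀ (T : Over (Spec (CommRingCat.of k))) (a b : T ⟶ J),
      pull (PicF.XTmap f (a * b)) uJ = pull (PicF.XTmap f a) uJ * pull (PicF.XTmap f b) uJ) :
    IsCommMonObj J := by
  refine ⟨?_⟩
  have key : ∀ (T : Over (Spec (CommRingCat.of k))) (a b : T ⟶ J), a * b = b * a := fun T a b => by
    have hz : ∀ g : T ⟶ J, Zero' f T (pull (PicF.XTmap f g) uJ) := fun g t => by
      rw [degC_pull]
      exact hu0 _
    refine (hJ T _ (pull_secT _ hu) (hz (a * b))).unique rfl ?_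
    rw [hm, hm, mul_comm]
  have hμ : μ[J] = fst J J * snd J J := by rw [Hom.mul_def, lift_fst_snd, Category.id_comp]
  rw [hμ, MonObj.comp_mul, key]
  simp

/-- Torsion and cotorsion of an extension of `ℤ` by a divisible group. -/
theorem card_T_M_of_deg {D : Type*} {P : Type*} [AddCommGroup D] [AddCommGroup P] (ψ : D →+ P) (deg : P →+ ℤ)
    (hψ : Function.Injective ψ) (hdeg : Function.Surjective deg) (he : ∀ c, deg c = 0 ↔ c ∈ ψ.range) (n : ℕ)
    [NeZero n] (hdiv : Function.Surjective fun a : D => n • a) :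
    Nat.card (Chi.T n P) = Nat.card (AVDeg.tors D n) ∧ Nat.card (Chi.M n P) = n := by
  constructor
  · refine (Nat.card_congr (Equiv.ofBijective (fun a : AVDeg.tors D n =>
      (⟨ψ a.1, by rw [Chi.mem_T, ← map_nsmul, show n • a.1 = 0 from a.2, map_zero]⟩ : Chi.T n P)) ⟨fun a b h => ?_, fun c => ?_⟩)).symm
    · exact Subtype.ext (hψ (congrArg Subtype.val h))
    · have h0 : deg c.1 = 0 := by
        have h := congrArg deg c.2
        change deg (n • c.1) = deg 0 at h
        rw [map_nsmul, map_zero, nsmul_eq_mul] at h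
        exact (mul_eq_zero.1 h).resolve_left (by exact_mod_cast NeZero.ne n)
      obtain ⟨a, ha⟩ := (he _).1 h0
      exact ⟨⟨a, show n • a = 0 from hψ (by rw [map_zero, map_nsmul, ha]; exact c.2)⟩, Subtype.ext ha⟩
  · refine (Nat.card_congr (AddEquiv.ofBijective (Chi.mMap n deg) ⟨?_, fun z => ?_⟩).toEquiv).trans (Chi.card_M_int n)
    · rw [injective_iff_map_eq_zero]
      intro c hc
      obtain ⟨c, rfl⟩ := QuotientAddGroup.mk_surjective c
      obtain ⟨m, hm⟩ := (Chi.mk_eq_zero_iff n _).1 hc
      obtain ⟨e, he'⟩ := hdeg m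
      have h0 : deg (c - n • e) = 0 := by rw [map_sub, map_nsmul, he', hm, sub_self]
      obtain ⟨a, ha⟩ := (he _).1 h0
      obtain ⟨b, hb⟩ := hdiv a
      refine (Chi.mk_eq_zero_iff n _).2 ⟨ψ b + e, ?_⟩
      rw [nsmul_add, ← map_nsmul]
      exact (congrArg (fun t => ψ t + n • e) hb).trans (by rw [ha, sub_add_cancel])
    · obtain ⟨z, rfl⟩ := QuotientAddGroup.mk_surjective z
      obtain ⟨e, he'⟩ := hdeg z
      exact ⟨QuotientAddGroup.mk e, congrArg QuotientAddGroup.mk he'⟩

/-- **The torsion of the Picard group of a smooth proper curve.** -/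
theorem card_pic_curve (k : Type u) [Field k] [IsAlgClosed k] (C : Scheme.{u}) [C.Over (Spec (CommRingCat.of k))]
    (hC : Curve.IsSmoothProperCurve k C (C ↘ Spec (CommRingCat.of k))) (g : ℕ)
    (hg : Module.finrank k (Coh.HH C (Coh.structureModule C) 1) = g) (n : ℕ) (hn : (n : k) ≠ 0) :
    Nat.card (Chi.T n (Additive (PicLoc.PicSet C))) = n ^ (2 * g) ∧
      Nat.card (Chi.M n (Additive (PicLoc.PicSet C))) = n := by
  obtain ⟨hp, hs, hi, hd⟩ := id hC
  set f := C ↘ Spec (CommRingCat.of k) with hf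
  haveI : NeZero n := ⟨fun h => hn (by rw [h, Nat.cast_zero])⟩
  haveI : IsProper f := hp
  haveI : Smooth f := hs
  haveI : IsIntegral C := hi
  haveI : Nonempty C := inferInstance
  haveI : JacobsonSpace C := LocallyOfFiniteType.jacobsonSpace f
  obtain ⟨x, -, hx⟩ := nonempty_inter_closedPoints (Z := (Set.univ : Set C)) Set.univ_nonempty
    isClosed_univ.isLocallyClosed
  let σ : Spec (CommRingCat.of k) ⟶ C := ((pointEquivClosedPoint f).symm ⟨x, hx⟩).1
  have hσ : σ ≫ f = 𝟙 _ := ((pointEquivClosedPoint f).symm ⟨x, hx⟩).2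
  haveI : GeometricallyConnected f := geometricallyConnected_curve f hC σ hσ
  haveI : GeometricallyIntegral f := ClosedRep.GeomIntegral.geometricallyIntegral_of_smooth f
  haveI : GeometricallyIrreducible f := inferInstance
  have hdim : ∀ z, topologicalKrullDim ↥(f.fiber z) = 1 := fun z => (dim_fiber_spec f z).trans hd
  haveI : SmoothOfRelativeDimension 1 f := S12410.smoothOfRelDim f hdim
  obtain ⟨J, uJ, hJp, hJs, hJi, hu, hu0, hJ⟩ := exists_degZero_any f hd σ hσ
  obtain ⟨Gr, hm⟩ := exists_grpObj_mul f σ hσ hdim hu hu0 hJ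
  letI := Gr
  haveI := isCommMonObj_of_mul f σ hσ hdim hu hu0 hJ hm
  haveI := hJp
  haveI := hJs
  haveI := hJi
  haveI : GeometricallyConnected J.hom := ⟨fun K _ y Z p q h => by
    haveI : IrreducibleSpace Z := GeometricallyIrreducible.geometrically_irreducibleSpace (f := J.hom) y p q h
    infer_instance⟩
  haveI : GeometricallyIntegral J.hom := ClosedRep.GeomIntegral.geometricallyIntegral_of_smooth J.hom
  have hdJ : topologicalKrullDim J.left = (g : WithBot ℕ∞) := by
    rw [S3239.result k C f hd σ hσ rfl J ⟨uJ.1, uJ.2, congrArg Subtype.val hu⟩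
      ((hasFibreDegreeZeroCl_iff f hdim J uJ).2 hu0) fun T c hc => ?_, hg]
    have h := hJ T ⟨c.1, c.2.1⟩ (Subtype.ext c.2.2) ((hasFibreDegreeZeroCl_iff f hdim T ⟨c.1, c.2.1⟩).1 hc)
    obtain ⟨m, hm1, hm2⟩ := h
    exact ⟨m, congrArg Subtype.val hm1, fun m' hm' => hm2 m' (Subtype.ext hm')⟩
  obtain ⟨ψ, hψ, hψr⟩ := exists_points_hom f σ hσ hdim hu hu0 hJ hm
  let T := AVDeg.one' k
  haveI : IsIso (pullback.fst f T.hom) := by
    haveI : IsIso T.hom := inferInstanceAs (IsIso (𝟙 (Spec (CommRingCat.of k))))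
    infer_instance
  let e : Additive (PicLoc.PicSet C) ≃+ Additive (PicLoc.PicSet (PicF.XT f (ptOver T.hom))) :=
    AddEquiv.ofBijective (MonoidHom.toAdditive (pull (pullback.fst f T.hom))) (by
      have hb : Function.Bijective (pull (pullback.fst f T.hom)) :=
        Function.bijective_iff_has_inverse.2 ⟨pull (inv (pullback.fst f T.hom)),
          fun c => by rw [pull_pull, IsIso.inv_hom_id, PicCurve.pull_id],
          fun c => by rw [pull_pull, IsIso.hom_inv_id, PicCurve.pull_id]⟩
      exact hb)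
  letI := ptStr f T.hom
  obtain ⟨hdY, hYi⟩ := curve_pt f hdim T.hom
  haveI := hYi
  haveI : IsProper ((PicF.XT f (ptOver T.hom)) ↘ Spec (CommRingCat.of k)) := isProper_proj f _
  haveI : SmoothOfRelativeDimension 1 ((PicF.XT f (ptOver T.hom)) ↘ Spec (CommRingCat.of k)) := smooth_proj f _
  haveI : Smooth ((PicF.XT f (ptOver T.hom)) ↘ Spec (CommRingCat.of k)) := SmoothOfRelativeDimension.smooth 1 _
  haveI : GeometricallyConnected ((PicF.XT f (ptOver T.hom)) ↘ Spec (CommRingCat.of k)) := geomConn_proj f _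
  let deg : Additive (PicLoc.PicSet (PicF.XT f (ptOver T.hom))) →+ ℤ :=
    AddMonoidHom.mk' (fun c => degP k (Additive.toMul c)) fun a b => degP_mul k hdY _ _
  have hdeg : Function.Surjective deg := fun m => by
    let τ : {τ : Spec (CommRingCat.of k) ⟶ (PicF.XT f (ptOver T.hom)) // τ ≫ ((PicF.XT f (ptOver T.hom)) ↘ Spec (CommRingCat.of k)) = 𝟙 _} :=
      ⟨PicF.secT f σ hσ (ptOver T.hom), pullback.lift_snd _ _ _⟩
    have hI := isInvertible_point k hdY τ
    refine ⟨Additive.ofMul (delta k τ hdY ^ m), ?_⟩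
    show degP k (delta k τ hdY ^ m) = m
    rw [degP_zpow k hdY, show degP k (delta k τ hdY) = 1 from
      degP_point k hdY (fun _ : Fin 1 => τ.1) (fun _ => τ.2) (fun _ => (Groth.Agent.S8914.result _).1 hI) 0, _root_.mul_one]
  have hrange : ∀ c, deg c = 0 ↔ c ∈ ψ.range := fun c => by
    rw [hψr]
    constructor
    · intro h y
      exact (degC_pt f T.hom _ y).trans h
    · intro h
      exact (degC_pt f T.hom _ (IsLocalRing.closedPoint k)).symm.trans (h _)
  obtain ⟨h1, h2⟩ := card_T_M_of_deg ψ deg hψ hdeg hrange n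
    (AVDeg.surjective_nsmul_points (A := J) (NeZero.ne n))
  refine ⟨?_, ?_⟩
  · exact (Nat.card_congr (torsCongr e).toEquiv).trans (h1.trans (AVDeg.natCard_tors hdJ hn))
  · exact (Nat.card_congr (cotorsCongr e).toEquiv).trans h2


end Groth.Agent.EtPBC
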