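import Groth.Agent.EtPBC.CurveJac
import Groth.Agent.EtPBC.CurveAffineOpen
import Groth.Agent.EtPBC.CurveCount
import Groth.Agent.EtPBC.AffineCurveRed
import Groth.Agent.EtPBC.H2Surj
import Groth.Agent.EtPicLib.Pic
import Groth.Agent.AVDeg.DivGroup
import Mathlib

/-!
# First cohomology of roots of unity on an affine smooth curve
-/

set_option autoImplicit false
set_option backward.isDefEq.respectTransparency false
set_option backward.isDefEq.respectTransparency.types false
set_option linter.style.haveILetI false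
set_option maxHeartbeats 1000000
set_option synthInstance.maxHeartbeats 400000
set_option linter.auxLemma false
set_option linter.unusedSectionVars false

universe u

open CategoryTheory CategoryTheory.Limits CategoryTheory.Abelian AlgebraicGeometry Opposite TopologicalSpace

noncomputable section

namespace Groth.Agent.EtPBC

attribute [local instance 100000] EtCoh.H._proof_1 EtMV.hext
attribute [local instance 200000] EtMV.hextAb

variable {X : Scheme.{u}}

/-- change of coefficients -/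
abbrev hMap {M N : AddCommGrpCat.{u + 1}} (φ : M ⟶ N) (W : X.Opens) (q : ℕ) :
    Ext ((EtMV.P X).obj (EtMV.oo W)) ((cstF X).obj M) q →+ Ext ((EtMV.P X).obj (EtMV.oo W)) ((cstF X).obj N) q :=
  (Ext.mk₀ ((cstF X).map φ)).postcomp _ (add_zero q)

theorem hMap_hMap {M N L : AddCommGrpCat.{u + 1}} (φ : M ⟶ N) (χ : N ⟶ L) (W : X.Opens) (q : ℕ)
    (x : Ext ((EtMV.P X).obj (EtMV.oo W)) ((cstF X).obj M) q) :
    hMap χ W q (hMap φ W q x) = hMap (φ ≫ χ) W q x := by
  show Ext.comp (Ext.comp x (Ext.mk₀ ((cstF X).map φ)) (add_zero q)) (Ext.mk₀ ((cstF X).map χ)) (add_zero q) =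
    Ext.comp x (Ext.mk₀ ((cstF X).map (φ ≫ χ))) (add_zero q)
  rw [Ext.comp_assoc_of_second_deg_zero, Ext.mk₀_comp_mk₀, Functor.map_comp]

theorem hMap_injective_of_iso {M N : AddCommGrpCat.{u + 1}} (φ : M ⟶ N) [IsIso φ] (W : X.Opens) (q : ℕ) :
    Function.Injective (hMap φ W q) := fun x y h => by
  have h2 := congrArg (hMap (inv φ) W q) h
  rw [hMap_hMap, hMap_hMap, IsIso.hom_inv_id] at h2
  simpa [hMap] using h2

variable (a b : ℕ) (W : X.Opens)

/-- constants surject, so the subgroup of coefficients gives a subgroup of classes -/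
theorem hMap_f_injective (hb : b ≠ 0) (ha : a ≠ 0) (hca : Nat.card (hOn a W 0) = a) (hcb : Nat.card (hOn b W 0) = b)
    (hcn : Nat.card (hOn (a * b) W 0) = a * b) : Function.Injective (hMap (X := X) (zmodSeq.{u} a b).f W 1) := by
  have hS := shortExact_map (cstF X) (zmodSeq_shortExact.{u} a b hb)
  haveI : Mono ((cstF X).map (zmodSeq.{u} a b).f) := hS.mono_f
  let i := hMap (X := X) (zmodSeq.{u} a b).f W 0
  let p := hMap (X := X) (zmodSeq.{u} a b).g W 0
  have hi : Function.Injective i := by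
    rw [injective_iff_map_eq_zero]
    intro x hx
    obtain ⟨v, rfl⟩ := (Ext.mk₀_bijective _ _).2 x
    change Ext.comp (Ext.mk₀ v) (Ext.mk₀ ((cstF X).map (zmodSeq.{u} a b).f)) (add_zero 0) = 0 at hx
    rw [Ext.mk₀_comp_mk₀, ← Ext.mk₀_zero] at hx
    rw [← Ext.mk₀_zero]
    exact congrArg Ext.mk₀ (zero_of_comp_mono ((cstF X).map (zmodSeq.{u} a b).f) ((Ext.mk₀_bijective _ _).1 hx))
  have hker : p.ker = i.range := by
    ext x
    refine ⟨fun h => ?_, ?_⟩
    · obtain ⟨y, hy⟩ := Ext.covariant_sequence_exact₂ _ hS x h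
      exact ⟨y, hy⟩
    · rintro ⟨y, rfl⟩
      show hMap _ W 0 (hMap _ W 0 y) = 0
      rw [hMap_hMap, (zmodSeq.{u} a b).zero]
      simp [hMap]
  have hp : Function.Surjective p := by
    have h1 := Chi.card_eq_ker_mul_range p
    rw [hker, Nat.card_congr (AddMonoidHom.ofInjective hi).toEquiv.symm] at h1
    change Nat.card (hOn (a * b) W 0) = Nat.card (hOn a W 0) * Nat.card p.range at h1
    rw [hca, hcn] at h1
    have h2 : Nat.card p.range = Nat.card (hOn b W 0) := by
      rw [hcb]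
      exact (Nat.eq_of_mul_eq_mul_left (Nat.pos_of_ne_zero ha) h1).symm
    haveI : Finite (hOn b W 0) := Nat.finite_of_card_ne_zero (by rw [hcb]; exact hb)
    haveI : Finite (Ext ((EtMV.P X).obj (EtMV.oo W)) ((cstF X).obj (zmodSeq.{u} a b).X₃) 0) :=
      ‹Finite (hOn b W 0)›
    exact AddMonoidHom.range_eq_top.1 (AddSubgroup.eq_top_of_card_eq _ h2)
  rw [injective_iff_map_eq_zero]
  intro x hx
  obtain ⟨z, hz⟩ := Ext.covariant_sequence_exact₁ _ hS x hx (n₀ := 0) rfl
  obtain ⟨w, rfl⟩ := hp z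
  rw [← hz]
  show Ext.comp (Ext.comp w (Ext.mk₀ ((cstF X).map (zmodSeq.{u} a b).g)) (add_zero 0)) hS.extClass rfl = 0
  rw [Ext.comp_assoc w _ _ (add_zero 0) (zero_add 1) (by omega)]
  erw [hS.comp_extClass]
  simp only [Ext.comp_zero]

theorem hMap_nsmul_id (M : AddCommGrpCat.{u + 1}) (m q : ℕ)
    (x : Ext ((EtMV.P X).obj (EtMV.oo W)) ((cstF X).obj M) q) : hMap (m • 𝟙 M) W q x = m • x := by
  show Ext.comp x (Ext.mk₀ ((cstF X).map (m • 𝟙 M))) (add_zero q) = m • x
  rw [Functor.map_nsmul, CategoryTheory.Functor.map_id]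
  exact comp_mk₀_nsmul_id x m

/-- **the `a`-torsion of classes mod `ab` consists of the classes mod `a`** -/
theorem card_tors_hOn (hb : b ≠ 0) (ha : a ≠ 0) (hca : Nat.card (hOn a W 0) = a) (hcb : Nat.card (hOn b W 0) = b)
    (hcn : Nat.card (hOn (a * b) W 0) = a * b) :
    Nat.card (AVDeg.tors (hOn (a * b) W 1) a) = Nat.card (hOn a W 1) := by
  let π : (zmodSeq.{u} a b).X₂ ⟶ (zmodSeq.{u} a b).X₃ := (zmodSeq.{u} a b).g
  let ι : (zmodSeq.{u} a b).X₁ ⟶ (zmodSeq.{u} a b).X₂ := (zmodSeq.{u} a b).f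
  let e : (zmodSeq.{u} b a).X₂ ≅ (zmodSeq.{u} a b).X₂ :=
    AddEquiv.toAddCommGrpIso ((AddEquiv.ulift.trans (ZMod.ringEquivCongr (mul_comm b a)).toAddEquiv).trans
      AddEquiv.ulift.symm)
  let j : (zmodSeq.{u} a b).X₃ ⟶ (zmodSeq.{u} a b).X₂ := (zmodSeq.{u} b a).f ≫ e.hom
  have hj : Function.Injective (hMap (X := X) j W 1) := fun x y h => by
    rw [← hMap_hMap, ← hMap_hMap] at h
    exact hMap_f_injective b a W ha hb hcb hca (by rw [mul_comm b a]; exact hcn) (hMap_injective_of_iso e.hom W 1 h)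
  have hcomp : π ≫ j = a • 𝟙 _ := by
    apply AddCommGrpCat.hom_ext
    apply AddMonoidHom.ext
    rintro ⟨x⟩
    obtain ⟨m, rfl⟩ := ZMod.intCast_surjective x
    apply ULift.down_injective
    show ZMod.ringEquivCongr (mul_comm b a) (zmodMul b a (ZMod.castHom (dvd_mul_left b a) (ZMod b) (m : ZMod (a * b)))) =
      (a • (ULift.up (m : ZMod (a * b)) : ULift.{u + 1} (ZMod (a * b)))).down
    rw [map_intCast, zmodMul_intCast, map_intCast, ULift.smul_down, nsmul_eq_mul]
    push_cast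
    ring
  have hmem : ∀ x, x ∈ (hMap (X := X) π W 1).ker ↔ a • x = 0 := fun x => by
    rw [AddMonoidHom.mem_ker, ← hMap_nsmul_id, ← hcomp, ← hMap_hMap]
    exact (map_eq_zero_iff _ hj).symm
  have hrange : (hMap (X := X) ι W 1).range = AVDeg.tors (hOn (a * b) W 1) a := by
    ext x
    change x ∈ _ ↔ a • x = 0
    refine ⟨?_, fun h => ?_⟩
    · rintro ⟨y, rfl⟩
      refine (hmem _).1 ?_
      show hMap π W 1 (hMap ι W 1 y) = 0
      rw [hMap_hMap, (zmodSeq.{u} a b).zero]
      simp [hMap]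
    · obtain ⟨y, hy⟩ := Ext.covariant_sequence_exact₂ _ (shortExact_map (cstF X) (zmodSeq_shortExact.{u} a b hb)) x
        ((hmem x).2 h)
      exact ⟨y, hy⟩
  rw [← hrange]
  exact Nat.card_congr (AddMonoidHom.ofInjective (hMap_f_injective a b W hb ha hca hcb hcn)).toEquiv.symm

/-- A finite group with the torsion counts of `(ℤ/n)^m` is `(ℤ/n)^m`. -/
theorem nonempty_equiv_of_counts {G : Type*} [AddCommGroup G] {n m : ℕ} [NeZero n]
    (hG : ∀ x : G, n • x = 0) (hc : ∀ d, d ∣ n → Nat.card (AVDeg.tors G d) = d ^ m) :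
    Nonempty (G ≃+ (Fin m → ZMod n)) := by
  classical
  -- divisibility inside the torsion
  have hdiv : ∀ p b : ℕ, p * b ∣ n → ∀ y : G, b • y = 0 → ∃ x : G, p • x = y := fun p b hpb y hy => by
    have hp : p ∣ n := (dvd_mul_right p b).trans hpb
    have hb : b ∣ n := (dvd_mul_left b p).trans hpb
    let φ : AVDeg.tors G (p * b) →+ AVDeg.tors G b :=
      ((nsmulAddMonoidHom (α := G) p).comp (AVDeg.tors G (p * b)).subtype).codRestrict _ fun x => by
        show b • (p • (x : G)) = 0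
        rw [← mul_smul, mul_comm b p]
        exact x.2
    have hk : φ.ker ≃ AVDeg.tors G p :=
      { toFun := fun x => ⟨x.1.1, congrArg Subtype.val (x.2 : φ x.1 = 0)⟩
        invFun := fun y => ⟨⟨y.1, by
          show (p * b) • y.1 = 0
          rw [mul_comm, mul_smul, show p • y.1 = 0 from y.2, smul_zero]⟩, Subtype.ext y.2⟩
        left_inv := fun _ => rfl
        right_inv := fun _ => rfl }
    have h1 := Chi.card_eq_ker_mul_range φ
    rw [Nat.card_congr hk, hc p hp, hc _ hpb, mul_pow] at h1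
    have hp0 : 0 < p := Nat.pos_of_dvd_of_pos hp (Nat.pos_of_ne_zero (NeZero.ne n))
    have hb0 : b ≠ 0 := (Nat.pos_of_dvd_of_pos hb (Nat.pos_of_ne_zero (NeZero.ne n))).ne'
    haveI : Finite (AVDeg.tors G b) := Nat.finite_of_card_ne_zero (by rw [hc b hb]; exact pow_ne_zero _ hb0)
    have h2 : Nat.card φ.range = Nat.card (AVDeg.tors G b) := by
      rw [hc b hb]
      exact (Nat.eq_of_mul_eq_mul_left (pow_pos hp0 m) h1).symm
    obtain ⟨x, hx⟩ := AddMonoidHom.range_eq_top.1 (AddSubgroup.eq_top_of_card_eq _ h2) ⟨y, hy⟩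
    exact ⟨x.1, congrArg Subtype.val hx⟩
  suffices h : ∀ d, d ∣ n → ∃ x : Fin m → G, AVDeg.Good d x by
    obtain ⟨x, hx⟩ := h n dvd_rfl
    obtain ⟨e⟩ := hx.nonempty_equiv (hc n dvd_rfl)
    refine ⟨(AddEquiv.symm ?_)⟩
    exact e.trans ((AddEquiv.addSubgroupCongr (show AVDeg.tors G n = ⊤ from eq_top_iff.2 fun x _ => hG x)).trans
      AddSubgroup.topEquiv)
  intro d
  induction d using Nat.recOnPrimeCoprime with
  | zero => exact fun h => absurd (zero_dvd_iff.1 h) (NeZero.ne n)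
  | prime_pow p e hp =>
    haveI := Fact.mk hp
    induction e with
    | zero => exact fun _ => ⟨0, by rw [pow_zero]; exact AVDeg.good_zero_one⟩
    | succ e ih =>
      intro hd
      obtain ⟨x, hx⟩ := ih ((pow_dvd_pow p e.le_succ).trans hd)
      cases e with
      | zero =>
        rw [zero_add, pow_one] at hd ⊢
        exact AVDeg.exists_good_prime (hc p hd)
      | succ e =>
        have hy : ∀ i, ∃ y, p • y = x i := fun i =>
          hdiv p (p ^ (e + 1)) (by rwa [← pow_succ']) (x i) (hx.smul_eq_zero i)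
        choose y hy using hy
        exact ⟨y, hx.lift hp hy⟩
  | coprime a b _ _ hab iha ihb =>
    intro h
    obtain ⟨x, hx⟩ := iha ((dvd_mul_right _ _).trans h)
    obtain ⟨y, hy⟩ := ihb ((dvd_mul_left _ _).trans h)
    exact ⟨x + y, hx.add hab hy⟩

variable {k : Type u} [Field k] [IsAlgClosed k] {C : Scheme.{u}} [C.Over (Spec (CommRingCat.of k))]

/-- the Picard group as classes on the whole curve -/
theorem nonempty_picOn_top (X : Scheme.{u}) [PicGrp.Law X] :
    Nonempty (Additive (PicLoc.PicSet X) ≃+ picOn (⊤ : X.Opens)) := by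
  obtain ⟨e⟩ := EtPicLib.nonempty_addEquiv (X := X)
  exact ⟨e.trans (
    { toFun := fun x => (Ext.mk₀ (topIso' X).inv).comp x (zero_add 1)
      invFun := fun x => (Ext.mk₀ (topIso' X).hom).comp x (zero_add 1)
      left_inv := fun x => by
        show Ext.comp _ (Ext.comp _ x (zero_add 1)) (zero_add 1) = x
        rw [Ext.mk₀_comp_mk₀_assoc, Iso.hom_inv_id, Ext.mk₀_id_comp]
      right_inv := fun x => by
        show Ext.comp _ (Ext.comp _ x (zero_add 1)) (zero_add 1) = x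
        rw [Ext.mk₀_comp_mk₀_assoc, Iso.inv_hom_id, Ext.mk₀_id_comp]
      map_add' := fun x y => Ext.comp_add _ _ _ _ })⟩

variable (hC : Curve.IsSmoothProperCurve k C (C ↘ Spec (CommRingCat.of k))) {g : ℕ}
  (hg : Module.finrank k (Coh.HH C (Coh.structureModule C) 1) = g) {n : ℕ}

include hC hg in
theorem card_picOn_top (hnk : (n : k) ≠ 0) :
    Nat.card (Chi.T n (picOn (⊤ : C.Opens))) = n ^ (2 * g) ∧ Nat.card (Chi.M n (picOn (⊤ : C.Opens))) = n := by
  letI : PicGrp.Law C := W7Cube.law C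
  obtain ⟨e⟩ := nonempty_picOn_top C
  obtain ⟨h1, h2⟩ := card_pic_curve k C hC g hg n hnk
  rw [← Nat.card_congr (torsCongr e).toEquiv, ← Nat.card_congr (cotorsCongr e).toEquiv]
  exact ⟨h1, h2⟩

include hC in
theorem card_hOn_zero_curve (hn : 1 ≤ n) (hnk : (n : k) ≠ 0) {U : C.Opens} (hU : (U : Set C).Nonempty) :
    Nat.card (hOn n U 0) = n := by
  haveI : IsIntegral C := hC.2.2.1
  haveI : NeZero (n : k) := ⟨hnk⟩
  haveI : NeZero n := ⟨by omega⟩
  obtain ⟨e⟩ := card_torsion_units (C ↘ Spec (CommRingCat.of k)) hn hnk hU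
  rw [card_hOn_zero (kRootOf (C ↘ Spec (CommRingCat.of k)) hn hnk) U, ← Nat.card_congr e.toEquiv,
    Nat.card_congr Additive.toMul, HasEnoughRootsOfUnity.natCard_rootsOfUnity]

include hC hg in
/-- **the size of `H¹` on the complement of `r ≥ 1` points** -/
theorem card_hOn_one_curve (U : C.Opens) (hUc : ((U : Set C)ᶜ).Finite) {r : ℕ} (hr : 1 ≤ r)
    (hUr : Nat.card ↥((U : Set C)ᶜ) = r) (hn : 1 ≤ n) (hnk : (n : k) ≠ 0) :
    Nat.card (hOn n U 1) = n ^ (2 * g + r - 1) := by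
  haveI : IsIntegral C := hC.2.2.1
  haveI := hC.1
  haveI : NeZero n := ⟨by omega⟩
  obtain ⟨x, hx⟩ : ((U : Set C)ᶜ).Nonempty := by
    rw [← Set.nonempty_coe_sort]
    exact (Nat.card_pos_iff.1 (by omega : 0 < Nat.card ↥((U : Set C)ᶜ))).1
  let R := kRootOf (C ↘ Spec (CommRingCat.of k)) hn hnk
  obtain ⟨h1, h2⟩ := card_picOn_top hC hg hnk
  have hcl : ∀ z ∈ hUc.toFinset, IsClosed ({z} : Set C) := fun z hz =>
    isClosed_of_notMem_cofinite hC hUc (hUc.mem_toFinset.1 hz)
  obtain ⟨-, -, -, h⟩ := card_units_pic (C ↘ Spec (CommRingCat.of k)) hC 1 (n ^ (2 * g)) n (card_cotors_units_top (C ↘ Spec (CommRingCat.of k))) h1 h2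
    ⟨one_ne_zero, pow_ne_zero _ (NeZero.ne n), NeZero.ne n⟩ hUc.toFinset hcl U
    (by rw [hUc.coe_toFinset, compl_compl])
  rw [subsingleton_cotors_picOn R U (subsingleton_hOn_open hC U hUc hx hn hnk 2 le_rfl).2,
    ← Nat.card_eq_card_finite_toFinset hUc, hUr, mul_one, mul_one, ← card_hOn_one R U, ← pow_add] at h
  refine Nat.eq_of_mul_eq_mul_right (show 0 < n by omega) (h.trans ?_)
  rw [← pow_succ]
  congr 1
  omega

include hC hg in
/-- **`H¹(U, μ_n)` is free of rank `2g + r - 1` over `ℤ/n`** -/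
theorem nonempty_H1_mu_equiv (U : C.Opens) (hUc : ((U : Set C)ᶜ).Finite) {r : ℕ} (hr : 1 ≤ r)
    (hUr : Nat.card ↥((U : Set C)ᶜ) = r) (hn : 1 ≤ n) (hnk : (n : k) ≠ 0) :
    Nonempty (EtCoh.H (U : Scheme.{u}) (EtCoh.mu (U : Scheme.{u}) n) 1 ≃+ (Fin (2 * g + r - 1) → ZMod n)) := by
  haveI : IsIntegral C := hC.2.2.1
  haveI : NeZero n := ⟨by omega⟩
  have hU : (U : Set C).Nonempty := ⟨_, genericPoint_mem_of_finite_compl hC U hUc⟩
  obtain ⟨e⟩ := nonempty_mu_equiv (C ↘ Spec (CommRingCat.of k)) U hn hnk 1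
  have hkill : ∀ x : hOn n U 1, n • x = 0 := fun x => by
    have h := comp_mk₀_nsmul_id x n
    rw [(killed_iff n _).1 (killed_const C n), Ext.mk₀_zero, Ext.comp_zero] at h
    exact h.symm
  obtain ⟨e'⟩ := nonempty_equiv_of_counts (m := 2 * g + r - 1) hkill fun d hd => by
    obtain ⟨b, hb⟩ := hd
    have hd0 : d ≠ 0 := fun h => NeZero.ne n (by rw [hb, h, zero_mul])
    have hb0 : b ≠ 0 := fun h => NeZero.ne n (by rw [hb, h, mul_zero])
    have hdk : (d : k) ≠ 0 := fun h => hnk (by rw [hb, Nat.cast_mul, h, zero_mul])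
    have hbk : (b : k) ≠ 0 := fun h => hnk (by rw [hb, Nat.cast_mul, h, mul_zero])
    subst hb
    rw [card_tors_hOn d b U hb0 hd0 (card_hOn_zero_curve hC (by omega) hdk hU)
      (card_hOn_zero_curve hC (by omega) hbk hU) (card_hOn_zero_curve hC hn hnk hU)]
    exact card_hOn_one_curve hC hg U hUc hr hUr (by omega) hdk
  exact ⟨e.trans e'⟩

end Groth.Agent.EtPBC
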