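import Groth.Agent.EtPBC.CyclicSheaf

/-!
# Exactness of the sequences of a cyclic extension
-/

set_option autoImplicit false
set_option backward.isDefEq.respectTransparency false
set_option backward.isDefEq.respectTransparency.types false
set_option linter.auxLemma false
set_option linter.style.haveILetI false
set_option linter.unusedSectionVars false

universe u

open CategoryTheory CategoryTheory.Limits AlgebraicGeometry Opposite
open Groth.Agent.GalCohLib (pt ptMap)

noncomputable section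

namespace Groth.Agent.EtPBC.Cyclic

attribute [local instance 100000] EtCoh.H._proof_1 EtMV.hext
attribute [local instance 200000] EtMV.hextAb

variable (k : Type u) [Field k] (M : Type u) [Field M] [Algebra k M] [FiniteDimensional k M]
  [Algebra.IsSeparable k M] [IsGalois k M]

variable {Ω : Type u} [Field Ω] [IsSepClosed Ω] (ξ : Spec (CommRingCat.of Ω) ⟶ Spec (CommRingCat.of k))

theorem fib_top_subsingleton : Subsingleton (PStalk.Fib ξ (EtCoh.top (Spec (CommRingCat.of k)))) := by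
  haveI : Mono (EtCoh.top (Spec (CommRingCat.of k))).hom := inferInstanceAs (Mono (𝟙 _))
  exact ⟨fun a b => Over.OverMorphism.ext
    ((cancel_mono (EtCoh.top (Spec (CommRingCat.of k))).hom).1 ((Over.w a).trans (Over.w b).symm))⟩

theorem stalk_aug (v : Emb k M ξ) (w : PStalk.Fib ξ (EtCoh.top (Spec (CommRingCat.of k)))) :
    (EtCoh.stalk ξ).map (aug k M) (PStalk.gen ξ _ v) = PStalk.gen ξ _ w := by
  rw [aug, PStalk.gen_map]
  exact congrArg _ ((fib_top_subsingleton k ξ).elim _ _)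

variable (g : M ≃ₐ[k] M) (hg : ∀ h : M ≃ₐ[k] M, h ∈ Subgroup.zpowers g)

include hg in
theorem exists_pow (v w : Emb k M ξ) : ∃ n : ℕ, mv k M ξ v (g ^ n) = w := by
  obtain ⟨h, rfl⟩ := (mv_bijective k M ξ v).2 w
  obtain ⟨n, rfl⟩ := mem_powers_iff_mem_zpowers.2 (hg h)
  exact ⟨n, rfl⟩

theorem gen_pow_sub_mem (v : Emb k M ξ) (n : ℕ) :
    PStalk.gen ξ _ (mv k M ξ v (g ^ n)) - PStalk.gen ξ _ v ∈ ((EtCoh.stalk ξ).map (diff k M g)).hom.range := by
  induction n with
  | zero => rw [pow_zero, mv_one, sub_self]; exact zero_mem _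
  | succ n ih =>
    rw [pow_succ, mv_mul, ← sub_add_sub_cancel _ (PStalk.gen ξ _ (mv k M ξ v (g ^ n)))]
    exact add_mem ⟨_, stalk_diff k M ξ g _⟩ ih

theorem epi_aug : Epi (aug k M) := by
  refine (EtStalk.epi_iff _).2 fun Ω _ _ ξ => ?_
  obtain ⟨v⟩ := nonempty_emb k M ξ
  intro y
  obtain ⟨a, rfl⟩ := (PStalk.lift_bijective ξ _).2 y
  induction a using Finsupp.induction_linear with
  | zero => exact ⟨0, by rw [map_zero, map_zero]⟩
  | add a b ha hb =>
    obtain ⟨a', ha'⟩ := ha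
    obtain ⟨b', hb'⟩ := hb
    exact ⟨a' + b', by rw [map_add, map_add, ha', hb']⟩
  | single w n => exact ⟨n • PStalk.gen ξ _ v, by rw [map_zsmul, stalk_aug k M ξ v w, PStalk.lift_single]⟩

include hg in
theorem exact_diff_aug : (ShortComplex.mk _ _ (diff_aug k M g)).Exact := by
  classical
  refine (EtStalk.exact_iff _).2 fun Ω _ _ ξ => (ShortComplex.ab_exact_iff _).2 fun x hx => ?_
  obtain ⟨v₀⟩ := nonempty_emb k M ξ
  let w₀ : PStalk.Fib ξ (EtCoh.top (Spec (CommRingCat.of k))) :=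
    (Scheme.pointSmallEtale ξ).fiber.map (EtMV.toTop (pt k M)) v₀
  obtain ⟨a, rfl⟩ := (PStalk.lift_bijective ξ _).2 x
  let ε : (Emb k M ξ →₀ ℤ) →+ ℤ := Finsupp.liftAddHom fun _ => AddMonoidHom.id ℤ
  have h1 : ((EtCoh.stalk ξ).map (aug k M)).hom.comp (PStalk.lift ξ (pt k M)) =
      ((PStalk.lift ξ _).comp (Finsupp.singleAddHom w₀)).comp ε := by
    refine Finsupp.addHom_ext fun v n => ?_
    simp only [AddMonoidHom.comp_apply, PStalk.lift_single, map_zsmul, ε, Finsupp.liftAddHom_apply_single,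
      AddMonoidHom.id_apply, Finsupp.singleAddHom_apply]
    exact congrArg (n • ·) (stalk_aug k M ξ v w₀)
  have hε : ε a = 0 := by
    have h2 : PStalk.lift ξ _ (Finsupp.single w₀ (ε a)) = 0 := ((DFunLike.congr_fun h1 a).symm).trans hx
    exact Finsupp.single_eq_zero.1 ((PStalk.lift_bijective ξ _).1 (h2.trans (map_zero _).symm))
  let R := ((EtCoh.stalk ξ).map (diff k M g)).hom.range
  have h3 : (QuotientAddGroup.mk' R).comp (PStalk.lift ξ (pt k M)) =
      (zmultiplesHom _ (QuotientAddGroup.mk' R (PStalk.gen ξ _ v₀))).comp ε := by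
    refine Finsupp.addHom_ext fun v n => ?_
    obtain ⟨i, rfl⟩ := exists_pow k M ξ g hg v₀ v
    simp only [AddMonoidHom.comp_apply, PStalk.lift_single, map_zsmul, ε, Finsupp.liftAddHom_apply_single,
      AddMonoidHom.id_apply, zmultiplesHom_apply]
    exact congrArg (n • ·) ((QuotientAddGroup.eq_iff_sub_mem).2 (gen_pow_sub_mem k M ξ g v₀ i))
  have h4 := DFunLike.congr_fun h3 a
  rw [AddMonoidHom.comp_apply, AddMonoidHom.comp_apply, hε, map_zero] at h4
  exact (QuotientAddGroup.eq_zero_iff _).1 h4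

theorem lift_orbit (v : Emb k M ξ) (w : PStalk.Fib ξ (EtCoh.top (Spec (CommRingCat.of k)))) (n : ℤ) :
    PStalk.lift ξ _ (n • ∑ h : M ≃ₐ[k] M, Finsupp.single (mv k M ξ v h) (1 : ℤ)) =
      (EtCoh.stalk ξ).map (norm k M) (PStalk.lift ξ _ (Finsupp.single w n)) := by
  rw [PStalk.lift_single, map_zsmul, map_zsmul, map_sum, stalk_norm k M ξ v w]
  simp only [PStalk.lift_single, one_zsmul]

theorem orbit_apply (v : Emb k M ξ) (h₀ : M ≃ₐ[k] M) (n : ℤ) :
    (n • ∑ h : M ≃ₐ[k] M, Finsupp.single (mv k M ξ v h) (1 : ℤ)) (mv k M ξ v h₀) = n := by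
  classical
  rw [Finsupp.smul_apply, Finsupp.finset_sum_apply, Finset.sum_eq_single h₀]
  · rw [Finsupp.single_eq_same, smul_eq_mul, mul_one]
  · intro b _ hb
    exact Finsupp.single_eq_of_ne fun e => hb ((mv_bijective k M ξ v).1 e).symm
  · exact fun h => absurd (Finset.mem_univ _) h

theorem mono_norm : Mono (norm k M) := by
  refine (EtStalk.mono_iff _).2 fun Ω _ _ ξ => ?_
  obtain ⟨v⟩ := nonempty_emb k M ξ
  let w : PStalk.Fib ξ (EtCoh.top (Spec (CommRingCat.of k))) :=
    (Scheme.pointSmallEtale ξ).fiber.map (EtMV.toTop (pt k M)) v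
  rw [injective_iff_map_eq_zero]
  intro x hx
  obtain ⟨a, rfl⟩ := (PStalk.lift_bijective ξ _).2 x
  haveI := fib_top_subsingleton k ξ
  have ha : a = Finsupp.single w (a w) := by
    ext z
    obtain rfl := Subsingleton.elim z w
    rw [Finsupp.single_eq_same]
  rw [ha, ← lift_orbit k M ξ v w] at hx
  have h2 := congrArg (fun b => b (mv k M ξ v 1)) ((PStalk.lift_bijective ξ _).1 (hx.trans (map_zero _).symm))
  simp only [orbit_apply, Finsupp.coe_zero, Pi.zero_apply] at h2
  rw [ha, h2, Finsupp.single_zero, map_zero]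

theorem norm_diff : norm k M ≫ diff k M g = 0 := by
  let Ω := SeparableClosure k
  let ξ : Spec (CommRingCat.of Ω) ⟶ Spec (CommRingCat.of k) :=
    Spec.map (CommRingCat.ofHom (algebraMap k Ω))
  haveI : Subsingleton (EtCoh.top (Spec (CommRingCat.of k))).left :=
    inferInstanceAs (Subsingleton ↥(Spec (CommRingCat.of k)))
  obtain ⟨v⟩ := nonempty_emb k M ξ
  let w : PStalk.Fib ξ (EtCoh.top (Spec (CommRingCat.of k))) :=
    (Scheme.pointSmallEtale ξ).fiber.map (EtMV.toTop (pt k M)) v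
  apply EtMV.σ.injective
  refine germ_injective ξ (Q₀ k M) w ?_
  rw [EtMV.σ_eq, EtMV.σ_eq]
  refine (GrothendieckTopology.Point.toPresheafFiber_naturality_apply (Scheme.pointSmallEtale ξ)
    (norm k M ≫ diff k M g).hom _ w (EtMV.uel _)).symm.trans ?_
  refine Eq.trans ?_ (GrothendieckTopology.Point.toPresheafFiber_naturality_apply (Scheme.pointSmallEtale ξ)
    (0 : T₀ k ⟶ Q₀ k M).hom _ w (EtMV.uel _))
  show (EtCoh.stalk ξ).map (norm k M ≫ diff k M g) (PStalk.gen ξ _ w) =
    (EtCoh.stalk ξ).map (0 : T₀ k ⟶ Q₀ k M) (PStalk.gen ξ _ w)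
  rw [Functor.map_comp, ConcreteCategory.comp_apply, stalk_norm k M ξ v w, map_sum, Functor.map_zero]
  simp only [stalk_diff, Finset.sum_sub_distrib, ← mv_mul]
  rw [Fintype.sum_equiv (Equiv.mulRight g) (fun h => PStalk.gen ξ (pt k M) (mv k M ξ v (h * g)))
    (fun h => PStalk.gen ξ (pt k M) (mv k M ξ v h)) fun h => rfl, sub_self]
  rfl

include hg in
theorem exact_norm_diff : (ShortComplex.mk _ _ (norm_diff k M g)).Exact := by
  classical
  refine (EtStalk.exact_iff _).2 fun Ω _ _ ξ => (ShortComplex.ab_exact_iff _).2 fun x hx => ?_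
  obtain ⟨v₀⟩ := nonempty_emb k M ξ
  let w₀ : PStalk.Fib ξ (EtCoh.top (Spec (CommRingCat.of k))) :=
    (Scheme.pointSmallEtale ξ).fiber.map (EtMV.toTop (pt k M)) v₀
  obtain ⟨a, rfl⟩ := (PStalk.lift_bijective ξ _).2 x
  let r : Emb k M ξ → Emb k M ξ := fun v => mv k M ξ v g
  have hr : Function.Injective r := fun x y e => by
    have := congrArg (fun v => mv k M ξ v g⁻¹) e
    simpa only [r, ← mv_mul, mul_inv_cancel, mv_one] using this
  have h1 : ((EtCoh.stalk ξ).map (diff k M g)).hom.comp (PStalk.lift ξ (pt k M)) =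
      (PStalk.lift ξ (pt k M)).comp (Finsupp.mapDomain.addMonoidHom r - AddMonoidHom.id _) := by
    refine Finsupp.addHom_ext fun v n => ?_
    simp only [AddMonoidHom.comp_apply, AddMonoidHom.sub_apply, AddMonoidHom.id_apply,
      Finsupp.mapDomain.addMonoidHom_apply, Finsupp.mapDomain_single, map_sub, PStalk.lift_single, map_zsmul,
      ← zsmul_sub]
    exact congrArg (n • ·) (stalk_diff k M ξ g v)
  have h2 : Finsupp.mapDomain r a = a := by
    refine sub_eq_zero.1 ((PStalk.lift_bijective ξ _).1 ?_)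
    rw [map_zero]
    exact ((DFunLike.congr_fun h1 a).symm).trans hx
  have h3 : ∀ v, a (r v) = a v := fun v => by
    conv_lhs => rw [← h2]
    exact Finsupp.mapDomain_apply hr a v
  have h4 : ∀ n : ℕ, a (mv k M ξ v₀ (g ^ n)) = a v₀ := by
    intro n
    induction n with
    | zero => rw [pow_zero, mv_one]
    | succ n ih => rw [pow_succ, mv_mul, h3, ih]
  refine ⟨PStalk.lift ξ _ (Finsupp.single w₀ (a v₀)), ?_⟩
  refine (lift_orbit k M ξ v₀ w₀ (a v₀)).symm.trans (congrArg _ ?_)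
  ext z
  obtain ⟨h, rfl⟩ := (mv_bijective k M ξ v₀).2 z
  obtain ⟨n, rfl⟩ := mem_powers_iff_mem_zpowers.2 (hg h)
  rw [orbit_apply]
  exact (h4 n).symm

end Groth.Agent.EtPBC.Cyclic
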