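import Groth.Agent.EtFLC.Site
import Groth.Agent.EtMV.Free
import Groth.Agent.EtPullExact.Basic
import Groth.Agent.GalCohLib.RelTransfer

/-!
# The four term sequence of a cyclic Galois covering in the small étale site

For a free cyclic torsor `π : Z ⟶ Y` with generator `σ` of order `n` the sequence
`0 → P Y → P Z → P Z → P Y → 0` (norm, `1 - σ`, `π`) is exact.
-/

set_option autoImplicit false
set_option backward.isDefEq.respectTransparency false
set_option backward.isDefEq.respectTransparency.types false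
set_option linter.auxLemma false
set_option linter.style.haveILetI false

universe u

open CategoryTheory CategoryTheory.Limits CategoryTheory.Abelian AlgebraicGeometry Opposite
open Groth.Agent.EtFLC (res res_res res_id)

noncomputable section

namespace Groth.Agent.EtPBC

attribute [local instance 100000] EtCoh.H._proof_1 EtMV.hext
attribute [local instance 200000] EtMV.hextAb

variable {X : Scheme.{u}}

/-- powers of an endomorphism -/
def spow {Z : X.Etale} (σ : Z ⟶ Z) : ℕ → (Z ⟶ Z)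
  | 0 => 𝟙 Z
  | i + 1 => spow σ i ≫ σ

theorem spow_add {Z : X.Etale} (σ : Z ⟶ Z) (i j : ℕ) : spow σ (i + j) = spow σ i ≫ spow σ j := by
  induction j with
  | zero => simp [spow]
  | succ j ih => rw [← add_assoc, spow, spow, ih, Category.assoc]

/-- a free cyclic torsor of order `n` in the small étale site -/
structure CycCover (Z Y : X.Etale) where
  /-- the projection -/
  π : Z ⟶ Y
  /-- the generator -/
  σ : Z ⟶ Z
  /-- the order -/
  n : ℕ
  npos : 0 < n
  σπ : σ ≫ π = π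
  period : spow σ n = 𝟙 Z
  surj : Function.Surjective π.left.base
  torsor : ∀ {T : X.Etale} (p q : T ⟶ Z), p ≫ π = q ≫ π → ∀ z : T.left,
    ∃ (T' : X.Etale) (j : T' ⟶ T) (w : T'.left) (i : ℕ), j.left w = z ∧ j ≫ q = j ≫ p ≫ spow σ i
  free : ∀ {T : X.Etale} (p : T ⟶ Z), Nonempty T.left → ∀ {i j : ℕ}, i < n → j < n →
    p ≫ spow σ i = p ≫ spow σ j → i = j

namespace CycCover

variable {Z Y : X.Etale} (C : CycCover Z Y)

theorem spow_π (i : ℕ) : spow C.σ i ≫ C.π = C.π := by
  induction i with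
  | zero => simp [spow]
  | succ i ih => rw [spow, Category.assoc, C.σπ, ih]

theorem spow_comp_σ (i : ℕ) : C.σ ≫ spow C.σ i = spow C.σ (i + 1) := by
  rw [add_comm, spow_add]
  simp [spow]

theorem spow_mod (i : ℕ) : spow C.σ i = spow C.σ (i % C.n) := by
  conv_lhs => rw [← Nat.mod_add_div i C.n]
  rw [spow_add]
  have h : ∀ q, spow C.σ (C.n * q) = 𝟙 Z := by
    intro q
    induction q with
    | zero => simp [spow]
    | succ q ih => rw [Nat.mul_succ, spow_add, ih, C.period, Category.comp_id]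
  rw [h, Category.comp_id]

theorem res_π_injective (G : EtCoh.Ab X) : Function.Injective (res G C.π) := by
  intro a b hab
  refine EtFLC.sect_ext G fun y => ?_
  obtain ⟨z, hz⟩ := C.surj y
  exact ⟨Z, C.π, z, hz, hab⟩

/-- the sum over the orbit of a section -/
def nsum (G : EtCoh.Ab X) (s : EtCoh.sect G Z) : EtCoh.sect G Z :=
  ∑ i ∈ Finset.range C.n, res G (spow C.σ i) s

theorem sum_shift {M : Type*} [AddCommMonoid M] (f : ℕ → M) (k : ℕ) (hf : ∀ i, f i = f (i % C.n)) :
    ∑ i ∈ Finset.range C.n, f (k + i) = ∑ i ∈ Finset.range C.n, f i := by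
  induction k with
  | zero => simp
  | succ k ih =>
    rw [← ih]
    obtain ⟨m, hm⟩ : ∃ m, C.n = m + 1 := ⟨C.n - 1, by have := C.npos; omega⟩
    rw [hm, Finset.sum_range_succ, Finset.sum_range_succ' (fun i => f (k + i))]
    congr 1
    · exact Finset.sum_congr rfl fun i _ => by congr 1; omega
    · rw [add_zero, show k + 1 + m = k + C.n by omega, hf, Nat.add_mod_right, ← hf]

theorem res_spow_nsum (G : EtCoh.Ab X) (s : EtCoh.sect G Z) (k : ℕ) :
    res G (spow C.σ k) (C.nsum G s) = C.nsum G s := by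
  unfold nsum
  rw [map_sum]
  simp only [res_res, ← spow_add]
  exact C.sum_shift (fun i => res G (spow C.σ i) s) k fun i => by rw [← C.spow_mod]

theorem res_eq_of_invariant (G : EtCoh.Ab X) (s : EtCoh.sect G Z) (hs : ∀ k, res G (spow C.σ k) s = s)
    {T : X.Etale} (p q : T ⟶ Z) (h : p ≫ C.π = q ≫ C.π) : res G p s = res G q s := by
  refine EtFLC.sect_ext G fun z => ?_
  obtain ⟨T', j, w, i, hw, hj⟩ := C.torsor p q h z
  refine ⟨T', j, w, hw, ?_⟩
  rw [res_res, res_res, hj, ← res_res G j (p ≫ spow C.σ i), ← res_res G p (spow C.σ i), hs, res_res]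

theorem exists_tr : ∃ t : (EtMV.P X).obj Y ⟶ (EtMV.P X).obj Z,
    res ((EtMV.P X).obj Z) C.π (EtMV.σ t) = C.nsum _ (EtMV.uel Z) := by
  obtain ⟨t, ht⟩ := GalCohLib.exists_descend_rel _ C.π C.surj (C.nsum _ (EtMV.uel Z))
    fun p q h => C.res_eq_of_invariant _ _ (C.res_spow_nsum _ _) p q h
  exact ⟨EtMV.σ.symm t, by rwa [Equiv.apply_symm_apply]⟩

/-- the norm map -/
def tr : (EtMV.P X).obj Y ⟶ (EtMV.P X).obj Z := C.exists_tr.choose

theorem res_π_σ_tr {G : EtCoh.Ab X} (φ : (EtMV.P X).obj Z ⟶ G) :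
    res G C.π (EtMV.σ (C.tr ≫ φ)) = C.nsum G (EtMV.σ φ) := by
  rw [EtMV.σ_comp, ← EtFLC.app_res, show res _ C.π (EtMV.σ C.tr) = _ from C.exists_tr.choose_spec]
  unfold nsum
  rw [map_sum]
  exact Finset.sum_congr rfl fun i _ => by rw [EtFLC.app_res, ← EtMV.σ_eq]

theorem σ_sub {o : X.Etale} {G : EtCoh.Ab X} (φ ψ : (EtMV.P X).obj o ⟶ G) :
    EtMV.σ (φ - ψ) = EtMV.σ φ - EtMV.σ ψ := by
  rw [eq_sub_iff_add_eq, ← EtMV.σ_add, sub_add_cancel]

theorem σ_zero {o : X.Etale} {G : EtCoh.Ab X} : EtMV.σ (0 : (EtMV.P X).obj o ⟶ G) = 0 := by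
  simpa using σ_sub (0 : (EtMV.P X).obj o ⟶ G) 0

theorem eq_zero_iff {o : X.Etale} {G : EtCoh.Ab X} (φ : (EtMV.P X).obj o ⟶ G) : φ = 0 ↔ EtMV.σ φ = 0 := by
  rw [← σ_zero (o := o) (G := G)]
  exact EtMV.σ.injective.eq_iff.symm

/-- one minus the generator -/
def dif : (EtMV.P X).obj Z ⟶ (EtMV.P X).obj Z := 𝟙 _ - (EtMV.P X).map C.σ

theorem σ_dif {G : EtCoh.Ab X} (φ : (EtMV.P X).obj Z ⟶ G) :
    EtMV.σ (C.dif ≫ φ) = EtMV.σ φ - res G C.σ (EtMV.σ φ) := by
  rw [dif, Preadditive.sub_comp, Category.id_comp, σ_sub, EtMV.σ_map]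

theorem tr_dif : C.tr ≫ C.dif = 0 := by
  rw [eq_zero_iff]
  apply C.res_π_injective
  rw [C.res_π_σ_tr, map_zero, show C.dif = C.dif ≫ 𝟙 _ from (Category.comp_id _).symm, C.σ_dif]
  unfold nsum
  simp only [map_sub, Finset.sum_sub_distrib, res_res]
  have h := C.sum_shift (fun i => res _ (spow C.σ i) (EtMV.σ (𝟙 ((EtMV.P X).obj Z)))) 1
    fun i => by rw [← C.spow_mod]
  simp only [add_comm 1] at h
  simp only [show ∀ i, spow C.σ i ≫ C.σ = spow C.σ (i + 1) from fun i => rfl]
  rw [h, sub_self]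

theorem dif_π : C.dif ≫ (EtMV.P X).map C.π = 0 := by
  rw [dif, Preadditive.sub_comp, Category.id_comp, ← Functor.map_comp, C.σπ, sub_self]

theorem epi_π : Epi ((EtMV.P X).map C.π) := by
  refine Preadditive.epi_of_cancel_zero _ fun {G} φ hφ => ?_
  rw [eq_zero_iff] at hφ ⊢
  apply C.res_π_injective
  rw [map_zero, ← hφ, EtMV.σ_map]

/-! ### extending along endomorphisms of free presheaves -/

/-- free abelian presheaf of points -/
def fr (Z : X.Etale) : X.Etaleᵒᵖ ⥤ AddCommGrpCat.{u + 1} where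
  obj T := AddCommGrpCat.of (ULift.{u + 1} (T.unop ⟶ Z) →₀ ℤ)
  map f := AddCommGrpCat.ofHom (Finsupp.mapDomain.addMonoidHom fun p => ⟨f.unop ≫ p.down⟩)
  map_id T := by
    ext : 1
    refine Finsupp.addHom_ext fun p a => ?_
    simp
  map_comp f g := by
    ext : 1
    refine Finsupp.addHom_ext fun p a => ?_
    simp [Category.assoc]

/-- the evaluation of a section at points -/
def evalAt (G : EtCoh.Ab X) (s : EtCoh.sect G Z) (T : X.Etale) :
    (ULift.{u + 1} (T ⟶ Z) →₀ ℤ) →+ EtCoh.sect G T :=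
  Finsupp.liftAddHom fun p => zmultiplesHom _ (res G p.down s)

theorem evalAt_single (G : EtCoh.Ab X) (s : EtCoh.sect G Z) (T : X.Etale) (p : ULift.{u + 1} (T ⟶ Z)) (a : ℤ) :
    evalAt G s T (Finsupp.single p a) = a • res G p.down s := by
  simp [evalAt]

/-- the natural transformation attached to a section -/
def evalNat (G : EtCoh.Ab X) (s : EtCoh.sect G Z) : fr Z ⟶ G.obj where
  app T := AddCommGrpCat.ofHom (evalAt G s T.unop)
  naturality T T' f := by
    ext : 1
    refine Finsupp.addHom_ext fun p a => ?_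
    show evalAt G s T'.unop (Finsupp.mapDomain _ (Finsupp.single p a)) =
      res G f.unop (evalAt G s T.unop (Finsupp.single p a))
    rw [Finsupp.mapDomain_single, evalAt_single, evalAt_single, map_zsmul, res_res]

/-- post-composition with an endomorphism -/
def push (τ : Z ⟶ Z) : fr Z ⟶ fr Z where
  app T := AddCommGrpCat.ofHom (Finsupp.mapDomain.addMonoidHom fun p => ⟨p.down ≫ τ⟩)
  naturality T T' f := by
    ext : 1
    refine Finsupp.addHom_ext fun p a => ?_
    simp [fr, Category.assoc]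

theorem push_single (τ : Z ⟶ Z) (T : X.Etale) (p : ULift.{u + 1} (T ⟶ Z)) (a : ℤ) :
    ((push τ).app (op T)).hom (Finsupp.single p a) = Finsupp.single ⟨p.down ≫ τ⟩ a :=
  Finsupp.mapDomain_single

theorem exists_extend {I : EtCoh.Ab X} [Injective I] (A : fr Z ⟶ fr Z) (α : fr Z ⟶ I.obj)
    (h : ∀ (T : X.Etale) (x : ULift.{u + 1} (T ⟶ Z) →₀ ℤ),
      (A.app (op T)).hom x = 0 → (α.app (op T)).hom x = 0) :
    ∃ β : fr Z ⟶ I.obj, A ≫ β = α := by
  haveI : Injective I.obj := EtPullExact.presheaf_injective I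
  have hker : kernel.ι A ≫ α = 0 := by
    ext T x
    exact h T.unop _ (ConcreteCategory.congr_hom (NatTrans.congr_app (kernel.condition A) T) x)
  let α' : Abelian.coimage A ⟶ I.obj := cokernel.desc _ α hker
  refine ⟨Injective.factorThru α' (Abelian.factorThruCoimage A), ?_⟩
  conv_lhs => arg 1; rw [← Abelian.coimage.fac A]
  rw [Category.assoc, Injective.comp_factorThru]
  exact cokernel.π_desc _ _ _

theorem sum_app_apply (S : Finset ℕ) (g : ℕ → (fr Z ⟶ fr Z)) (T : X.Etale)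
    (x : ULift.{u + 1} (T ⟶ Z) →₀ ℤ) :
    (((∑ i ∈ S, g i).app (op T)).hom x : ULift.{u + 1} (T ⟶ Z) →₀ ℤ) =
      ∑ i ∈ S, (((g i).app (op T)).hom x : ULift.{u + 1} (T ⟶ Z) →₀ ℤ) := by
  induction S using Finset.cons_induction with
  | empty =>
    rw [Finset.sum_empty, Finset.sum_empty]
    rfl
  | cons a S ha ih =>
    rw [Finset.sum_cons, Finset.sum_cons, ← ih]
    rfl

theorem app_eq_res {G : EtCoh.Ab X} (β : fr Z ⟶ G.obj) {T : X.Etale} (p : T ⟶ Z) :
    (β.app (op T)).hom (Finsupp.single (⟨p⟩ : ULift.{u + 1} (T ⟶ Z)) 1) =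
      res G p ((β.app (op Z)).hom (Finsupp.single (⟨𝟙 Z⟩ : ULift.{u + 1} (Z ⟶ Z)) 1)) := by
  refine Eq.trans ?_ (NatTrans.naturality_apply β p.op (Finsupp.single (⟨𝟙 Z⟩ : ULift.{u + 1} (Z ⟶ Z)) 1))
  congr 1
  simp [fr]

/-- orbit sums -/
theorem orbit_criterion (G : EtCoh.Ab X) (s : EtCoh.sect G Z) {T : X.Etale} (hT : Nonempty T.left)
    (x : ULift.{u + 1} (T ⟶ Z) →₀ ℤ)
    (h : ∀ p : ULift.{u + 1} (T ⟶ Z), x p ≠ 0 →
      ∑ i ∈ Finset.range C.n, x ⟨p.down ≫ spow C.σ i⟩ • res G (p.down ≫ spow C.σ i) s = 0) :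
    evalAt G s T x = 0 := by
  classical
  let orb : ULift.{u + 1} (T ⟶ Z) → Finset (ULift.{u + 1} (T ⟶ Z)) := fun p =>
    (Finset.range C.n).image fun i => ⟨p.down ≫ spow C.σ i⟩
  have hmem : ∀ p, p ∈ orb p := fun p => Finset.mem_image.2
    ⟨0, Finset.mem_range.2 C.npos, ULift.ext _ _ (by simp [spow])⟩
  have hinj : ∀ p : ULift.{u + 1} (T ⟶ Z), Set.InjOn
      (fun i => (⟨p.down ≫ spow C.σ i⟩ : ULift.{u + 1} (T ⟶ Z))) (Finset.range C.n : Set ℕ) :=
    fun p i hi j hj e => C.free p.down hT (Finset.mem_range.1 hi) (Finset.mem_range.1 hj)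
      (congrArg ULift.down e)
  have hstep : ∀ p q, q ∈ orb p → orb q = orb p := by
    intro p q hq
    obtain ⟨k, -, rfl⟩ := Finset.mem_image.1 hq
    refine (Finset.eq_of_subset_of_card_le ?_ ?_)
    · intro r hr
      obtain ⟨i, -, rfl⟩ := Finset.mem_image.1 hr
      refine Finset.mem_image.2 ⟨(k + i) % C.n, Finset.mem_range.2 (Nat.mod_lt _ C.npos), ULift.ext _ _ ?_⟩
      simp only [Category.assoc, ← spow_add, ← C.spow_mod]
    · rw [Finset.card_image_of_injOn (hinj p), Finset.card_image_of_injOn (hinj _)]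
  rw [show evalAt G s T x = ∑ p ∈ x.support, x p • res G p.down s by
    simp [evalAt, Finsupp.sum]]
  rw [← Finset.sum_fiberwise_of_maps_to (g := orb) (t := x.support.image orb)
    fun p hp => Finset.mem_image_of_mem _ hp]
  refine Finset.sum_eq_zero fun o ho => ?_
  obtain ⟨p, hp, rfl⟩ := Finset.mem_image.1 ho
  refine Eq.trans ?_ (h p (Finsupp.mem_support_iff.1 hp))
  rw [show ∑ i ∈ Finset.range C.n, x ⟨p.down ≫ spow C.σ i⟩ • res G (p.down ≫ spow C.σ i) s =
    ∑ q ∈ orb p, x q • res G q.down s from (Finset.sum_image (f := fun q : ULift.{u + 1} (T ⟶ Z) => x q • res G q.down s) (hinj p)).symm]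
  refine Finset.sum_subset (fun q hq => ?_) fun q hq hq' => ?_
  · exact (Finset.mem_filter.1 hq).2 ▸ hmem q
  · rw [Finset.mem_filter, not_and] at hq'
    rw [show x q = 0 from Finsupp.notMem_support_iff.1 fun hs => hq' hs (hstep p q hq), zero_smul]

theorem sect_eq_zero_of_empty (G : EtCoh.Ab X) {T : X.Etale} (hT : ¬ Nonempty T.left) (s : EtCoh.sect G T) :
    s = 0 := EtFLC.sect_ext G fun z => absurd ⟨z⟩ hT

/-- cohomology of a free cyclic group in degree `-1` vanishes for injectives -/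
theorem exists_sub_eq {I : EtCoh.Ab X} [Injective I] (s : EtCoh.sect I Z) (hs : C.nsum I s = 0) :
    ∃ w : EtCoh.sect I Z, w - res I C.σ w = s := by
  classical
  obtain ⟨β, hβ⟩ := exists_extend (push (𝟙 Z) - push C.σ) (evalNat I s) fun T x hx => by
    by_cases hT : Nonempty T.left
    swap
    · exact sect_eq_zero_of_empty I hT _
    change Finsupp.mapDomain _ x - Finsupp.mapDomain _ x = 0 at hx
    rw [sub_eq_zero] at hx
    have hid : Finsupp.mapDomain (fun p : ULift.{u + 1} (T ⟶ Z) => (⟨p.down ≫ 𝟙 Z⟩ : ULift.{u + 1} (T ⟶ Z))) x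
        = x := by
      rw [show (fun p : ULift.{u + 1} (T ⟶ Z) => (⟨p.down ≫ 𝟙 Z⟩ : ULift.{u + 1} (T ⟶ Z))) = id from
        funext fun p => ULift.ext _ _ (Category.comp_id _), Finsupp.mapDomain_id]
    rw [hid] at hx
    have hinj : Function.Injective
        (fun p : ULift.{u + 1} (T ⟶ Z) => (⟨p.down ≫ C.σ⟩ : ULift.{u + 1} (T ⟶ Z))) := by
      intro p q e
      have e' : p.down ≫ C.σ = q.down ≫ C.σ := congrArg ULift.down e
      have hn : C.σ ≫ spow C.σ (C.n - 1) = 𝟙 Z := by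
        rw [C.spow_comp_σ, Nat.sub_add_cancel C.npos, C.period]
      refine ULift.ext _ _ ?_
      rw [← Category.comp_id p.down, ← Category.comp_id q.down, ← hn, reassoc_of% e']
    have hstep : ∀ p : ULift.{u + 1} (T ⟶ Z), x ⟨p.down ≫ C.σ⟩ = x p := fun p => by
      conv_lhs => rw [hx]
      exact Finsupp.mapDomain_apply hinj x p
    have hall : ∀ (p : ULift.{u + 1} (T ⟶ Z)) (i : ℕ), x ⟨p.down ≫ spow C.σ i⟩ = x p := by
      intro p i
      induction i with
      | zero => simp [spow]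
      | succ i ih => exact Eq.trans (by simp [spow]) ((hstep ⟨p.down ≫ spow C.σ i⟩).trans ih)
    refine C.orbit_criterion I s hT x fun p _ => ?_
    simp only [hall, ← Finset.smul_sum, ← res_res I p.down]
    rw [← map_sum]
    change x p • res I p.down (C.nsum I s) = 0
    rw [hs, map_zero, smul_zero]
  refine ⟨(β.app (op Z)).hom (Finsupp.single (⟨𝟙 Z⟩ : ULift.{u + 1} (Z ⟶ Z)) 1), ?_⟩
  have h := ConcreteCategory.congr_hom (NatTrans.congr_app hβ (op Z))
    (Finsupp.single (⟨𝟙 Z⟩ : ULift.{u + 1} (Z ⟶ Z)) 1)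
  change (β.app (op Z)).hom (((push (𝟙 Z)).app (op Z)).hom _ - ((push C.σ).app (op Z)).hom _) =
    evalAt I s Z _ at h
  rw [map_sub, push_single, push_single, evalAt_single, one_zsmul, res_id] at h
  simp only [Category.id_comp] at h
  rwa [app_eq_res β C.σ] at h

/-- norms onto invariant sections of injectives are surjective -/
theorem exists_nsum_eq {I : EtCoh.Ab X} [Injective I] (y : EtCoh.sect I Z)
    (hy : res I C.σ y = y) : ∃ w : EtCoh.sect I Z, C.nsum I w = y := by
  classical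
  obtain ⟨β, hβ⟩ := exists_extend (∑ i ∈ Finset.range C.n, push (spow C.σ i)) (evalNat I y) fun T x hx => by
    by_cases hT : Nonempty T.left
    swap
    · exact sect_eq_zero_of_empty I hT _
    have hyi : ∀ i, res I (spow C.σ i) y = y := by
      intro i
      induction i with
      | zero => exact res_id I y
      | succ i ih => rw [spow, ← res_res, hy, ih]
    refine C.orbit_criterion I y hT x fun p _ => ?_
    simp only [← res_res I p.down, hyi, ← Finset.sum_smul]
    have hx' : ∑ i ∈ Finset.range C.n, Finsupp.mapDomain (M := ℤ)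
        (fun q : ULift.{u + 1} (T ⟶ Z) => (⟨q.down ≫ spow C.σ i⟩ : ULift.{u + 1} (T ⟶ Z))) x = 0 :=
      (sum_app_apply (Finset.range C.n) (fun i => push (spow C.σ i)) T x).symm.trans hx
    have hp := DFunLike.congr_fun hx' p
    rw [Finsupp.zero_apply, Finsupp.finsetSum_apply] at hp
    suffices h : ∑ i ∈ Finset.range C.n, x ⟨p.down ≫ spow C.σ i⟩ = 0 by rw [h, zero_smul]
    refine Eq.trans ?_ hp
    -- reindex the orbit by inverses
    have key : ∀ i ∈ Finset.range C.n, Finsupp.mapDomain (M := ℤ)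
        (fun q : ULift.{u + 1} (T ⟶ Z) => (⟨q.down ≫ spow C.σ i⟩ : ULift.{u + 1} (T ⟶ Z))) x p =
        x ⟨p.down ≫ spow C.σ ((C.n - i) % C.n)⟩ := by
      intro i hi
      have hi' := Finset.mem_range.1 hi
      let e : ULift.{u + 1} (T ⟶ Z) → ULift.{u + 1} (T ⟶ Z) := fun q => ⟨q.down ≫ spow C.σ i⟩
      have h1 : spow C.σ (C.n - i) ≫ spow C.σ i = 𝟙 Z := by
        rw [← spow_add, Nat.sub_add_cancel hi'.le, C.period]
      have h2 : spow C.σ i ≫ spow C.σ (C.n - i) = 𝟙 Z := by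
        rw [← spow_add, Nat.add_sub_cancel' hi'.le, C.period]
      have hinj : Function.Injective e := by
        intro q q' ee
        have e' : q.down ≫ spow C.σ i = q'.down ≫ spow C.σ i := congrArg ULift.down ee
        refine ULift.ext _ _ ?_
        rw [← Category.comp_id q.down, ← Category.comp_id q'.down, ← h2, reassoc_of% e']
      have hp' : p = e ⟨p.down ≫ spow C.σ ((C.n - i) % C.n)⟩ := ULift.ext _ _ (by
        simp [e, ← C.spow_mod, h1])
      change Finsupp.mapDomain e x p = _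
      conv_lhs => rw [hp']
      exact Finsupp.mapDomain_apply hinj x _
    rw [Finset.sum_congr rfl key]
    refine Finset.sum_nbij' (fun i => (C.n - i) % C.n) (fun i => (C.n - i) % C.n) ?_ ?_ ?_ ?_ ?_
    all_goals intro i hi
    all_goals have hi' := Finset.mem_range.1 hi
    · exact Finset.mem_range.2 (Nat.mod_lt _ C.npos)
    · exact Finset.mem_range.2 (Nat.mod_lt _ C.npos)
    · show (C.n - (C.n - i) % C.n) % C.n = i
      rcases Nat.eq_zero_or_pos i with rfl | h0
      · simp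
      · rw [Nat.mod_eq_of_lt (by omega : C.n - i < C.n), Nat.mod_eq_of_lt (by omega : C.n - (C.n - i) < C.n)]
        omega
    · show (C.n - (C.n - i) % C.n) % C.n = i
      rcases Nat.eq_zero_or_pos i with rfl | h0
      · simp
      · rw [Nat.mod_eq_of_lt (by omega : C.n - i < C.n), Nat.mod_eq_of_lt (by omega : C.n - (C.n - i) < C.n)]
        omega
    · show _ = x ⟨p.down ≫ spow C.σ ((C.n - (C.n - i) % C.n) % C.n)⟩
      congr 4
      rcases Nat.eq_zero_or_pos i with rfl | h0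
      · simp
      · rw [Nat.mod_eq_of_lt (by omega : C.n - i < C.n), Nat.mod_eq_of_lt (by omega : C.n - (C.n - i) < C.n)]
        omega
  refine ⟨(β.app (op Z)).hom (Finsupp.single (⟨𝟙 Z⟩ : ULift.{u + 1} (Z ⟶ Z)) 1), ?_⟩
  have h := ConcreteCategory.congr_hom (NatTrans.congr_app hβ (op Z))
    (Finsupp.single (⟨𝟙 Z⟩ : ULift.{u + 1} (Z ⟶ Z)) 1)
  change (β.app (op Z)).hom (((∑ i ∈ Finset.range C.n, push (spow C.σ i)).app (op Z)).hom _) =
    evalAt I y Z _ at h
  erw [sum_app_apply, map_sum] at h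
  rw [evalAt_single, one_zsmul, res_id] at h
  refine Eq.trans ?_ h
  refine Finset.sum_congr rfl fun i _ => ?_
  rw [push_single]
  simp only [Category.id_comp]
  exact (app_eq_res β (spow C.σ i)).symm

/-! ### exactness -/

theorem exact_of_injective_test {A B D : EtCoh.Ab X} (f : A ⟶ B) (g : B ⟶ D) (w : f ≫ g = 0)
    (h : ∀ (I : EtCoh.Ab X) [Injective I] (φ : B ⟶ I), f ≫ φ = 0 → ∃ ψ : D ⟶ I, g ≫ ψ = φ) :
    (ShortComplex.mk f g w).Exact := by
  rw [ShortComplex.exact_iff_mono_cokernel_desc]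
  obtain ⟨⟨J, hJ, j, hj⟩⟩ := EnoughInjectives.presentation (cokernel f)
  haveI := hJ
  haveI := hj
  obtain ⟨ψ, hψ⟩ := h J (cokernel.π f ≫ j) (by rw [cokernel.condition_assoc, zero_comp])
  have e : cokernel.desc f g w ≫ ψ = j := by
    apply coequalizer.hom_ext
    rw [cokernel.π_desc_assoc, hψ]
  exact mono_of_mono_fac e

theorem exact_middle : (ShortComplex.mk C.dif ((EtMV.P X).map C.π) C.dif_π).Exact := by
  refine exact_of_injective_test _ _ _ fun I _ φ hφ => ?_
  rw [eq_zero_iff, C.σ_dif, sub_eq_zero] at hφ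
  have hinv : ∀ k, res I (spow C.σ k) (EtMV.σ φ) = EtMV.σ φ := by
    intro k
    induction k with
    | zero => exact res_id I _
    | succ k ih => rw [spow, ← res_res, ← hφ, ih]
  obtain ⟨t, ht⟩ := GalCohLib.exists_descend_rel I C.π C.surj (EtMV.σ φ)
    fun p q h => C.res_eq_of_invariant I _ hinv p q h
  refine ⟨EtMV.σ.symm t, EtMV.σ.injective ?_⟩
  rw [EtMV.σ_map, Equiv.apply_symm_apply]
  exact ht

theorem exact_left : (ShortComplex.mk C.tr C.dif C.tr_dif).Exact := by
  refine exact_of_injective_test _ _ _ fun I _ φ hφ => ?_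
  rw [eq_zero_iff] at hφ
  have h : C.nsum I (EtMV.σ φ) = 0 := by rw [← C.res_π_σ_tr, hφ, map_zero]
  obtain ⟨w, hw⟩ := C.exists_sub_eq (EtMV.σ φ) h
  refine ⟨EtMV.σ.symm w, EtMV.σ.injective ?_⟩
  rw [C.σ_dif, Equiv.apply_symm_apply, hw]

theorem mono_tr : Mono C.tr := by
  obtain ⟨⟨J, hJ, j, hj⟩⟩ := EnoughInjectives.presentation ((EtMV.P X).obj Y)
  haveI := hJ
  haveI := hj
  obtain ⟨w, hw⟩ := C.exists_nsum_eq (res J C.π (EtMV.σ j)) (by rw [res_res, C.σπ])
  have e : C.tr ≫ EtMV.σ.symm w = j := by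
    apply EtMV.σ.injective
    apply C.res_π_injective
    rw [C.res_π_σ_tr, Equiv.apply_symm_apply, hw]
  exact mono_of_mono_fac e

/-- **the step lemma**: a class killed on the covering vanishes if the covering has no classes one
degree below and norms are surjective two degrees below. -/
theorem eq_zero_of_restrict (F : EtCoh.Ab X) {m : ℕ}
    (hvan : ∀ b : Ext ((EtMV.P X).obj Z) F (m + 1), b = 0)
    (hsurj : ∀ a : Ext ((EtMV.P X).obj Y) F m, ∃ z : Ext ((EtMV.P X).obj Z) F m,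
      (Ext.mk₀ C.tr).comp z (zero_add m) = a)
    (c : Ext ((EtMV.P X).obj Y) F (m + 2))
    (hc : (Ext.mk₀ ((EtMV.P X).map C.π)).comp c (zero_add _) = 0) : c = 0 := by
  let π' := (EtMV.P X).map C.π
  let K := kernel π'
  let g : (EtMV.P X).obj Z ⟶ K := kernel.lift π' C.dif C.dif_π
  haveI : Epi g := C.exact_middle.epi_kernelLift
  haveI := C.epi_π
  haveI := C.mono_tr
  have wg : C.tr ≫ g = 0 := by
    rw [← cancel_mono (kernel.ι π'), Category.assoc, kernel.lift_ι, zero_comp, C.tr_dif]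
  have hS2ex : (ShortComplex.mk C.tr g wg).Exact := by
    refine exact_of_injective_test _ _ _ fun I _ φ hφ => ?_
    obtain ⟨ψ, hψ⟩ := (⟨C.exact_left.descToInjective φ hφ, C.exact_left.comp_descToInjective φ hφ⟩ : ∃ ψ, C.dif ≫ ψ = φ)
    exact ⟨kernel.ι π' ≫ ψ, by rw [kernel.lift_ι_assoc]; exact hψ⟩
  have hS2 : (ShortComplex.mk C.tr g wg).ShortExact := { exact := hS2ex }
  have hS1 : (ShortComplex.mk (kernel.ι π') π' (kernel.condition π')).ShortExact :=
    { exact := ShortComplex.exact_of_f_is_kernel _ (kernelIsKernel π') }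
  obtain ⟨b, hb⟩ := Ext.contravariant_sequence_exact₃ hS1 F c hc
    (n₀ := m + 1) (by omega)
  obtain ⟨a, ha⟩ := Ext.contravariant_sequence_exact₃ hS2 F b (hvan _) (n₀ := m) (by omega)
  obtain ⟨z, hz⟩ := hsurj a
  subst hz
  rw [← ha, hS2.extClass_comp_assoc] at hb
  simpa using hb.symm

end CycCover

end Groth.Agent.EtPBC
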