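import Groth.Agent.EtPBC.PStalk
import Groth.Agent.EtPBC.CdDev
import Groth.Agent.GalCohLib.RelTransfer

/-!
# The two short exact sequences of free sheaves attached to a finite cyclic extension

For `M/k` finite cyclic with generator `g` these are `P(M) → P(M) → P(k) → 0` and `0 → P(k) → P(M) → P(M)`,
the middle maps being `g - 1`.
-/

set_option autoImplicit false
set_option backward.isDefEq.respectTransparency false
set_option backward.isDefEq.respectTransparency.types false
set_option linter.auxLemma false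
set_option linter.style.haveILetI false

universe u

open CategoryTheory CategoryTheory.Limits AlgebraicGeometry Opposite
open Groth.Agent.GalCohLib (pt ptMap)

noncomputable section

namespace Groth.Agent.EtPBC.Cyclic

attribute [local instance 100000] EtCoh.H._proof_1 EtMV.hext
attribute [local instance 200000] EtMV.hextAb

variable (k : Type u) [Field k] (M : Type u) [Field M] [Algebra k M] [FiniteDimensional k M]
  [Algebra.IsSeparable k M]

/-- the trivial free sheaf -/
abbrev T₀ : EtCoh.Ab (Spec (CommRingCat.of k)) := (EtMV.P _).obj (EtCoh.top (Spec (CommRingCat.of k)))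

/-- the induced free sheaf -/
abbrev Q₀ : EtCoh.Ab (Spec (CommRingCat.of k)) := (EtMV.P _).obj (pt k M)

/-- the augmentation -/
def aug : Q₀ k M ⟶ T₀ k := (EtMV.P _).map (EtMV.toTop (pt k M))

/-- the action of an automorphism on the point -/
def act (g : M ≃ₐ[k] M) : pt k M ⟶ pt k M :=
  MorphismProperty.Over.homMk (Spec.map (CommRingCat.ofHom g.toAlgHom.toRingHom)) (by
    show Spec.map _ ≫ Spec.map _ = Spec.map _
    rw [← Spec.map_comp]
    congr 1
    exact CommRingCat.hom_ext (RingHom.ext fun x => g.commutes x))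

theorem act_mul (a b : M ≃ₐ[k] M) : act k M (a * b) = act k M a ≫ act k M b := by
  apply MorphismProperty.Over.Hom.ext
  rw [MorphismProperty.Comma.comp_left]
  show Spec.map _ = Spec.map _ ≫ Spec.map _
  rw [← Spec.map_comp]
  rfl

theorem act_one : act k M 1 = 𝟙 _ := by
  apply MorphismProperty.Over.Hom.ext
  show Spec.map _ = _
  exact Spec.map_id _

/-- `g - 1` -/
def diff (g : M ≃ₐ[k] M) : Q₀ k M ⟶ Q₀ k M := (EtMV.P _).map (act k M g) - 𝟙 _

theorem diff_aug (g : M ≃ₐ[k] M) : diff k M g ≫ aug k M = 0 := by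
  rw [diff, Preadditive.sub_comp, Category.id_comp, aug, ← Functor.map_comp,
    EtMV.hom_top_ext (act k M g ≫ EtMV.toTop (pt k M)) (EtMV.toTop (pt k M)), sub_self]

variable [IsGalois k M]

theorem exists_norm : ∃ N : T₀ k ⟶ Q₀ k M,
    EtFLC.res (Q₀ k M) (EtMV.toTop (pt k M)) (EtMV.σ N) =
      ∑ h : M ≃ₐ[k] M, EtFLC.res (Q₀ k M) (act k M h) (EtMV.uel (pt k M)) := by
  classical
  let X := Spec (CommRingCat.of k)
  let Z := pt k M
  let F := Q₀ k M
  let s : EtCoh.sect F Z := ∑ h, EtFLC.res F (act k M h) (EtMV.uel Z)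
  have hs : ∀ {T : X.Etale} (p q : T ⟶ Z), EtFLC.res F p s = EtFLC.res F q s := by
    intro T p q
    refine EtFLC.sect_ext F fun z => ?_
    let κ := T.left.residueField z
    obtain ⟨α, hα⟩ := Spec.map_surjective (T.left.fromSpecResidueField z ≫ p.left)
    obtain ⟨β, hβ⟩ := Spec.map_surjective (T.left.fromSpecResidueField z ≫ q.left)
    have hαβ : ∀ x : k, α.hom (algebraMap k M x) = β.hom (algebraMap k M x) := by
      have e : CommRingCat.ofHom (algebraMap k M) ≫ α = CommRingCat.ofHom (algebraMap k M) ≫ β := by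
        apply Spec.map_injective
        rw [Spec.map_comp, Spec.map_comp, hα, hβ, Category.assoc, Category.assoc]
        exact congrArg _ ((MorphismProperty.Over.w p).trans (MorphismProperty.Over.w q).symm)
      exact fun x => RingHom.congr_fun (congrArg CommRingCat.Hom.hom e) x
    letI : Algebra M κ := α.hom.toAlgebra
    letI : Algebra k κ := (α.hom.comp (algebraMap k M)).toAlgebra
    haveI : IsScalarTower k M κ := IsScalarTower.of_algebraMap_eq fun _ => rfl
    let β' : M →ₐ[k] κ := { β.hom with commutes' := fun x => (hαβ x).symm }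
    let g := β'.restrictNormal' M
    have hg : ∀ x, α.hom (g x) = β.hom x := fun x => β'.restrictNormal_commutes M x
    have hpt : T.left.fromSpecResidueField z ≫ q.left =
        T.left.fromSpecResidueField z ≫ (p ≫ act k M g).left := by
      rw [MorphismProperty.Comma.comp_left]
      show _ = _ ≫ p.left ≫ Spec.map _
      rw [← hβ, ← Category.assoc, ← hα, ← Spec.map_comp]
      congr 1
      exact CommRingCat.hom_ext (RingHom.ext fun x => (hg x).symm)
    obtain ⟨T', j, w, hw, hj⟩ := Misc3.EtFieldTorsion.exists_nhd_eq q (p ≫ act k M g) z hpt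
    refine ⟨T', j, w, hw, ?_⟩
    rw [EtFLC.res_res, EtFLC.res_res, hj]
    simp only [s, map_sum, EtFLC.res_res]
    symm
    refine Fintype.sum_equiv (Equiv.mulLeft g) _ _ fun e => ?_
    simp only [Equiv.coe_mulLeft, act_mul]
    rw [EtFLC.res_res, EtFLC.res_res]
    simp only [Category.assoc]
  obtain ⟨t, ht⟩ := Misc3.EtTransfer.exists_descend F Z (fun x =>
    ⟨(default : ↥(Spec (CommRingCat.of M))), @Subsingleton.elim ↥(Spec (CommRingCat.of k)) _ _ _⟩) s hs
  refine ⟨EtMV.σ.symm t, ?_⟩
  rw [Equiv.apply_symm_apply]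
  exact ht

/-- the norm element as a map -/
def norm : T₀ k ⟶ Q₀ k M := (exists_norm k M).choose

theorem norm_spec : EtFLC.res (Q₀ k M) (EtMV.toTop (pt k M)) (EtMV.σ (norm k M)) =
    ∑ h : M ≃ₐ[k] M, EtFLC.res (Q₀ k M) (act k M h) (EtMV.uel (pt k M)) :=
  (exists_norm k M).choose_spec

theorem σ_diff (g : M ≃ₐ[k] M) (φ : T₀ k ⟶ Q₀ k M) :
    EtMV.σ (φ ≫ diff k M g) = (diff k M g).hom.app (op _) (EtMV.σ φ) := EtMV.σ_comp _ _

variable {Ω : Type u} [Field Ω] [IsSepClosed Ω] (ξ : Spec (CommRingCat.of Ω) ⟶ Spec (CommRingCat.of k))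

/-- points of the fibre of `M` -/
abbrev Emb : Type u := PStalk.Fib ξ (pt k M)

/-- the right action on the points -/
def mv (v : Emb k M ξ) (g : M ≃ₐ[k] M) : Emb k M ξ := (Scheme.pointSmallEtale ξ).fiber.map (act k M g) v

theorem mv_mul (v : Emb k M ξ) (a b : M ≃ₐ[k] M) : mv k M ξ v (a * b) = mv k M ξ (mv k M ξ v a) b := by
  rw [mv, act_mul, Functor.map_comp]
  rfl

theorem mv_one (v : Emb k M ξ) : mv k M ξ v 1 = v := by
  rw [mv, act_one, CategoryTheory.Functor.map_id]
  rfl

theorem mv_bijective (v : Emb k M ξ) : Function.Bijective (mv k M ξ v) := by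
  obtain ⟨α, hα⟩ := Spec.map_surjective v.left
  constructor
  · intro a b h
    have h' : v.left ≫ (act k M a).left = v.left ≫ (act k M b).left := congrArg CommaMorphism.left h
    rw [← hα] at h'
    change _ ≫ Spec.map _ = _ ≫ Spec.map _ at h'
    rw [← Spec.map_comp, ← Spec.map_comp] at h'
    refine AlgEquiv.ext fun x => α.hom.injective ?_
    exact RingHom.congr_fun (congrArg CommRingCat.Hom.hom (Spec.map_injective h')) x
  · intro w
    obtain ⟨β, hβ⟩ := Spec.map_surjective w.left
    have hαβ : ∀ x : k, α.hom (algebraMap k M x) = β.hom (algebraMap k M x) := by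
      have e : CommRingCat.ofHom (algebraMap k M) ≫ α = CommRingCat.ofHom (algebraMap k M) ≫ β := by
        apply Spec.map_injective
        rw [Spec.map_comp, Spec.map_comp, hα, hβ]
        exact (Over.w v).trans (Over.w w).symm
      exact fun x => RingHom.congr_fun (congrArg CommRingCat.Hom.hom e) x
    letI : Algebra M Ω := α.hom.toAlgebra
    letI : Algebra k Ω := (α.hom.comp (algebraMap k M)).toAlgebra
    haveI : IsScalarTower k M Ω := IsScalarTower.of_algebraMap_eq fun _ => rfl
    let β' : M →ₐ[k] Ω := { β.hom with commutes' := fun x => (hαβ x).symm }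
    let g := β'.restrictNormal' M
    have hg : ∀ x, α.hom (g x) = β.hom x := fun x => β'.restrictNormal_commutes M x
    refine ⟨g, ?_⟩
    apply Over.OverMorphism.ext
    show v.left ≫ (act k M g).left = w.left
    rw [← hα, ← hβ]
    change Spec.map _ ≫ Spec.map _ = _
    rw [← Spec.map_comp]
    congr 1
    exact CommRingCat.hom_ext (RingHom.ext hg)

theorem nonempty_emb : Nonempty (Emb k M ξ) :=
  let ⟨v, _⟩ := exists_lift ξ (pt k M) (default : ↥(Spec (CommRingCat.of M)))
  ⟨v⟩

theorem stalk_act (g : M ≃ₐ[k] M) (v : Emb k M ξ) :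
    (EtCoh.stalk ξ).map ((EtMV.P _).map (act k M g)) (PStalk.gen ξ _ v) = PStalk.gen ξ _ (mv k M ξ v g) :=
  PStalk.gen_map ξ _ v

theorem stalk_diff (g : M ≃ₐ[k] M) (v : Emb k M ξ) :
    (EtCoh.stalk ξ).map (diff k M g) (PStalk.gen ξ _ v) =
      PStalk.gen ξ _ (mv k M ξ v g) - PStalk.gen ξ _ v := by
  haveI : (EtCoh.stalk ξ).Additive := Functor.additive_of_preserves_binary_products _
  rw [diff, Functor.map_sub, CategoryTheory.Functor.map_id, ← stalk_act]
  rfl

theorem stalk_norm (v : Emb k M ξ) (w : PStalk.Fib ξ (EtCoh.top (Spec (CommRingCat.of k)))) :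
    (EtCoh.stalk ξ).map (norm k M) (PStalk.gen ξ _ w) =
      ∑ h : M ≃ₐ[k] M, PStalk.gen ξ _ (mv k M ξ v h) := by
  haveI : Mono (EtCoh.top (Spec (CommRingCat.of k))).hom := inferInstanceAs (Mono (𝟙 _))
  have hw : w = (Scheme.pointSmallEtale ξ).fiber.map (EtMV.toTop (pt k M)) v :=
    @Subsingleton.elim _ ⟨fun a b => Over.OverMorphism.ext ((cancel_mono (EtCoh.top (Spec (CommRingCat.of k))).hom).1 ((Over.w a).trans (Over.w b).symm))⟩ _ _
  refine (GrothendieckTopology.Point.toPresheafFiber_naturality_apply (Scheme.pointSmallEtale ξ)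
    (norm k M).hom _ w (EtMV.uel _)).trans ?_
  rw [← EtMV.σ_eq, hw]
  refine (ConcreteCategory.congr_hom
    ((Scheme.pointSmallEtale ξ).toPresheafFiber_w (EtMV.toTop (pt k M)) v (Q₀ k M).obj)
    (EtMV.σ (norm k M))).symm.trans ?_
  show (Scheme.pointSmallEtale ξ).toPresheafFiber (pt k M) v (Q₀ k M).obj
    (EtFLC.res (Q₀ k M) (EtMV.toTop (pt k M)) (EtMV.σ (norm k M))) = _
  rw [norm_spec, map_sum]
  refine Finset.sum_congr rfl fun h _ => ?_
  exact ConcreteCategory.congr_hom
    ((Scheme.pointSmallEtale ξ).toPresheafFiber_w (act k M h) v (Q₀ k M).obj) (EtMV.uel _)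

end Groth.Agent.EtPBC.Cyclic
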