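import Mathlib

/-!
# A local equation for a section of a curve over a local base
-/

set_option autoImplicit false

universe u

open TensorProduct IsLocalRing

noncomputable section

namespace Groth.Agent.EtPBC

variable {k A R : Type u} [Field k] [CommRing A] [Algebra k A] [CommRing R] [Algebra k R]

/-- evaluation at a point with values in `R` -/
def evT (φ : A →ₐ[k] R) : A ⊗[k] R →ₐ[k] R := Algebra.TensorProduct.lift φ (AlgHom.id k R) fun _ _ => Commute.all _ _

@[simp] theorem evT_tmul (φ : A →ₐ[k] R) (a : A) (r : R) : evT φ (a ⊗ₜ[k] r) = φ a * r := rfl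

/-- the basic relation -/
def diffT (φ : A →ₐ[k] R) (a : A) : A ⊗[k] R := a ⊗ₜ[k] 1 - 1 ⊗ₜ[k] φ a

theorem diffT_mem (φ : A →ₐ[k] R) (a : A) : diffT φ a ∈ RingHom.ker (evT φ) := by
  simp [diffT, RingHom.mem_ker]

theorem sub_incl_mem (φ : A →ₐ[k] R) (s : Set A) (hs : Algebra.adjoin k s = ⊤) (b : A ⊗[k] R) :
    b - 1 ⊗ₜ[k] evT φ b ∈ Ideal.span (diffT φ '' s) := by
  let J := Ideal.span (diffT φ '' s)
  let ι : R →ₐ[k] A ⊗[k] R := Algebra.TensorProduct.includeRight
  have hA : ∀ a : A, diffT φ a ∈ J := by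
    intro a
    have ha : a ∈ Algebra.adjoin k s := hs ▸ Algebra.mem_top
    induction ha using Algebra.adjoin_induction with
    | mem x hx => exact Ideal.subset_span ⟨x, hx, rfl⟩
    | algebraMap r =>
      have : diffT φ (algebraMap k A r) = 0 := by
        rw [diffT, AlgHom.commutes, Algebra.algebraMap_eq_smul_one (A := A), Algebra.algebraMap_eq_smul_one (A := R),
          TensorProduct.smul_tmul, sub_self]
      rw [this]; exact J.zero_mem
    | add x y _ _ hx hy =>
      have : diffT φ (x + y) = diffT φ x + diffT φ y := by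
        simp only [diffT, map_add, TensorProduct.add_tmul, TensorProduct.tmul_add]; ring
      rw [this]; exact J.add_mem hx hy
    | mul x y _ _ hx hy =>
      have : diffT φ (x * y) = (x ⊗ₜ[k] (1 : R)) * diffT φ y + ((1 : A) ⊗ₜ[k] φ y) * diffT φ x := by
        simp only [diffT, map_mul, mul_sub, Algebra.TensorProduct.tmul_mul_tmul, one_mul, mul_one]
        rw [mul_comm (φ y) (φ x)]; ring
      rw [this]; exact J.add_mem (J.mul_mem_left _ hy) (J.mul_mem_left _ hx)
  induction b with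
  | zero => simp
  | tmul a r =>
    have : a ⊗ₜ[k] r - 1 ⊗ₜ[k] evT φ (a ⊗ₜ[k] r) = ((1 : A) ⊗ₜ[k] r) * diffT φ a := by
      simp only [diffT, evT_tmul, mul_sub, Algebra.TensorProduct.tmul_mul_tmul, one_mul, mul_one]
      rw [mul_comm (φ a) r]
    rw [this]; exact J.mul_mem_left _ (hA a)
  | add x y hx hy =>
    rw [map_add, TensorProduct.tmul_add, add_sub_add_comm]
    exact J.add_mem hx hy

theorem ker_evT (φ : A →ₐ[k] R) (s : Set A) (hs : Algebra.adjoin k s = ⊤) :
    RingHom.ker (evT φ) = Ideal.span (diffT φ '' s) := by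
  refine le_antisymm (fun b hb => ?_) (Ideal.span_le.2 ?_)
  · have := sub_incl_mem φ s hs b
    rwa [show evT φ b = 0 from hb, TensorProduct.tmul_zero, sub_zero] at this
  · rintro _ ⟨a, -, rfl⟩
    exact diffT_mem φ a

variable [IsLocalRing R]

/-- the closed point of the section -/
abbrev diagPt (φ : A →ₐ[k] R) : Ideal (A ⊗[k] R) := (maximalIdeal R).comap (evT φ)

instance (φ : A →ₐ[k] R) : (diagPt φ).IsPrime := Ideal.comap_isPrime _ _

/-- the ideal of the closed fibre -/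
theorem exists_sub_mem_map (hk : Function.Bijective (algebraMap k (ResidueField R))) (b : A ⊗[k] R) :
    ∃ a : A, b - a ⊗ₜ[k] 1 ∈ (maximalIdeal R).map (Algebra.TensorProduct.includeRight : R →ₐ[k] A ⊗[k] R) := by
  induction b with
  | zero => exact ⟨0, by simp⟩
  | tmul a r =>
    obtain ⟨c, hc⟩ := hk.2 (residue R r)
    refine ⟨c • a, ?_⟩
    have hm : r - algebraMap k R c ∈ maximalIdeal R := by
      rw [← residue_eq_zero_iff, map_sub, ← hc, sub_eq_zero]
      rfl
    have : a ⊗ₜ[k] r - (c • a) ⊗ₜ[k] (1 : R) = (a ⊗ₜ[k] (1 : R)) * ((1 : A) ⊗ₜ[k] (r - algebraMap k R c)) := by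
      rw [TensorProduct.tmul_sub, mul_sub, Algebra.TensorProduct.tmul_mul_tmul, Algebra.TensorProduct.tmul_mul_tmul,
        mul_one, one_mul, one_mul, TensorProduct.smul_tmul, Algebra.algebraMap_eq_smul_one]
    rw [this]
    exact Ideal.mul_mem_left _ _ (Ideal.mem_map_of_mem _ hm)
  | add x y hx hy =>
    obtain ⟨a, ha⟩ := hx
    obtain ⟨a', ha'⟩ := hy
    refine ⟨a + a', ?_⟩
    rw [TensorProduct.add_tmul, add_sub_add_comm]
    exact Ideal.add_mem _ ha ha'

/-- **the section is cut out by one equation near its closed point** -/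
theorem exists_diag_eq [Algebra.FiniteType k A] (φ : A →ₐ[k] R)
    (hk : Function.Bijective (algebraMap k (ResidueField R))) (t : A)
    (ht : residue R (φ t) = 0)
    (hmax : ∀ a : A, residue R (φ a) = 0 → ∃ u c : A, residue R (φ u) ≠ 0 ∧ u * a = c * t) :
    ∃ g : A ⊗[k] R, g ∉ diagPt φ ∧ ∃ f ∈ RingHom.ker (evT φ), ∀ x ∈ RingHom.ker (evT φ), ∃ y, g * x = y * f := by
  classical
  obtain ⟨s, hs⟩ := Algebra.FiniteType.out (R := k) (A := A)
  let I := RingHom.ker (evT φ)
  let B := A ⊗[k] R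
  let Q := Localization.AtPrime (diagPt φ)
  let f := diffT φ t
  let ι : R →ₐ[k] A ⊗[k] R := Algebra.TensorProduct.includeRight
  let M := (maximalIdeal R).map ι
  have hMP : M ≤ diagPt φ := by
    refine Ideal.map_le_iff_le_comap.2 fun r hr => ?_
    show evT φ (1 ⊗ₜ[k] r) ∈ maximalIdeal R
    simpa using hr
  have htP : t ⊗ₜ[k] (1 : R) ∈ Ideal.span {f} ⊔ M := by
    have : t ⊗ₜ[k] (1 : R) = f + ι (φ t) := by simp [f, diffT, ι]
    rw [this]
    exact Ideal.add_mem _ (Ideal.mem_sup_left (Ideal.mem_span_singleton_self f))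
      (Ideal.mem_sup_right (Ideal.mem_map_of_mem ι ((residue_eq_zero_iff _).1 ht)))
  have hMI : ∀ x ∈ M, x - ι (evT φ x) ∈ M * I := by
    intro x hx
    refine Submodule.span_induction ?_ ?_ ?_ ?_ hx
    · rintro _ ⟨r, hr, rfl⟩
      have : evT φ (ι r) = r := by simp [ι]
      rw [this, sub_self]; exact Ideal.zero_mem _
    · simp
    · intro a b _ _ ha hb
      rw [map_add, map_add, add_sub_add_comm]; exact Ideal.add_mem _ ha hb
    · intro c a ha' ha
      rw [smul_eq_mul, map_mul, map_mul,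
        show c * a - ι (evT φ c) * ι (evT φ a) = a * (c - ι (evT φ c)) + ι (evT φ c) * (a - ι (evT φ a)) by ring]
      refine Ideal.add_mem _ (Ideal.mul_mem_mul ha' ?_) (Ideal.mul_mem_left _ _ ha)
      show evT φ _ = 0
      simp [ι]
  have hkey : ∀ x ∈ I, ∃ u : B, u ∉ diagPt φ ∧ u * x ∈ Ideal.span {f} ⊔ M * I := by
    intro x hx
    obtain ⟨a, ha⟩ := exists_sub_mem_map hk x
    have hea : residue R (φ a) = 0 := by
      have h1 := hMP ha
      rw [Ideal.mem_comap, map_sub, show evT φ x = 0 from hx, zero_sub, evT_tmul, mul_one] at h1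
      exact (residue_eq_zero_iff _).2 (neg_mem_iff.1 h1)
    obtain ⟨u, c, hu, huc⟩ := hmax a hea
    have hua : (u ⊗ₜ[k] (1 : R)) * (a ⊗ₜ[k] 1) = (c ⊗ₜ[k] 1) * (t ⊗ₜ[k] 1) := by
      rw [Algebra.TensorProduct.tmul_mul_tmul, Algebra.TensorProduct.tmul_mul_tmul, huc]
    have hmem : (u ⊗ₜ[k] (1 : R)) * x ∈ Ideal.span {f} ⊔ M := by
      rw [show (u ⊗ₜ[k] (1 : R)) * x = (u ⊗ₜ[k] 1) * (x - a ⊗ₜ[k] 1) + (u ⊗ₜ[k] 1) * (a ⊗ₜ[k] 1) by ring, hua]
      exact Ideal.add_mem _ (Ideal.mem_sup_right (Ideal.mul_mem_left _ _ ha)) (Ideal.mul_mem_left _ _ htP)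
    refine ⟨u ⊗ₜ[k] 1, fun h => hu ?_, ?_⟩
    · rw [Ideal.mem_comap, evT_tmul, mul_one] at h
      exact (residue_eq_zero_iff _).2 h
    obtain ⟨p, hp, m, hm, hpm⟩ := Submodule.mem_sup.1 hmem
    obtain ⟨y, rfl⟩ := Ideal.mem_span_singleton'.1 hp
    have h0 : evT φ m = 0 := by
      have := congrArg (evT φ) hpm
      rwa [map_add, map_mul, show evT φ f = 0 from diffT_mem φ t, mul_zero, zero_add, map_mul,
        show evT φ x = 0 from hx, mul_zero] at this
    have := hMI m hm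
    rw [h0, map_zero, sub_zero] at this
    rw [← hpm]
    exact Ideal.add_mem _ (Ideal.mem_sup_left hp) (Ideal.mem_sup_right this)
  have hIfg : I.FG := ⟨s.image (diffT φ), by
    rw [show I = _ from ker_evT φ s hs, Finset.coe_image]⟩
  let iq := algebraMap B Q
  have hle : I.map iq ≤ (Ideal.span {f}).map iq ⊔ (M.map iq) * (I.map iq) := by
    refine Ideal.map_le_iff_le_comap.2 fun x hx => ?_
    obtain ⟨u, hu, hux⟩ := hkey x hx
    have hU : IsUnit (iq u) := IsLocalization.map_units Q (⟨u, hu⟩ : (diagPt φ).primeCompl)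
    have h1 : iq (u * x) ∈ (Ideal.span {f}).map iq ⊔ (M.map iq) * (I.map iq) := by
      rw [← Ideal.map_mul, ← Ideal.map_sup]
      exact Ideal.mem_map_of_mem _ hux
    rw [map_mul] at h1
    exact (Ideal.unit_mul_mem_iff_mem _ hU).1 h1
  have hnak : I.map iq ≤ (Ideal.span {f}).map iq := by
    refine Submodule.le_of_le_smul_of_le_jacobson_bot (I := M.map iq) (hIfg.map iq) ?_ hle
    rw [IsLocalRing.jacobson_eq_maximalIdeal _ bot_ne_top, ← Localization.AtPrime.map_eq_maximalIdeal]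
    exact Ideal.map_mono hMP
  have hgen : ∀ a ∈ s, ∃ g : B, g ∉ diagPt φ ∧ ∃ y, g * diffT φ a = y * f := by
    intro a _
    have h1 := hnak (Ideal.mem_map_of_mem iq (diffT_mem φ a))
    obtain ⟨⟨⟨z, hz⟩, ⟨w, hw⟩⟩, hzw⟩ := (IsLocalization.mem_map_algebraMap_iff (diagPt φ).primeCompl Q).1 h1
    obtain ⟨y, rfl⟩ := Ideal.mem_span_singleton'.1 hz
    rw [← map_mul] at hzw
    obtain ⟨⟨v, hv⟩, hve⟩ := (IsLocalization.eq_iff_exists (diagPt φ).primeCompl Q).1 hzw
    refine ⟨v * w, fun h => ((inferInstance : (diagPt φ).IsPrime).mem_or_mem h).elim hv hw, v * y, ?_⟩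
    change v * (diffT φ a * w) = v * (y * f) at hve
    rw [show v * w * diffT φ a = v * (diffT φ a * w) by ring, hve, mul_assoc]
  choose gs hgs ys hys using hgen
  let g := ∏ a ∈ s.attach, gs a.1 a.2
  refine ⟨g, ?_, f, diffT_mem φ t, fun x hx => ?_⟩
  · exact fun h => by
      obtain ⟨a, -, ha⟩ := ((inferInstance : (diagPt φ).IsPrime).prod_mem_iff).1 h
      exact hgs a.1 a.2 ha
  have hx' : x ∈ Ideal.span (diffT φ '' (s : Set A)) := ker_evT φ s hs ▸ hx
  suffices h : g * x ∈ Ideal.span {f} by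
    obtain ⟨y, hy⟩ := Ideal.mem_span_singleton'.1 h
    exact ⟨y, hy.symm⟩
  refine Submodule.span_induction ?_ ?_ ?_ ?_ hx'
  · rintro _ ⟨a, ha, rfl⟩
    rw [show g = gs a ha * _ from (Finset.mul_prod_erase s.attach (fun a => gs a.1 a.2) (Finset.mem_attach s ⟨a, ha⟩)).symm,
      mul_comm (gs a ha) _, mul_assoc, hys a ha]
    exact Ideal.mul_mem_left _ _ (Ideal.mul_mem_left _ _ (Ideal.mem_span_singleton_self f))
  · simp
  · intro a b _ _ ha hb
    rw [mul_add]; exact Ideal.add_mem _ ha hb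
  · intro c a _ ha
    rw [smul_eq_mul, mul_left_comm]; exact Ideal.mul_mem_left _ _ ha

/-- on a field valued point the equation generates the maximal ideal -/
theorem span_map_eq (φ : A →ₐ[k] R) {L : Type u} [Field L] [Algebra k L] (ψ : R →ₐ[k] L)
    [Algebra.FiniteType k A] {g f : A ⊗[k] R} (hg : g ∉ diagPt φ) (hf : f ∈ RingHom.ker (evT φ))
    (h : ∀ x ∈ RingHom.ker (evT φ), ∃ y, g * x = y * f) :
    let μ := Algebra.TensorProduct.map (AlgHom.id k A) ψ
    evT (ψ.comp φ) (μ g) ≠ 0 ∧ evT (ψ.comp φ) (μ f) = 0 ∧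
      ∀ x ∈ RingHom.ker (evT (ψ.comp φ)), ∃ y, μ g * x = y * μ f := by
  intro μ
  have hμ : ∀ b, evT (ψ.comp φ) (μ b) = ψ (evT φ b) := fun b => by
    induction b with
    | zero => simp
    | tmul a r => simp [μ]
    | add x y hx hy => simp [hx, hy]
  refine ⟨?_, by rw [hμ, show evT φ f = 0 from hf, map_zero], fun x hx => ?_⟩
  · rw [hμ]
    exact ((IsLocalRing.notMem_maximalIdeal.1 hg).map ψ).ne_zero
  obtain ⟨s, hs⟩ := Algebra.FiniteType.out (R := k) (A := A)
  have hx' : x ∈ Ideal.span (diffT (ψ.comp φ) '' (s : Set A)) := ker_evT (ψ.comp φ) s hs ▸ hx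
  suffices h' : μ g * x ∈ Ideal.span {μ f} by
    obtain ⟨y, hy⟩ := Ideal.mem_span_singleton'.1 h'
    exact ⟨y, hy.symm⟩
  refine Submodule.span_induction ?_ ?_ ?_ ?_ hx'
  · rintro _ ⟨a, ha, rfl⟩
    obtain ⟨y, hy⟩ := h _ (diffT_mem φ a)
    rw [show diffT (ψ.comp φ) a = μ (diffT φ a) by simp [diffT, μ], ← map_mul, hy, map_mul]
    exact Ideal.mul_mem_left _ _ (Ideal.mem_span_singleton_self _)
  · simp
  · intro a b _ _ ha hb
    rw [mul_add]; exact Ideal.add_mem _ ha hb
  · intro c a _ ha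
    rw [smul_eq_mul, mul_left_comm]; exact Ideal.mul_mem_left _ _ ha

end Groth.Agent.EtPBC
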