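import Groth.Agent.EtPBC.DivClass
import Groth.Agent.EtPBC.DiagRing
import Mathlib

/-!
# The class of a section of a constant family of curves over a local base
-/

set_option autoImplicit false
set_option backward.isDefEq.respectTransparency false
set_option backward.isDefEq.respectTransparency.types false
set_option linter.auxLemma false
set_option linter.style.haveILetI false
set_option linter.unusedSectionVars false
set_option maxHeartbeats 1000000

universe u

open CategoryTheory CategoryTheory.Limits AlgebraicGeometry Opposite TensorProduct IsLocalRing TopologicalSpace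

noncomputable section

namespace Groth.Agent.EtPBC

/-- a local equation of a point generating its maximal ideal -/
def DivDat.GenAt {X : Scheme.{u}} {V U : X.Opens} (D : DivDat X V U) (x : X) : Prop :=
  ∃ hx : x ∈ U, maximalIdeal (X.presheaf.stalk x) = Ideal.span {X.presheaf.germ U x hx D.a}

/-- **the class of a point does not depend on the equation** -/
theorem DivDat.cls_eq_of_genAt {X : Scheme.{u}} {x : X} (hx : IsClosed ({x} : Set X)) {V V' U U' : X.Opens}
    (hV : V = compl₁ hx) (hV' : V' = compl₁ hx) (D : DivDat X V U) (E : DivDat X V' U') (hD : D.GenAt x)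
    (hE : E.GenAt x) : E.cls = D.cls := by
  subst hV hV'
  obtain ⟨hxU, hD⟩ := hD
  obtain ⟨hxU', hE⟩ := hE
  let a := X.presheaf.germ U x hxU D.a
  let b := X.presheaf.germ U' x hxU' E.a
  obtain ⟨v, hv, hvb⟩ : ∃ v : X.presheaf.stalk x, IsUnit v ∧ b = v * a := by
    obtain ⟨p, hp⟩ := Ideal.mem_span_singleton'.1 (show b ∈ Ideal.span {a} by
      rw [← hD, hE]; exact Ideal.mem_span_singleton_self _)
    obtain ⟨q, hq⟩ := Ideal.mem_span_singleton'.1 (show a ∈ Ideal.span {b} by
      rw [← hE, hD]; exact Ideal.mem_span_singleton_self _)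
    by_cases hpu : IsUnit p
    · exact ⟨p, hpu, hp.symm⟩
    have h1 : IsUnit (1 - q * p) := IsLocalRing.isUnit_one_sub_self_of_mem_nonunits _
      (show ¬ IsUnit (q * p) from fun h => hpu (isUnit_of_mul_isUnit_right h))
    have ha : a = 0 := by
      refine h1.mul_right_eq_zero.1 ?_
      rw [sub_mul, one_mul, mul_assoc, hp, hq, sub_self]
    refine ⟨1, isUnit_one, ?_⟩
    rw [← hp, ha, mul_zero, one_mul]
  obtain ⟨W, hxW, v', rfl⟩ := X.presheaf.germ_exist v
  have hxv : x ∈ X.basicOpen v' := (X.mem_basicOpen _ _ hxW).2 hv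
  have e0 : X.presheaf.germ (U' ⊓ (U ⊓ W)) x ⟨hxU', hxU, hxW⟩ (X.presheaf.map (homOfLE inf_le_left).op E.a) =
      X.presheaf.germ (U' ⊓ (U ⊓ W)) x ⟨hxU', hxU, hxW⟩ (X.presheaf.map (homOfLE (inf_le_right.trans inf_le_right)).op v' *
        X.presheaf.map (homOfLE (inf_le_right.trans inf_le_left)).op D.a) := by
    rw [map_mul, X.presheaf.germ_res_apply, X.presheaf.germ_res_apply, X.presheaf.germ_res_apply]
    exact hvb
  obtain ⟨W', hxW', i₁, i₂, hW'⟩ := X.presheaf.germ_eq x _ _ _ _ e0
  let U'' := X.basicOpen v' ⊓ W'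
  have hU'' : U'' ≤ U' ⊓ (U ⊓ W) := inf_le_right.trans i₁.le
  have hc := compl₁_cover hx (show x ∈ U'' from ⟨hxv, hxW'⟩)
  rw [← E.cls_restrict le_rfl (hU''.trans inf_le_left) hc,
    ← D.cls_restrict le_rfl (hU''.trans (inf_le_right.trans inf_le_left)) hc]
  refine DivDat.cls_eq_of_unit _ _
    (v := X.presheaf.map (homOfLE (hU''.trans (inf_le_right.trans inf_le_right))).op v') ?_ ?_
  · rw [show homOfLE (hU''.trans (inf_le_right.trans inf_le_right)) =
      homOfLE (inf_le_left : U'' ≤ X.basicOpen v') ≫ homOfLE (X.basicOpen_le v') from rfl, op_comp, Functor.map_comp,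
      ConcreteCategory.comp_apply]
    exact (AlgebraicGeometry.RingedSpace.isUnit_res_basicOpen X.toSheafedSpace v').map _
  · have h := congrArg (X.presheaf.map (homOfLE (inf_le_right : U'' ≤ W')).op) hW'
    rw [map_mul, map_mul] at h
    simp only [← ConcreteCategory.comp_apply, ← Functor.map_comp] at h
    exact h

variable {k : Type u} [Field k] {X : Scheme.{u}} (c : X ⟶ Spec (CommRingCat.of k))
variable {A : Type u} [CommRing A] [Algebra k A] (e : Spec (CommRingCat.of A) ⟶ X) [IsOpenImmersion e]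
  (he : e ≫ c = Spec.map (CommRingCat.ofHom (algebraMap k A)))
variable {R : Type u} [CommRing R] [Algebra k R]
include he

omit he in
theorem evT_comp_includeRight {A R : Type u} [CommRing A] [Algebra k A] [CommRing R] [Algebra k R] (φ : A →ₐ[k] R) :
    (evT φ).comp (Algebra.TensorProduct.includeRight : R →ₐ[k] A ⊗[k] R) = AlgHom.id k R :=
  AlgHom.ext fun r => by simp

/-- the section -/
def secT (φ : A →ₐ[k] R) : Spec (CommRingCat.of R) ⟶ pullback c (Spec.map (CommRingCat.ofHom (algebraMap k R))) :=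
  pullback.lift (Spec.map (CommRingCat.ofHom φ.toRingHom) ≫ e) (𝟙 _) (by
    rw [Category.assoc, he, ← Spec.map_comp, Category.id_comp]
    exact congrArg Spec.map (CommRingCat.hom_ext φ.comp_algebraMap))

/-- the chart -/
def chartT : Spec (CommRingCat.of (A ⊗[k] R)) ⟶ pullback c (Spec.map (CommRingCat.ofHom (algebraMap k R))) :=
  pullback.lift (Spec.map (CommRingCat.ofHom (algebraMap A (A ⊗[k] R))) ≫ e)
    (Spec.map (CommRingCat.ofHom (Algebra.TensorProduct.includeRight : R →ₐ[k] A ⊗[k] R).toRingHom)) (by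
    rw [Category.assoc, he, ← Spec.map_comp, ← Spec.map_comp]
    exact congrArg Spec.map (CommRingCat.hom_ext (RingHom.ext fun r => by
      simp [Algebra.algebraMap_eq_smul_one, TensorProduct.smul_tmul])))

theorem isPullback_chartT :
    IsPullback (chartT c e he (R := R)) (Spec.map (CommRingCat.ofHom (algebraMap A (A ⊗[k] R))))
      (pullback.fst c (Spec.map (CommRingCat.ofHom (algebraMap k R)))) e := by
  refine IsPullback.of_right ?_ (pullback.lift_fst _ _ _)
    (IsPullback.of_hasPullback c (Spec.map (CommRingCat.ofHom (algebraMap k R)))).flip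
  rw [show chartT c e he (R := R) ≫ pullback.snd c _ = _ from pullback.lift_snd _ _ _, he]
  exact (isPullback_SpecMap_of_isPushout _ _ _ _ (CommRingCat.isPushout_tensorProduct k A R)).flip

theorem isOpenImmersion_chartT : IsOpenImmersion (chartT c e he (R := R)) :=
  MorphismProperty.of_isPullback (P := @IsOpenImmersion) (isPullback_chartT c e he).flip ‹_›

theorem secT_eq (φ : A →ₐ[k] R) :
    Spec.map (CommRingCat.ofHom (evT φ).toRingHom) ≫ chartT c e he = secT c e he φ := by
  apply pullback.hom_ext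
  · rw [Category.assoc, chartT, pullback.lift_fst, secT, pullback.lift_fst, ← Category.assoc, ← Spec.map_comp]
    exact congrArg (fun h => Spec.map h ≫ e) (CommRingCat.hom_ext (RingHom.ext fun a => by
      simp [Algebra.TensorProduct.algebraMap_apply]))
  · rw [Category.assoc, chartT, pullback.lift_snd, secT, pullback.lift_snd, ← Spec.map_comp, ← Spec.map_id]
    exact congrArg Spec.map (CommRingCat.hom_ext (RingHom.ext fun r => by simp))

/-- **local equation of a section with its specialisations** -/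
theorem exists_diag_dat [IsSeparated c] [IsLocalRing R] [Algebra.FiniteType k A] (φ : A →ₐ[k] R)
    (hk : Function.Bijective (algebraMap k (ResidueField R))) (t : A) (ht : residue R (φ t) = 0)
    (hmax : ∀ a : A, residue R (φ a) = 0 → ∃ u c' : A, residue R (φ u) ≠ 0 ∧ u * a = c' * t) :
    ∃ (V U : (pullback c (Spec.map (CommRingCat.ofHom (algebraMap k R)))).Opens) (D : DivDat _ V U),
      ∀ {L : Type u} [Field L] [Algebra k L] (ψ : R →ₐ[k] L)
        (i : pullback c (Spec.map (CommRingCat.ofHom (algebraMap k L))) ⟶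
          pullback c (Spec.map (CommRingCat.ofHom (algebraMap k R)))),
        i ≫ pullback.fst _ _ = pullback.fst _ _ →
        i ≫ pullback.snd _ _ = pullback.snd _ _ ≫ Spec.map (CommRingCat.ofHom ψ.toRingHom) →
        (D.pull i).GenAt (secT c e he (ψ.comp φ) default) ∧
          ((i ⁻¹ᵁ V : _) : Set _) = {secT c e he (ψ.comp φ) default}ᶜ := by
  obtain ⟨g, hg, f, hf, hgf⟩ := exists_diag_eq φ hk t ht hmax
  let P := pullback c (Spec.map (CommRingCat.ofHom (algebraMap k R)))
  let j := chartT c e he (R := R)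
  haveI := isOpenImmersion_chartT c e he (R := R)
  let σ := secT c e he φ
  haveI : IsClosedImmersion σ := by
    haveI : IsClosedImmersion (σ ≫ pullback.snd _ _) := by
      rw [show σ ≫ pullback.snd _ _ = 𝟙 _ from pullback.lift_snd _ _ _]; infer_instance
    exact IsClosedImmersion.of_comp σ (pullback.snd _ _)
  let D₀ : (Spec (CommRingCat.of (A ⊗[k] R))).Opens := PrimeSpectrum.basicOpen g
  let U : P.Opens := j ''ᵁ D₀
  let V : P.Opens := ⟨(Set.range σ)ᶜ, σ.isClosedEmbedding.isClosed_range.isOpen_compl⟩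
  let F := (Scheme.ΓSpecIso (CommRingCat.of (A ⊗[k] R))).inv f
  let a : Γ(P, U) := (j.appIso D₀).inv ((Spec (CommRingCat.of (A ⊗[k] R))).presheaf.map (homOfLE le_top).op F)
  have hgerm : ∀ (p : Spec (CommRingCat.of (A ⊗[k] R))) (hp : j p ∈ U),
      j.stalkMap p (P.presheaf.germ U (j p) hp a) = (Spec (CommRingCat.of (A ⊗[k] R))).presheaf.germ ⊤ p trivial F := by
    intro p hp
    rw [j.germ_stalkMap_apply U p hp]
    show (Spec (CommRingCat.of (A ⊗[k] R))).presheaf.germ _ p _ (((j.appIso D₀).inv ≫ j.app (j ''ᵁ D₀)) _) = _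
    rw [j.appIso_inv_app]
    exact ((Spec (CommRingCat.of (A ⊗[k] R))).presheaf.germ_res_apply _ _ _ _).trans
      ((Spec (CommRingCat.of (A ⊗[k] R))).presheaf.germ_res_apply _ _ _ _)
  have hσU : ∀ s, σ s ∈ U := fun s => by
    refine ⟨Spec.map (CommRingCat.ofHom (evT φ).toRingHom) s, ?_, congr($(secT_eq c e he φ) s)⟩
    exact fun h => s.isPrime.ne_top (Ideal.eq_top_of_isUnit_mem _ h (IsLocalRing.notMem_maximalIdeal.1 hg))
  have hcover : (⊤ : P.Opens) ≤ V ⊔ U := fun z _ => by
    by_cases h : z ∈ Set.range σ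
    · obtain ⟨s, rfl⟩ := h; exact Or.inr (hσU s)
    · exact Or.inl h
  have hzero : ∀ (p : Spec (CommRingCat.of (A ⊗[k] R))), p ∈ D₀ → f ∈ p.asIdeal → j p ∈ Set.range σ := by
    intro p hp hfp
    have hle : RingHom.ker (evT φ) ≤ p.asIdeal := fun x hx => by
      obtain ⟨y, hy⟩ := hgf x hx
      exact (p.isPrime.mem_or_mem (show g * x ∈ p.asIdeal from hy ▸ p.asIdeal.mul_mem_left y hfp)).resolve_left hp
    have hsurj : Function.Surjective (evT φ) := fun r => ⟨1 ⊗ₜ r, by simp⟩
    obtain ⟨s, hs⟩ : p ∈ Set.range (Spec.map (CommRingCat.ofHom (evT φ).toRingHom)) := by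
      refine (range_comap_of_surjective _ _ hsurj).ge ?_
      exact hle
    exact ⟨s, by rw [← hs]; exact congr($((secT_eq c e he φ).symm) s)⟩
  have hgen : ∀ (p : Spec (CommRingCat.of (A ⊗[k] R))), p ∈ D₀ → f ∉ p.asIdeal →
      IsUnit ((Spec (CommRingCat.of (A ⊗[k] R))).presheaf.germ ⊤ p trivial F) := fun p _ hfp => by
    refine (Scheme.mem_basicOpen _ F p trivial).1 ?_
    rw [basicOpen_eq_of_affine]
    exact hfp
  let D : DivDat P V U := ⟨hcover, a, by
    refine RingedSpace.isUnit_of_isUnit_germ P.toSheafedSpace _ _ fun z hz => ?_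
    obtain ⟨p, hp, hpz⟩ := hz.2
    subst hpz
    have hu := hgen p hp fun hfp => hz.1 (hzero p hp hfp)
    rw [← hgerm p hz.2] at hu
    have hres := P.presheaf.germ_res_apply (homOfLE (inf_le_right : V ⊓ U ≤ U)) _ hz a
    exact hres ▸ (isUnit_map_iff (j.stalkMap p).hom _).1 hu⟩
  refine ⟨V, U, D, fun {L} _ _ ψ i hi₁ hi₂ => ?_⟩
  let μ := Algebra.TensorProduct.map (AlgHom.id k A) ψ
  let jL := chartT c e he (R := L)
  haveI := isOpenImmersion_chartT c e he (R := L)
  obtain ⟨hgL, hfL, hgfL⟩ := span_map_eq φ ψ hg hf hgf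
  have hcomm : jL ≫ i = Spec.map (CommRingCat.ofHom μ.toRingHom) ≫ j := by
    apply pullback.hom_ext
    · rw [Category.assoc, hi₁, Category.assoc, show j ≫ pullback.fst _ _ = _ from pullback.lift_fst _ _ _,
        show jL ≫ pullback.fst _ _ = _ from pullback.lift_fst _ _ _, ← Category.assoc, ← Spec.map_comp]
      exact congrArg (fun h => Spec.map h ≫ e) (CommRingCat.hom_ext (RingHom.ext fun x => by
        simp [μ, Algebra.TensorProduct.algebraMap_apply]))
    · rw [Category.assoc, hi₂, Category.assoc, show j ≫ pullback.snd _ _ = _ from pullback.lift_snd _ _ _,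
        reassoc_of% (show jL ≫ pullback.snd _ _ = _ from pullback.lift_snd _ _ _), ← Spec.map_comp, ← Spec.map_comp]
      exact congrArg Spec.map (CommRingCat.hom_ext (RingHom.ext fun x => by simp [μ]))
  let q : Spec (CommRingCat.of (A ⊗[k] L)) := Spec.map (CommRingCat.ofHom (evT (ψ.comp φ)).toRingHom) default
  have hq : q.asIdeal = RingHom.ker (evT (ψ.comp φ)) := by
    show Ideal.comap (evT (ψ.comp φ)).toRingHom (default : ↥(Spec (CommRingCat.of L))).asIdeal = _
    rw [(Ideal.eq_bot_or_top (default : ↥(Spec (CommRingCat.of L))).asIdeal).resolve_right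
      (default : ↥(Spec (CommRingCat.of L))).isPrime.ne_top]
    rfl
  have hw : jL q = secT c e he (ψ.comp φ) default := congr($(secT_eq c e he (ψ.comp φ)) default)
  have hμq : Spec.map (CommRingCat.ofHom μ.toRingHom) q ∈ D₀ := by
    show μ g ∉ q.asIdeal
    rw [hq]
    exact hgL
  have hiU : i (jL q) ∈ U := ⟨_, hμq, congr($(hcomm.symm) q)⟩
  have hiσ : ∀ z, i z ∈ Set.range σ → z = jL q := by
    intro z hz
    obtain ⟨s, hs⟩ := hz
    have hzU : pullback.fst c (Spec.map (CommRingCat.ofHom (algebraMap k L))) z ∈ Set.range e := by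
      rw [← congr($hi₁ z), Scheme.Hom.comp_apply, ← hs,
        ← show (σ ≫ pullback.fst c (Spec.map (CommRingCat.ofHom (algebraMap k R)))) s =
          pullback.fst c (Spec.map (CommRingCat.ofHom (algebraMap k R))) (σ s) from rfl,
        show σ ≫ pullback.fst _ _ = _ from pullback.lift_fst _ _ _]
      exact ⟨_, rfl⟩
    obtain ⟨p, hp⟩ : z ∈ Set.range jL := by
      have sq := isPullback_chartT c e he (R := L)
      have hsurj := (TopCat.homeoOfIso (Scheme.forgetToTop.mapIso sq.isoPullback)).surjective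
      have hr : z ∈ Set.range (pullback.fst (pullback.fst c (Spec.map (CommRingCat.ofHom (algebraMap k L)))) e) := by
        rw [Scheme.Pullback.range_fst]; exact hzU
      obtain ⟨y, hy⟩ := hr
      obtain ⟨p, hp⟩ := hsurj y
      refine ⟨p, ?_⟩
      rw [← hy, ← hp]
      exact congr($(sq.isoPullback_hom_fst.symm) p)
    subst hp
    congr 1
    have h1 : i (jL p) = j (Spec.map (CommRingCat.ofHom μ.toRingHom) p) := congr($hcomm p)
    rw [h1, ← congr($(secT_eq c e he φ) s)] at hs
    have h2 : Spec.map (CommRingCat.ofHom (evT φ).toRingHom) s = Spec.map (CommRingCat.ofHom μ.toRingHom) p :=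
      j.isOpenEmbedding.injective hs
    have hle : RingHom.ker (evT (ψ.comp φ)) ≤ p.asIdeal := by
      obtain ⟨gs, hgs⟩ := Algebra.FiniteType.out (R := k) (A := A)
      rw [ker_evT (ψ.comp φ) gs hgs, Ideal.span_le]
      rintro _ ⟨x, -, rfl⟩
      have hx : diffT φ x ∈ (Spec.map (CommRingCat.ofHom μ.toRingHom) p).asIdeal := by
        rw [← h2]
        show evT φ (diffT φ x) ∈ s.asIdeal
        rw [show evT φ (diffT φ x) = 0 from diffT_mem φ x]
        exact s.asIdeal.zero_mem
      show diffT (ψ.comp φ) x ∈ p.asIdeal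
      have hx' : μ (diffT φ x) ∈ p.asIdeal := hx
      rwa [show μ (diffT φ x) = diffT (ψ.comp φ) x by simp [diffT, μ]] at hx'
    have hmax : (RingHom.ker (evT (ψ.comp φ))).IsMaximal :=
      RingHom.ker_isMaximal_of_surjective _ fun r => ⟨1 ⊗ₜ r, by simp⟩
    exact PrimeSpectrum.ext ((hmax.eq_of_le p.isPrime.ne_top hle).symm.trans hq.symm)
  refine ⟨?_, ?_⟩
  · rw [← hw]
    refine ⟨hiU, ?_⟩
    let T := Spec (CommRingCat.of (A ⊗[k] L))
    let e₁ := (asIso (jL.stalkMap q)).commRingCatIsoToRingEquiv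
    apply Ideal.comap_injective_of_surjective e₁.symm.toRingHom e₁.symm.surjective
    have hmx : ∀ I : Ideal _, Ideal.comap e₁.symm.toRingHom I = I.map e₁.toRingHom := fun I =>
      Ideal.comap_symm e₁ (I := I)
    rw [hmx, hmx, Ideal.map_span, Set.image_singleton]
    have hloc : (maximalIdeal ((pullback c (Spec.map (CommRingCat.ofHom (algebraMap k L)))).presheaf.stalk (jL q))).map
        e₁.toRingHom = maximalIdeal (T.presheaf.stalk q) := by
      exact IsLocalRing.eq_maximalIdeal (Ideal.map_isMaximal_of_equiv e₁)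
    rw [hloc]
    have he₁ : e₁.toRingHom ((pullback c _).presheaf.germ (i ⁻¹ᵁ U) (jL q) hiU ((D.pull i).a)) =
        T.presheaf.germ ⊤ q trivial ((Scheme.ΓSpecIso (CommRingCat.of (A ⊗[k] L))).inv (μ f)) := by
      show jL.stalkMap q ((pullback c _).presheaf.germ (i ⁻¹ᵁ U) (jL q) hiU (i.app U a)) = _
      rw [jL.germ_stalkMap_apply]
      show T.presheaf.germ _ q _ ((jL ≫ i).app U a) = _
      rw [Scheme.Hom.congr_app hcomm, ConcreteCategory.comp_apply]
      refine (T.presheaf.germ_res_apply _ _ _ _).trans ?_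
      rw [Scheme.Hom.comp_app, ConcreteCategory.comp_apply]
      have hpU : j (Spec.map (CommRingCat.ofHom μ.toRingHom) q) ∈ U := ⟨_, hμq, rfl⟩
      refine ((Spec.map (CommRingCat.ofHom μ.toRingHom)).germ_stalkMap_apply (j ⁻¹ᵁ U) q hpU _).symm.trans ?_
      refine ((congrArg _ ((j.germ_stalkMap_apply U _ hpU a).symm.trans (hgerm _ hpU)))).trans ?_
      refine ((Spec.map (CommRingCat.ofHom μ.toRingHom)).germ_stalkMap_apply ⊤ q trivial F).trans ?_
      refine congrArg (T.presheaf.germ ⊤ q trivial) ?_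
      exact (ConcreteCategory.congr_hom (Scheme.ΓSpecIso_inv_naturality (CommRingCat.ofHom μ.toRingHom)) f).symm
    rw [he₁]
    letI : Algebra (A ⊗[k] L) (T.presheaf.stalk q) := StructureSheaf.stalkAlgebra (R := A ⊗[k] L) q
    haveI : IsLocalization.AtPrime (T.presheaf.stalk q) q.asIdeal :=
      StructureSheaf.IsLocalization.to_stalk (A ⊗[k] L) q
    have halg : T.presheaf.germ ⊤ q trivial ((Scheme.ΓSpecIso (CommRingCat.of (A ⊗[k] L))).inv (μ f)) =
        algebraMap (A ⊗[k] L) (T.presheaf.stalk q) (μ f) := rfl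
    rw [halg, ← IsLocalization.AtPrime.map_eq_maximalIdeal q.asIdeal (T.presheaf.stalk q)]
    refine le_antisymm ?_ ?_
    · refine Ideal.map_le_iff_le_comap.2 fun x hx => Ideal.mem_comap.2 ?_
      obtain ⟨y, hy⟩ := hgfL x (hq ▸ hx)
      have hu : IsUnit (algebraMap (A ⊗[k] L) (T.presheaf.stalk q) (μ g)) :=
        IsLocalization.map_units _ (⟨μ g, hμq⟩ : q.asIdeal.primeCompl)
      refine (Ideal.unit_mul_mem_iff_mem _ hu).1 ?_
      rw [← map_mul, hy, map_mul]
      exact Ideal.mul_mem_left _ _ (Ideal.mem_span_singleton_self _)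
    · refine (Ideal.span_singleton_le_iff_mem _).2 (Ideal.mem_map_of_mem _ ?_)
      rw [hq]
      exact hfL
  · ext z
    constructor
    · intro hz hzw
      refine hz ⟨Spec.map (CommRingCat.ofHom ψ.toRingHom) default, ?_⟩
      rw [Set.mem_singleton_iff] at hzw
      rw [hzw]
      have hsec : Spec.map (CommRingCat.ofHom ψ.toRingHom) ≫ σ = secT c e he (ψ.comp φ) ≫ i := by
        apply pullback.hom_ext
        · rw [Category.assoc, Category.assoc, hi₁, show σ ≫ pullback.fst _ _ = _ from pullback.lift_fst _ _ _,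
            show secT c e he (ψ.comp φ) ≫ pullback.fst _ _ = _ from pullback.lift_fst _ _ _, ← Category.assoc,
            ← Spec.map_comp]
          exact congrArg (fun h => Spec.map h ≫ e) (CommRingCat.hom_ext (RingHom.ext fun _ => rfl))
        · rw [Category.assoc, Category.assoc, hi₂, show σ ≫ pullback.snd _ _ = _ from pullback.lift_snd _ _ _,
            reassoc_of% (show secT c e he (ψ.comp φ) ≫ pullback.snd _ _ = _ from pullback.lift_snd _ _ _),
            Category.comp_id]
      exact congr($hsec default)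
    · intro hz hmem
      exact hz ((hiσ z hmem).trans hw)

end Groth.Agent.EtPBC
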