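import Groth.Agent.EtPBC.Prop
import Groth.Agent.ProjNoether.Tower
import Groth.Agent.S7409
import Groth.Agent.HQProj.Basic
import Mathlib

/-!
# Proper morphisms have the proper base change property
-/

set_option autoImplicit false
set_option backward.isDefEq.respectTransparency false
set_option backward.isDefEq.respectTransparency.types false
set_option linter.auxLemma false
set_option linter.style.haveILetI false
set_option linter.unusedSectionVars false

universe u

open CategoryTheory CategoryTheory.Limits AlgebraicGeometry Opposite IsLocalRing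

noncomputable section

namespace Groth.Agent.EtPBC

attribute [local instance] Groth.Agent.HQProj.isProper_toBase

theorem pb_projSpace (S : Scheme.{u}) : ∀ n : ℕ, PB (CohB1.ProjSpaceOver.toBase n S)
  | 0 => by
    haveI := ProjNoether.exists_zero S
    exact pb_of_isFinite _
  | n + 1 => by
    obtain ⟨φ, ⟨hφ1, hφ2⟩, hφ⟩ := ProjNoether.exists_binary_over S n
    haveI := hφ1
    haveI := hφ2
    refine PB.of_surjective (π := φ) (pb_of_isFinite φ) ?_
    rw [hφ]
    exact ((pb_projSpace S n).of_isPullback
      (IsPullback.of_hasPullback (CohB1.ProjSpaceOver.toBase 1 S) (CohB1.ProjSpaceOver.toBase n S)).flip).comp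
      (pb_line S)

theorem pb_proper_of_qcqs {X S : Scheme.{u}} (f : X ⟶ S) [IsProper f] [CompactSpace S] [QuasiSeparatedSpace S] :
    PB f := by
  obtain ⟨n, X', π, j, hj, hje, hπ, hsurj⟩ := Groth.Agent.S7409.result f
  haveI := hj
  haveI := hπ
  haveI := hsurj
  haveI : IsProper (j ≫ CohB1.ProjSpaceOver.toBase n S) := hje ▸ inferInstance
  let k : X' ⟶ CohB1.ProjSpaceOver n X :=
    pullback.lift (j ≫ pullback.fst _ _) π (specULiftZIsTerminal.hom_ext _ _)
  let ρ : CohB1.ProjSpaceOver n X ⟶ CohB1.ProjSpaceOver n S :=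
    pullback.lift (pullback.fst _ _) (CohB1.ProjSpaceOver.toBase n X ≫ f) (specULiftZIsTerminal.hom_ext _ _)
  have hkρ : k ≫ ρ = j := pullback.hom_ext
    ((Category.assoc _ _ _).trans ((congrArg (k ≫ ·) (pullback.lift_fst _ _ _)).trans (pullback.lift_fst _ _ _)))
    ((Category.assoc _ _ _).trans ((congrArg (k ≫ ·) (pullback.lift_snd _ _ _)).trans
      ((pullback.lift_snd_assoc _ _ _ _).trans hje.symm)))
  haveI : IsProper (k ≫ CohB1.ProjSpaceOver.toBase n X) :=
    (pullback.lift_snd _ _ _ : k ≫ CohB1.ProjSpaceOver.toBase n X = π) ▸ hπ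
  haveI : IsProper k := IsProper.of_comp k (CohB1.ProjSpaceOver.toBase n X)
  haveI : IsProper j := IsProper.of_comp j (CohB1.ProjSpaceOver.toBase n S)
  haveI : Mono k := mono_of_mono_fac hkρ
  haveI : IsClosedImmersion k := by
    rw [IsClosedImmersion.eq_proper_inf_monomorphisms]
    exact ⟨‹_›, ‹Mono k›⟩
  haveI : IsClosedImmersion j := by
    rw [IsClosedImmersion.eq_proper_inf_monomorphisms]
    exact ⟨‹_›, inferInstanceAs (Mono j)⟩
  refine PB.of_surjective (π := π) ?_ ?_
  · rw [show π = k ≫ CohB1.ProjSpaceOver.toBase n X from (pullback.lift_snd _ _ _).symm]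
    exact (pb_of_isFinite k).comp (pb_projSpace X n)
  · rw [← hje]
    exact (pb_of_isFinite j).comp (pb_projSpace S n)

/-- **proper morphisms have the proper base change property** -/
theorem pb_proper {X S : Scheme.{u}} (f : X ⟶ S) [IsProper f] : PB f := by
  intro R _ _ _ t P a b hab Z i c hic n
  haveI : IsProper b := MorphismProperty.of_isPullback (P := @IsProper) hab ‹_›
  exact pb_proper_of_qcqs b R (𝟙 _) (𝟙 P) b IsPullback.of_id_fst i c hic n

end Groth.Agent.EtPBC
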