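import Groth.Agent.EtPBC.Via
import Groth.Agent.EtPBC.ProperAll
import Groth.Agent.FEtSepBC.Stage
import Groth.Agent.SepClosedNormal.Basic
import Groth.Agent.EtAcycX.GeomFib
import Mathlib

/-!
# Invariance under extensions of separably closed fields
-/

set_option autoImplicit false
set_option backward.isDefEq.respectTransparency false
set_option backward.isDefEq.respectTransparency.types false
set_option linter.auxLemma false
set_option linter.style.haveILetI false
set_option linter.unusedSectionVars false
set_option maxHeartbeats 1000000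

universe u

open CategoryTheory CategoryTheory.Limits CategoryTheory.Abelian AlgebraicGeometry Opposite IsLocalRing
open Groth.Agent.FEtSepBC (st stMap)

noncomputable section

namespace Groth.Agent.EtPBC

attribute [local instance 100000] EtCoh.H._proof_1 EtMV.hext
attribute [local instance 200000] EtMV.hextAb

/-- the residue field of a local ring integral over a finitely generated algebra over an algebraically closed field -/
theorem surjective_residue_point {k : Type u} [Field k] [IsAlgClosed k] {A B V : Type u} [CommRing A] [Algebra k A]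
    [Algebra.FiniteType k A] [CommRing B] [Algebra A B] [Algebra.IsIntegral A B] [CommRing V] [IsLocalRing V]
    [Algebra B V] (n : Ideal B) [n.IsPrime] [IsLocalization.AtPrime V n] (m : Ideal A) [hm : m.IsMaximal]
    (hnm : n.comap (algebraMap A B) = m) :
    Function.Surjective ((residue V).comp (((algebraMap B V).comp (algebraMap A B)).comp (algebraMap k A))) := by
  letI : Algebra k (ResidueField V) :=
    ((residue V).comp (((algebraMap B V).comp (algebraMap A B)).comp (algebraMap k A))).toAlgebra
  let q : B →+* ResidueField V := (residue V).comp (algebraMap B V)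
  letI : Field (A ⧸ m) := Ideal.Quotient.field m
  haveI : Module.Finite k (A ⧸ m) := finite_of_finite_type_of_isJacobsonRing _ _
  haveI : Algebra.IsIntegral k (A ⧸ m) := Algebra.IsIntegral.of_finite k (A ⧸ m)
  choose σ hσ using fun a : A => (IsAlgClosed.algebraMap_bijective_of_isIntegral (k := k) (K := A ⧸ m)).2
    (Ideal.Quotient.mk m a)
  have hq : ∀ a : A, q (algebraMap A B a) = algebraMap k (ResidueField V) (σ a) := fun a => by
    have h1 : a - algebraMap k A (σ a) ∈ n.comap (algebraMap A B) := by
      rw [hnm, ← Ideal.Quotient.mk_eq_mk_iff_sub_mem]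
      exact (hσ a).symm
    have h2 : q (algebraMap A B (a - algebraMap k A (σ a))) = 0 :=
      (residue_eq_zero_iff _).2 ((IsLocalization.AtPrime.to_map_mem_maximal_iff V n _).2 h1)
    rw [map_sub, map_sub, sub_eq_zero] at h2
    exact h2
  have hint : ∀ b : B, IsIntegral k (q b) := fun b => by
    obtain ⟨P, hP, hb⟩ := Algebra.IsIntegral.isIntegral (R := A) b
    obtain ⟨P', hP', -, hmon⟩ := Polynomial.lifts_and_degree_eq_and_monic
      ((Polynomial.lifts_iff_coeff_lifts _).2 fun t => ⟨σ (P.coeff t), by rw [Polynomial.coeff_map]; exact (hq _).symm⟩ :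
        P.map (q.comp (algebraMap A B)) ∈ Polynomial.lifts (algebraMap k (ResidueField V))) (hP.map _)
    refine ⟨P', hmon, ?_⟩
    rw [← Polynomial.eval_map, hP', Polynomial.eval_map, ← Polynomial.hom_eval₂, hb, map_zero]
  haveI : Algebra.IsIntegral k (ResidueField V) := ⟨fun y => by
    obtain ⟨y, rfl⟩ := residue_surjective y
    obtain ⟨⟨b, s⟩, rfl⟩ := IsLocalization.mk'_surjective n.primeCompl y
    have hu : IsUnit (algebraMap B V s) := IsLocalization.map_units V s
    have e : residue V (IsLocalization.mk' V b s) = q b * (q s)⁻¹ := by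
      show residue V _ = residue V (algebraMap B V b) * (residue V (algebraMap B V s))⁻¹
      rw [eq_mul_inv_iff_mul_eq₀ (fun h => (residue_ne_zero_iff_isUnit _).2 hu h)]
      show residue V _ * residue V (algebraMap B V s) = residue V (algebraMap B V b)
      rw [← map_mul, IsLocalization.mk'_spec]
    exact e ▸ (hint b).mul (hint s).inv⟩
  exact (IsAlgClosed.algebraMap_bijective_of_isIntegral (k := k) (K := ResidueField V)).2

theorem isSepClosed_fractionRing (V K₀ : Type u) [CommRing V] [IsDomain V] [Field K₀] [IsAlgClosed K₀] [Algebra V K₀]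
    [IsFractionRing V K₀] : IsSepClosed (FractionRing V) :=
  Hensel.isSepClosed_of_ringEquiv (FractionRing.algEquiv V K₀).symm.toRingEquiv

/-- a strictly henselian ring at a point of a normal domain with algebraically closed fraction field -/
theorem exists_strict_point_aux {k : Type u} [Field k] [IsAlgClosed k] (A B K₀ : Type u) [CommRing A] [Algebra k A]
    [Algebra.FiniteType k A] [Nontrivial A] [CommRing B] [IsDomain B] [IsIntegrallyClosed B] [Algebra A B]
    [Algebra.IsIntegral A B] [Field K₀] [IsAlgClosed K₀] [Algebra B K₀] [IsFractionRing B K₀]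
    (hAB : Function.Injective (algebraMap A B)) :
    ∃ (V : Type u) (_ : CommRing V) (_ : HenselianLocalRing V) (τ : A →+* V) (j : V →+* K₀),
      IsSepClosed (ResidueField V) ∧ Function.Bijective ((residue V).comp (τ.comp (algebraMap k A))) ∧
      j.comp τ = (algebraMap B K₀).comp (algebraMap A B) := by
  obtain ⟨m, hm⟩ := Ideal.exists_maximal A
  obtain ⟨n, hn, hnm⟩ := Ideal.exists_ideal_over_prime_of_isIntegral_of_isDomain (S := B) m
    (by rw [(RingHom.injective_iff_ker_eq_bot _).1 hAB]; exact bot_le)
  let V := Localization.AtPrime n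
  haveI : IsIntegrallyClosed V :=
    isIntegrallyClosed_of_isLocalization V n.primeCompl (Ideal.primeCompl_le_nonZeroDivisors n)
  let j : V →+* K₀ := IsLocalization.lift (M := n.primeCompl) (S := V) (g := algebraMap B K₀) fun s =>
    isUnit_iff_ne_zero.2 ((map_ne_zero_iff _ (IsFractionRing.injective B K₀)).2
      (nonZeroDivisors.ne_zero (Ideal.primeCompl_le_nonZeroDivisors n s.2)))
  letI : Algebra V K₀ := j.toAlgebra
  haveI : IsScalarTower B V K₀ := IsScalarTower.of_algebraMap_eq fun b => (IsLocalization.lift_eq _ b).symm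
  haveI : IsFractionRing V K₀ := IsFractionRing.isFractionRing_of_isDomain_of_isLocalization n.primeCompl V K₀
  haveI : IsSepClosed (FractionRing V) := isSepClosed_fractionRing V K₀
  haveI hens : HenselianLocalRing V := SepClosedNormal.henselianLocalRing
  exact ⟨V, inferInstance, hens, (algebraMap B V).comp (algebraMap A B), j,
    SepClosedNormal.isSepClosed_residueField,
    ⟨((residue V).comp (((algebraMap B V).comp (algebraMap A B)).comp (algebraMap k A))).injective,
      surjective_residue_point n m hnm⟩,
    RingHom.ext fun a => IsLocalization.lift_eq _ _⟩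

/-- a rational point of a finitely generated domain inside an algebraically closed field extends to a strictly
henselian ring inside the field -/
theorem exists_strict_point {k K : Type u} [Field k] [IsAlgClosed k] [Field K] [IsAlgClosed K] [Algebra k K]
    (A : Subalgebra k K) (hA : A.FG) :
    ∃ (V : Type u) (_ : CommRing V) (_ : HenselianLocalRing V) (_ : Algebra k V) (val : V →ₐ[k] K) (τ : A →ₐ[k] V),
      IsSepClosed (ResidueField V) ∧ Function.Bijective ((residue V).comp (algebraMap k V)) ∧
      val.comp τ = A.val := by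
  haveI : Algebra.FiniteType k A := (Subalgebra.fg_iff_finiteType A).1 hA
  let F := FractionRing A
  letI : Algebra F K := FractionRing.liftAlgebra A K
  let K₀ : IntermediateField F K := algebraicClosure F K
  haveI : IsAlgClosed K₀ := by
    haveI : IsAlgClosure F K₀ := algebraicClosure.isAlgClosure F K
    exact IsAlgClosure.isAlgClosed F
  haveI : Algebra.IsAlgebraic F K₀ := algebraicClosure.isAlgebraic F K
  haveI : Algebra.IsAlgebraic A F := IsLocalization.isAlgebraic F (nonZeroDivisors A)
  haveI : Algebra.IsAlgebraic A K₀ := Algebra.IsAlgebraic.trans A F K₀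
  haveI : IsScalarTower A K₀ K := IsScalarTower.of_algebraMap_eq fun a => rfl
  have hAK₀ : Function.Injective (algebraMap A K₀) := fun x y h => Subtype.ext (by
    have h' := congrArg (algebraMap K₀ K) h
    rwa [← IsScalarTower.algebraMap_apply, ← IsScalarTower.algebraMap_apply] at h')
  let B := integralClosure A K₀
  haveI : IsFractionRing B K₀ := integralClosure.isFractionRing_of_algebraic
    (fun x hx => hAK₀ (hx.trans (map_zero _).symm))
  haveI : IsIntegrallyClosed B := (isIntegrallyClosed_iff_isIntegrallyClosedIn K₀).2 inferInstance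
  have hAB : Function.Injective (algebraMap A B) := fun x y h => hAK₀ (congrArg (algebraMap B K₀) h)
  obtain ⟨V, _, hens, τ, j, hsep, hres, hj⟩ := exists_strict_point_aux (k := k) A B K₀ hAB
  letI : Algebra k V := (τ.comp (algebraMap k A)).toAlgebra
  have hval : ∀ a : A, algebraMap K₀ K (j (τ a)) = a.1 := fun a => by
    rw [show j (τ a) = algebraMap B K₀ (algebraMap A B a) from RingHom.congr_fun hj a]
    show algebraMap K₀ K (algebraMap A K₀ a) = _
    rw [← IsScalarTower.algebraMap_apply]
    rfl
  exact ⟨V, inferInstance, hens, inferInstance,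
    { (algebraMap K₀ K).comp j with commutes' := fun c => hval (algebraMap k A c) },
    { τ with commutes' := fun c => rfl }, hsep, hres, AlgHom.ext hval⟩

/-- cohomology along an isomorphism over the base -/
theorem bijective_Hpull_of_isPullback_iso {X X' S S' : Scheme.{u}} {g : X' ⟶ X} {b : X' ⟶ S'} {a : X ⟶ S}
    {u : S' ⟶ S} (sq : IsPullback g b a u) [IsIso u] [PreservesFiniteLimits (EtCoh.pull g)] (F : EtCoh.Ab X) (q : ℕ) :
    Function.Bijective (EtCore.Hpull g F q) := by
  haveI : IsIso g := sq.isIso_fst_of_isIso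
  exact bijective_Hpull_of_isIso g F q

/-- universal homeomorphisms of bases -/
theorem bijective_Hpull_of_isPullback_pi {k K : Type u} [Field k] [Field K] [Algebra k K] [IsPurelyInseparable k K]
    {X X' : Scheme.{u}} {g : X' ⟶ X} {b : X' ⟶ Spec (CommRingCat.of K)} {a : X ⟶ Spec (CommRingCat.of k)}
    (sq : IsPullback g b a (Spec.map (CommRingCat.ofHom (algebraMap k K)))) [PreservesFiniteLimits (EtCoh.pull g)]
    (F : EtCoh.Ab X) (q : ℕ) : Function.Bijective (EtCore.Hpull g F q) := by
  let i := Spec.map (CommRingCat.ofHom (algebraMap k K))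
  haveI := EtAcycX.universallyInjective_specMap k K
  haveI : IsIntegralHom i := IsIntegralHom.SpecMap_iff.2 (algebraMap_isIntegral_iff.2 inferInstance)
  haveI : Surjective i := ⟨fun z => ⟨default, @Subsingleton.elim (Spec (CommRingCat.of k)) _ _ z⟩⟩
  haveI : IsIntegralHom g := MorphismProperty.of_isPullback (P := @IsIntegralHom) sq.flip ‹_›
  haveI : UniversallyInjective g := MorphismProperty.of_isPullback (P := @UniversallyInjective) sq.flip ‹_›
  haveI : Surjective g := MorphismProperty.of_isPullback (P := @Surjective) sq.flip ‹_›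
  exact Groth.Agent.S0642.result g F q

section AlgClosed

variable {k K : Type u} [Field k] [IsAlgClosed k] [Field K] [IsAlgClosed K] [Algebra k K]
  {X : Scheme.{u}} (a : X ⟶ Spec (CommRingCat.of k)) [IsProper a] (F : EtCoh.Ab X)
  (hF : EtAcyc.IsLTorsion Set.univ F)

include hF in
/-- **invariance under extensions of algebraically closed fields** -/
theorem bijective_Hpull_algClosed [PreservesFiniteLimits (EtCoh.pull (pullback.fst a (st k K)))] (n : ℕ) :
    Function.Bijective (EtCore.Hpull (pullback.fst a (st k K)) F n) := by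
  haveI : IsCofiltered (FEtSepBC.FGSub k K)ᵒᵖ := isCofiltered_op_of_isFiltered _
  haveI : CompactSpace X := QuasiCompact.compactSpace_of_compactSpace a
  haveI : QuasiSeparatedSpace X := quasiSeparatedSpace_of_quasiSeparated a
  let D := FEtSepBC.diagram a (K := K)
  haveI : ∀ L, CompactSpace (D.obj L) := fun L => QuasiCompact.compactSpace_of_compactSpace (pullback.fst a (st k L.unop.1))
  haveI : ∀ L, QuasiSeparatedSpace (D.obj L) := fun L =>
    quasiSeparatedSpace_of_quasiSeparated (pullback.fst a (st k L.unop.1))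
  haveI : ∀ {i j : (FEtSepBC.FGSub k K)ᵒᵖ} (h : i ⟶ j), IsAffineHom (D.map h) := fun h =>
    MorphismProperty.of_isPullback (P := @IsAffineHom) (FEtSepBC.isPullback_bcm a _).flip inferInstance
  haveI : ∀ L, PreservesFiniteLimits (EtCoh.pull ((FEtSepBC.cone a (K := K)).π.app L)) := fun L =>
    EtPullExact.pull_preservesFiniteLimits _
  haveI : ∀ {i j : (FEtSepBC.FGSub k K)ᵒᵖ} (h : i ⟶ j), PreservesFiniteLimits (EtCoh.pull (D.map h)) := fun h =>
    EtPullExact.pull_preservesFiniteLimits _
  let p : ∀ L, D.obj L ⟶ X := fun L => pullback.fst a (st k L.unop.1)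
  haveI : ∀ L, PreservesFiniteLimits (EtCoh.pull (p L)) := fun L => EtPullExact.pull_preservesFiniteLimits _
  have hp : ∀ {i j : (FEtSepBC.FGSub k K)ᵒᵖ} (h : i ⟶ j), D.map h ≫ p j = p i := fun h => FEtSepBC.bcm_fst a _
  have hg : ∀ L, (FEtSepBC.cone a (K := K)).π.app L ≫ p L = pullback.fst a (st k K) := fun L => FEtSepBC.bcm_fst a _
  refine ⟨(injective_iff_map_eq_zero _).2 fun z hz => ?_, fun ξ => ?_⟩
  · obtain ⟨i⟩ : Nonempty (FEtSepBC.FGSub k K)ᵒᵖ := IsCofiltered.nonempty
    obtain ⟨L, hL⟩ := exists_stage_inj (FEtSepBC.isLimitCone a) p hp _ hg F n i z hz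
    haveI : Algebra.FiniteType k L.unop.1 := (Subalgebra.fg_iff_finiteType _).1 L.unop.2
    obtain ⟨m, hm⟩ := Ideal.exists_maximal L.unop.1
    letI : Field (L.unop.1 ⧸ m) := Ideal.Quotient.field m
    haveI : Module.Finite k (L.unop.1 ⧸ m) := finite_of_finite_type_of_isJacobsonRing _ _
    haveI : Algebra.IsIntegral k (L.unop.1 ⧸ m) := Algebra.IsIntegral.of_finite k _
    let σ : L.unop.1 →ₐ[k] k := ((AlgEquiv.ofBijective (Algebra.ofId k (L.unop.1 ⧸ m))
      IsAlgClosed.algebraMap_bijective_of_isIntegral).symm : _ →ₐ[k] k).comp (Ideal.Quotient.mkₐ k m)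
    let s : X ⟶ D.obj L := pullback.lift (𝟙 X) (a ≫ stMap σ) (by
      rw [Category.assoc, FEtSepBC.stMap_st, Category.id_comp]
      exact ((congrArg (a ≫ ·) (Spec.map_id _)).trans (Category.comp_id a)).symm)
    haveI := EtPullExact.pull_preservesFiniteLimits s
    haveI := EtPullExact.pull_preservesFiniteLimits (𝟙 X)
    refine (bijective_Hpull_of_isIso (𝟙 X) F n).1 (Eq.trans ?_ (map_zero _).symm)
    rw [← EtAcycX.Hpull_HpullVia s (p L) (𝟙 X) (pullback.lift_fst _ _ _) F n z, hL, map_zero]
  · obtain ⟨L, x, hx⟩ := exists_stage_surj (FEtSepBC.isLimitCone a) p hp _ hg F n ξ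
    obtain ⟨V, _, _, _, val, τ, hsep, hres, hval⟩ := exists_strict_point L.unop.1 L.unop.2
    haveI := hsep
    let fV := pullback.fst a (st k V)
    let i := pullback.fst (pullback.snd a (st k V)) (Spec.map (CommRingCat.ofHom (residue V)))
    have sqP : IsPullback (i ≫ fV) (pullback.snd _ _) a
        (Spec.map (CommRingCat.ofHom (residue V)) ≫ st k V) :=
      (IsPullback.of_hasPullback _ _).paste_horiz (IsPullback.of_hasPullback a (st k V))
    haveI : IsIso (Spec.map (CommRingCat.ofHom (residue V)) ≫ st k V) := by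
      rw [← Spec.map_comp]
      haveI : IsIso (CommRingCat.ofHom ((residue V).comp (algebraMap k V))) :=
        (ConcreteCategory.isIso_iff_bijective _).2 hres
      exact inferInstanceAs (IsIso (Spec.map (CommRingCat.ofHom ((residue V).comp (algebraMap k V)))))
    haveI := EtPullExact.pull_preservesFiniteLimits fV
    haveI := EtPullExact.pull_preservesFiniteLimits i
    haveI := EtPullExact.pull_preservesFiniteLimits (i ≫ fV)
    let h := FEtSepBC.bcm a τ
    let j := FEtSepBC.bcm a val
    haveI := EtPullExact.pull_preservesFiniteLimits h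
    haveI := EtPullExact.pull_preservesFiniteLimits j
    let xV := EtCore.HpullVia h (p L) fV (FEtSepBC.bcm_fst a τ) F n x
    obtain ⟨z, hz⟩ := (bijective_Hpull_of_isPullback_iso sqP F n).2 (EtCore.HpullVia i fV (i ≫ fV) rfl F n xV)
    have hi : Function.Bijective (EtCore.HpullVia i fV (i ≫ fV) rfl F n) :=
      (bijective_HpullVia_iff i fV (i ≫ fV) rfl F n).2 (((pb_proper a V (st k V) _ _
        (IsPullback.of_hasPullback a (st k V)) i _ (IsPullback.of_hasPullback _ _) n) _
          (EtAcycX.isLTorsion_pull fV hF)).1 n le_rfl)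
    have hxV : EtCore.Hpull fV F n z = xV :=
      hi.1 ((EtAcycX.Hpull_HpullVia i fV (i ≫ fV) rfl F n z).trans hz)
    have hπ : j ≫ h = (FEtSepBC.cone a (K := K)).π.app L := by
      apply pullback.hom_ext
      · rw [Category.assoc, FEtSepBC.bcm_fst, FEtSepBC.bcm_fst]
        exact (FEtSepBC.bcm_fst a _).symm
      · rw [Category.assoc, FEtSepBC.bcm_snd, FEtSepBC.bcm_snd_assoc]
        refine Eq.trans ?_ (FEtSepBC.bcm_snd a _).symm
        rw [← Spec.map_comp]
        exact congrArg (fun φ => pullback.snd a (st k K) ≫ Spec.map (CommRingCat.ofHom φ))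
          (congrArg AlgHom.toRingHom hval)
    refine ⟨z, Eq.trans ?_ hx⟩
    refine Eq.trans ?_ (HpullVia_HpullVia j h _ hπ (p L) fV (pullback.fst a (st k K)) (FEtSepBC.bcm_fst a τ)
      (FEtSepBC.bcm_fst a val) (hg L) F n x)
    exact ((congrArg _ hxV.symm).trans (EtAcycX.Hpull_HpullVia j fV _ (FEtSepBC.bcm_fst a val) F n z)).symm

end AlgClosed

/-- **invariance under extensions of separably closed fields** -/
theorem bijective_Hpull_sepClosed {k K : Type u} [Field k] [IsSepClosed k] [Field K] [IsSepClosed K] (φ : k →+* K)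
    {X X' : Scheme.{u}} (a : X ⟶ Spec (CommRingCat.of k)) [IsProper a] (g : X' ⟶ X) (b : X' ⟶ Spec (CommRingCat.of K))
    (sq : IsPullback g b a (Spec.map (CommRingCat.ofHom φ))) [PreservesFiniteLimits (EtCoh.pull g)] (F : EtCoh.Ab X)
    (hF : EtAcyc.IsLTorsion Set.univ F) (n : ℕ) : Function.Bijective (EtCore.Hpull g F n) := by
  let k' := AlgebraicClosure k
  let K' := AlgebraicClosure K
  letI : Algebra k K' := ((algebraMap K K').comp φ).toAlgebra
  let ψ : k' →ₐ[k] K' := IsAlgClosed.lift
  letI : Algebra k' K' := ψ.toRingHom.toAlgebra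
  let u := pullback.fst a (st k k')
  let ak := pullback.snd a (st k k')
  let v := pullback.fst ak (st k' K')
  haveI := EtPullExact.pull_preservesFiniteLimits u
  haveI := EtPullExact.pull_preservesFiniteLimits v
  haveI := EtPullExact.pull_preservesFiniteLimits (v ≫ u)
  have sqc : IsPullback (v ≫ u) (pullback.snd ak (st k' K')) a
      (Spec.map (CommRingCat.ofHom (algebraMap K K')) ≫ Spec.map (CommRingCat.ofHom φ)) := by
    have h := (IsPullback.of_hasPullback ak (st k' K')).paste_horiz (IsPullback.of_hasPullback a (st k k'))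
    rwa [show st k' K' ≫ st k k' = Spec.map (CommRingCat.ofHom (algebraMap K K')) ≫ Spec.map (CommRingCat.ofHom φ) by
      rw [← Spec.map_comp, ← Spec.map_comp]
      exact congrArg (fun t => Spec.map (CommRingCat.ofHom t)) (RingHom.ext fun c => ψ.commutes c)] at h
  let g' : pullback ak (st k' K') ⟶ X' := sq.lift (v ≫ u) (pullback.snd _ _ ≫ Spec.map (CommRingCat.ofHom (algebraMap K K')))
    (by rw [Category.assoc]; exact sqc.w)
  have sq' : IsPullback g' (pullback.snd ak (st k' K')) b (Spec.map (CommRingCat.ofHom (algebraMap K K'))) :=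
    IsPullback.of_right (by rw [IsPullback.lift_fst]; exact sqc) (sq.lift_snd _ _ _) sq
  haveI := EtPullExact.pull_preservesFiniteLimits g'
  have h1 : Function.Bijective (EtCore.HpullVia v u (v ≫ u) rfl F n ∘ EtCore.Hpull u F n) :=
    ((bijective_HpullVia_iff v u (v ≫ u) rfl F n).2
      (bijective_Hpull_algClosed ak _ (EtAcycX.isLTorsion_pull u hF) n)).comp
      (bijective_Hpull_of_isPullback_pi (IsPullback.of_hasPullback a (st k k')) F n)
  have h2 : Function.Bijective (EtCore.HpullVia g' g (v ≫ u) (sq.lift_fst _ _ _) F n) :=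
    (bijective_HpullVia_iff g' g (v ≫ u) (sq.lift_fst _ _ _) F n).2 (bijective_Hpull_of_isPullback_pi sq' _ n)
  rw [show ⇑(EtCore.HpullVia v u (v ≫ u) rfl F n) ∘ ⇑(EtCore.Hpull u F n) =
      ⇑(EtCore.HpullVia g' g (v ≫ u) (sq.lift_fst _ _ _) F n) ∘ ⇑(EtCore.Hpull g F n) from
    funext fun x => (EtAcycX.Hpull_HpullVia v u (v ≫ u) rfl F n x).trans
      (EtAcycX.Hpull_HpullVia g' g (v ≫ u) (sq.lift_fst _ _ _) F n x).symm] at h1
  exact (Function.Bijective.of_comp_iff' h2 _).1 h1

end Groth.Agent.EtPBC
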