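import Groth.Agent.EtPBC.CyclicSeq
import Groth.Agent.EtMV.NormalIrr
import Mathlib.GroupTheory.PGroup
import Mathlib.GroupTheory.Sylow

/-!
# Galois points of the small étale site of a field

Galois automorphisms of points, cyclic covers, descent of invariant sections, and the fixed vector lemma.
-/

set_option autoImplicit false
set_option backward.isDefEq.respectTransparency false
set_option backward.isDefEq.respectTransparency.types false
set_option linter.auxLemma false
set_option linter.style.haveILetI false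

universe u

open CategoryTheory CategoryTheory.Limits CategoryTheory.Abelian AlgebraicGeometry Opposite
open Groth.Agent.EtFLC (res res_res res_id)
open Groth.Agent.GalCohLib (pt ptMap)

noncomputable section

namespace Groth.Agent.EtPBC

attribute [local instance 100000] EtCoh.H._proof_1 EtMV.hext
attribute [local instance 200000] EtMV.hextAb

variable {k : Type u} [Field k]

section Tower

variable (k) (L' M : Type u) [Field L'] [Field M] [Algebra k L'] [Algebra k M] [Algebra L' M] [IsScalarTower k L' M]
  [FiniteDimensional k L'] [Algebra.IsSeparable k L'] [FiniteDimensional k M] [Algebra.IsSeparable k M]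

/-- the action of an automorphism on the point -/
def galMap (g : M ≃ₐ[L'] M) : pt k M ⟶ pt k M :=
  MorphismProperty.Over.homMk (Spec.map (CommRingCat.ofHom g.toAlgHom.toRingHom)) (by
    show Spec.map _ ≫ Spec.map _ = Spec.map _
    rw [← Spec.map_comp]
    congr 1
    exact CommRingCat.hom_ext (RingHom.ext fun x => (g.restrictScalars k).commutes x))

theorem galMap_mul (g h : M ≃ₐ[L'] M) : galMap k L' M (g * h) = galMap k L' M g ≫ galMap k L' M h := by
  apply MorphismProperty.Over.Hom.ext
  rw [MorphismProperty.Comma.comp_left]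
  show Spec.map _ = Spec.map _ ≫ Spec.map _
  rw [← Spec.map_comp]
  rfl

theorem galMap_one : galMap k L' M 1 = 𝟙 _ := by
  apply MorphismProperty.Over.Hom.ext
  show Spec.map (𝟙 _) = 𝟙 _
  exact Spec.map_id _

theorem galMap_π (g : M ≃ₐ[L'] M) : galMap k L' M g ≫ ptMap k L' M = ptMap k L' M := by
  apply MorphismProperty.Over.Hom.ext
  rw [MorphismProperty.Comma.comp_left]
  show Spec.map _ ≫ Spec.map _ = Spec.map _
  rw [← Spec.map_comp]
  congr 1
  exact CommRingCat.hom_ext (RingHom.ext fun x => g.commutes x)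

theorem ptMap_surjective : Function.Surjective (ptMap k L' M).left.base := fun x =>
  ⟨(default : ↥(Spec (CommRingCat.of M))), @Subsingleton.elim ↥(Spec (CommRingCat.of L')) _ _ _⟩

theorem res_ptMap_injective (G : EtCoh.Ab (Spec (CommRingCat.of k))) :
    Function.Injective (res G (ptMap k L' M)) := by
  intro a b hab
  refine EtFLC.sect_ext G fun y => ?_
  obtain ⟨z, hz⟩ := ptMap_surjective k L' M y
  exact ⟨pt k M, ptMap k L' M, z, hz, hab⟩

theorem exists_nhd_galMap [FiniteDimensional L' M] [IsGalois L' M] {T : (Spec (CommRingCat.of k)).Etale}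
    (p q : T ⟶ pt k M) (hpq : p ≫ ptMap k L' M = q ≫ ptMap k L' M) (z : T.left) :
    ∃ (T' : (Spec (CommRingCat.of k)).Etale) (j : T' ⟶ T) (w : T'.left) (g : M ≃ₐ[L'] M),
      j.left w = z ∧ j ≫ q = j ≫ p ≫ galMap k L' M g := by
  let κ := T.left.residueField z
  obtain ⟨α, hα⟩ := Spec.map_surjective (T.left.fromSpecResidueField z ≫ p.left)
  obtain ⟨β, hβ⟩ := Spec.map_surjective (T.left.fromSpecResidueField z ≫ q.left)
  have hαβ : ∀ x : L', α.hom (algebraMap L' M x) = β.hom (algebraMap L' M x) := by
    have e : CommRingCat.ofHom (algebraMap L' M) ≫ α = CommRingCat.ofHom (algebraMap L' M) ≫ β := by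
      apply Spec.map_injective
      rw [Spec.map_comp, Spec.map_comp, hα, hβ, Category.assoc, Category.assoc]
      exact congrArg _ (congrArg (fun f : T ⟶ pt k L' => f.left) hpq)
    exact fun x => RingHom.congr_fun (congrArg CommRingCat.Hom.hom e) x
  letI : Algebra M κ := α.hom.toAlgebra
  letI : Algebra L' κ := (α.hom.comp (algebraMap L' M)).toAlgebra
  haveI : IsScalarTower L' M κ := IsScalarTower.of_algebraMap_eq fun _ => rfl
  let β' : M →ₐ[L'] κ := { β.hom with commutes' := fun x => (hαβ x).symm }
  let g := β'.restrictNormal' M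
  have hg : ∀ x, α.hom (g x) = β.hom x := fun x => β'.restrictNormal_commutes M x
  have hpt : T.left.fromSpecResidueField z ≫ q.left =
      T.left.fromSpecResidueField z ≫ (p ≫ galMap k L' M g).left := by
    rw [MorphismProperty.Comma.comp_left]
    show _ = _ ≫ p.left ≫ Spec.map _
    rw [← hβ, ← Category.assoc, ← hα, ← Spec.map_comp]
    congr 1
    exact CommRingCat.hom_ext (RingHom.ext fun x => (hg x).symm)
  obtain ⟨T', j, w, hw, hj⟩ := Misc3.EtFieldTorsion.exists_nhd_eq q (p ≫ galMap k L' M g) z hpt
  exact ⟨T', j, w, g, hw, hj⟩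

theorem galMap_free {T : (Spec (CommRingCat.of k)).Etale} (p : T ⟶ pt k M) (hT : Nonempty T.left)
    (g h : M ≃ₐ[L'] M) (e : p ≫ galMap k L' M g = p ≫ galMap k L' M h) : g = h := by
  obtain ⟨z⟩ := hT
  obtain ⟨α, hα⟩ := Spec.map_surjective (T.left.fromSpecResidueField z ≫ p.left)
  have e2 : CommRingCat.ofHom g.toAlgHom.toRingHom ≫ α = CommRingCat.ofHom h.toAlgHom.toRingHom ≫ α := by
    apply Spec.map_injective
    rw [Spec.map_comp, Spec.map_comp, hα, Category.assoc, Category.assoc]
    exact congrArg _ (congrArg (fun f : T ⟶ pt k M => f.left) e)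
  refine AlgEquiv.ext fun x => α.hom.injective ?_
  exact RingHom.congr_fun (congrArg CommRingCat.Hom.hom e2) x

theorem spow_galMap (g : M ≃ₐ[L'] M) (i : ℕ) : spow (galMap k L' M g) i = galMap k L' M (g ^ i) := by
  induction i with
  | zero => rw [pow_zero, galMap_one]; rfl
  | succ i ih => rw [spow, ih, pow_succ, galMap_mul]

/-- invariant sections descend -/
theorem exists_descend_invariant [FiniteDimensional L' M] [IsGalois L' M]
    (G : EtCoh.Ab (Spec (CommRingCat.of k))) (s : EtCoh.sect G (pt k M))
    (hs : ∀ g : M ≃ₐ[L'] M, res G (galMap k L' M g) s = s) :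
    ∃ t : EtCoh.sect G (pt k L'), res G (ptMap k L' M) t = s := by
  refine GalCohLib.exists_descend_rel G _ (ptMap_surjective k L' M) s fun {T} p q h => ?_
  refine EtFLC.sect_ext G fun z => ?_
  obtain ⟨T', j, w, g, hw, hj⟩ := exists_nhd_galMap k L' M p q h z
  refine ⟨T', j, w, hw, ?_⟩
  rw [res_res G j q, hj, ← res_res G j (p ≫ galMap k L' M g), ← res_res G p (galMap k L' M g), hs]

/-- the cyclic covering given by a generator of the Galois group -/
def cycCover [FiniteDimensional L' M] [IsGalois L' M] (g : M ≃ₐ[L'] M)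
    (hg : ∀ x : M ≃ₐ[L'] M, x ∈ Subgroup.zpowers g) : CycCover (pt k M) (pt k L') where
  π := ptMap k L' M
  σ := galMap k L' M g
  n := orderOf g
  npos := orderOf_pos g
  σπ := galMap_π k L' M g
  period := by rw [spow_galMap, pow_orderOf_eq_one, galMap_one]
  surj := ptMap_surjective k L' M
  torsor p q h z := by
    obtain ⟨T', j, w, x, hw, hj⟩ := exists_nhd_galMap k L' M p q h z
    obtain ⟨i, rfl⟩ := mem_powers_iff_mem_zpowers.mpr (hg x)
    exact ⟨T', j, w, i, hw, by rw [spow_galMap]; exact hj⟩
  free p hT i j hi hj e := by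
    rw [spow_galMap, spow_galMap] at e
    exact pow_injOn_Iio_orderOf hi hj (galMap_free k L' M p hT _ _ e)

/-- **fixed vectors**: a finite group of sections killed by `p` over a Galois point with `p`-group -/
theorem exists_invariant_ne_zero [FiniteDimensional L' M] (p : ℕ) [Fact p.Prime]
    (hP : IsPGroup p (M ≃ₐ[L'] M)) (G : EtCoh.Ab (Spec (CommRingCat.of k)))
    [Finite (EtCoh.sect G (pt k M))] (s : EtCoh.sect G (pt k M)) (hs : s ≠ 0) (hp : p • s = 0) :
    ∃ t : EtCoh.sect G (pt k M), t ≠ 0 ∧ p • t = 0 ∧ ∀ g : M ≃ₐ[L'] M, res G (galMap k L' M g) t = t := by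
  let A := {t : EtCoh.sect G (pt k M) // p • t = 0}
  letI : MulAction (M ≃ₐ[L'] M) A :=
    { smul := fun g t => ⟨res G (galMap k L' M g) t.1, by rw [← map_nsmul, t.2, map_zero]⟩
      one_smul := fun t => Subtype.ext (by
        show res G (galMap k L' M 1) t.1 = t.1
        rw [galMap_one, res_id])
      mul_smul := fun g h t => Subtype.ext (by
        show res G (galMap k L' M (g * h)) t.1 = res G (galMap k L' M g) (res G (galMap k L' M h) t.1)
        rw [galMap_mul, res_res]) }
  have hdvd : p ∣ Nat.card A := by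
    let K : AddSubgroup (EtCoh.sect G (pt k M)) := (nsmulAddMonoidHom (α := EtCoh.sect G (pt k M)) p).ker
    have hsK : s ∈ K := hp
    have hord : addOrderOf (⟨s, hsK⟩ : K) = p :=
      addOrderOf_eq_prime (Subtype.ext hp) fun h => hs (congrArg Subtype.val h)
    exact hord ▸ addOrderOf_dvd_natCard (⟨s, hsK⟩ : K)
  have h0 : (⟨0, nsmul_zero p⟩ : A) ∈ MulAction.fixedPoints (M ≃ₐ[L'] M) A :=
    fun g => Subtype.ext (map_zero _)
  obtain ⟨b, hb, hne⟩ := hP.exists_fixed_point_of_prime_dvd_card_of_fixed_point A hdvd h0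
  exact ⟨b.1, fun h => hne (Subtype.ext h.symm), b.2, fun g => congrArg Subtype.val (hb g)⟩

end Tower

/-- sections vanishing on all Galois points vanish -/
theorem exists_galois_section (G : EtCoh.Ab (Spec (CommRingCat.of k)))
    {W : (Spec (CommRingCat.of k)).Etale} (s : EtCoh.sect G W) (hs : s ≠ 0) :
    ∃ (M : Type u) (_ : Field M) (_ : Algebra k M) (_ : FiniteDimensional k M) (_ : IsGalois k M)
      (f : pt k M ⟶ W), res G f s ≠ 0 := by
  by_contra hcon
  push_neg at hcon
  refine hs (EtFLC.sect_ext G fun w => ?_)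
  haveI : Etale W.hom := W.prop
  haveI := EtMV.lqf_of_etale W.hom
  haveI : DiscreteTopology W.left := by
    have h : W.hom ⁻¹' {(default : ↥(Spec (CommRingCat.of k)))} = Set.univ :=
      Set.eq_univ_of_forall fun x => @Subsingleton.elim ↥(Spec (CommRingCat.of k)) _ _ _
    have hd := W.hom.isDiscrete_preimage_singleton (default : ↥(Spec (CommRingCat.of k)))
    rw [h, isDiscrete_iff_discreteTopology] at hd
    exact (Homeomorph.Set.univ W.left).symm.isEmbedding.discreteTopology
  let U : W.left.Opens := ⟨{w}, isOpen_discrete _⟩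
  let W' : (Spec (CommRingCat.of k)).Etale :=
    MorphismProperty.Over.mk ⊤ (U.ι ≫ W.hom) (inferInstance : Etale (U.ι ≫ W.hom))
  let j : W' ⟶ W := MorphismProperty.Over.homMk U.ι rfl
  obtain ⟨L, _, _, _, _, a, ha⟩ := Misc3.EtFieldTorsion.exists_galois_nhd W' ⟨w, rfl⟩
  let a' : pt k L ⟶ W' := MorphismProperty.Over.homMk a ha
  refine ⟨pt k L, a' ≫ j, (default : ↥(Spec (CommRingCat.of L))), ?_, ?_⟩
  · exact (a (default : ↥(Spec (CommRingCat.of L)))).2
  · rw [map_zero]
    exact hcon L inferInstance inferInstance inferInstance inferInstance (a' ≫ j)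

end Groth.Agent.EtPBC
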