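import Groth.Agent.EtPBC.GmGeneric
import Groth.Agent.EtPBC.CurvePic
import Mathlib

/-!
# The units on curves over algebraically closed fields
-/

set_option autoImplicit false
set_option backward.isDefEq.respectTransparency false
set_option backward.isDefEq.respectTransparency.types false
set_option linter.auxLemma false
set_option linter.style.haveILetI false
set_option linter.unusedSectionVars false

universe u

open CategoryTheory CategoryTheory.Limits CategoryTheory.Abelian AlgebraicGeometry Opposite TopologicalSpace

noncomputable section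

namespace Groth.Agent.EtPBC

attribute [local instance 100000] EtCoh.H._proof_1 EtMV.hext
attribute [local instance 200000] EtMV.hextAb

variable {k : Type u} [Field k] [IsAlgClosed k] {X : Scheme.{u}} [IsIntegral X] (f : X ⟶ Spec (CommRingCat.of k))
  [LocallyOfFiniteType f] (hdim : topologicalKrullDim X ≤ 1)

include f hdim in
theorem isZero_rpush_genericPoint_Gm (q : ℕ) (hq : 1 ≤ q) :
    IsZero ((EtCoh.Rpush (X.fromSpecStalk (genericPoint X)) q).obj
      (EtCoh.Gm (Spec (X.presheaf.stalk (genericPoint X))))) := by
  let i : Spec (CommRingCat.of X.functionField) ⟶ X := X.fromSpecStalk (genericPoint X)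
  haveI : (EtCoh.push i).IsRightAdjoint := (EtCoh.pullPushAdj i).isRightAdjoint
  exact isZero_rpush_Gm_point (K := X.functionField)
    (fun L _ _ _ q hq => subsingleton_H_Gm_of_isCi_one (isCi_one_functionField f hdim) L q hq) i q hq

include f hdim in
theorem subsingleton_H_push_genericPoint_Gm [CompactSpace X] [QuasiSeparatedSpace X] (q : ℕ) (hq : 1 ≤ q) :
    Subsingleton (EtCoh.H X ((EtCoh.push (X.fromSpecStalk (genericPoint X))).obj
      (EtCoh.Gm (Spec (X.presheaf.stalk (genericPoint X))))) q) := by
  let i : Spec (CommRingCat.of X.functionField) ⟶ X := X.fromSpecStalk (genericPoint X)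
  haveI := Groth.Agent.EtPullExact.pull_preservesFiniteLimits i
  exact subsingleton_H_push_Gm_point (K := X.functionField)
    (fun L _ _ _ q hq => subsingleton_H_Gm_of_isCi_one (isCi_one_functionField f hdim) L q hq) i q hq

include f hdim in
/-- **the units of a curve have no cohomology in degrees two and up** -/
theorem subsingleton_H_Gm_curve [CompactSpace X] [QuasiSeparatedSpace X] (q : ℕ) (hq : 2 ≤ q) :
    Subsingleton (EtCoh.H X (EtCoh.Gm X) q) := by
  obtain ⟨n, rfl⟩ : ∃ n, q = n + 1 := ⟨q - 1, by omega⟩
  haveI : IsLocallyNoetherian X := LocallyOfFiniteType.isLocallyNoetherian f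
  haveI : IsNoetherian X := {}
  haveI : ∀ x : X, PreservesFiniteLimits (EtCoh.pull (locι x)) :=
    fun x => Groth.Agent.EtPullExact.pull_preservesFiniteLimits _
  have hsep : ∀ x : X, IsClosed ({x} : Set X) → IsSepClosed (X.residueField x) :=
    fun x hx => isSepClosed_of_isClosed f x hx
  let η : X := genericPoint X
  have hmax : IsMaxPt η := fun y hy => (hy.antisymm ((genericPoint_spec X).specializes (Set.mem_univ y))).eq
  have heq : ∀ z : X, ¬ IsClosed ({z} : Set X) → z = η := fun z hz =>
    (isMaxPt_of_not_closed hdim hz η ((genericPoint_spec X).specializes (Set.mem_univ z))).symm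
  let u := gmUnit η
  have hK : SuppClosed (kernel u) := fun z hz => by
    obtain rfl := heq z hz
    exact zeroAt_kernel_gmUnit hmax
  let p : EtCoh.Gm X ⟶ cokernel (kernel.ι u) := cokernel.π (kernel.ι u)
  let v : cokernel (kernel.ι u) ⟶ _ := cokernel.desc _ u (kernel.condition u)
  have hpv : p ≫ v = u := cokernel.π_desc _ _ _
  haveI : Mono v := (ShortComplex.exact_iff_mono_cokernel_desc
    (ShortComplex.mk (kernel.ι u) u (kernel.condition u))).1
    (ShortComplex.exact_of_f_is_kernel _ (kernelIsKernel u))
  have hA : (ShortComplex.mk (kernel.ι u) p (cokernel.condition _)).ShortExact :=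
    { exact := ShortComplex.exact_of_g_is_cokernel _ (cokernelIsCokernel _) }
  have hB : (ShortComplex.mk v (cokernel.π v) (cokernel.condition v)).ShortExact :=
    { exact := ShortComplex.exact_of_g_is_cokernel _ (cokernelIsCokernel _) }
  have hCv : SuppClosed (cokernel v) := fun z hz => by
    have hw : u ≫ cokernel.π v = 0 := (congrArg (· ≫ cokernel.π v) hpv.symm).trans
      ((Category.assoc _ _ _).trans ((congrArg (p ≫ ·) (cokernel.condition v)).trans comp_zero))
    haveI : Epi (cokernel.desc u (cokernel.π v) hw) :=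
      epi_of_epi_fac (cokernel.π_desc u (cokernel.π v) hw)
    obtain rfl := heq z hz
    exact zeroAt_of_epi (cokernel.desc u (cokernel.π v) hw) (zeroAt_cokernel_gmUnit hmax)
  refine subsingleton_of_forall_eq 0 fun c => ?_
  have hI : Ext.comp c (Ext.mk₀ p) (add_zero (n + 1)) = 0 := by
    haveI : Subsingleton (EtCoh.H X ((EtCoh.push (locι η)).obj (EtCoh.Gm (locScheme η))) (n + 1)) :=
      subsingleton_H_push_genericPoint_Gm f hdim (n + 1) (by omega)
    obtain ⟨d, hd'⟩ := Ext.covariant_sequence_exact₁ (EtCoh.const X ℤ) hB (Ext.comp c (Ext.mk₀ p) (add_zero (n + 1)))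
      (@Subsingleton.elim (EtCoh.H X ((EtCoh.push (locι η)).obj (EtCoh.Gm (locScheme η))) (n + 1)) _ _ _)
      (n₀ := n) rfl
    haveI := subsingleton_H_of_suppClosed hsep (cokernel v) hCv n (by omega)
    rw [← hd', show d = 0 from @Subsingleton.elim (EtCoh.H X (cokernel v) n) _ d 0, Ext.zero_comp]
  obtain ⟨d, hd'⟩ := Ext.covariant_sequence_exact₂ (EtCoh.const X ℤ) hA c hI
  haveI := subsingleton_H_of_suppClosed hsep (kernel u) hK (n + 1) (by omega)
  rw [← hd', show d = 0 from @Subsingleton.elim (EtCoh.H X (kernel u) (n + 1)) _ d 0, Ext.zero_comp]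

end Groth.Agent.EtPBC
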