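import Groth.Agent.EtPBC.HensDvrLift
import Groth.Agent.EtSol.ASValue
import Mathlib.RingTheory.Polynomial.GaussLemma
import Mathlib.FieldTheory.Galois.Basic
import Mathlib.RingTheory.Norm.Transitivity

/-!
# Unramified Galois extensions of degree `p` from Artin–Schreier equations of the residue field
-/

set_option autoImplicit false
set_option backward.isDefEq.respectTransparency false
set_option linter.style.haveILetI false

universe u

open IsLocalRing Polynomial

noncomputable section

namespace Groth.Agent.EtPBC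

theorem exists_dvr_adjoinRoot (A : Type u) [CommRing A] [IsDomain A] [IsDiscreteValuationRing A] [HenselianLocalRing A]
    (f : A[X]) (hfm : f.Monic) (hf : Irreducible (f.map (residue A))) :
    ∃ (_ : IsDomain (AdjoinRoot f)) (_ : IsDiscreteValuationRing (AdjoinRoot f))
      (_ : HenselianLocalRing (AdjoinRoot f)), ∀ ϖ : A, Irreducible ϖ → Irreducible (AdjoinRoot.of f ϖ) := by
  classical
  have hfi : Irreducible f := Monic.irreducible_of_irreducible_map (residue A) f hfm hf
  haveI : IsDomain (AdjoinRoot f) := AdjoinRoot.isDomain_of_prime hfi.prime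
  haveI : Module.Finite A (AdjoinRoot f) := hfm.finite_adjoinRoot
  haveI : IsLocalRing (AdjoinRoot f) := Hensel.isLocalRing_of_integral_domain A (AdjoinRoot f)
  haveI : HenselianLocalRing (AdjoinRoot f) := Hensel.henselianLocalRing_finite A (AdjoinRoot f)
  let ι : A →+* AdjoinRoot f := AdjoinRoot.of f
  have hι : Function.Injective ι := AdjoinRoot.of.injective_of_degree_ne_zero (by
    rw [← hfm.degree_map (residue A)]; exact hf.degree_pos.ne')
  haveI : Fact (Irreducible (f.map (residue A))) := ⟨hf⟩
  let L := AdjoinRoot (f.map (residue A))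
  let φ : AdjoinRoot f →+* L := AdjoinRoot.lift ((AdjoinRoot.of _).comp (residue A)) (AdjoinRoot.root _) (by
    rw [← eval₂_map]; exact AdjoinRoot.eval₂_root _)
  have hφ : Function.Surjective φ := fun x => by
    obtain ⟨q, rfl⟩ := AdjoinRoot.mk_surjective x
    obtain ⟨q', rfl⟩ := map_surjective (residue A) residue_surjective q
    refine ⟨AdjoinRoot.mk f q', ?_⟩
    rw [AdjoinRoot.lift_mk, ← eval₂_map, ← AdjoinRoot.algebraMap_eq, ← aeval_def, AdjoinRoot.aeval_eq]
  haveI hkmax : (RingHom.ker φ).IsMaximal := RingHom.ker_isMaximal_of_surjective φ hφ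
  have hker : maximalIdeal (AdjoinRoot f) = RingHom.ker φ := (IsLocalRing.eq_maximalIdeal hkmax).symm
  have hkerle : RingHom.ker φ = (maximalIdeal A).map ι := by
    refine le_antisymm (fun x hx => ?_) (Ideal.map_le_iff_le_comap.2 fun a ha => ?_)
    · obtain ⟨q, rfl⟩ := AdjoinRoot.mk_surjective x
      rw [RingHom.mem_ker, AdjoinRoot.lift_mk, ← eval₂_map, ← AdjoinRoot.algebraMap_eq, ← aeval_def,
        AdjoinRoot.aeval_eq, AdjoinRoot.mk_eq_zero] at hx
      obtain ⟨r, hr⟩ := hx
      obtain ⟨r', rfl⟩ := map_surjective (residue A) residue_surjective r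
      have h0 : (q - f * r').map (residue A) = 0 := by
        rw [Polynomial.map_sub, Polynomial.map_mul, hr, sub_self]
      have e : AdjoinRoot.mk f q = AdjoinRoot.mk f (q - f * r') := by
        rw [map_sub, map_mul, AdjoinRoot.mk_self, zero_mul, sub_zero]
      rw [e, (q - f * r').as_sum_support, map_sum]
      refine Ideal.sum_mem _ fun n _ => ?_
      rw [← C_mul_X_pow_eq_monomial, map_mul, AdjoinRoot.mk_C]
      refine Ideal.mul_mem_right _ _ (Ideal.mem_map_of_mem ι ?_)
      rw [← residue_eq_zero_iff, ← coeff_map, h0, coeff_zero]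
    · rw [Ideal.mem_comap, RingHom.mem_ker, AdjoinRoot.lift_of]
      show AdjoinRoot.of _ (residue A a) = 0
      rw [(residue_eq_zero_iff a).2 ha, map_zero]
  obtain ⟨ϖ₀, hϖ₀⟩ := IsDiscreteValuationRing.exists_irreducible A
  have hm : maximalIdeal (AdjoinRoot f) = Ideal.span {ι ϖ₀} := by
    rw [hker, hkerle, hϖ₀.maximalIdeal_eq, Ideal.map_span, Set.image_singleton]
  haveI : IsNoetherianRing (AdjoinRoot f) := isNoetherianRing_of_surjective _ _ _ (AdjoinRoot.mk_surjective (g := f))
  have hnf : ¬ IsField (AdjoinRoot f) := fun h => by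
    have h1 := (IsLocalRing.isField_iff_maximalIdeal_eq).1 h
    rw [hm, Ideal.span_singleton_eq_bot] at h1
    exact hϖ₀.ne_zero (hι (h1.trans (map_zero ι).symm))
  have h04 := (IsDiscreteValuationRing.TFAE (AdjoinRoot f) hnf).out 4 0
  haveI : IsDiscreteValuationRing (AdjoinRoot f) := h04.1 ⟨ι ϖ₀, hm⟩
  refine ⟨inferInstance, inferInstance, inferInstance, fun ϖ hϖ => ?_⟩
  rw [IsDiscreteValuationRing.irreducible_iff_uniformizer, hker, hkerle, hϖ.maximalIdeal_eq, Ideal.map_span,
    Set.image_singleton]

variable (p : ℕ) [hpp : Fact p.Prime]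

/-- a degree `p` Galois extension in which no uniformizer is a norm -/
theorem exists_galois_no_norm (A : Type u) [CommRing A] [IsDomain A] [IsDiscreteValuationRing A] [HenselianLocalRing A]
    (K : Type u) [Field K] [Algebra A K] [IsFractionRing A K] [CharP (ResidueField A) p]
    (a : A) (ha : ∀ e : ResidueField A, e ^ p - e ≠ residue A a) :
    ∃ (M : Type u) (_ : Field M) (_ : Algebra K M) (_ : FiniteDimensional K M) (_ : IsGalois K M),
      Module.finrank K M = p ∧ ∀ ϖ : A, Irreducible ϖ → ∀ y : M, Algebra.norm K y ≠ algebraMap A K ϖ := by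
  classical
  let f : A[X] := X ^ p - X - C a
  have hlt : (X + C a : A[X]).degree < (p : WithBot ℕ) :=
    (degree_X_add_C a).trans_lt (by exact_mod_cast hpp.out.one_lt)
  have hfm : f.Monic := by
    show (X ^ p - X - C a : A[X]).Monic
    rw [sub_sub]; exact monic_X_pow_sub hlt
  have hdegf : f.natDegree = p := natDegree_eq_of_degree_eq_some (by
    show (X ^ p - X - C a : A[X]).degree = _
    rw [sub_sub, degree_sub_eq_left_of_degree_lt (by rwa [degree_X_pow]), degree_X_pow])
  have hfi : Irreducible (f.map (residue A)) := by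
    rw [show f.map (residue A) = X ^ p - X - C (residue A a) by simp [f]]
    exact EtSol.irreducible_X_pow_sub_X_sub_C ha
  obtain ⟨_, _, _, hirr⟩ := exists_dvr_adjoinRoot A f hfm hfi
  let B := AdjoinRoot f
  haveI : Module.Finite A B := hfm.finite_adjoinRoot
  let g : K[X] := f.map (algebraMap A K)
  have hgi : Irreducible g :=
    (Monic.irreducible_iff_irreducible_map_fraction_map hfm).1 (Monic.irreducible_of_irreducible_map _ f hfm hfi)
  haveI : Fact (Irreducible g) := ⟨hgi⟩
  let M := AdjoinRoot g
  have hgm : g.Monic := hfm.map _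
  have hdegg : g.natDegree = p := (hfm.natDegree_map _).trans hdegf
  haveI : FiniteDimensional K M := (AdjoinRoot.powerBasis hgi.ne_zero).finite
  have hdeg : Module.finrank K M = p := by
    rw [(AdjoinRoot.powerBasis hgi.ne_zero).finrank, AdjoinRoot.powerBasis_dim, hdegg]
  let θ : M := AdjoinRoot.root g
  let j : B →+* M := AdjoinRoot.lift ((AdjoinRoot.of g).comp (algebraMap A K)) θ (by
    rw [← eval₂_map]; exact AdjoinRoot.eval₂_root g)
  have hjA : j.comp (AdjoinRoot.of f) = (AdjoinRoot.of g).comp (algebraMap A K) :=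
    AdjoinRoot.lift_comp_of _
  -- the translates of the root lift
  haveI : CharP (ResidueField B) p := by
    haveI : IsLocalHom (algebraMap A B) := RingHom.IsIntegral.isLocalHom
      (Algebra.IsIntegral.isIntegral (R := A))
      (AdjoinRoot.of.injective_of_degree_ne_zero (by rw [← hfm.degree_map (residue A)]; exact hfi.degree_pos.ne'))
    exact charP_of_injective_ringHom (algebraMap (ResidueField A) (ResidueField B)).injective p
  let fB : B[X] := f.map (AdjoinRoot.of f)
  have hres : ∀ i : ℕ, ∃ b : B, fB.IsRoot b ∧ residue B b = residue B (AdjoinRoot.root f) + i := by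
    intro i
    have heval : ∀ b : B, fB.eval b = b ^ p - b - AdjoinRoot.of f a := fun b => by simp [fB, f] <;> rfl
    have hroot : residue B (AdjoinRoot.root f) ^ p - residue B (AdjoinRoot.root f) - residue B (AdjoinRoot.of f a) = 0 := by
      have h : fB.eval (AdjoinRoot.root f) = 0 := by rw [Polynomial.eval_map]; exact AdjoinRoot.eval₂_root f
      rw [heval] at h
      rw [← map_pow, ← map_sub, ← map_sub, h, map_zero]
    obtain ⟨b, hb, hbi⟩ := HenselianLocalRing.is_henselian fB (hfm.map _) (AdjoinRoot.root f + i) (by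
      rw [← residue_eq_zero_iff, heval, map_sub, map_sub, map_pow, map_add, map_natCast, add_pow_char,
        show ((i : ResidueField B)) ^ p = i from by
          rw [← map_natCast (ZMod.castHom (dvd_refl p) (ResidueField B)), ← map_pow, ZMod.pow_card]]
      linear_combination hroot) (by
      rw [← notMem_maximalIdeal, ← residue_eq_zero_iff]
      simp [fB, f, derivative_X_pow, map_natCast, CharP.cast_eq_zero])
    refine ⟨b, hb, ?_⟩
    rw [← sub_eq_zero, show residue B (AdjoinRoot.root f) + (i : ResidueField B) =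
      residue B (AdjoinRoot.root f + i) by rw [map_add, map_natCast], ← map_sub, residue_eq_zero_iff]
    exact hbi
  choose r hr hrres using hres
  have hji : Function.Injective j := by
    intro x y hxy
    obtain ⟨x, rfl⟩ := AdjoinRoot.mk_surjective x
    obtain ⟨y, rfl⟩ := AdjoinRoot.mk_surjective y
    rw [AdjoinRoot.lift_mk, AdjoinRoot.lift_mk, ← eval₂_map, ← eval₂_map, ← AdjoinRoot.algebraMap_eq, ← aeval_def,
      ← aeval_def, AdjoinRoot.aeval_eq, AdjoinRoot.aeval_eq, AdjoinRoot.mk_eq_mk, ← Polynomial.map_sub] at hxy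
    rw [AdjoinRoot.mk_eq_mk]
    exact (map_dvd_map (algebraMap A K) (IsFractionRing.injective A K) hfm).1 hxy
  let gM : M[X] := g.map (algebraMap K M)
  have hroots : ∀ i, j (r i) ∈ gM.roots := fun i => by
    rw [mem_roots (hgm.map _).ne_zero, IsRoot, Polynomial.map_map, Polynomial.eval_map]
    have h : j ((fB).eval (r i)) = 0 := by rw [hr i, map_zero]
    rw [Polynomial.eval_map, hom_eval₂] at h
    rw [show (algebraMap K M).comp (algebraMap A K) = j.comp (AdjoinRoot.of f) from hjA.symm]
    exact h
  let S : Finset M := (Finset.range p).image fun i => j (r i)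
  have hScard : S.card = p := by
    rw [Finset.card_image_of_injOn, Finset.card_range]
    intro i hi i' hi' h
    have h1 := congrArg (residue B) (hji h)
    rw [hrres, hrres, add_right_inj, CharP.natCast_eq_natCast (ResidueField B) p] at h1
    exact Nat.ModEq.eq_of_lt_of_lt h1 (Finset.mem_range.1 hi) (Finset.mem_range.1 hi')
  have hSle : S.val ≤ gM.roots := by
    refine (Multiset.le_iff_subset S.nodup).2 fun x hx => ?_
    obtain ⟨i, -, rfl⟩ := Finset.mem_image.1 (Finset.mem_def.2 hx)
    exact hroots i
  have hcardle : gM.roots.card ≤ p := (card_roots' gM).trans (by rw [hgm.natDegree_map, hdegg])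
  have heq : S.val = gM.roots := Multiset.eq_of_le_of_card_le hSle (hcardle.trans hScard.ge)
  have hsplit : gM.Splits := by
    rw [splits_iff_card_roots, ← heq, hgm.natDegree_map, hdegg]
    exact hScard
  have hsepg : g.Separable := by
    rw [← separable_map (algebraMap K M)]
    refine (nodup_roots_iff_of_splits (hgm.map _).ne_zero hsplit).1 ?_
    show gM.roots.Nodup
    rw [← heq]
    exact S.nodup
  haveI : g.IsSplittingField K M := by
    refine ⟨hsplit, eq_top_iff.2 ?_⟩
    rw [← AdjoinRoot.adjoinRoot_eq_top]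
    refine Algebra.adjoin_mono ?_
    rintro _ rfl
    rw [mem_rootSet_of_ne hgi.ne_zero]
    rw [aeval_def, AdjoinRoot.algebraMap_eq]
    exact AdjoinRoot.eval₂_root g
  haveI : IsGalois K M := IsGalois.of_separable_splitting_field (p := g) hsepg
  refine ⟨M, inferInstance, inferInstance, inferInstance, inferInstance, hdeg, fun ϖ hϖ y hy => ?_⟩
  -- valuations of norms are multiples of `p`
  letI : Algebra B M := j.toAlgebra
  haveI : IsScalarTower A B M := IsScalarTower.of_algebraMap_eq fun x => (RingHom.congr_fun hjA x).symm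
  haveI : IsFractionRing B M := by
    have hinjB : Function.Injective (algebraMap B M) := hji
    haveI : FaithfulSMul B M := (faithfulSMul_iff_algebraMap_injective B M).2 hinjB
    obtain ⟨ψ, hψ⟩ : ∃ ψ : FractionRing B →+* M, ∀ b, ψ (algebraMap B (FractionRing B) b) = j b :=
      ⟨IsFractionRing.lift hji, fun b => IsFractionRing.lift_algebraMap hji b⟩
    have hall : ∀ z : M, z ∈ ψ.fieldRange := by
      intro z
      obtain ⟨q, rfl⟩ := AdjoinRoot.mk_surjective z
      rw [← AdjoinRoot.aeval_eq, aeval_eq_sum_range]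
      refine Subfield.sum_mem _ fun i _ => ?_
      rw [Algebra.smul_def]
      refine mul_mem ?_ (pow_mem (show AdjoinRoot.root g ∈ ψ.fieldRange from ⟨algebraMap B _ (AdjoinRoot.root f), ?_⟩) i)
      · obtain ⟨x, y, -, hxy⟩ := IsFractionRing.div_surjective (A := A) (q.coeff i)
        rw [← hxy, map_div₀]
        refine div_mem ?_ ?_
        · exact ⟨algebraMap B _ (AdjoinRoot.of f x), (hψ _).trans (RingHom.congr_fun hjA x)⟩
        · exact ⟨algebraMap B _ (AdjoinRoot.of f y), (hψ _).trans (RingHom.congr_fun hjA y)⟩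
      · exact (hψ _).trans (AdjoinRoot.lift_root _)
    refine IsFractionRing.of_field B M fun z => ?_
    obtain ⟨w, rfl⟩ := hall z
    obtain ⟨x, y, -, rfl⟩ := IsFractionRing.div_surjective (A := B) w
    exact ⟨x, y, by rw [map_div₀, hψ, hψ]; rfl⟩
  have hy0 : y ≠ 0 := fun h => by
    rw [h, Algebra.norm_zero] at hy
    exact (map_ne_zero_iff _ (IsFractionRing.injective A K)).2 hϖ.ne_zero hy.symm
  obtain ⟨n, w, hw⟩ := IsDiscreteValuationRing.exists_units_eq_smul_zpow_of_irreducible (K := M) (hirr ϖ hϖ) hy0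
  obtain ⟨nw, hnw⟩ := IsIntegrallyClosed.isIntegral_iff.1 (Algebra.isIntegral_norm (R := A) K
    ((Algebra.IsIntegral.isIntegral (R := A) (w : B)).map (IsScalarTower.toAlgHom A B M)))
  obtain ⟨nw', hnw'⟩ := IsIntegrallyClosed.isIntegral_iff.1 (Algebra.isIntegral_norm (R := A) K
    ((Algebra.IsIntegral.isIntegral (R := A) (↑w⁻¹ : B)).map (IsScalarTower.toAlgHom A B M)))
  have hnwu : IsUnit nw := IsUnit.of_mul_eq_one nw' (IsFractionRing.injective A K (by
    rw [map_mul, hnw, hnw', ← map_mul, ← map_mul, Units.mul_inv, map_one, map_one, map_one]))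
  have hπ : algebraMap B M (AdjoinRoot.of f ϖ) = algebraMap K M (algebraMap A K ϖ) := AdjoinRoot.lift_of _
  have hN : ∀ k : ℕ, Algebra.norm K ((algebraMap B M (AdjoinRoot.of f ϖ)) ^ k) = (algebraMap A K ϖ) ^ (p * k) := by
    intro k
    rw [map_pow, hπ, Algebra.norm_algebraMap, hdeg, pow_mul]
  rw [hw, Units.smul_def, Algebra.smul_def, map_mul] at hy
  rw [show Algebra.norm K (algebraMap B M (w : B)) = algebraMap A K nw from hnw.symm] at hy
  cases n with
  | ofNat k =>
    rw [Int.ofNat_eq_natCast, zpow_natCast, hN, ← map_pow, ← map_mul] at hy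
    have h := IsFractionRing.injective A K hy
    obtain ⟨u, rfl⟩ := hnwu
    have := IsDiscreteValuationRing.unit_mul_pow_congr_pow hϖ hϖ u 1 (p * k) 1 (by rw [h, Units.val_one, one_mul, pow_one])
    exact hpp.out.ne_one (Nat.eq_one_of_mul_eq_one_right this)
  | negSucc k =>
    rw [zpow_negSucc] at hy
    have h1 : Algebra.norm K ((algebraMap B M (AdjoinRoot.of f ϖ)) ^ (k + 1))⁻¹ *
        (algebraMap A K ϖ) ^ (p * (k + 1)) = 1 := by
      rw [← hN, ← map_mul, inv_mul_cancel₀ (pow_ne_zero _ ((map_ne_zero_iff _ (IsFractionRing.injective B M)).2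
        (hirr ϖ hϖ).ne_zero)), map_one]
    have h2 : nw = ϖ ^ (p * (k + 1) + 1) := IsFractionRing.injective A K (by
      rw [map_pow, pow_succ']
      linear_combination (algebraMap A K ϖ) ^ (p * (k + 1)) * hy - algebraMap A K nw * h1)
    exact hϖ.not_isUnit ((isUnit_pow_iff (by omega)).1 (h2 ▸ hnwu))

end Groth.Agent.EtPBC
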