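import Groth.Agent.EtPBC.HensDvrKum
import Groth.Agent.EtPBC.CdLerayEdge
import Groth.Agent.EtStrictLoc.Lift

/-!
# The residue lowers the degree by one

`H^{q+1}(K, μ_p) = 0` for all `q > d` implies `H^q(κ, ℤ/p) = 0` for all `q > d`, for a henselian DVR containing `μ_p`:
the class of a uniformizer gives a section `ℤ/p → R¹j_*μ_p`, bijective at the closed point, which lifts to `j_*B` for the
injective quotient `B` of `μ_p`.
-/

set_option autoImplicit false
set_option backward.isDefEq.respectTransparency false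
set_option backward.isDefEq.respectTransparency.types false
set_option linter.auxLemma false
set_option linter.style.haveILetI false

universe u

open CategoryTheory CategoryTheory.Limits CategoryTheory.Abelian AlgebraicGeometry Opposite IsLocalRing
open Groth.Agent.EtFLC (res res_res res_id)

noncomputable section

namespace Groth.Agent.EtPBC

attribute [local instance 100000] EtCoh.H._proof_1 EtMV.hext
attribute [local instance 200000] EtMV.hextAb

section Push

variable {X Y : Scheme.{u}} (f : X ⟶ Y)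

theorem pushZero_natural {F G : EtCoh.Ab X} (φ : F ⟶ G) :
    (EtCoh.Rpush f 0).map φ ≫ (pushZeroIso f G).hom = (pushZeroIso f F).hom ≫ (EtCoh.push f).map φ :=
  haveI : PreservesFiniteLimits (EtCoh.push f) :=
    haveI : (EtCoh.push f).IsRightAdjoint := (EtCoh.pullPushAdj f).isRightAdjoint
    inferInstance
  (EtCoh.push f).rightDerivedZeroIsoSelf.hom.naturality _

variable {S : ShortComplex (EtCoh.Ab X)} (hS : S.ShortExact)

/-- the connecting map on direct images -/
def pushDelta : (EtCoh.push f).obj S.X₃ ⟶ (EtCoh.Rpush f 1).obj S.X₁ :=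
  (pushZeroIso f S.X₃).inv ≫ (RDerLib.derivedLES (EtCoh.push f)).δ S hS 0 1 rfl

theorem map_g_pushDelta : (EtCoh.push f).map S.g ≫ pushDelta f hS = 0 := by
  rw [← cancel_epi (pushZeroIso f S.X₂).hom, ← Category.assoc, ← pushZero_natural, pushDelta, Category.assoc,
    Iso.hom_inv_id_assoc, comp_zero]
  exact (RDerLib.derivedLES (EtCoh.push f)).comp_δ S hS 0 1 rfl

theorem exact_map_g_pushDelta : (ShortComplex.mk _ _ (map_g_pushDelta f hS)).Exact := by
  refine (ShortComplex.exact_iff_of_iso ?_).1 ((RDerLib.derivedLES (EtCoh.push f)).exact₃ S hS 0 1 rfl)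
  exact ShortComplex.isoMk (pushZeroIso f _) (pushZeroIso f _) (Iso.refl _) (pushZero_natural f S.g).symm
    (by
      show (pushZeroIso f S.X₃).hom ≫ pushDelta f hS = _ ≫ 𝟙 _
      rw [pushDelta, Iso.hom_inv_id_assoc, Category.comp_id])

theorem pushDelta_natural {S' : ShortComplex (EtCoh.Ab X)} (hS' : S'.ShortExact) (φ : S ⟶ S') :
    (EtCoh.push f).map φ.τ₃ ≫ pushDelta f hS' = pushDelta f hS ≫ (EtCoh.Rpush f 1).map φ.τ₁ := by
  rw [← cancel_epi (pushZeroIso f S.X₃).hom, ← Category.assoc, ← pushZero_natural, pushDelta, pushDelta,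
    Category.assoc, Iso.hom_inv_id_assoc, Category.assoc, Iso.hom_inv_id_assoc]
  exact (RDerLib.derivedLES (EtCoh.push f)).δ_natural hS hS' φ 0 1 rfl

end Push

variable (p : ℕ) [hpp : Fact p.Prime]
variable (A : Type u) [CommRing A] [IsDomain A] [IsDiscreteValuationRing A]
  (K : Type u) [Field K] [Algebra A K] [IsFractionRing A K]

omit [IsDiscreteValuationRing A] in
/-- injective maps extend to the fraction field -/
theorem exists_extend (L : Type u) [Field L] (f : A →+* L) (hf : Function.Injective f) :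
    ∃ ψ : K →+* L, ψ.comp (algebraMap A K) = f :=
  ⟨IsFractionRing.lift hf, RingHom.ext fun x => IsFractionRing.lift_algebraMap hf x⟩

/-- the section of `G_m` over the generic point given by a unit of `K` -/
def genUnit (a : Kˣ) : EtCoh.sect ((EtCoh.push (genPt A K)).obj (EtCoh.Gm _)) (EtCoh.top (Spec (CommRingCat.of A))) :=
  res (EtCoh.Gm (Spec (CommRingCat.of K))) (EtMV.toTop ((EtCoh.bc (genPt A K)).obj (EtCoh.top _)))
    (GalSym.unitSection _ (GalSym.specUnit K a))

/-- **a uniformizer is not a local `p`-th power** -/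
theorem germ_genUnit_notMem (a : Kˣ) (ϖ : A) (hϖ : Irreducible ϖ) (ha : (a : K) = algebraMap A K ϖ) (R : Type u)
    [CommRing R] [IsDomain R] [IsDiscreteValuationRing R]
    [Algebra ((Spec (CommRingCat.of A)).presheaf.stalk (closedPoint A)) R]
    [IsLocalHom (algebraMap ((Spec (CommRingCat.of A)).presheaf.stalk (closedPoint A)) R)]
    [HenselianLocalRing R] [IsSepClosed (ResidueField R)]
    [_root_.Hensel.IsStrictHenselization ((Spec (CommRingCat.of A)).presheaf.stalk (closedPoint A)) R]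
    (φ : A →+* R) (hφ : Spec.map (CommRingCat.ofHom φ) = Hens2.specOf (Spec (CommRingCat.of A)) (closedPoint A) R)
    (hinj : Function.Injective φ) (hirr : Irreducible (φ ϖ))
    (z : (EtCoh.stalk (Hens2.geomPt (Spec (CommRingCat.of A)) (closedPoint A) R)).obj
      ((EtCoh.push (genPt A K)).obj (EtCoh.Gm _))) :
    (Scheme.pointSmallEtale (Hens2.geomPt (Spec (CommRingCat.of A)) (closedPoint A) R)).toPresheafFiber
        (EtCoh.top _) (EtCons.ptTop _) ((EtCoh.push (genPt A K)).obj (EtCoh.Gm _)).obj (genUnit A K a) ≠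
      (EtCoh.stalk (Hens2.geomPt (Spec (CommRingCat.of A)) (closedPoint A) R)).map
        ((EtCoh.push (genPt A K)).map (EtCoh.powMap _ p)) z := by
  intro hz
  let ξ := Hens2.geomPt (Spec (CommRingCat.of A)) (closedPoint A) R
  let G := (EtCoh.push (genPt A K)).obj (EtCoh.Gm _)
  obtain ⟨W, v, y, rfl⟩ := GrothendieckTopology.Point.toPresheafFiber_jointly_surjective
    (Φ := Scheme.pointSmallEtale ξ) (P := G.obj) z
  have h1 := hz.trans (GrothendieckTopology.Point.toPresheafFiber_naturality_apply (Scheme.pointSmallEtale ξ)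
    ((EtCoh.push (genPt A K)).map (EtCoh.powMap _ p)).hom W v y)
  -- compare over a common neighbourhood
  let W₂ := (EtCoh.top (Spec (CommRingCat.of A)))
  obtain ⟨W', g, g', v', hres⟩ : ∃ (W' : (Spec (CommRingCat.of A)).Etale) (g : W' ⟶ W₂) (g' : W' ⟶ W)
      (_ : (Scheme.pointSmallEtale ξ).fiber.obj W'),
      res G g (genUnit A K a) = res G g' (((EtCoh.push (genPt A K)).map (EtCoh.powMap _ p)).hom.app (op W) y) := by
    let c : (Scheme.pointSmallEtale ξ).fiber.Elements :=
      IsCofiltered.min ⟨W₂, EtCons.ptTop ξ⟩ ⟨W, v⟩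
    let a₁ : c ⟶ (⟨W₂, EtCons.ptTop ξ⟩ : (Scheme.pointSmallEtale ξ).fiber.Elements) := IsCofiltered.minToLeft _ _
    let a₂ : c ⟶ (⟨W, v⟩ : (Scheme.pointSmallEtale ξ).fiber.Elements) := IsCofiltered.minToRight _ _
    have e₁ : (Scheme.pointSmallEtale ξ).toPresheafFiber c.1 c.2 G.obj (res G a₁.1 (genUnit A K a)) =
        (Scheme.pointSmallEtale ξ).toPresheafFiber W₂ (EtCons.ptTop ξ) G.obj (genUnit A K a) :=
      (GrothendieckTopology.Point.toPresheafFiber_w_apply (Scheme.pointSmallEtale ξ) a₁.1 c.2 G.obj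
        (genUnit A K a)).trans (congrArg (fun t => (Scheme.pointSmallEtale ξ).toPresheafFiber W₂ t G.obj
          (genUnit A K a)) a₁.2)
    have e₂ : (Scheme.pointSmallEtale ξ).toPresheafFiber c.1 c.2 G.obj
        (res G a₂.1 (((EtCoh.push (genPt A K)).map (EtCoh.powMap _ p)).hom.app (op W) y)) =
        (Scheme.pointSmallEtale ξ).toPresheafFiber W v G.obj
          (((EtCoh.push (genPt A K)).map (EtCoh.powMap _ p)).hom.app (op W) y) :=
      (GrothendieckTopology.Point.toPresheafFiber_w_apply (Scheme.pointSmallEtale ξ) a₂.1 c.2 G.obj _).trans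
        (congrArg (fun t => (Scheme.pointSmallEtale ξ).toPresheafFiber W t G.obj _) a₂.2)
    obtain ⟨W', g, v', -, h2⟩ := (GrothendieckTopology.Point.toPresheafFiber_eq_iff' (Scheme.pointSmallEtale ξ)
      (P := G.obj) c.1 c.2 _ _).mp (e₁.trans (h1.trans e₂.symm))
    refine ⟨W', g ≫ a₁.1, g ≫ a₂.1, v', ?_⟩
    rw [← res_res, ← res_res]
    exact h2
  let bc := EtCoh.bc (genPt A K)
  let U := bc.obj W'
  let y' : EtCoh.sect (EtCoh.Gm (Spec (CommRingCat.of K))) U := res G g' y
  have hres' : res (EtCoh.Gm (Spec (CommRingCat.of K))) (EtMV.toTop U)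
      (GalSym.unitSection _ (GalSym.specUnit K a)) = p • y' := by
    have h2 : res G g' (((EtCoh.push (genPt A K)).map (EtCoh.powMap _ p)).hom.app (op W) y) = res G g' (p • y) :=
      congrArg (res G g') (KummerLib.powMap_app p (bc.obj W) y)
    rw [h2, map_nsmul] at hres
    rw [← hres]
    show _ = res (EtCoh.Gm (Spec (CommRingCat.of K))) (bc.map g) (res _ (EtMV.toTop _) _)
    rw [res_res]
    exact congrArg (fun t => res (EtCoh.Gm (Spec (CommRingCat.of K))) t _) (EtMV.hom_top_ext _ _)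
  -- pull back to the strictly henselian generic point
  have hW' : v'.left ≫ W'.hom = EtHens.pt R ≫ Spec.map (CommRingCat.ofHom φ) := by
    rw [hφ]; exact Over.w v'
  obtain ⟨α, hα, -⟩ := EtStrictLoc.exists_lift (Spec.map (CommRingCat.ofHom φ)) W' v'.left hW'
  let L := FractionRing R
  obtain ⟨ψ, hψ⟩ := exists_extend A K L ((algebraMap R L).comp φ)
    ((IsFractionRing.injective R L).comp hinj)
  let m : Spec (CommRingCat.of L) ⟶ U.left :=
    pullback.lift (Spec.map (CommRingCat.ofHom (algebraMap R L)) ≫ α) (Spec.map (CommRingCat.ofHom ψ)) (by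
      rw [Category.assoc, hα, ← Spec.map_comp, ← Spec.map_comp, ← CommRingCat.ofHom_comp, ← CommRingCat.ofHom_comp,
        hψ])
  let Y : (Γ(U.left, ⊤) : Type u)ˣ := ((show ULift.{u + 1} (Additive ((Γ(U.left, ⊤) : Type u)ˣ)) from y').down).toMul
  have hY : Units.map (EtMV.toTop U).left.appTop.hom.toMonoidHom (GalSym.specUnit K a) = Y ^ p :=
    congrArg (fun t : ULift.{u + 1} (Additive ((Γ(U.left, ⊤) : Type u)ˣ)) => t.down.toMul) hres'
  let w : L := (Scheme.ΓSpecIso (CommRingCat.of L)).hom (m.appTop (Y : Γ(U.left, ⊤)))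
  have hw : w ^ p = algebraMap R L (φ ϖ) := by
    have hY' : (EtMV.toTop U).left.appTop.hom
        ((Scheme.ΓSpecIso (CommRingCat.of K)).inv (a : K)) = (Y : Γ(U.left, ⊤)) ^ p :=
      (congrArg Units.val hY).trans (Units.val_pow_eq_pow_val Y p)
    have hsnd : m ≫ (EtMV.toTop U).left = Spec.map (CommRingCat.ofHom ψ) := by
      rw [show (EtMV.toTop U).left = pullback.snd W'.hom (genPt A K) from
        (Category.comp_id _).symm.trans (MorphismProperty.Over.w (EtMV.toTop U))]
      exact pullback.lift_snd _ _ _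
    rw [← RingHom.comp_apply, ← hψ, RingHom.comp_apply, ← ha]
    have h2 : (Scheme.ΓSpecIso (CommRingCat.of L)).hom ((m ≫ (EtMV.toTop U).left).appTop
        ((Scheme.ΓSpecIso (CommRingCat.of K)).inv (a : K))) = w ^ p := by
      rw [Scheme.Hom.comp_appTop, CommRingCat.comp_apply, hY', map_pow, map_pow]
    rw [← h2, hsnd, ← CommRingCat.comp_apply, Scheme.ΓSpecIso_naturality, CommRingCat.comp_apply]
    exact congrArg ψ ((Scheme.ΓSpecIso (CommRingCat.of K)).commRingCatIsoToRingEquiv.apply_symm_apply (a : K))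
  have hint : IsIntegral R w := IsIntegral.of_pow hpp.out.pos (hw ▸ isIntegral_algebraMap)
  obtain ⟨w₀, hw₀⟩ := IsIntegrallyClosed.isIntegral_iff.1 hint
  have hz' : w₀ ^ p = φ ϖ := IsFractionRing.injective R L (by rw [map_pow, hw₀]; exact hw)
  exact not_irreducible_pow hpp.out.ne_one (hz' ▸ hirr)

variable [HenselianLocalRing A]

/-- **one step down**: the residue -/
theorem subsingleton_H_residue (hp : IsUnit (p : A)) (ζ : A) (hζ : IsPrimitiveRoot ζ p) (q : ℕ) (hq : 0 < q)
    (hK : Subsingleton (EtCoh.H (Spec (CommRingCat.of K)) (EtCoh.mu _ p) (q + 1))) :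
    Subsingleton (EtCoh.H (Spec (CommRingCat.of (ResidueField A)))
      (EtCoh.const (Spec (CommRingCat.of (ResidueField A))) (ZMod p)) q) := by
  obtain ⟨R, _, _, _, _, _, _, _, hR, e, φ, hφ, -, hinj, hirr⟩ := exists_fibre_genPt A K
  obtain ⟨hfin, hcard⟩ := card_stalk_R1_le p A K hp ζ hζ R e φ hinj
  haveI := hfin
  obtain ⟨ϖ, hϖ⟩ := IsDiscreteValuationRing.exists_irreducible A
  let X := Spec (CommRingCat.of K)
  let Y := Spec (CommRingCat.of A)
  let j := genPt A K
  let F := EtCoh.mu X p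
  have hu : IsUnit (p : Γ(X, ⊤)) := by
    rw [← map_natCast ((Scheme.ΓSpecIso (CommRingCat.of K)).inv.hom.comp (algebraMap A K))]
    exact hp.map _
  have hm : Epi (EtCoh.powMap X p) := Groth.Agent.S0108.result X p hu
  have hSK := EtSix.kummerShortExact (X := X) hm
  -- the injective sequence
  let I := Injective.under F
  let S := ShortComplex.mk (Injective.ι F) (cokernel.π (Injective.ι F)) (cokernel.condition _)
  have hS : S.ShortExact := { exact := ShortComplex.exact_of_g_is_cokernel _ (cokernelIsCokernel _) }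
  haveI : Mono (EtSix.kummerSC X p).f := hSK.mono_f
  let α : EtCoh.Gm X ⟶ I := Injective.factorThru (Injective.ι F) (EtSix.kummerSC X p).f
  have hαι : (EtSix.kummerSC X p).f ≫ α = Injective.ι F := Injective.comp_factorThru _ _
  haveI := hSK.epi_g
  let β : EtCoh.Gm X ⟶ S.X₃ := hSK.exact.desc (α ≫ S.g) (by rw [← Category.assoc, hαι]; exact S.zero)
  have hβ : (EtSix.kummerSC X p).g ≫ β = α ≫ S.g := hSK.exact.g_desc _ _
  let Φ : EtSix.kummerSC X p ⟶ S :=
    { τ₁ := 𝟙 _, τ₂ := α, τ₃ := β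
      comm₁₂ := (Category.id_comp _).trans hαι.symm
      comm₂₃ := hβ.symm }
  let θ := pushDelta j hS
  have hθg : (EtCoh.push j).map S.g ≫ θ = 0 := map_g_pushDelta j hS
  have hnat : (EtCoh.push j).map β ≫ θ = pushDelta j hSK := by
    have h := pushDelta_natural j hSK hS Φ
    rwa [show Φ.τ₁ = 𝟙 _ from rfl, CategoryTheory.Functor.map_id, Category.comp_id] at h
  -- the class of the uniformizer
  have hπ0 : algebraMap A K ϖ ≠ 0 := (map_ne_zero_iff _ (IsFractionRing.injective A K)).2 hϖ.ne_zero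
  let sK := genUnit A K (Units.mk0 _ hπ0)
  let T := EtCoh.top Y
  let U₀ := (EtCoh.bc j).obj T
  let b₀ : EtCoh.sect ((EtCoh.push j).obj S.X₃) T := ((EtCoh.push j).map β).hom.app (op T) sK
  obtain ⟨i', hi'⟩ := EtColimH.divisible_of_injective I (U := U₀) (α.hom.app (op U₀) sK) hpp.out.pos
  let b₁ : EtCoh.sect ((EtCoh.push j).obj S.X₃) T := ((EtCoh.push j).map S.g).hom.app (op T) i'
  let c := b₀ - b₁
  have hc : p • c = 0 := by
    rw [nsmul_sub, sub_eq_zero]
    show p • (β.hom.app (op U₀)) sK = p • (S.g.hom.app (op U₀)) i'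
    rw [← map_nsmul (S.g.hom.app (op U₀)).hom, hi', ← map_nsmul (β.hom.app (op U₀)).hom,
      ← KummerLib.powMap_app p U₀ sK]
    exact ConcreteCategory.congr_hom (congrArg (fun t => t.hom.app (op U₀)) hβ) sK
  let σ : ZMod p →+ EtCoh.sect ((EtCoh.push j).obj S.X₃) T :=
    ZMod.lift p ⟨zmultiplesHom _ c, by rw [zmultiplesHom_apply, natCast_zsmul]; exact hc⟩
  have hσ1 : σ 1 = c :=
    (congrArg σ (Int.cast_one (R := ZMod p)).symm).trans ((ZMod.lift_coe _ _ _).trans (one_zsmul c))
  let ψ := constHom (ZMod p) ((EtCoh.push j).obj S.X₃) σ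
  let χ : EtCoh.const Y (ZMod p) ⟶ (EtCoh.Rpush j 1).obj F := ψ ≫ θ
  -- its germ is nonzero
  let ξ := Hens2.geomPt Y (closedPoint A) R
  have hgerm : (EtCoh.stalk ξ).map χ (EtCons.constGerm (ZMod p) ξ 1) ≠ 0 := by
    intro h0
    have h1 : (EtCoh.stalk ξ).map χ (EtCons.constGerm (ZMod p) ξ 1) =
        (Scheme.pointSmallEtale ξ).toPresheafFiber T (EtCons.ptTop ξ) ((EtCoh.Rpush j 1).obj F).obj
          ((pushDelta j hSK).hom.app (op T) sK) := by
      refine (GrothendieckTopology.Point.toPresheafFiber_naturality_apply (Scheme.pointSmallEtale ξ) χ.hom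
        T (EtCons.ptTop ξ) (EtMV.cst _ 1)).trans (congrArg _ ?_)
      show θ.hom.app (op T) (ψ.hom.app (op T) (EtMV.cst _ 1)) = _
      rw [constHom_cst (ZMod p) ((EtCoh.push j).obj S.X₃) σ 1, hσ1, map_sub, ← hnat]
      refine (sub_eq_self.2 ?_).trans rfl
      exact ConcreteCategory.congr_hom (congrArg (fun t => t.hom.app (op T)) hθg) i'
    have h2 : (EtCoh.stalk ξ).map (pushDelta j hSK) ((Scheme.pointSmallEtale ξ).toPresheafFiber T (EtCons.ptTop ξ)
        ((EtCoh.push j).obj (EtCoh.Gm X)).obj sK) = 0 :=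
      (GrothendieckTopology.Point.toPresheafFiber_naturality_apply (Scheme.pointSmallEtale ξ)
        (pushDelta j hSK).hom T (EtCons.ptTop ξ) sK).trans (h1.symm.trans h0)
    haveI : (EtCoh.stalk ξ).PreservesHomology := Functor.preservesHomologyOfExact _
    obtain ⟨z, hz⟩ := (ShortComplex.ab_exact_iff _).1 ((exact_map_g_pushDelta j hSK).map (EtCoh.stalk ξ)) _ h2
    exact germ_genUnit_notMem p A K (Units.mk0 _ hπ0) ϖ hϖ rfl R φ hφ hinj (hirr ϖ hϖ) z hz.symm
  -- bijective at the closed point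
  have hb : Function.Bijective ((EtCoh.stalk ξ).map χ) := by
    let h' : ZMod p →+ (EtCoh.stalk ξ).obj ((EtCoh.Rpush j 1).obj F) :=
      ((EtCoh.stalk ξ).map χ).hom.comp (EtCons.constGerm (ZMod p) ξ)
    have hk : Function.Injective h' := by
      rw [← AddMonoidHom.ker_eq_bot_iff]
      haveI : Fact (Nat.card (ZMod p)).Prime := ⟨by rw [Nat.card_zmod]; exact hpp.out⟩
      rcases AddSubgroup.eq_bot_or_eq_top_of_prime_card h'.ker with hk | hk
      · exact hk
      · exact absurd (show h' 1 = 0 from AddMonoidHom.mem_ker.1 (by rw [hk]; exact AddSubgroup.mem_top _)) hgerm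
    have hbij : Function.Bijective h' :=
      hk.bijective_of_nat_card_le (hcard.trans (Nat.card_zmod p).ge)
    exact (Function.Bijective.of_comp_iff _ (EtCons.constGerm_bijective (ZMod p) ξ)).1 hbij
  haveI : IsIso ((EtCoh.stalk ξ).map χ) := (ConcreteCategory.isIso_iff_bijective _).2 hb
  haveI := EtPullExact.pull_preservesFiniteLimits (EtMV.clPt A)
  have hξ : ξ default = closedPoint A := EtBCQ.geomPt_apply (X := Y) (closedPoint A) R
  have hker : IsZero ((EtCoh.pull (EtMV.clPt A)).obj (kernel χ)) :=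
    isZero_pull_clPt A _ ((isZero_stalk_iff_zeroAt hξ _).1
      ((isZero_kernel_of_mono ((EtCoh.stalk ξ).map χ)).of_iso (PreservesKernel.iso _ χ)))
  have hcoker : IsZero ((EtCoh.pull (EtMV.clPt A)).obj (cokernel χ)) :=
    isZero_pull_clPt A _ ((isZero_stalk_iff_zeroAt hξ _).1
      ((isZero_cokernel_of_epi ((EtCoh.stalk ξ).map χ)).of_iso (PreservesCokernel.iso _ χ)))
  haveI : Mono ((EtCoh.pull (EtMV.clPt A)).map χ) :=
    Preadditive.mono_of_isZero_kernel _ (hker.of_iso (PreservesKernel.iso _ χ).symm)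
  haveI : Epi ((EtCoh.pull (EtMV.clPt A)).map χ) :=
    Preadditive.epi_of_isZero_cokernel _ (hcoker.of_iso (PreservesCokernel.iso _ χ).symm)
  haveI : IsIso ((EtCoh.pull (EtMV.clPt A)).map χ) := isIso_of_mono_of_epi _
  -- it factors through acyclic coefficients
  have hB : Subsingleton (EtCoh.H X S.X₃ q) := by
    obtain ⟨q, rfl⟩ : ∃ k, q = k + 1 := ⟨q - 1, by omega⟩
    refine subsingleton_of_forall_eq 0 fun x => ?_
    obtain ⟨z, hz⟩ := Ext.covariant_sequence_exact₃ (EtCoh.const X ℤ) hS x (rfl : q + 1 + 1 = q + 2)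
      (@Subsingleton.elim (EtCoh.H X F (q + 2)) hK _ _)
    rw [← hz, Ext.eq_zero_of_injective z, Ext.zero_comp]
  have hR : ∀ r : ℕ, IsZero ((EtCoh.Rpush j (r + 1)).obj S.X₃) := fun r =>
    ((RDerLib.derivedLES (EtCoh.push j)).exact₃ S hS (r + 1) (r + 2) rfl).isZero_of_both_zeros
      (((EtCoh.push j).isZero_rightDerived_obj_injective_succ r I).eq_of_src _ _)
      ((isZero_Rpush_genPt A K p hp (m := p) ⟨hpp.out.pos, fun l hl hd =>
        Set.mem_singleton_iff.2 ((Nat.prime_dvd_prime_iff_eq hl hpp.out).1 hd)⟩ F (killed_mu p) (r + 2)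
        (by omega)).eq_of_tgt _ _)
  haveI hBA : Subsingleton (EtCoh.H Y ((EtCoh.push j).obj S.X₃) q) :=
    (subsingleton_H_iff_push j S.X₃ hR q).2 hB
  have hA : Subsingleton (EtCoh.H Y (EtCoh.const Y (ZMod p)) q) := by
    refine subsingleton_of_forall_eq 0 fun x => (EtMV.bijective_comp_of_pull_iso χ q).1 ?_
    show Ext.comp x (Ext.mk₀ χ) (add_zero q) = Ext.comp 0 (Ext.mk₀ χ) (add_zero q)
    rw [Ext.zero_comp, show χ = ψ ≫ θ from rfl, ← Ext.mk₀_comp_mk₀, ← Ext.comp_assoc_of_second_deg_zero,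
      show Ext.comp x (Ext.mk₀ ψ) (add_zero q) = 0 from
        @Subsingleton.elim (EtCoh.H Y ((EtCoh.push j).obj S.X₃) q) hBA _ _, Ext.zero_comp]
  exact subsingleton_H_congr (EtCore.pullConst (EtMV.clPt A) (ZMod p)).symm q
    ((Equiv.ofBijective _ (EtMV.Hpull_bijective (EtCoh.const Y (ZMod p)) q)).subsingleton_congr.1 hA)

end Groth.Agent.EtPBC
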