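import Groth.Agent.EtPBC.HensDvrUpper
import Groth.Agent.EtPBC.ConstKilled
import Groth.Agent.EtPBC.CurveGm
import Groth.Agent.Misc3.KummerField
import Groth.Agent.KummerLib.MuConst
import Groth.Agent.S0108

/-!
# Kummer classes at the closed point of a henselian DVR

The stalk of `R¹ j_* μ_p` at the closed point has at most `p` elements when `μ_p` lies in the ring.
-/

set_option autoImplicit false
set_option backward.isDefEq.respectTransparency false
set_option backward.isDefEq.respectTransparency.types false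
set_option linter.auxLemma false
set_option linter.style.haveILetI false

universe u

open CategoryTheory CategoryTheory.Limits CategoryTheory.Abelian AlgebraicGeometry Opposite IsLocalRing

noncomputable section

namespace Groth.Agent.EtPBC

attribute [local instance 100000] EtCoh.H._proof_1 EtMV.hext
attribute [local instance 200000] EtMV.hextAb

/-- the unit morphism is additive in the unit -/
theorem unitMor_mul (X : Scheme.{u}) (a b : (Γ(X, ⊤) : Type u)ˣ) :
    GalSym.unitMor X (a * b) = GalSym.unitMor X a + GalSym.unitMor X b := by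
  have h : GalSym.unitHom X (a * b) = GalSym.unitHom X a + GalSym.unitHom X b := by
    apply AddCommGrpCat.hom_ext
    refine AddMonoidHom.ext fun n => ?_
    show (GalSym.unitHom X (a * b)) n = (GalSym.unitHom X a) n + (GalSym.unitHom X b) n
    rw [GalSym.unitHom_apply, GalSym.unitHom_apply, GalSym.unitHom_apply, ← zsmul_add]
    rfl
  simp only [GalSym.unitMor, h]
  exact map_add ((EtCore.constAdj X).homAddEquiv _ _).symm _ _

/-- the Kummer class as a homomorphism -/
def kumHom (F : Type u) [Field F] {m : ℕ} (hm : Epi (EtCoh.powMap (Spec (CommRingCat.of F)) m)) :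
    Additive Fˣ →+ EtCoh.H (Spec (CommRingCat.of F)) (EtCoh.mu (Spec (CommRingCat.of F)) m) 1 :=
  AddMonoidHom.mk' (fun a => GalSym.kumClass hm (GalSym.specUnit F a.toMul)) fun a b => by
    show GalSym.kumClass hm (GalSym.specUnit F (a.toMul * b.toMul)) = _
    simp only [GalSym.kumClass, GalSym.specUnit, map_mul, GalSym.unitClass, unitMor_mul, Ext.mk₀_add, map_add]

variable (p : ℕ) [hpp : Fact p.Prime]

/-- `H¹(Frac R, μ_p)` has at most `p` elements for a strictly henselian DVR `R` -/
theorem card_H1_mu_le (R : Type u) [CommRing R] [IsDomain R] [IsDiscreteValuationRing R] [HenselianLocalRing R]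
    [IsSepClosed (ResidueField R)] (hp : IsUnit (p : R)) (L : Type u) [Field L] [Algebra R L] [IsFractionRing R L] :
    Finite (EtCoh.H (Spec (CommRingCat.of L)) (EtCoh.mu _ p) 1) ∧
      Nat.card (EtCoh.H (Spec (CommRingCat.of L)) (EtCoh.mu _ p) 1) ≤ p := by
  let X := Spec (CommRingCat.of L)
  have hu : IsUnit (p : Γ(X, ⊤)) := by
    rw [← map_natCast ((Scheme.ΓSpecIso (CommRingCat.of L)).inv.hom.comp (algebraMap R L))]
    exact hp.map _
  have hm : Epi (EtCoh.powMap X p) := Groth.Agent.S0108.result X p hu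
  obtain ⟨ϖ, hϖ⟩ := IsDiscreteValuationRing.exists_irreducible R
  have hπ0 : algebraMap R L ϖ ≠ 0 := (map_ne_zero_iff _ (IsFractionRing.injective R L)).2 hϖ.ne_zero
  let π : Additive Lˣ := Additive.ofMul (Units.mk0 _ hπ0)
  let κ := kumHom L hm
  haveI : NeZero p := ⟨hpp.out.ne_zero⟩
  have hsurj : Function.Surjective (fun i : ZMod p => (i.val : ℕ) • κ π) := by
    intro x
    obtain ⟨a, rfl⟩ := Misc3.KummerField.surjective_kumClass L p hm x
    obtain ⟨n, w, hn⟩ := IsDiscreteValuationRing.exists_units_eq_smul_zpow_of_irreducible (K := L) hϖ a.ne_zero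
    obtain ⟨b, hb, hbu⟩ := exists_pow_eq_of_isUnit p R hp w.isUnit
    let c : Additive Lˣ := Additive.ofMul (Units.mk0 (algebraMap R L b) (hbu.map _).ne_zero)
    have ha : Additive.ofMul a = p • c + n • π := by
      apply Additive.toMul.injective
      simp only [toMul_add, toMul_nsmul, toMul_zsmul, toMul_ofMul, c, π]
      refine Units.ext ?_
      rw [hn, Units.smul_def, Algebra.smul_def]
      simp only [Units.val_mul, Units.val_pow_eq_pow_val, Units.val_mk0, Units.val_zpow_eq_zpow_val, ← map_pow, hb]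
    have hkill : ∀ y : EtCoh.H X (EtCoh.mu X p) 1, p • y = 0 :=
      fun y => nsmul_eq_zero_of_killed _ p (killed_mu p) 1 y
    refine ⟨(n : ZMod p), ?_⟩
    show _ = κ (Additive.ofMul a)
    rw [ha, map_add, map_nsmul, map_zsmul, hkill, zero_add]
    show ((n : ZMod p).val : ℕ) • κ π = n • κ π
    rw [← natCast_zsmul, ZMod.val_intCast]
    nth_rw 2 [← Int.emod_add_mul_ediv n p]
    rw [add_zsmul, mul_comm, mul_zsmul, natCast_zsmul (κ π) p, hkill, zsmul_zero, add_zero]
  haveI := Finite.of_surjective _ hsurj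
  exact ⟨inferInstance, (Nat.card_le_card_of_surjective _ hsurj).trans (Nat.card_zmod p).le⟩

/-- `μ_p` is constant over a field containing a primitive root -/
theorem nonempty_mu_iso_const_spec (F : Type u) [Field F] (hp : (p : F) ≠ 0) (ζ : F) (hζ : IsPrimitiveRoot ζ p) :
    Nonempty (EtCoh.mu (Spec (CommRingCat.of F)) p ≅ EtCoh.const (Spec (CommRingCat.of F)) (ZMod p)) := by
  let φ : F →+* Γ(Spec (CommRingCat.of F), ⊤) := (Scheme.ΓSpecIso (CommRingCat.of F)).inv.hom
  have hunit : IsUnit (p : Γ(Spec (CommRingCat.of F), ⊤)) := by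
    rw [← map_natCast φ]
    exact (IsUnit.mk0 _ hp).map φ
  have hcyc : Polynomial.aeval (φ ζ) (Polynomial.cyclotomic p ℤ) = 0 := by
    have h := hζ.isRoot_cyclotomic hpp.out.pos
    rw [Polynomial.IsRoot, ← Polynomial.map_cyclotomic_int, Polynomial.eval_map, ← algebraMap_int_eq,
      ← Polynomial.aeval_def] at h
    rw [show φ ζ = φ.toIntAlgHom ζ from rfl, Polynomial.aeval_algHom_apply, h, map_zero]
  exact KummerLib.nonempty_mu_iso_const (X := Spec (CommRingCat.of F)) (n := p) hpp.out.one_le hunit (φ ζ) hcyc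

variable (A : Type u) [CommRing A] [IsDomain A] [IsDiscreteValuationRing A]
  (K : Type u) [Field K] [Algebra A K] [IsFractionRing A K]

/-- **the stalk of `R¹ j_* μ_p` at the closed point has at most `p` elements** -/
theorem card_stalk_R1_le (hp : IsUnit (p : A)) (ζ : A) (hζ : IsPrimitiveRoot ζ p) (R : Type u) [CommRing R]
    [IsDomain R] [IsDiscreteValuationRing R]
    [Algebra ((Spec (CommRingCat.of A)).presheaf.stalk (closedPoint A)) R]
    [IsLocalHom (algebraMap ((Spec (CommRingCat.of A)).presheaf.stalk (closedPoint A)) R)]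
    [HenselianLocalRing R] [IsSepClosed (ResidueField R)]
    [_root_.Hensel.IsStrictHenselization ((Spec (CommRingCat.of A)).presheaf.stalk (closedPoint A)) R]
    (e : pullback (genPt A K) (Hens2.specOf (Spec (CommRingCat.of A)) (closedPoint A) R) ≅
      Spec (CommRingCat.of (FractionRing R))) (φ : A →+* R) (hinj : Function.Injective φ) :
    Finite ((EtCoh.stalk (Hens2.geomPt (Spec (CommRingCat.of A)) (closedPoint A) R)).obj
        ((EtCoh.Rpush (genPt A K) 1).obj (EtCoh.mu _ p))) ∧
      Nat.card ((EtCoh.stalk (Hens2.geomPt (Spec (CommRingCat.of A)) (closedPoint A) R)).obj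
        ((EtCoh.Rpush (genPt A K) 1).obj (EtCoh.mu _ p))) ≤ p := by
  let F := EtCoh.mu (Spec (CommRingCat.of K)) p
  let L := FractionRing R
  let g := pullback.fst (genPt A K) (Hens2.specOf (Spec (CommRingCat.of A)) (closedPoint A) R)
  obtain ⟨e₁⟩ := EtStrictLoc.nonempty_stalkRpush (genPt A K) (closedPoint A) R 1
  have hpR : IsUnit (p : R) := by
    have h := hp.map φ
    rwa [map_natCast] at h
  have hζK : IsPrimitiveRoot (algebraMap A K ζ) p := hζ.map_of_injective (IsFractionRing.injective A K)
  have hζL : IsPrimitiveRoot (algebraMap R L (φ ζ)) p :=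
    (hζ.map_of_injective hinj).map_of_injective (IsFractionRing.injective R L)
  obtain ⟨iK⟩ := nonempty_mu_iso_const_spec p K (by
    rw [← map_natCast (algebraMap A K)]; exact (hp.map _).ne_zero) _ hζK
  obtain ⟨iL⟩ := nonempty_mu_iso_const_spec p L (by
    rw [← map_natCast (algebraMap R L)]; exact (hpR.map _).ne_zero) _ hζL
  haveI := EtPullExact.pull_preservesFiniteLimits e.inv
  let Z := Spec (CommRingCat.of L)
  let G := (EtCoh.pull g).obj F
  let i : (EtCoh.pull e.inv).obj G ≅ EtCoh.mu Z p :=
    (EtCoh.pull e.inv).mapIso ((EtCoh.pull g).mapIso iK ≪≫ EtCore.pullConst g (ZMod p)) ≪≫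
      EtCore.pullConst e.inv (ZMod p) ≪≫ iL.symm
  let a : EtCoh.H _ G 1 ≃ EtCoh.H Z (EtCoh.mu Z p) 1 :=
    (Equiv.ofBijective _ (bijective_Hpull_of_isIso e.inv G 1)).trans
      ((EtCoh.HF Z 1).mapIso i).addCommGroupIsoToAddEquiv.toEquiv
  let b : (EtCoh.stalk (Hens2.geomPt (Spec (CommRingCat.of A)) (closedPoint A) R)).obj
      ((EtCoh.Rpush (genPt A K) 1).obj F) ≃ EtCoh.H Z (EtCoh.mu Z p) 1 :=
    (e₁.app F).addCommGroupIsoToAddEquiv.toEquiv.trans a
  obtain ⟨hfin, hcard⟩ := card_H1_mu_le p R hpR L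
  refine ⟨?_, ?_⟩
  · haveI := hfin
    exact Finite.of_equiv _ b.symm
  · exact (Nat.card_congr b).trans_le hcard

end Groth.Agent.EtPBC
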