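import Groth.Agent.EtPBC.HensDvrWild
import Groth.Agent.EtPBC.HensDvrLower
import Groth.Agent.EtPBC.HensDvrPos
import Groth.Agent.EtPBC.HensDvrAS

/-!
# Henselian DVRs of mixed characteristic with perfect residue field

`cd_p K ≤ 2`, `cd_p κ = 0` gives `cd_p K ≤ 1`, and `cd_p K ≤ 1` gives that every Artin–Schreier equation over a finite
separable extension of `κ` is solvable, hence `cd_p κ = 0`.
-/

set_option autoImplicit false
set_option backward.isDefEq.respectTransparency false
set_option backward.isDefEq.respectTransparency.types false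
set_option linter.auxLemma false
set_option linter.style.haveILetI false

universe u

open CategoryTheory CategoryTheory.Limits CategoryTheory.Abelian AlgebraicGeometry Opposite IsLocalRing

noncomputable section

namespace Groth.Agent.EtPBC

attribute [local instance 100000] EtCoh.H._proof_1 EtMV.hext
attribute [local instance 200000] EtMV.hextAb

variable (p : ℕ) [hpp : Fact p.Prime]

theorem primesIn_self : EtAcyc.PrimesIn {p} p :=
  ⟨hpp.out.pos, fun _ hl hd => Set.mem_singleton_iff.2 ((Nat.prime_dvd_prime_iff_eq hl hpp.out).1 hd)⟩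

theorem kVanOn_one_of_cdOne (k : Type u) [Field k] (h : CdOne p k) : KVanOn {p} (Spec (CommRingCat.of k)) 1 := by
  intro m hm F hF q hq
  have e : m = p ^ m.primeFactorsList.length := Nat.eq_prime_pow_of_unique_prime_dvd hm.1.ne'
    fun hp hd => Set.mem_singleton_iff.1 (hm.2 _ hp hd)
  refine subsingleton_of_forall_eq 0 fun x => h F
    (fun U s x => ⟨U, 𝟙 U, ⟨x, rfl⟩, isOfFinAddOrder_iff_nsmul_eq_zero.2 ⟨m, hm.1, hF U _⟩⟩) q hq x
    ⟨m.primeFactorsList.length, ?_⟩
  rw [← e]
  exact nsmul_eq_zero_of_killed F m hF q x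

variable (A : Type u) [CommRing A] [IsDomain A] [IsDiscreteValuationRing A]
  (K : Type u) [Field K] [Algebra A K] [IsFractionRing A K]

theorem zeroAt_Rpush_genPt_of_perfect [PerfectField (ResidueField A)] (hchar : (p : ResidueField A) = 0)
    (hpK : (p : K) ≠ 0) {m : ℕ} (hm : EtAcyc.PrimesIn {p} m) (F : EtCoh.Ab (Spec (CommRingCat.of K)))
    (hF : Killed m F) (r : ℕ) (hr : 1 < r) : ZeroAt ((EtCoh.Rpush (genPt A K) r).obj F) (closedPoint A) := by
  obtain ⟨R, _, _, _, _, _, _, _, hR, e, φ, -, -, hinj, hirr⟩ := exists_fibre_genPt A K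
  let T := (Spec (CommRingCat.of A)).presheaf.stalk (closedPoint A)
  letI : Algebra A T := StructureSheaf.stalkAlgebra (R := A) (closedPoint A)
  haveI : IsLocalization.AtPrime T (maximalIdeal A) := StructureSheaf.IsLocalization.to_stalk A (closedPoint A)
  have hunits : (maximalIdeal A).primeCompl ≤ IsUnit.submonoid A := fun x hx => notMem_maximalIdeal.1 hx
  let eT : A ≃+* T := (IsLocalization.atUnits A _ (S := T) hunits).toRingEquiv
  haveI : PerfectField (ResidueField T) := PerfectField.of_ringEquiv (ResidueField.mapEquiv eT)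
  haveI : Algebra.IsSeparable (ResidueField T) (ResidueField R) := hR.isSepClosure.2
  haveI : PerfectField (ResidueField R) := Algebra.IsAlgebraic.perfectField (ResidueField T)
  have hpR : (p : FractionRing R) ≠ 0 := by
    have hA : (p : A) ≠ 0 := fun h => hpK (by rw [← map_natCast (algebraMap A K), h, map_zero])
    intro h
    refine hA (hinj (IsFractionRing.injective R (FractionRing R) ?_))
    rw [map_natCast, map_natCast, h, map_zero, map_zero]
  have hcharR : (p : ResidueField R) = 0 := by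
    obtain ⟨ϖ, hϖ⟩ := IsDiscreteValuationRing.exists_irreducible A
    have h : (p : A) ∈ maximalIdeal A := by
      rw [← residue_eq_zero_iff, map_natCast]; exact hchar
    rw [hϖ.maximalIdeal_eq, Ideal.mem_span_singleton] at h
    obtain ⟨c, hc⟩ := h
    have h' : (p : R) ∈ maximalIdeal R := by
      rw [← map_natCast φ, hc, map_mul, (hirr ϖ hϖ).maximalIdeal_eq]
      exact Ideal.mul_mem_right _ _ (Ideal.mem_span_singleton_self _)
    rw [← residue_eq_zero_iff, map_natCast] at h'
    exact h'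
  refine (isZero_stalk_iff_zeroAt (EtBCQ.geomPt_apply (X := Spec (CommRingCat.of A)) (closedPoint A) R) _).1 ?_
  obtain ⟨e₁⟩ := EtStrictLoc.nonempty_stalkRpush (genPt A K) (closedPoint A) R r
  let g := pullback.fst (genPt A K) (Hens2.specOf (Spec (CommRingCat.of A)) (closedPoint A) R)
  have h1 := (kVanOn_one_of_cdOne p (FractionRing R) (cdOne_of_normSurj p (FractionRing R) hpR
    (normSurj_of_henselianDvr_algClosed p R hcharR (FractionRing R) hpR))).of_isIntegralHom e.hom
  haveI : Subsingleton (EtCoh.H _ ((EtCoh.pull g).obj F) r) := h1 m hm _ (killed_pull g hF) r hr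
  haveI : Subsingleton ((EtCoh.pull g ⋙ EtCoh.HF _ r).obj F : AddCommGrpCat.{u + 1}) :=
    ‹Subsingleton (EtCoh.H _ _ r)›
  exact (AddCommGrpCat.isZero_of_subsingleton _).of_iso (e₁.app F)

variable [HenselianLocalRing A]

/-- **upper bound, perfect residue field** -/
theorem kVanOn_succ_of_perfect [PerfectField (ResidueField A)] (hchar : (p : ResidueField A) = 0)
    (hpK : (p : K) ≠ 0) {d : ℕ} (hκ : KVanOn {p} (Spec (CommRingCat.of (ResidueField A))) d) :
    KVanOn {p} (Spec (CommRingCat.of K)) (d + 1) := by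
  intro m hm F hF q hq
  refine subsingleton_H_of_Rpush (b := d) (genPt A K) hm.1 (kVanOn_of_residueField A {p} hκ m hm) 1 F hF
    (fun r hr => ?_) q (by omega)
  refine isZero_of_zeroAt _ fun y => ?_
  by_cases hy : y = closedPoint A
  · rw [hy]; exact zeroAt_Rpush_genPt_of_perfect p A K hchar hpK hm F hF r hr
  · obtain ⟨t, rfl⟩ : ∃ t, r = t + 1 := ⟨r - 1, by omega⟩
    exact zeroAt_Rpush_openImmersion (genPt A K) F t (mem_range_genPt A K hy)

omit [HenselianLocalRing A] [IsDiscreteValuationRing A] [IsDomain A] in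
/-- `cd_p ≤ 1` kills the `p`-part of `H²(·, 𝔾ₘ)` -/
theorem primaryTorsion_H2_Gm_of_kVanOn (F : Type u) [Field F] (hpF : (p : F) ≠ 0)
    (h : KVanOn {p} (Spec (CommRingCat.of F)) 1) (x : EtCoh.H (Spec (CommRingCat.of F)) (EtCoh.Gm _) 2)
    (hx : ∃ m : ℕ, p ^ m • x = 0) : x = 0 := by
  obtain ⟨m, hm⟩ := hx
  let X := Spec (CommRingCat.of F)
  have hu : IsUnit ((p ^ m : ℕ) : Γ(X, ⊤)) := by
    rw [← map_natCast (Scheme.ΓSpecIso (CommRingCat.of F)).inv.hom]
    refine (IsUnit.mk0 _ ?_).map _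
    rw [Nat.cast_pow]
    exact pow_ne_zero _ hpF
  have hS := EtSix.kummerShortExact (X := X) (Groth.Agent.S0108.result X (p ^ m) hu)
  have e : ∀ r : ℕ, Ext.comp x (Ext.mk₀ (r • 𝟙 (EtCoh.Gm X))) (add_zero 2) = r • x := by
    intro r
    induction r with
    | zero => rw [zero_smul, zero_smul, Ext.mk₀_zero, Ext.comp_zero]
    | succ r ih => rw [succ_nsmul, succ_nsmul, Ext.mk₀_add, Ext.comp_add, ih, Ext.comp_mk₀_id]
  obtain ⟨y, hy⟩ := Ext.covariant_sequence_exact₂ (EtCoh.const X ℤ) hS x ((e (p ^ m)).trans hm)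
  haveI := h (p ^ m) ⟨pow_pos hpp.out.pos m, fun l hl hd =>
    Set.mem_singleton_iff.2 ((Nat.prime_dvd_prime_iff_eq hl hpp.out).1 (hl.dvd_of_dvd_pow hd))⟩
    (EtCoh.mu X (p ^ m)) (killed_mu (p ^ m)) 2 one_lt_two
  rw [← hy, show y = 0 from @Subsingleton.elim (EtCoh.H X (EtCoh.mu X (p ^ m)) 2) _ y 0, Ext.zero_comp]

omit [HenselianLocalRing A] [IsDiscreteValuationRing A] [IsDomain A] in
/-- solvable Artin–Schreier equations kill `H¹(·, ℤ/p)` -/
theorem subsingleton_H1_zmod (L : Type u) [Field L] (h0 : (p : L) = 0) (hAS : ∀ a : L, ∃ b : L, b ^ p - b = a) :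
    Subsingleton (EtCoh.H (Spec (CommRingCat.of L)) (EtCoh.const _ (ZMod p)) 1) := by
  let X := Spec (CommRingCat.of L)
  have h0' : (p : Γ(X, ⊤)) = 0 := by
    rw [← map_natCast (Scheme.ΓSpecIso (CommRingCat.of L)).inv.hom, h0, map_zero]
  refine subsingleton_of_forall_eq 0 fun x => ?_
  have hS := as_shortExact (X := X) p h0'
  obtain ⟨y, hy⟩ := Ext.covariant_sequence_exact₁ (EtCoh.const X ℤ) hS x
    (@Subsingleton.elim (EtCoh.H X (EtCoh.Ga X) 1) (Groth.Agent.S0109.result X 1 (by omega)) _ _) (n₀ := 0) rfl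
  obtain ⟨φ, rfl⟩ := (Ext.mk₀_bijective _ _).2 y
  let B := AddCommGrpCat.of (ULift.{u + 1} ℤ)
  let α := (EtCore.constAdj X).homEquiv B (EtCoh.Ga X)
  let a : Γ(X, ⊤) := gaVal (U := EtCoh.top X) (α φ ⟨1⟩)
  obtain ⟨b, hb⟩ := hAS ((Scheme.ΓSpecIso (CommRingCat.of L)).hom a)
  let b' : Γ(X, ⊤) := (Scheme.ΓSpecIso (CommRingCat.of L)).inv b
  have hb' : b' ^ p - b' = a := by
    rw [← map_pow, ← map_sub, hb]
    exact (Scheme.ΓSpecIso (CommRingCat.of L)).commRingCatIsoToRingEquiv.symm_apply_apply a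
  let ψ : EtCoh.const X ℤ ⟶ EtCoh.Ga X := α.symm
    (AddCommGrpCat.ofHom ((zmultiplesHom ((EtCore.gsec X).obj (EtCoh.Ga X)) (gaSect (U := EtCoh.top X) b')).comp
      (AddEquiv.ulift.toAddMonoidHom)))
  have hψ : ψ ≫ W4c5etcohweilstudent.artinSchreierEndo X p hpp.out h0' = φ := by
    apply α.injective
    rw [Adjunction.homEquiv_naturality_right, Equiv.apply_symm_apply]
    apply AddCommGrpCat.hom_ext
    refine AddMonoidHom.ext fun n => ?_
    obtain ⟨k⟩ := n
    show (W4c5etcohweilstudent.artinSchreierEndo X p hpp.out h0').hom.app (op (EtCoh.top X))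
      (k • gaSect (U := EtCoh.top X) b') = (α φ).hom ⟨k⟩
    rw [map_zsmul]
    have e1 : (W4c5etcohweilstudent.artinSchreierEndo X p hpp.out h0').hom.app (op (EtCoh.top X))
        (gaSect (U := EtCoh.top X) b') = (α φ).hom ⟨1⟩ := congrArg ULift.up hb'
    rw [e1]
    refine (map_zsmul (α φ).hom k _).symm.trans ?_
    congr 1
    apply ULift.ext
    show k • (1 : ℤ) = k
    simp
  rw [← hy, show φ = ψ ≫ W4c5etcohweilstudent.artinSchreierEndo X p hpp.out h0' from hψ.symm, ← Ext.mk₀_comp_mk₀]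
  exact (Ext.comp_assoc _ _ _ (zero_add 0) (zero_add 1) rfl).trans
    ((congrArg (fun t => Ext.comp (Ext.mk₀ ψ) t rfl) hS.comp_extClass).trans (Ext.comp_zero _ _ _ _ _))

/-- **`cd_p K ≤ 1` gives solvable Artin–Schreier equations in the residue field** -/
theorem exists_as_root_residue (hchar : (p : ResidueField A) = 0) (hpK : (p : K) ≠ 0)
    (hK : KVanOn {p} (Spec (CommRingCat.of K)) 1) (a : ResidueField A) : ∃ b : ResidueField A, b ^ p - b = a := by
  classical
  by_contra hno
  push_neg at hno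
  haveI : CharP (ResidueField A) p := (CharP.charP_iff_prime_eq_zero hpp.out).2 hchar
  obtain ⟨a, rfl⟩ := residue_surjective a
  obtain ⟨M, _, _, _, _, hdeg, hnorm⟩ := exists_galois_no_norm p A K a hno
  obtain ⟨ϖ, hϖ⟩ := IsDiscreteValuationRing.exists_irreducible A
  obtain ⟨y, hy⟩ := exists_norm_eq_of_H2 p
    (fun x => primaryTorsion_H2_Gm_of_kVanOn p K hpK hK x) M hdeg (algebraMap A K ϖ)
    ((map_ne_zero_iff _ (IsFractionRing.injective A K)).2 hϖ.ne_zero)
  exact hnorm ϖ hϖ y hy

/-- **lower bound in the only relevant degree** -/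
theorem kVanOn_zero_residueField (hchar : (p : ResidueField A) = 0) (hpK : (p : K) ≠ 0)
    (hK : KVanOn {p} (Spec (CommRingCat.of K)) 1) : KVanOn {p} (Spec (CommRingCat.of (ResidueField A))) 0 := by
  refine kVanOn_of_zmodAcyclicFrom p 0 _ ?_
  intro L _ _ _ _ q hq
  have h0 : (p : L) = 0 := by rw [← map_natCast (algebraMap (ResidueField A) L), hchar, map_zero]
  rcases Nat.lt_or_ge q 2 with hq2 | hq2
  · obtain rfl : q = 1 := by omega
    refine subsingleton_H1_zmod p L h0 fun a => ?_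
    obtain ⟨A', _, _, _, _, K', _, _, _, ι, g, e, hg, hgi, -, -, -⟩ := exists_dvr_lift A K L
    haveI : IsIntegralHom (Spec.map (CommRingCat.ofHom g)) := IsIntegralHom.SpecMap_iff.2 hgi
    obtain ⟨b, hb⟩ := exists_as_root_residue p A' K'
      (e.injective (by rw [map_natCast, h0, map_zero]))
      (by rw [← map_natCast g]; exact (map_ne_zero g).2 hpK)
      (hK.of_isIntegralHom (Spec.map (CommRingCat.ofHom g))) (e.symm a)
    exact ⟨e b, by rw [← map_pow, ← map_sub, hb, e.apply_symm_apply]⟩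
  · refine subsingleton_H_zmod_of_isAffine p ?_ q hq2
    rw [← map_natCast (Scheme.ΓSpecIso (CommRingCat.of L)).inv.hom, h0, map_zero]

end Groth.Agent.EtPBC
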