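import Groth.Agent.EtPBC.HensDvrStalk
import Groth.Agent.EtPBC.AffineLef

/-!
# `cd_p K ≤ cd_p κ + 1` for a henselian discrete valuation ring
-/

set_option autoImplicit false
set_option backward.isDefEq.respectTransparency false
set_option backward.isDefEq.respectTransparency.types false
set_option linter.auxLemma false
set_option linter.style.haveILetI false

universe u

open CategoryTheory CategoryTheory.Limits CategoryTheory.Abelian AlgebraicGeometry Opposite IsLocalRing

noncomputable section

namespace Groth.Agent.EtPBC

attribute [local instance 100000] EtCoh.H._proof_1 EtMV.hext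
attribute [local instance 200000] EtMV.hextAb

/-- the spectrum of a henselian local ring has the cohomological dimension of its residue field -/
theorem kVanOn_of_residueField (A : Type u) [CommRing A] [HenselianLocalRing A] {d : ℕ} (L : Set ℕ) (hκ : KVanOn L (Spec (CommRingCat.of (ResidueField A))) d) :
    KVanOn L (Spec (CommRingCat.of A)) d := by
  intro m hm G hG q hq
  haveI := EtPullExact.pull_preservesFiniteLimits (EtMV.clPt A)
  haveI := hκ m hm _ (killed_pull (EtMV.clPt A) hG) q hq
  exact (EtMV.Hpull_bijective G q).1.subsingleton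

variable (A : Type u) [CommRing A] [IsDomain A] [IsDiscreteValuationRing A]
  (K : Type u) [Field K] [Algebra A K] [IsFractionRing A K]

theorem mem_range_genPt {y : Spec (CommRingCat.of A)} (hy : y ≠ closedPoint A) : y ∈ Set.range (genPt A K) := by
  refine ⟨(default : PrimeSpectrum K), ?_⟩
  have h1 : y.asIdeal = ⊥ := by
    by_contra h
    exact hy (PrimeSpectrum.ext (IsLocalRing.eq_maximalIdeal (Ideal.IsPrime.isMaximal y.isPrime h)))
  refine PrimeSpectrum.ext ?_
  rw [h1]
  show Ideal.comap (algebraMap A K) (default : PrimeSpectrum K).asIdeal = ⊥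
  rw [(Ideal.eq_bot_or_top (default : PrimeSpectrum K).asIdeal).resolve_right (default : PrimeSpectrum K).isPrime.ne_top]
  exact Ideal.comap_bot_of_injective _ (IsFractionRing.injective A K)

variable (p : ℕ) [hpp : Fact p.Prime]

theorem isZero_Rpush_genPt (hp : IsUnit (p : A)) {m : ℕ} (hm : EtAcyc.PrimesIn {p} m)
    (F : EtCoh.Ab (Spec (CommRingCat.of K))) (hF : Killed m F) (r : ℕ) (hr : 1 < r) :
    IsZero ((EtCoh.Rpush (genPt A K) r).obj F) := by
  refine isZero_of_zeroAt _ fun y => ?_
  by_cases hy : y = closedPoint A
  · rw [hy]; exact zeroAt_Rpush_genPt A K p hp hm F hF r hr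
  · obtain ⟨t, rfl⟩ : ∃ t, r = t + 1 := ⟨r - 1, by omega⟩
    exact zeroAt_Rpush_openImmersion (genPt A K) F t (mem_range_genPt A K hy)

variable [HenselianLocalRing A]

/-- **upper bound** -/
theorem kVanOn_succ_of_residueField (hp : IsUnit (p : A)) {d : ℕ}
    (hκ : KVanOn {p} (Spec (CommRingCat.of (ResidueField A))) d) :
    KVanOn {p} (Spec (CommRingCat.of K)) (d + 1) := by
  intro m hm F hF q hq
  exact subsingleton_H_of_Rpush (b := d) (genPt A K) hm.1 (kVanOn_of_residueField A {p} hκ m hm) 1 F hF
    (fun r hr => isZero_Rpush_genPt A K p hp hm F hF r hr) q (by omega)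

end Groth.Agent.EtPBC
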