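import Groth.Agent.EtPBC.HensDvrNorm
import Groth.Agent.KrasnerDVR.Basic
import Mathlib.RingTheory.Norm.Transitivity
import Mathlib.RingTheory.Trace.Basic
import Mathlib.RingTheory.Nakayama
import Mathlib.FieldTheory.IsSepClosed

/-!
# Norms in mixed characteristic with algebraically closed residue field

`A` a henselian DVR with algebraically closed residue field of characteristic `p`, fraction field `K` with `p ≠ 0`,
`L/K` Galois of degree `p`: the norm is surjective. At level `n` either the norm term or the trace term dominates.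
-/

set_option autoImplicit false
set_option backward.isDefEq.respectTransparency false
set_option linter.style.haveILetI false
set_option linter.unusedSectionVars false

universe u

open IsLocalRing Polynomial

noncomputable section

namespace Groth.Agent.EtPBC.Wild

variable (p : ℕ) [hpp : Fact p.Prime]
variable (A : Type u) [CommRing A] [IsDomain A] [IsDiscreteValuationRing A]
  (K : Type u) [Field K] [Algebra A K] [IsFractionRing A K]
  (L : Type u) [Field L] [Algebra K L] [Algebra A L] [IsScalarTower A K L]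
  [FiniteDimensional K L] [IsGalois K L]
  (B : Type u) [CommRing B] [IsDomain B] [IsDiscreteValuationRing B] [Algebra A B] [Algebra B L]
  [IsScalarTower A B L] [IsIntegralClosure B A L] [IsFractionRing B L] [Module.Finite A B]

theorem isIntegral_of (b : B) : IsIntegral A (algebraMap B L b) :=
  (Algebra.IsIntegral.isIntegral (R := A) b).map (IsScalarTower.toAlgHom A B L)

/-- integral norms -/
theorem exists_norm (b : B) : ∃ n : A, algebraMap A K n = Algebra.norm K (algebraMap B L b) :=
  IsIntegrallyClosed.isIntegral_iff.1 (Algebra.isIntegral_norm K (isIntegral_of A L B b))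

/-- integral traces -/
theorem exists_trace (b : B) : ∃ n : A, algebraMap A K n = Algebra.trace K L (algebraMap B L b) :=
  IsIntegrallyClosed.isIntegral_iff.1 (Algebra.isIntegral_trace (isIntegral_of A L B b))

/-- the integral trace has values divisible by `ϖ ^ n` on `Π ^ i B` -/
def TrDiv (ϖ : A) (P : B) (i n : ℕ) : Prop :=
  ∀ (b : B) (t : A), algebraMap A K t = Algebra.trace K L (algebraMap B L (P ^ i * b)) → ϖ ^ n ∣ t

variable {A K L B} {ϖ : A} {P : B}

theorem TrDiv.mono {i j n : ℕ} (h : TrDiv A K L B ϖ P i n) (hij : i ≤ j) : TrDiv A K L B ϖ P j n := by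
  intro b t ht
  obtain ⟨k, rfl⟩ := Nat.exists_eq_add_of_le hij
  exact h (P ^ k * b) t (by rw [← mul_assoc, ← pow_add]; exact ht)

/-- the jump of the trace ideals is at most one at each step -/
theorem exists_trDiv_jump (hϖ : Irreducible ϖ) (e : ℕ) (he : 1 ≤ e) (w : Bˣ) (hw : algebraMap A B ϖ = w * P ^ e)
    (n : ℕ) (hn : ¬ TrDiv A K L B ϖ P n n) : ∃ i, n < i ∧ TrDiv A K L B ϖ P i n ∧ ¬ TrDiv A K L B ϖ P i (n + 1) := by
  classical
  have hlin : ∀ (a : A) (b : B), Algebra.trace K L (algebraMap B L (algebraMap A B a * b)) =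
      algebraMap A K a * Algebra.trace K L (algebraMap B L b) := by
    intro a b
    rw [map_mul, ← IsScalarTower.algebraMap_apply, IsScalarTower.algebraMap_apply A K L, ← Algebra.smul_def,
      map_smul, smul_eq_mul]
  have hex : ∃ i, TrDiv A K L B ϖ P i n := by
    refine ⟨e * n, fun b t ht => ?_⟩
    have h1 : P ^ (e * n) * b = algebraMap A B (ϖ ^ n) * ((↑(w⁻¹) : B) ^ n * b) := by
      rw [map_pow, hw, mul_pow, ← pow_mul]
      have : ((w : B) ^ n) * (↑(w⁻¹) : B) ^ n = 1 := by rw [← mul_pow, Units.mul_inv, one_pow]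
      linear_combination (-(P ^ (e * n) * b)) * this
    obtain ⟨s, hs⟩ := exists_trace A K L B ((↑(w⁻¹) : B) ^ n * b)
    refine ⟨s, IsFractionRing.injective A K ?_⟩
    rw [ht, h1, hlin, ← hs, ← map_mul]
  let i := Nat.find hex
  have hi : TrDiv A K L B ϖ P i n := Nat.find_spec hex
  have hni : n < i := by
    by_contra hc
    exact hn (hi.mono (not_lt.1 hc))
  refine ⟨i, hni, hi, fun h1 => Nat.find_min hex (show i - 1 < i by omega) fun b t ht => ?_⟩
  have h2 := h1.mono (show i ≤ i - 1 + e by omega)
  obtain ⟨s, hs⟩ : ϖ ^ (n + 1) ∣ ϖ * t := by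
    refine h2 ((w : B) * b) (ϖ * t) ?_
    rw [map_mul, ht, ← hlin]
    congr 2
    rw [hw, pow_add]
    ring
  refine ⟨s, mul_left_cancel₀ hϖ.ne_zero ?_⟩
  rw [hs, pow_succ]
  ring

variable (A K L B)

include A in
/-- the middle coefficients of `N(1 + z x)` are traces -/
theorem exists_coeff (hdeg : Module.finrank K L = p) (x : B) (j : ℕ) (hj : 0 < j) :
    ∃ y : B, (j : L) * ∑ t ∈ (Finset.univ : Finset (L ≃ₐ[K] L)).powersetCard j,
      ∏ s ∈ t, s (algebraMap B L x) = algebraMap K L (Algebra.trace K L (algebraMap B L (x * y))) := by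
  classical
  let X := algebraMap B L x
  let T := ((Finset.univ : Finset (L ≃ₐ[K] L)).powersetCard j).filter (fun t => (1 : L ≃ₐ[K] L) ∈ t)
  have hy : IsIntegral A (∑ t ∈ T, ∏ s ∈ t.erase 1, s X) :=
    IsIntegral.sum _ fun t _ => IsIntegral.prod _ fun s _ =>
      (isIntegral_of A L B x).map (s.toAlgHom.restrictScalars A)
  obtain ⟨y, hy⟩ := (IsIntegralClosure.isIntegral_iff (A := B)).1 hy
  refine ⟨y, ?_⟩
  have hxy : algebraMap B L (x * y) = ∑ t ∈ T, ∏ s ∈ t, s X := by
    rw [map_mul, hy, Finset.mul_sum]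
    refine Finset.sum_congr rfl fun t ht => ?_
    exact Finset.mul_prod_erase t (fun s => s X) (Finset.mem_filter.1 ht).2
  have hg : ∀ (g : L ≃ₐ[K] L) (t : Finset (L ≃ₐ[K] L)), g (∏ s ∈ t, s X) = ∏ s ∈ t.image (g * ·), s X := by
    intro g t
    rw [Finset.prod_image fun a _ b _ h => mul_left_cancel h, map_prod]
    rfl
  rw [trace_eq_sum_automorphisms, hxy]
  have hright : ∑ g : L ≃ₐ[K] L, g (∑ t ∈ T, ∏ s ∈ t, s X) =
      ∑ g : L ≃ₐ[K] L, ∑ t ∈ ((Finset.univ : Finset (L ≃ₐ[K] L)).powersetCard j).filter (fun t => g ∈ t),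
        ∏ s ∈ t, s X := by
    refine Finset.sum_congr rfl fun g _ => ?_
    rw [map_sum]
    refine Finset.sum_bij' (fun t _ => t.image (g * ·)) (fun t _ => t.image (g⁻¹ * ·)) ?_ ?_ ?_ ?_ ?_
    · intro t ht
      simp only [T, Finset.mem_filter, Finset.mem_powersetCard] at ht ⊢
      refine ⟨⟨Finset.subset_univ _, ?_⟩, Finset.mem_image.2 ⟨1, ht.2, mul_one g⟩⟩
      rw [Finset.card_image_of_injective _ (mul_right_injective g), ht.1.2]
    · intro t ht
      simp only [T, Finset.mem_filter, Finset.mem_powersetCard] at ht ⊢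
      refine ⟨⟨Finset.subset_univ _, ?_⟩, Finset.mem_image.2 ⟨g, ht.2, inv_mul_cancel g⟩⟩
      rw [Finset.card_image_of_injective _ (mul_right_injective g⁻¹), ht.1.2]
    · intro t _
      rw [Finset.image_image]
      simp [Function.comp_def]
    · intro t _
      rw [Finset.image_image]
      simp [Function.comp_def]
    · intro t _
      exact hg g t
  rw [hright, Finset.sum_comm' (t' := (Finset.univ : Finset (L ≃ₐ[K] L)).powersetCard j) (s' := fun t => t)]
  · rw [Finset.mul_sum]
    refine Finset.sum_congr rfl fun t ht => ?_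
    rw [Finset.sum_const, (Finset.mem_powersetCard.1 ht).2, nsmul_eq_mul]
  · intro g t
    simp only [Finset.mem_univ, true_and, Finset.mem_filter]
    exact and_comm

variable [HenselianLocalRing A] [IsAlgClosed (ResidueField A)]

/-- **one level** -/
theorem exists_norm_step (hdeg : Module.finrank K L = p) (hchar : (p : ResidueField A) = 0)
    (ϖ : A) (hϖ : Irreducible ϖ) (P : B) (hP : Irreducible P) (e : ℕ) (he : 1 ≤ e) (w : Bˣ)
    (hw : algebraMap A B ϖ = w * P ^ e) (v : Aˣ) (hv : algebraMap A K (v * ϖ) = Algebra.norm K (algebraMap B L P))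
    (n : ℕ) (hn : 1 ≤ n) (a : A) :
    ∃ (y : L) (r : A), Algebra.norm K y = algebraMap A K r ∧ ϖ ^ (n + 1) ∣ r - (1 + a * ϖ ^ n) := by
  classical
  -- the element and a nonzero coefficient at level `n`
  obtain ⟨i, b, k, hTr, hk1, hkp, hkne, hni⟩ : ∃ (i : ℕ) (b : B) (k : ℕ), TrDiv A K L B ϖ P i n ∧ 1 ≤ k ∧ k ≤ p ∧
      (k = 1 ∧ (∀ t : A, algebraMap A K t = Algebra.trace K L (algebraMap B L (P ^ i * b)) → ¬ ϖ ^ (n + 1) ∣ t) ∨
        k = p ∧ i = n ∧ b = 1) ∧ n ≤ i := by
    by_cases h : TrDiv A K L B ϖ P n n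
    · exact ⟨n, 1, p, h, hpp.out.one_le, le_rfl, Or.inr ⟨rfl, rfl, rfl⟩, le_rfl⟩
    · obtain ⟨i, hi, h1, h2⟩ := exists_trDiv_jump hϖ e he w hw n h
      simp only [TrDiv, not_forall] at h2
      obtain ⟨b, t, ht, hnd⟩ := h2
      exact ⟨i, b, 1, h1, le_rfl, hpp.out.one_le, Or.inl ⟨rfl, fun t' ht' =>
        (IsFractionRing.injective A K (ht'.trans ht.symm)) ▸ hnd⟩, hi.le⟩
  let x : B := P ^ i * b
  let X := algebraMap B L x
  let E : ℕ → L := fun j => ∑ t ∈ (Finset.univ : Finset (L ≃ₐ[K] L)).powersetCard j, ∏ s ∈ t, s X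
  have hcard : (Finset.univ : Finset (L ≃ₐ[K] L)).card = p := by
    rw [Finset.card_univ, ← Nat.card_eq_fintype_card, IsGalois.card_aut_eq_finrank, hdeg]
  -- the top coefficient is the norm
  obtain ⟨nb, hnb⟩ := exists_norm A K L B b
  have hEp : E p = algebraMap K L (algebraMap A K ((v * ϖ) ^ i * nb)) := by
    rw [map_mul, map_pow, hv, hnb, ← map_pow (Algebra.norm K), ← map_mul (Algebra.norm K), ← map_pow, ← map_mul,
      Algebra.norm_eq_prod_automorphisms]
    show ∑ t ∈ (Finset.univ : Finset (L ≃ₐ[K] L)).powersetCard p, ∏ s ∈ t, s X = _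
    rw [← hcard, Finset.powersetCard_self, Finset.sum_singleton]
  -- all positive coefficients are divisible by `ϖ ^ n`
  have hc : ∀ j, 1 ≤ j → j ≤ p → ∃ c : A, E j = algebraMap K L (algebraMap A K (c * ϖ ^ n)) ∧
      (j = k → IsUnit c) := by
    intro j hj hjp
    rcases hjp.eq_or_lt with rfl | hjlt
    · refine ⟨(v : A) ^ i * ϖ ^ (i - n) * nb, ?_, fun hjk => ?_⟩
      · rw [hEp]
        congr 2
        obtain ⟨m, rfl⟩ := Nat.exists_eq_add_of_le hni
        rw [Nat.add_sub_cancel_left]
        ring
      · rcases hkne with ⟨hk, -⟩ | ⟨-, rfl, rfl⟩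
        · exact absurd (hk ▸ hjk) (fun h => hpp.out.ne_one h)
        · have hnb1 : nb = 1 := IsFractionRing.injective A K (by rw [hnb, map_one, map_one, map_one])
          rw [Nat.sub_self, pow_zero, mul_one, hnb1, mul_one]
          exact v.isUnit.pow _
    · obtain ⟨y, hy⟩ := exists_coeff p A K L B hdeg x j hj
      obtain ⟨t, ht⟩ := exists_trace A K L B (x * y)
      obtain ⟨c, rfl⟩ : ϖ ^ n ∣ t := hTr (b * y) t (by rw [ht, ← mul_assoc])
      have hju : IsUnit (j : A) := by
        rw [← notMem_maximalIdeal, ← residue_eq_zero_iff, map_natCast]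
        haveI : CharP (ResidueField A) p := by
          refine (CharP.charP_iff_prime_eq_zero hpp.out).2 hchar
        rw [CharP.cast_eq_zero_iff (ResidueField A) p]
        exact fun hd => absurd (Nat.le_of_dvd (by omega) hd) (by omega)
      obtain ⟨ju, hju⟩ := hju
      have hE : E j = algebraMap K L (algebraMap A K ((↑ju⁻¹ * c) * ϖ ^ n)) := by
        have hj0 : (j : L) ≠ 0 := by
          have h : algebraMap A L (ju : A) ≠ 0 := (ju.isUnit.map _).ne_zero
          rwa [hju, map_natCast] at h
        refine mul_left_cancel₀ hj0 (hy.trans ?_)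
        rw [← ht, ← map_natCast (algebraMap K L) j, ← map_natCast (algebraMap A K) j, ← map_mul, ← map_mul,
          ← hju, ← mul_assoc, ← mul_assoc, Units.mul_inv, one_mul, mul_comm]
      refine ⟨↑ju⁻¹ * c, hE, fun hjk => ?_⟩
      rcases hkne with ⟨hk, hnd⟩ | ⟨hk, -, -⟩
      · subst hjk hk
        refine (Units.isUnit_units_mul _ _).2 ?_
        by_contra hcu
        obtain ⟨c', rfl⟩ : ϖ ∣ c := by
          rw [← Ideal.mem_span_singleton, ← hϖ.maximalIdeal_eq]
          exact hcu
        refine hnd (ϖ ^ n * (ϖ * c')) ?_ ⟨c', by ring⟩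
        have h1 : E 1 = algebraMap K L (Algebra.trace K L (algebraMap B L (P ^ i * b))) := by
          rw [trace_eq_sum_automorphisms]
          show ∑ t ∈ (Finset.univ : Finset (L ≃ₐ[K] L)).powersetCard 1, ∏ s ∈ t, s X = _
          rw [Finset.powersetCard_one, Finset.sum_map]
          simp [X, x]
        refine (algebraMap K L).injective ?_
        rw [← h1, hE]
        have hju1 : (ju : A) = 1 := by rw [hju, Nat.cast_one]
        rw [show (↑ju⁻¹ : A) = 1 from by rw [← mul_one (↑ju⁻¹ : A)]; rw [← hju1, Units.inv_mul, hju1], one_mul]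
        congr 2
        ring
      · exact absurd (hjk.trans hk) hjlt.ne
  choose! c hcE hck using hc
  -- the polynomial
  let Q : A[X] := ∑ j ∈ Finset.Icc 1 p, Polynomial.C (c j) * Polynomial.X ^ j
  obtain ⟨z, hz⟩ : ∃ z : A, residue A (Q.eval z) = residue A a := by
    have hkmem : k ∈ Finset.Icc 1 p := Finset.mem_Icc.2 ⟨hk1, hkp⟩
    have hcoeff : (Q.map (residue A)).coeff k = residue A (c k) := by
      rw [coeff_map, finsetSum_coeff, Finset.sum_eq_single k (fun j _ hj => by
        rw [coeff_C_mul, coeff_X_pow, if_neg hj.symm, mul_zero]) (fun h => absurd hkmem h),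
        coeff_C_mul, coeff_X_pow, if_pos rfl, mul_one]
    have hne : residue A (c k) ≠ 0 := ((hck k hk1 hkp rfl).map (residue A)).ne_zero
    have hdeg' : (Q.map (residue A) - Polynomial.C (residue A a)).degree ≠ 0 := by
      intro h0
      have h1 : (Q.map (residue A) - Polynomial.C (residue A a)).coeff k = 0 :=
        coeff_eq_zero_of_degree_lt (by rw [h0]; exact_mod_cast hk1)
      rw [coeff_sub, coeff_C, if_neg (by omega), sub_zero, hcoeff] at h1
      exact hne h1
    obtain ⟨z, hz⟩ := IsAlgClosed.exists_root _ hdeg'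
    obtain ⟨z, rfl⟩ := residue_surjective z
    refine ⟨z, ?_⟩
    rw [IsRoot, eval_sub, eval_C, sub_eq_zero, eval_map, eval₂_at_apply] at hz
    exact hz
  refine ⟨1 + algebraMap A L z * X, 1 + (∑ j ∈ Finset.Icc 1 p, z ^ j * c j) * ϖ ^ n, ?_, ?_⟩
  · refine (algebraMap K L).injective ?_
    rw [Algebra.norm_eq_prod_automorphisms]
    have hs : ∀ s : L ≃ₐ[K] L, s (1 + algebraMap A L z * X) = 1 + algebraMap A L z * s X := by
      intro s
      rw [map_add, map_one, map_mul, IsScalarTower.algebraMap_apply A K L, s.commutes]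
    rw [Finset.prod_congr rfl fun s _ => hs s, Finset.prod_one_add,
      ← Finset.sum_fiberwise_of_maps_to (g := Finset.card) (t := Finset.range (p + 1))
        (fun t _ => Finset.mem_range.2 (Nat.lt_succ_of_le ((Finset.card_le_univ t).trans
          (by rw [← Finset.card_univ, hcard])))),
      Finset.sum_range_succ']
    rw [map_add, map_add, map_one, map_one, map_mul, map_mul, map_sum, map_sum, Finset.sum_mul, add_comm]
    congr 1
    · rw [Finset.sum_eq_single (∅ : Finset (L ≃ₐ[K] L))]
      · exact Finset.prod_empty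
      · intro t ht hte
        exact absurd (Finset.card_eq_zero.1 (Finset.mem_filter.1 ht).2) hte
      · intro h
        exact absurd (Finset.mem_filter.2 ⟨Finset.mem_powerset.2 (Finset.empty_subset _), Finset.card_empty⟩) h
    · rw [Finset.sum_bij' (s := Finset.range p) (t := Finset.Icc 1 p) (fun j _ => j + 1) (fun j _ => j - 1)
        (g := fun j => algebraMap K L (algebraMap A K (z ^ j * c j)) * algebraMap K L (algebraMap A K (ϖ ^ n)))]
      · intro j hj; simp only [Finset.mem_range] at hj; simp only [Finset.mem_Icc]; omega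
      · intro j hj; simp only [Finset.mem_Icc] at hj; simp only [Finset.mem_range]; omega
      · intro j _; omega
      · intro j hj; simp only [Finset.mem_Icc] at hj; omega
      · intro j hj
        simp only [Finset.mem_range] at hj
        rw [← map_mul, ← map_mul, mul_assoc, map_mul, map_mul, ← hcE (j + 1) (by omega) (by omega),
          ← IsScalarTower.algebraMap_apply, map_pow]
        show _ = algebraMap A L z ^ (j + 1) * ∑ t ∈ (Finset.univ : Finset (L ≃ₐ[K] L)).powersetCard (j + 1),
          ∏ s ∈ t, s X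
        rw [Finset.powersetCard_eq_filter, Finset.mul_sum]
        refine Finset.sum_congr rfl fun t ht => ?_
        rw [Finset.prod_mul_distrib, Finset.prod_const, (Finset.mem_filter.1 ht).2]
  · have he : Q.eval z = ∑ j ∈ Finset.Icc 1 p, z ^ j * c j := by
      rw [eval_finset_sum]
      exact Finset.sum_congr rfl fun j _ => by rw [eval_mul, eval_C, eval_pow, eval_X, mul_comm]
    obtain ⟨d, hd⟩ : ϖ ∣ Q.eval z - a := by
      rw [← Ideal.mem_span_singleton, ← hϖ.maximalIdeal_eq, ← residue_eq_zero_iff, map_sub, hz, sub_self]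
    rw [← he]
    exact ⟨d, by rw [pow_succ]; linear_combination ϖ ^ n * hd⟩

/-- **norms are surjective** -/
theorem exists_norm_eq (hdeg : Module.finrank K L = p) (hpK : (p : K) ≠ 0) (hchar : (p : ResidueField A) = 0)
    [IsLocalHom (algebraMap A B)] (x : K) (hx : x ≠ 0) : ∃ y : L, Algebra.norm K y = x := by
  obtain ⟨ϖ, hϖ⟩ := IsDiscreteValuationRing.exists_irreducible A
  obtain ⟨P, hP⟩ := IsDiscreteValuationRing.exists_irreducible B
  have hinj : Function.Injective (algebraMap A B) := fun a b hab => by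
    refine IsFractionRing.injective A K ((algebraMap K L).injective ?_)
    rw [← IsScalarTower.algebraMap_apply, ← IsScalarTower.algebraMap_apply, IsScalarTower.algebraMap_apply A B L,
      hab, ← IsScalarTower.algebraMap_apply]
  obtain ⟨e, w, hw⟩ := IsDiscreteValuationRing.eq_unit_mul_pow_irreducible
    ((map_ne_zero_iff _ hinj).2 hϖ.ne_zero) hP
  have hres : Function.Surjective (algebraMap (ResidueField A) (ResidueField B)) :=
    (IsAlgClosed.algebraMap_bijective_of_isIntegral (k := ResidueField A) (K := ResidueField B)).2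
  have hdec : ∀ b : B, ∃ a : A, P ∣ b - algebraMap A B a := by
    intro b
    obtain ⟨a, ha⟩ := hres (residue B b)
    obtain ⟨a, rfl⟩ := residue_surjective a
    refine ⟨a, ?_⟩
    rw [← Ideal.mem_span_singleton, ← hP.maximalIdeal_eq, ← residue_eq_zero_iff, map_sub, ← ha,
      ResidueField.algebraMap_residue, sub_self]
  have he0 : e ≠ 0 := by
    rintro rfl
    rw [pow_zero, mul_one] at hw
    exact hϖ.not_isUnit (isUnit_of_map_unit (algebraMap A B) ϖ (hw ▸ w.isUnit))
  have he1 : e ≠ 1 := by
    rintro rfl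
    rw [pow_one] at hw
    have htop : (⊤ : Submodule A B) ≤ LinearMap.range (Algebra.linearMap A B) ⊔
        (maximalIdeal A) • (⊤ : Submodule A B) := by
      intro b _
      obtain ⟨a, b', hb⟩ := hdec b
      refine Submodule.mem_sup.2 ⟨algebraMap A B a, ⟨a, rfl⟩, ϖ • ((↑w⁻¹ : B) * b'),
        Submodule.smul_mem_smul ((hϖ.maximalIdeal_eq) ▸ Ideal.mem_span_singleton_self ϖ) Submodule.mem_top, ?_⟩
      rw [Algebra.smul_def, hw, ← mul_assoc, mul_comm (w : B), mul_assoc P, Units.mul_inv, mul_one, ← hb]
      ring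
    have hle := Submodule.le_of_le_smul_of_le_jacobson_bot Module.Finite.fg_top
      (IsLocalRing.maximalIdeal_le_jacobson _) htop
    have hsurj : Function.Surjective (algebraMap A B) := fun b => by
      obtain ⟨a, ha⟩ := hle (Submodule.mem_top : b ∈ ⊤)
      exact ⟨a, ha⟩
    have hLK : Function.Surjective (algebraMap K L) := fun y => by
      obtain ⟨b₁, b₂, -, rfl⟩ := IsFractionRing.div_surjective (A := B) y
      obtain ⟨a₁, rfl⟩ := hsurj b₁
      obtain ⟨a₂, rfl⟩ := hsurj b₂
      refine ⟨algebraMap A K a₁ / algebraMap A K a₂, ?_⟩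
      rw [map_div₀, ← IsScalarTower.algebraMap_apply, ← IsScalarTower.algebraMap_apply,
        IsScalarTower.algebraMap_apply A B L, IsScalarTower.algebraMap_apply A B L]
    have h1 : Module.finrank K L = 1 :=
      (LinearEquiv.ofBijective (Algebra.linearMap K L) ⟨(algebraMap K L).injective, hLK⟩).finrank_eq.symm.trans
        (Module.finrank_self K)
    exact hpp.out.ne_one (hdeg ▸ h1)
  -- the norm of `P` is a uniformizer
  obtain ⟨nP, hnP⟩ := exists_norm A K L B P
  obtain ⟨nw, hnw⟩ := exists_norm A K L B w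
  obtain ⟨nw', hnw'⟩ := exists_norm A K L B (↑w⁻¹ : B)
  have hnwu : IsUnit nw := IsUnit.of_mul_eq_one nw' (IsFractionRing.injective A K (by
    rw [map_mul, hnw, hnw', ← map_mul, ← map_mul, Units.mul_inv, map_one, map_one, map_one]))
  have hpow : ϖ ^ p = nw * nP ^ e := IsFractionRing.injective A K (by
    have h : algebraMap B L (w : B) * algebraMap B L P ^ e = algebraMap K L (algebraMap A K ϖ) := by
      rw [← map_pow, ← map_mul, ← hw, ← IsScalarTower.algebraMap_apply, IsScalarTower.algebraMap_apply A K L]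
    have h' := congrArg (Algebra.norm K) h
    rw [map_mul, map_pow, Algebra.norm_algebraMap, hdeg, ← hnw, ← hnP] at h'
    rw [map_mul, map_pow, map_pow]
    exact h'.symm)
  obtain ⟨v, hv⟩ : ∃ v : Aˣ, algebraMap A K (v * ϖ) = Algebra.norm K (algebraMap B L P) := by
    have hnP0 : nP ≠ 0 := fun h => by
      rw [h, zero_pow he0, mul_zero] at hpow
      exact pow_ne_zero _ hϖ.ne_zero hpow
    obtain ⟨f, u, rfl⟩ := IsDiscreteValuationRing.eq_unit_mul_pow_irreducible hnP0 hϖ
    obtain ⟨nwU, rfl⟩ := hnwu
    have hef : p = f * e := IsDiscreteValuationRing.unit_mul_pow_congr_pow hϖ hϖ 1 (nwU * u ^ e) _ _ (by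
      rw [Units.val_one, one_mul, hpow, mul_pow, ← pow_mul, Units.val_mul, Units.val_pow_eq_pow_val]
      ring)
    have hep : e = p := ((Nat.dvd_prime hpp.out).1 ⟨f, by rw [hef, mul_comm]⟩).resolve_left he1
    have hf : f = 1 := by
      rw [hep] at hef
      exact Nat.eq_of_mul_eq_mul_right hpp.out.pos (hef.symm.trans (one_mul p).symm)
    subst hf
    exact ⟨u, by rw [← hnP, pow_one]⟩
  -- units: successive approximation
  have hstep : ∀ k : ℕ, ∀ u : A, IsUnit u → ∃ (y : L) (a : A),
      algebraMap A K u = Algebra.norm K y * algebraMap A K (1 + a * ϖ ^ (k + 1)) := by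
    intro k
    induction k with
    | zero =>
      intro u hu
      obtain ⟨b, hb⟩ := IsAlgClosed.exists_pow_nat_eq (residue A u) hpp.out.pos
      obtain ⟨b, rfl⟩ := residue_surjective b
      have hbu : IsUnit b := by
        by_contra h
        exact (hu.map (residue A)).ne_zero (by
          rw [← hb, (residue_eq_zero_iff b).2 h, zero_pow hpp.out.ne_zero])
      obtain ⟨bu, hbu⟩ := hbu.pow p
      obtain ⟨a, ha⟩ : ϖ ∣ (↑bu⁻¹ : A) * u - 1 := by
        have hc : (residue A) (↑bu⁻¹ : A) * residue A (bu : A) = 1 := by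
          rw [← map_mul, Units.inv_mul, map_one]
        rw [hbu, map_pow] at hc
        rw [← Ideal.mem_span_singleton, ← hϖ.maximalIdeal_eq, ← residue_eq_zero_iff, map_sub, map_mul, map_one,
          ← hb, hc, sub_self]
      refine ⟨algebraMap A L b, a, ?_⟩
      rw [IsScalarTower.algebraMap_apply A K L, Algebra.norm_algebraMap, hdeg, ← map_pow, ← hbu, ← map_mul]
      congr 1
      have h1 : (bu : A) * (↑bu⁻¹ : A) = 1 := Units.mul_inv bu
      linear_combination (bu : A) * ha - u * h1
    | succ k ih =>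
      intro u hu
      obtain ⟨y, a, hy⟩ := ih u hu
      obtain ⟨y', r, hr, d, hd⟩ := exists_norm_step p A K L B hdeg hchar ϖ hϖ P hP e (Nat.pos_of_ne_zero he0) w hw v hv
        (k + 1) (by omega) a
      have hru : IsUnit r := by
        rw [← notMem_maximalIdeal, hϖ.maximalIdeal_eq, Ideal.mem_span_singleton]
        rintro ⟨r', rfl⟩
        refine hϖ.not_isUnit (IsUnit.of_mul_eq_one (r' - a * ϖ ^ k - d * ϖ ^ (k + 1)) ?_)
        linear_combination hd
      obtain ⟨ru, rfl⟩ := hru
      refine ⟨y * y', -((↑ru⁻¹ : A) * d), ?_⟩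
      rw [map_mul, hr, hy, mul_assoc, ← map_mul]
      congr 2
      have h1 : (ru : A) * (↑ru⁻¹ : A) = 1 := Units.mul_inv ru
      linear_combination -hd + (d * ϖ ^ (k + 2)) * h1
  have hunit : ∀ u : A, IsUnit u → ∃ y : L, Algebra.norm K y = algebraMap A K u := by
    intro u hu
    have hpA : (p : A) ≠ 0 := fun h => hpK (by rw [← map_natCast (algebraMap A K), h, map_zero])
    obtain ⟨m, q, hq⟩ := IsDiscreteValuationRing.eq_unit_mul_pow_irreducible hpA hϖ
    obtain ⟨y, a, hy⟩ := hstep (2 * m) u hu
    obtain ⟨c, hc⟩ := KrasnerDVR.exists_root_of_approx ((Polynomial.X : A[X]) ^ p - Polynomial.C (1 + a * ϖ ^ (2 * m + 1))) 1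
      (-(a * (↑q⁻¹ : A) ^ 2 * ϖ)) (by
        rw [hϖ.maximalIdeal_eq, Ideal.mem_span_singleton]
        exact (dvd_mul_left _ _).neg_right) (by
        rw [eval_sub, eval_pow, eval_X, eval_C, derivative_sub, derivative_X_pow, derivative_C, sub_zero,
          eval_mul, eval_C, eval_pow, eval_X, one_pow, one_pow, mul_one, hq]
        have h1 : ((q : A) * (↑q⁻¹ : A)) ^ 2 = 1 := by rw [Units.mul_inv, one_pow]
        linear_combination (a * ϖ ^ (2 * m + 1)) * h1)
    rw [eval_sub, eval_pow, eval_X, eval_C, sub_eq_zero] at hc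
    refine ⟨y * algebraMap A L c, ?_⟩
    rw [map_mul, IsScalarTower.algebraMap_apply A K L, Algebra.norm_algebraMap, hdeg, ← map_pow, hc, hy]
  obtain ⟨m, q, hq⟩ := IsDiscreteValuationRing.exists_units_eq_smul_zpow_of_irreducible (K := K) hϖ hx
  obtain ⟨yq, hyq⟩ := hunit q q.isUnit
  obtain ⟨yv, hyv⟩ := hunit (↑v⁻¹ : A) v⁻¹.isUnit
  let Y := yv * algebraMap B L P
  have hY : Algebra.norm K Y = algebraMap A K ϖ := by
    rw [map_mul, hyv, ← hv, ← map_mul, ← mul_assoc, Units.inv_mul, one_mul]
  have hY0 : Y ≠ 0 := fun h => by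
    rw [h, Algebra.norm_zero] at hY
    exact (map_ne_zero_iff _ (IsFractionRing.injective A K)).2 hϖ.ne_zero hY.symm
  have hYinv : Algebra.norm K Y⁻¹ = (algebraMap A K ϖ)⁻¹ := by
    refine eq_inv_of_mul_eq_one_left ?_
    rw [← hY, ← map_mul, inv_mul_cancel₀ hY0, map_one]
  refine ⟨yq * Y ^ m, ?_⟩
  rw [map_mul, hyq, hq, Units.smul_def, Algebra.smul_def]
  congr 1
  cases m with
  | ofNat j => rw [Int.ofNat_eq_natCast, zpow_natCast, zpow_natCast, map_pow, hY]
  | negSucc j => rw [zpow_negSucc, zpow_negSucc, ← inv_pow, map_pow, hYinv, inv_pow]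

end Groth.Agent.EtPBC.Wild

namespace Groth.Agent.EtPBC

/-- **norms are surjective over henselian DVRs with algebraically closed residue field** -/
theorem normSurj_of_henselianDvr_algClosed (p : ℕ) [hpp : Fact p.Prime] (A : Type u) [CommRing A] [IsDomain A]
    [IsDiscreteValuationRing A] [HenselianLocalRing A] [IsAlgClosed (ResidueField A)]
    (hchar : (p : ResidueField A) = 0) (K : Type u) [Field K] [Algebra A K] [IsFractionRing A K]
    (hpK : (p : K) ≠ 0) : NormSurj p K := by
  intro K' _ _ _ _ L _ _ _ _ hdeg x hx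
  obtain ⟨A', _, _, _, _, _, _, _, hp'⟩ : ∃ (A' : Type u) (_ : CommRing A') (_ : IsDomain A')
      (_ : IsDiscreteValuationRing A') (_ : HenselianLocalRing A') (_ : IsAlgClosed (ResidueField A'))
      (_ : Algebra A' K') (_ : IsFractionRing A' K'), (p : ResidueField A') = 0 := by
    letI : Algebra A K' := ((algebraMap K K').comp (algebraMap A K)).toAlgebra
    haveI : IsScalarTower A K K' := IsScalarTower.of_algebraMap_eq fun _ => rfl
    let B := integralClosure A K'
    haveI : IsIntegralClosure B A K' := integralClosure.isIntegralClosure A K'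
    haveI : Module.Finite A B := IsIntegralClosure.finite A K K' B
    haveI : IsDedekindDomain B := IsIntegralClosure.isDedekindDomain A K K' B
    haveI : IsLocalRing B := Hensel.isLocalRing_of_integral_domain A B
    haveI : HenselianLocalRing B := Hensel.henselianLocalRing_finite A B
    have hinj : Function.Injective (algebraMap A B) := fun a b hab =>
      IsFractionRing.injective A K ((algebraMap K K').injective (congrArg Subtype.val hab))
    haveI : IsLocalHom (algebraMap A B) :=
      RingHom.IsIntegral.isLocalHom (Algebra.IsIntegral.isIntegral (R := A)) hinj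
    haveI : IsFractionRing B K' := IsIntegralClosure.isFractionRing_of_finite_extension A K K' B
    have hnf : ¬ IsField B := fun h =>
      IsDiscreteValuationRing.not_isField A ((Algebra.IsIntegral.isField_iff_isField hinj).2 h)
    have h02 := (IsDiscreteValuationRing.TFAE B hnf).out 0 2
    haveI : IsDiscreteValuationRing B := h02.2 inferInstance
    have hbij : Function.Bijective (algebraMap (ResidueField A) (ResidueField B)) :=
      IsAlgClosed.algebraMap_bijective_of_isIntegral
    haveI : IsAlgClosed (ResidueField B) :=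
      IsAlgClosed.of_ringEquiv _ _ (RingEquiv.ofBijective _ hbij)
    refine ⟨B, inferInstance, inferInstance, inferInstance, inferInstance, inferInstance, inferInstance,
      inferInstance, ?_⟩
    rw [← map_natCast (algebraMap (ResidueField A) (ResidueField B)), hchar, map_zero]
  letI : Algebra A' L := ((algebraMap K' L).comp (algebraMap A' K')).toAlgebra
  haveI : IsScalarTower A' K' L := IsScalarTower.of_algebraMap_eq fun _ => rfl
  let B := integralClosure A' L
  haveI : IsIntegralClosure B A' L := integralClosure.isIntegralClosure A' L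
  haveI : Module.Finite A' B := IsIntegralClosure.finite A' K' L B
  haveI : IsDedekindDomain B := IsIntegralClosure.isDedekindDomain A' K' L B
  haveI : IsLocalRing B := Hensel.isLocalRing_of_integral_domain A' B
  have hinj : Function.Injective (algebraMap A' B) := fun a b hab =>
    IsFractionRing.injective A' K' ((algebraMap K' L).injective (congrArg Subtype.val hab))
  haveI : IsLocalHom (algebraMap A' B) :=
    RingHom.IsIntegral.isLocalHom (Algebra.IsIntegral.isIntegral (R := A')) hinj
  haveI : IsFractionRing B L := IsIntegralClosure.isFractionRing_of_finite_extension A' K' L B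
  have hnf : ¬ IsField B := fun h =>
    IsDiscreteValuationRing.not_isField A' ((Algebra.IsIntegral.isField_iff_isField hinj).2 h)
  have h02 := (IsDiscreteValuationRing.TFAE B hnf).out 0 2
  haveI : IsDiscreteValuationRing B := h02.2 inferInstance
  exact Wild.exists_norm_eq p A' K' L B hdeg
    (by rw [← map_natCast (algebraMap K K')]; exact (_root_.map_ne_zero _).2 hpK) hp' x hx

end Groth.Agent.EtPBC
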