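import Groth.Agent.EtPBC.CurveFinBase
import Groth.Agent.EtAcycX.Tors
import Groth.Prelude.Def_EtLam
import Mathlib

/-!
# Finite generation of the cohomology of sheaves of `Λ`-modules: formal tools
-/

set_option autoImplicit false
set_option backward.isDefEq.respectTransparency false
set_option backward.isDefEq.respectTransparency.types false
set_option linter.auxLemma false
set_option linter.style.haveILetI false
set_option linter.unusedSectionVars false
set_option maxHeartbeats 800000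

universe u

open CategoryTheory CategoryTheory.Limits CategoryTheory.Abelian AlgebraicGeometry Opposite

noncomputable section

namespace Groth.Agent.EtPBC.Lam

attribute [local instance 100000] EtCoh.H._proof_1 EtMV.hext
attribute [local instance 200000] EtMV.hextAb

/-- the middle of an exact sequence with finitely generated ends -/
theorem moduleFinite_of_exact {R : Type*} [CommRing R] [IsNoetherianRing R] {A B C : Type*} [AddCommGroup A]
    [AddCommGroup B] [AddCommGroup C] [Module R A] [Module R B] [Module R C] (φ : A →ₗ[R] B) (χ : B →ₗ[R] C)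
    [Module.Finite R A] [Module.Finite R C] (h : ∀ b, χ b = 0 → ∃ a, φ a = b) : Module.Finite R B := by
  haveI : IsNoetherian R C := isNoetherian_of_isNoetherianRing_of_finite R C
  refine ⟨Submodule.fg_of_fg_map_of_fg_inf_ker χ ?_ ?_⟩
  · exact IsNoetherian.noetherian _
  · rw [top_inf_eq]
    haveI : IsNoetherian R A := isNoetherian_of_isNoetherianRing_of_finite R A
    haveI : IsNoetherian R (LinearMap.range φ) := inferInstance
    exact (Module.Finite.iff_fg.1 inferInstance : (LinearMap.range φ).FG) |>.of_le fun b hb => h b hb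

variable {Λ : Type} [CommRing Λ] {X Y : Scheme.{u}}

/-- equivariant maps -/
def IsHom {L L' : EtLam.Sheaf Λ X} (f : L.carrier ⟶ L'.carrier) : Prop := ∀ r : Λ, L.act r ≫ f = f ≫ L'.act r

theorem IsHom.comp {L L' L'' : EtLam.Sheaf Λ X} {f : L.carrier ⟶ L'.carrier} {g : L'.carrier ⟶ L''.carrier}
    (hf : IsHom f) (hg : IsHom g) : IsHom (f ≫ g) := fun r => by
  rw [← Category.assoc, hf r, Category.assoc, hg r, ← Category.assoc]

theorem IsHom.inv {L L' : EtLam.Sheaf Λ X} {f : L.carrier ⟶ L'.carrier} [IsIso f] (hf : IsHom f) :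
    IsHom (inv f) := fun r => by
  rw [IsIso.eq_inv_comp, ← Category.assoc, IsIso.comp_inv_eq]
  exact (hf r).symm

/-- transport along an additive functor -/
abbrev mapL (Φ : EtCoh.Ab X ⥤ EtCoh.Ab Y) [Φ.Additive] (L : EtLam.Sheaf Λ X) : EtLam.Sheaf Λ Y :=
  ⟨Φ.obj L.carrier, EtLam.mapAct Φ L.act⟩

theorem IsHom.map (Φ : EtCoh.Ab X ⥤ EtCoh.Ab Y) [Φ.Additive] {L L' : EtLam.Sheaf Λ X}
    {f : L.carrier ⟶ L'.carrier} (hf : IsHom f) : IsHom (L := mapL Φ L) (L' := mapL Φ L') (Φ.map f) := fun r => by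
  show Φ.map (L.act r) ≫ Φ.map f = Φ.map f ≫ Φ.map (L'.act r)
  rw [← Φ.map_comp, hf r, Φ.map_comp]

theorem isHom_app {Φ Ψ : EtCoh.Ab X ⥤ EtCoh.Ab Y} [Φ.Additive] [Ψ.Additive] (t : Φ ⟶ Ψ) (L : EtLam.Sheaf Λ X) :
    IsHom (L := mapL Φ L) (L' := mapL Ψ L) (t.app L.carrier) := fun r => t.naturality (L.act r)

/-- the induced linear map on cohomology -/
def hLin {L L' : EtLam.Sheaf Λ X} (f : L.carrier ⟶ L'.carrier) (hf : IsHom f) (q : ℕ) :
    EtCoh.H X L.carrier q →ₗ[Λ] EtCoh.H X L'.carrier q where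
  toFun := CategoryTheory.Sheaf.H.map f q
  map_add' := map_add _
  map_smul' r x := by
    change CategoryTheory.Sheaf.H.map f q (CategoryTheory.Sheaf.H.map (L.act r) q x) =
      CategoryTheory.Sheaf.H.map (L'.act r) q (CategoryTheory.Sheaf.H.map f q x)
    rw [← CategoryTheory.Sheaf.H.map_comp_apply, ← CategoryTheory.Sheaf.H.map_comp_apply, hf r]

theorem moduleFinite_of_iso {L L' : EtLam.Sheaf Λ X} (e : L.carrier ≅ L'.carrier) (he : IsHom e.hom) (q : ℕ)
    [Module.Finite Λ (EtCoh.H X L.carrier q)] : Module.Finite Λ (EtCoh.H X L'.carrier q) :=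
  Module.Finite.of_surjective (hLin e.hom he q) fun y => ⟨CategoryTheory.Sheaf.H.map e.inv q y, by
    show CategoryTheory.Sheaf.H.map e.hom q (CategoryTheory.Sheaf.H.map e.inv q y) = y
    rw [← CategoryTheory.Sheaf.H.map_comp_apply, e.inv_hom_id, CategoryTheory.Sheaf.H.map_id_apply]⟩

section Seq

variable {L₁ L₂ L₃ : EtLam.Sheaf Λ X} {f : L₁.carrier ⟶ L₂.carrier} {g : L₂.carrier ⟶ L₃.carrier}
  {w : f ≫ g = 0} (hS : (ShortComplex.mk f g w).ShortExact) (hf : IsHom f) (hg : IsHom g)

include hS hf hg in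
/-- the connecting map is linear -/
theorem δ_linear (q : ℕ) (r : Λ) (x : EtCoh.H X L₃.carrier q) :
    (Ext.comp (r • x) hS.extClass (rfl : q + 1 = q + 1) : EtCoh.H X L₁.carrier (q + 1)) =
      r • (Ext.comp x hS.extClass (rfl : q + 1 = q + 1) : EtCoh.H X L₁.carrier (q + 1)) := by
  let φ : ShortComplex.mk f g w ⟶ ShortComplex.mk f g w :=
    { τ₁ := L₁.act r, τ₂ := L₂.act r, τ₃ := L₃.act r, comm₁₂ := hf r, comm₂₃ := hg r }
  have e := ShortComplex.ShortExact.extClass_naturality hS hS φ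
  show Ext.comp (Ext.comp x (Ext.mk₀ (L₃.act r)) (add_zero q)) hS.extClass (rfl : q + 1 = q + 1) =
    Ext.comp (Ext.comp x hS.extClass (rfl : q + 1 = q + 1)) (Ext.mk₀ (L₁.act r)) (add_zero (q + 1))
  rw [Ext.comp_assoc x (Ext.mk₀ (L₃.act r)) hS.extClass (add_zero q) (zero_add 1) (by omega),
    Ext.comp_assoc x hS.extClass (Ext.mk₀ (L₁.act r)) rfl (add_zero 1) (by omega)]
  exact congrArg (fun t => Ext.comp x t (rfl : q + 1 = q + 1)) e.symm

include hS hf hg in
/-- the connecting map -/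
def δLin (q : ℕ) : EtCoh.H X L₃.carrier q →ₗ[Λ] EtCoh.H X L₁.carrier (q + 1) where
  toFun := hS.extClass.postcomp _ (rfl : q + 1 = q + 1)
  map_add' := map_add _
  map_smul' r x := δ_linear hS hf hg q r x

variable [IsNoetherianRing Λ]

include hS hf hg in
theorem finite_X₂ (q : ℕ) [Module.Finite Λ (EtCoh.H X L₁.carrier q)] [Module.Finite Λ (EtCoh.H X L₃.carrier q)] :
    Module.Finite Λ (EtCoh.H X L₂.carrier q) :=
  moduleFinite_of_exact (hLin f hf q) (hLin g hg q) fun x hx => Ext.covariant_sequence_exact₂ _ hS x hx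

include hS hf hg in
theorem finite_X₃ (q : ℕ) [Module.Finite Λ (EtCoh.H X L₂.carrier q)] [Module.Finite Λ (EtCoh.H X L₁.carrier (q + 1))] :
    Module.Finite Λ (EtCoh.H X L₃.carrier q) :=
  moduleFinite_of_exact (hLin g hg q) (δLin hS hf hg q) fun x hx => Ext.covariant_sequence_exact₃ _ hS x rfl hx

include hS hf hg in
theorem finite_X₁_succ (q : ℕ) [Module.Finite Λ (EtCoh.H X L₃.carrier q)]
    [Module.Finite Λ (EtCoh.H X L₂.carrier (q + 1))] : Module.Finite Λ (EtCoh.H X L₁.carrier (q + 1)) :=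
  moduleFinite_of_exact (δLin hS hf hg q) (hLin f hf (q + 1)) fun x hx =>
    Ext.covariant_sequence_exact₁ _ hS x hx rfl

end Seq

theorem finite_zero_of_mono [IsNoetherianRing Λ] {L L' : EtLam.Sheaf Λ X} (f : L.carrier ⟶ L'.carrier)
    (hf : IsHom f) [Mono f] [Module.Finite Λ (EtCoh.H X L'.carrier 0)] : Module.Finite Λ (EtCoh.H X L.carrier 0) := by
  haveI : IsNoetherian Λ (EtCoh.H X L'.carrier 0) := isNoetherian_of_isNoetherianRing_of_finite Λ _
  refine Module.Finite.of_injective (hLin f hf 0) fun x y h => ?_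
  obtain ⟨u, rfl⟩ := (Ext.mk₀_bijective _ _).2 x
  obtain ⟨v, rfl⟩ := (Ext.mk₀_bijective _ _).2 y
  change Ext.comp (Ext.mk₀ u) (Ext.mk₀ f) (add_zero 0) = Ext.comp (Ext.mk₀ v) (Ext.mk₀ f) (add_zero 0) at h
  rw [Ext.mk₀_comp_mk₀, Ext.mk₀_comp_mk₀] at h
  exact congrArg Ext.mk₀ ((cancel_mono f).1 ((Ext.mk₀_bijective _ _).1 h))

/-- direct images along finite maps -/
theorem finite_push (f : X ⟶ Y) [IsFinite f] (L : EtLam.Sheaf Λ X) (q : ℕ)
    [Module.Finite Λ (EtCoh.H X L.carrier q)] :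
    Module.Finite Λ (EtCoh.H Y (EtLam.pushforward f L).carrier q) := by
  haveI := EtPullExact.pull_preservesFiniteLimits f
  haveI : (EtCoh.pull f).Additive := (EtCoh.pullPushAdj f).left_adjoint_additive
  have hlin : ∀ (r : Λ) (x : EtCoh.H Y (EtLam.pushforward f L).carrier q),
      EtLim.HofPush f L.carrier q (r • x) = r • EtLim.HofPush f L.carrier q x := fun r x => by
    show CategoryTheory.Sheaf.H.map ((EtCoh.pullPushAdj f).counit.app L.carrier) q
        (EtCore.Hpull f _ q (Ext.comp x (Ext.mk₀ ((EtCoh.push f).map (L.act r))) (add_zero q))) =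
      CategoryTheory.Sheaf.H.map (L.act r) q
        (CategoryTheory.Sheaf.H.map ((EtCoh.pullPushAdj f).counit.app L.carrier) q (EtCore.Hpull f _ q x))
    rw [EtAcycX.Hpull_comp_mk₀]
    show CategoryTheory.Sheaf.H.map ((EtCoh.pullPushAdj f).counit.app L.carrier) q
        (CategoryTheory.Sheaf.H.map ((EtCoh.pull f).map ((EtCoh.push f).map (L.act r))) q (EtCore.Hpull f _ q x)) = _
    exact (CategoryTheory.Sheaf.H.map_comp_apply _ _ _).symm.trans
      ((congrArg (fun t => CategoryTheory.Sheaf.H.map t q (EtCore.Hpull f _ q x))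
        ((EtCoh.pullPushAdj f).counit.naturality (L.act r))).trans (CategoryTheory.Sheaf.H.map_comp_apply _ _ _))
  let φ : EtCoh.H Y (EtLam.pushforward f L).carrier q →ₗ[Λ] EtCoh.H X L.carrier q :=
    { toFun := fun x => EtLim.HofPush f L.carrier q x
      map_add' := fun x y => map_add (EtLim.HofPush f L.carrier q) x y
      map_smul' := hlin }
  exact Module.Finite.equiv (LinearEquiv.ofBijective φ
    (EtMV.HofPush_bijective f L.carrier (fun m => EtIntegral.Rpush_succ_isZero f L.carrier m) q)).symm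

end Groth.Agent.EtPBC.Lam
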