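import Groth.Agent.EtPBC.LamTools
import Groth.Agent.LocImmFT.Finite
import Groth.Agent.EtTrivGen.Basic
import Groth.Agent.FpqcDescent.Sep
import Mathlib

/-!
# Charts of constructible sheaves of `Λ`-modules
-/

set_option autoImplicit false
set_option backward.isDefEq.respectTransparency false
set_option backward.isDefEq.respectTransparency.types false
set_option linter.auxLemma false
set_option linter.style.haveILetI false
set_option linter.unusedSectionVars false
set_option maxHeartbeats 1000000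

universe u

open CategoryTheory CategoryTheory.Limits CategoryTheory.Abelian AlgebraicGeometry Opposite TopologicalSpace

noncomputable section

namespace Groth.Agent.EtPBC.Lam

local notation "rs" => Groth.Agent.EtFLC.res

variable {Λ : Type} [CommRing Λ] {X : Scheme.{u}}
variable {k : Type u} [Field k] [IsAlgClosed k] (f : X ⟶ Spec (CommRingCat.of k))

/-- sections are locally killed by orders in `P` -/
def TorsIn (P : ℕ → Prop) (F : EtCoh.Ab X) : Prop :=
  ∀ (U : X.Etale) (s : EtCoh.sect F U) (x : U.left), ∃ (V : X.Etale) (g : V ⟶ U) (n : ℕ),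
    (∃ v : V.left, g.left v = x) ∧ P n ∧ n • F.obj.map g.op s = 0

/-- sections are locally killed by good orders -/
def GoodTors (F : EtCoh.Ab X) : Prop := TorsIn (GoodN f) F

theorem torsIn_pos {F : EtCoh.Ab X} (h : EtCoh.IsTorsion F) : TorsIn (0 < ·) F := fun U s x => by
  obtain ⟨V, g, hv, ho⟩ := h U s x
  exact ⟨V, g, addOrderOf (F.obj.map g.op s), hv, ho.addOrderOf_pos, addOrderOf_nsmul_eq_zero _⟩

theorem goodTors_of_isTorsion [IsProper f] {F : EtCoh.Ab X} (h : EtCoh.IsTorsion F) : GoodTors f F := fun U s x => by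
  obtain ⟨V, g, hv, ho⟩ := h U s x
  exact ⟨V, g, addOrderOf (F.obj.map g.op s), hv, ⟨ho.addOrderOf_pos, Or.inl inferInstance⟩,
    addOrderOf_nsmul_eq_zero _⟩

theorem goodTors_of_invertible {F : EtCoh.Ab X}
    (h : EtPBC.IsTorsionInvertibleOn (Spec (CommRingCat.of k)) F) : GoodTors f F := fun U s x => by
  obtain ⟨V, g, n, hv, hn, hs⟩ := h U s x
  have hnk : (n : k) ≠ 0 := fun h0 => by
    have h1 := hn.map (Scheme.ΓSpecIso (CommRingCat.of k)).hom.hom
    rw [map_natCast, h0] at h1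
    exact not_isUnit_zero h1
  exact ⟨V, g, n, hv, ⟨Nat.pos_of_ne_zero fun h0 => hnk (by rw [h0, Nat.cast_zero]), Or.inr hnk⟩, hs⟩

/-- the coefficients of a trivialised sheaf are killed by the given orders -/
theorem exists_killing_elem {P : ℕ → Prop} {F : EtCoh.Ab X} (hF : TorsIn P F) {W : Scheme.{u}} [Nonempty W]
    (p : W ⟶ X) {M : Type} [AddCommGroup M] (e : EtCoh.const W M ≅ (EtCoh.pull p).obj F) (m : M) :
    ∃ n : ℕ, P n ∧ n • m = 0 := by
  obtain ⟨Ω, _, _, ξ, hξ⟩ := exists_geomPt (Classical.arbitrary W)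
  let T := EtCoh.top W
  obtain ⟨y, -⟩ := exists_lift_at hξ (V := T) (Classical.arbitrary W) rfl
  let Φ := Scheme.pointSmallEtale ξ
  let ι := (EtStalk.stalkPullIso p ξ).app F
  let z : (EtCoh.stalk ξ).obj (EtCoh.const W M) := Φ.toPresheafFiber T y (EtCoh.const W M).obj (EtMV.cst T m)
  let z' : (EtCoh.stalk (ξ ≫ p)).obj F := ι.inv ((EtCoh.stalk ξ).map e.hom z)
  obtain ⟨U, x, t, hzt⟩ := GrothendieckTopology.Point.toPresheafFiber_jointly_surjective
    (Φ := Scheme.pointSmallEtale (ξ ≫ p)) (P := F.obj) z'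
  let x' : Over.mk (ξ ≫ p) ⟶ (Scheme.Etale.forget X).obj U := x
  obtain ⟨V, g, n, ⟨v, hv⟩, hn, hns⟩ := hF U t (x'.left (default : ↥(Spec (CommRingCat.of Ω))))
  obtain ⟨y', hy'⟩ := Groth.Agent.EtTrivGen.exists_point_lift g x' ⟨v, hv⟩
  refine ⟨n, hn, ?_⟩
  have h1 : n • z' = 0 := by
    rw [← hzt]
    show n • (Scheme.pointSmallEtale (ξ ≫ p)).toPresheafFiber U x' F.obj t = 0
    rw [← hy', ← GrothendieckTopology.Point.toPresheafFiber_w_apply, ← map_nsmul, hns, map_zero]
  have h2 : n • z = 0 := by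
    have h3 : Function.Injective fun w : (EtCoh.stalk ξ).obj (EtCoh.const W M) => ι.inv ((EtCoh.stalk ξ).map e.hom w) :=
      ι.addCommGroupIsoToAddEquiv.symm.injective.comp
        ((EtCoh.stalk ξ).mapIso e).addCommGroupIsoToAddEquiv.injective
    refine h3 ?_
    show ι.inv ((EtCoh.stalk ξ).map e.hom (n • z)) = ι.inv ((EtCoh.stalk ξ).map e.hom 0)
    rw [map_nsmul, map_nsmul, map_zero, map_zero]
    exact h1
  have h4 : Φ.toPresheafFiber T y (EtCoh.const W M).obj (EtMV.cst T (n • m)) =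
      Φ.toPresheafFiber T y (EtCoh.const W M).obj (EtMV.cst T 0) := by
    rw [← EtMV.cstHom_apply, ← EtMV.cstHom_apply, map_nsmul, map_zero, map_nsmul, map_zero]
    exact h2
  obtain ⟨W', g', w', -, hg'⟩ := (Φ.toPresheafFiber_eq_iff' _ _ _ _).mp h4
  rw [EtMV.res_cst, EtMV.res_cst] at hg'
  let w'' : Over.mk ξ ⟶ (Scheme.Etale.forget W).obj W' := w'
  exact EtMV.cst_inj (W := W') (w''.left (default : ↥(Spec (CommRingCat.of Ω)))) hg'

theorem exists_killing {P : ℕ → Prop} (h1 : P 1) (hmul : ∀ a b, P a → P b → P (a * b)) {F : EtCoh.Ab X}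
    (hF : TorsIn P F) {W : Scheme.{u}} [Nonempty W] (p : W ⟶ X) {M : Type} [AddCommGroup M] [Module Λ M]
    [Module.Finite Λ M] (e : EtCoh.const W M ≅ (EtCoh.pull p).obj F) : ∃ N : ℕ, P N ∧ ∀ m : M, N • m = 0 := by
  classical
  choose n hn hnm using exists_killing_elem hF p e
  obtain ⟨S, hS⟩ := (Module.Finite.fg_top : (⊤ : Submodule Λ M).FG)
  refine ⟨∏ m ∈ S, n m, Finset.prod_induction _ P hmul h1 fun m _ => hn m, fun m => ?_⟩
  have hm : m ∈ Submodule.span Λ (S : Set M) := by rw [hS]; trivial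
  induction hm using Submodule.span_induction with
  | mem x hx =>
    obtain ⟨d, hd⟩ := Finset.dvd_prod_of_mem n hx
    rw [hd, mul_comm, mul_nsmul', hnm, nsmul_zero]
  | zero => exact nsmul_zero _
  | add x y _ _ hx hy => rw [nsmul_add, hx, hy, add_zero]
  | smul r x _ hx => rw [smul_comm, hx, smul_zero]

theorem exists_good_killing {F : EtCoh.Ab X} (hF : GoodTors f F) {W : Scheme.{u}} [Nonempty W] (p : W ⟶ X)
    {M : Type} [AddCommGroup M] [Module Λ M] [Module.Finite Λ M] (e : EtCoh.const W M ≅ (EtCoh.pull p).obj F) :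
    ∃ N : ℕ, GoodN f N ∧ ∀ m : M, N • m = 0 :=
  exists_killing (Λ := Λ) ⟨one_pos, Or.inr (by rw [Nat.cast_one]; exact one_ne_zero)⟩
    (fun a b ha hb => ⟨Nat.mul_pos ha.1 hb.1, by
      by_cases hp : IsProper f
      · exact Or.inl hp
      · exact Or.inr (by rw [Nat.cast_mul]; exact mul_ne_zero (ha.2.resolve_left hp) (hb.2.resolve_left hp))⟩) hF p e

variable [IsSeparated f] [LocallyOfFiniteType f] [QuasiCompact f]

include f in
/-- **charts**: near every point the sheaf becomes constant on an affine quasi-finite scheme -/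
theorem exists_chart (L : EtLam.Sheaf Λ X) (hL : EtLam.IsConstructible L) (x : X) :
    ∃ (W : Scheme.{u}) (p : W ⟶ X) (_ : IsAffine W) (_ : LocallyQuasiFinite p) (_ : LocallyOfFiniteType p)
      (M : Type) (_ : AddCommGroup M) (_ : Module Λ M) (_ : Module.Finite Λ M)
      (ε : EtCoh.const W M ≅ (EtCoh.pull p).obj L.carrier),
      IsHom (L := constL W M) (L' := mapL (EtCoh.pull p) L) ε.hom ∧ x ∈ Set.range p := by
  obtain ⟨A, hA, hxA, -⟩ := exists_isAffineOpen_mem_and_subset (X := X) (x := x) (U := ⊤) trivial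
  obtain ⟨n, T, g, hg, -, -, hcov, hft⟩ := hL A hA
  obtain ⟨i, t, ht⟩ : ∃ i, x ∈ Set.range (g i) := Set.mem_iUnion.1 (hcov.symm ▸ (hxA : x ∈ (A : Set X)))
  obtain ⟨κ, U, hU, htriv⟩ := hft i
  obtain ⟨a, w, hw⟩ := hU t
  obtain ⟨M, _, _, _, e, he⟩ := htriv a
  obtain ⟨σ, hσ, heq⟩ := exists_equiv_triv (EtLam.pullback (g i) L) (U a) M e he
  obtain ⟨O, hO, hwO, -⟩ := exists_isAffineOpen_mem_and_subset (X := (U a).left) (x := w) (U := ⊤) trivial
  haveI : Etale (U a).hom := (U a).prop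
  let U' : (T i).Etale := Scheme.Etale.mk (O.ι ≫ (U a).hom)
  let c : U' ⟶ U a := MorphismProperty.Over.homMk O.ι rfl
  obtain ⟨ε, hε⟩ := exists_pull_const (g i) L U' ((rs (EtLam.pullback (g i) L).carrier c).comp σ) (hσ.comap c)
    (equiv_triv_comap (EtLam.pullback (g i) L) c σ heq)
  haveI : IsAffine U'.left := hO
  haveI := hg i
  haveI : Etale U'.hom := U'.prop
  haveI : LocallyQuasiFinite U'.hom := Groth.Agent.FpqcDescent.locallyQuasiFinite_of_etale U'.hom
  haveI : IsLocallyNoetherian X := LocallyOfFiniteType.isLocallyNoetherian f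
  exact ⟨U'.left, U'.hom ≫ g i, inferInstance, inferInstance, inferInstance, M, inferInstance, inferInstance,
    inferInstance, ε, hε, ⟨⟨w, hwO⟩, by
      show g i ((U a).hom w) = x
      rw [hw, ht]⟩⟩

/-- restriction of a trivialisation -/
theorem exists_const_comp (L : EtLam.Sheaf Λ X) {W W' : Scheme.{u}} (p : W ⟶ X) (s : W' ⟶ W) (p' : W' ⟶ X)
    (w : s ≫ p = p') {M : Type} [AddCommGroup M] [Module Λ M] (ε : EtCoh.const W M ≅ (EtCoh.pull p).obj L.carrier)
    (hε : IsHom (L := constL W M) (L' := mapL (EtCoh.pull p) L) ε.hom) :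
    ∃ ε' : EtCoh.const W' M ≅ (EtCoh.pull p').obj L.carrier,
      IsHom (L := constL W' M) (L' := mapL (EtCoh.pull p') L) ε'.hom := by
  subst w
  refine ⟨((pullCstIso s).app (up M)).symm ≪≫ (EtCoh.pull s).mapIso ε ≪≫ ((EtCore.pullComp s p).app L.carrier).symm,
    fun r => ?_⟩
  have h1 : (constL (Λ := Λ) W' M).act r ≫ (pullCstIso s).inv.app (up M) =
      (pullCstIso s).inv.app (up M) ≫ (EtCoh.pull s).map ((constL W M).act r) :=
    (pullCstIso s).inv.naturality (smulEnd M r)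
  have h2 : (EtCoh.pull s).map ((constL W M).act r) ≫ (EtCoh.pull s).map ε.hom =
      (EtCoh.pull s).map ε.hom ≫ (EtCoh.pull s).map ((EtCoh.pull p).map (L.act r)) := by
    rw [← Functor.map_comp, ← Functor.map_comp]
    exact congrArg (EtCoh.pull s).map (hε r)
  have h3 : (EtCoh.pull s).map ((EtCoh.pull p).map (L.act r)) ≫ (EtCore.pullComp s p).inv.app L.carrier =
      (EtCore.pullComp s p).inv.app L.carrier ≫ (EtCoh.pull (s ≫ p)).map (L.act r) :=
    (EtCore.pullComp s p).inv.naturality (L.act r)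
  show (constL (Λ := Λ) W' M).act r ≫ (pullCstIso s).inv.app (up M) ≫ (EtCoh.pull s).map ε.hom ≫
      (EtCore.pullComp s p).inv.app L.carrier =
    ((pullCstIso s).inv.app (up M) ≫ (EtCoh.pull s).map ε.hom ≫ (EtCore.pullComp s p).inv.app L.carrier) ≫
      (EtCoh.pull (s ≫ p)).map (L.act r)
  rw [Category.assoc, Category.assoc, ← h3]
  erw [reassoc_of% h1, reassoc_of% h2]

/-- around every point the sheaf is constant, killed by a good order, on an affine quasi-finite scheme -/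
def HasCharts (L : EtLam.Sheaf Λ X) : Prop :=
  ∀ x : X, ∃ (W : Scheme.{u}) (p : W ⟶ X) (_ : IsAffine W) (_ : LocallyQuasiFinite p) (_ : LocallyOfFiniteType p)
    (M : Type) (_ : AddCommGroup M) (_ : Module Λ M) (_ : Module.Finite Λ M) (N : ℕ)
    (ε : EtCoh.const W M ≅ (EtCoh.pull p).obj L.carrier),
    IsHom (L := constL W M) (L' := mapL (EtCoh.pull p) L) ε.hom ∧ x ∈ Set.range p ∧ GoodN f N ∧ ∀ m : M, N • m = 0

theorem hasCharts_of_isConstructible (L : EtLam.Sheaf Λ X) (hL : EtLam.IsConstructible L) (hT : GoodTors f L.carrier) :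
    HasCharts f L := fun x => by
  obtain ⟨W, p, _, _, _, M, _, _, _, ε, hε, hx⟩ := exists_chart f L hL x
  haveI : Nonempty W := let ⟨w, _⟩ := hx; ⟨w⟩
  obtain ⟨N, hN, hNM⟩ := exists_good_killing (Λ := Λ) f hT p ε
  exact ⟨W, p, inferInstance, inferInstance, inferInstance, M, inferInstance, inferInstance, inferInstance, N, ε,
    hε, hx, hN, hNM⟩

/-- **stalks at rational points are finitely generated** -/
theorem exists_point_const (L : EtLam.Sheaf Λ X) (hC : HasCharts f L)
    (x : Spec (CommRingCat.of k) ⟶ X) (hx : x ≫ f = 𝟙 _) :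
    ∃ (M : Type) (_ : AddCommGroup M) (_ : Module Λ M) (_ : Module.Finite Λ M) (N : ℕ)
      (ε : EtCoh.const (Spec (CommRingCat.of k)) M ≅ (EtCoh.pull x).obj L.carrier),
      IsHom (L := constL (Spec (CommRingCat.of k)) M) (L' := mapL (EtCoh.pull x) L) ε.hom ∧ GoodN f N ∧
        ∀ m : M, N • m = 0 := by
  let pt : X := x (IsLocalRing.closedPoint k)
  have hpt : IsClosed ({pt} : Set X) := (pointEquivClosedPoint f ⟨x, hx⟩).2
  obtain ⟨W, p, _, _, _, M, _, _, _, N, ε, hε, hxr, hN, hNM⟩ := hC pt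
  obtain ⟨w₀, hw₀⟩ := hxr
  haveI : JacobsonSpace W := LocallyOfFiniteType.jacobsonSpace (p ≫ f)
  obtain ⟨w, hw, hwc⟩ := nonempty_inter_closedPoints (Z := p ⁻¹' {pt}) ⟨w₀, hw₀⟩
    (hpt.preimage p.continuous).isLocallyClosed
  let s := (pointEquivClosedPoint (p ≫ f)).symm ⟨w, hwc⟩
  have hs : s.1 ≫ p = x := by
    have h1 : (⟨s.1 ≫ p, (Category.assoc _ _ _).trans s.2⟩ : {g : Spec (CommRingCat.of k) ⟶ X // g ≫ f = 𝟙 _}) =
        ⟨x, hx⟩ := (pointEquivClosedPoint f).injective (Subtype.ext (by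
      show p (s.1 (IsLocalRing.closedPoint k)) = pt
      rw [show s.1 (IsLocalRing.closedPoint k) = w from
        congrArg Subtype.val ((pointEquivClosedPoint (p ≫ f)).apply_symm_apply ⟨w, hwc⟩)]
      exact hw))
    exact congrArg Subtype.val h1
  obtain ⟨ε', hε'⟩ := exists_const_comp L p s.1 x hs ε hε
  exact ⟨M, inferInstance, inferInstance, inferInstance, N, ε', hε', hN, hNM⟩

end Groth.Agent.EtPBC.Lam
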