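import Groth.Agent.EtPBC.LamCat
import Groth.Agent.EtPBC.ConstKilled
import Groth.Agent.EtColimH.Main
import Mathlib

/-!
# Coefficient modules

For an exact colimit preserving functor from groups to sheaves with finite cohomology on the cyclic groups,
the cohomology with coefficients in a finitely generated `Λ`-module killed by an integer is finitely generated.
-/

set_option autoImplicit false
set_option backward.isDefEq.respectTransparency false
set_option backward.isDefEq.respectTransparency.types false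
set_option linter.auxLemma false
set_option linter.style.haveILetI false
set_option linter.unusedSectionVars false
set_option maxHeartbeats 1000000

universe u

open CategoryTheory CategoryTheory.Limits CategoryTheory.Abelian AlgebraicGeometry Opposite

noncomputable section

namespace Groth.Agent.EtPBC.Lam

attribute [local instance 100000] EtCoh.H._proof_1 EtMV.hext
attribute [local instance 200000] EtMV.hextAb

/-- a small group, one universe up -/
abbrev up (M : Type) [AddCommGroup M] : AddCommGrpCat.{u + 1} := AddCommGrpCat.of (ULift.{u + 1} M)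

/-- a homomorphism of small groups, one universe up -/
abbrev upMap {M N : Type} [AddCommGroup M] [AddCommGroup N] (φ : M →+ N) : up.{u} M ⟶ up.{u} N :=
  AddCommGrpCat.ofHom (AddEquiv.ulift.symm.toAddMonoidHom.comp (φ.comp AddEquiv.ulift.toAddMonoidHom))

variable {Λ : Type} [CommRing Λ] {X : Scheme.{u}} (Φ : AddCommGrpCat.{u + 1} ⥤ EtCoh.Ab X) [Φ.Additive]

/-- scalar multiplication on the coefficient group -/
abbrev smulEnd (M : Type) [AddCommGroup M] [Module Λ M] (r : Λ) : up.{u} M ⟶ up.{u} M :=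
  AddCommGrpCat.ofHom (DistribSMul.toAddMonoidHom (ULift.{u + 1} M) r)

/-- the sheaf of `Λ`-modules with coefficient module `M` -/
def coefL (M : Type) [AddCommGroup M] [Module Λ M] : EtLam.Sheaf Λ X where
  carrier := Φ.obj (up M)
  act :=
    { toFun := fun r => Φ.map (smulEnd M r)
      map_one' := by
        rw [End.one_def, show smulEnd M (1 : Λ) = 𝟙 (up.{u} M) from AddCommGrpCat.hom_ext
          (AddMonoidHom.ext fun m => one_smul Λ m), Φ.map_id]
      map_mul' := fun r s => by
        rw [End.mul_def, ← Φ.map_comp]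
        exact congrArg Φ.map (AddCommGrpCat.hom_ext (AddMonoidHom.ext fun m => mul_smul r s m))
      map_zero' := by
        rw [show smulEnd M (0 : Λ) = 0 from AddCommGrpCat.hom_ext (AddMonoidHom.ext fun m => zero_smul Λ m)]
        exact Φ.map_zero _ _
      map_add' := fun r s => by
        rw [show smulEnd M (r + s) = smulEnd M r + smulEnd M s from AddCommGrpCat.hom_ext
          (AddMonoidHom.ext fun m => add_smul r s m)]
        exact Φ.map_add }

theorem isHom_upMap {M N : Type} [AddCommGroup M] [AddCommGroup N] [Module Λ M] [Module Λ N] (φ : M →ₗ[Λ] N) :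
    IsHom (L := coefL (Λ := Λ) Φ M) (L' := coefL (Λ := Λ) Φ N) (Φ.map (upMap φ.toAddMonoidHom)) := fun r => by
  show Φ.map (smulEnd M r) ≫ Φ.map _ = Φ.map _ ≫ Φ.map (smulEnd N r)
  rw [← Φ.map_comp, ← Φ.map_comp]
  exact congrArg Φ.map (AddCommGrpCat.hom_ext (AddMonoidHom.ext fun m => ULift.down_injective (φ.map_smul r m.down)))

variable (q : ℕ)

section Prime

variable (ℓ : ℕ) [hℓ : Fact ℓ.Prime] (M : Type) [AddCommGroup M] [Module Λ M] (hM : ∀ m : M, ℓ • m = 0)

/-- `1 ↦ m` -/
def elemHom (m : M) : ZMod ℓ →+ M :=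
  ZMod.lift ℓ ⟨zmultiplesHom M m, by rw [zmultiplesHom_apply, natCast_zsmul]; exact hM m⟩

theorem elemHom_intCast (m : M) (z : ℤ) : elemHom ℓ M hM m (z : ZMod ℓ) = z • m := by
  rw [elemHom, ZMod.lift_coe]
  rfl

/-- the classes coming from an element of the coefficient module -/
def elemLin (e : EtCoh.H X (Φ.obj (up (ZMod ℓ))) q) : M →ₗ[Λ] EtCoh.H X (coefL (Λ := Λ) Φ M).carrier q where
  toFun m := CategoryTheory.Sheaf.H.map (Φ.map (upMap (elemHom ℓ M hM m))) q e
  map_add' m m' := by
    rw [show upMap.{u} (elemHom ℓ M hM (m + m')) = upMap (elemHom ℓ M hM m) + upMap (elemHom ℓ M hM m') from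
      AddCommGrpCat.hom_ext (AddMonoidHom.ext fun z => by
        obtain ⟨z⟩ := z
        obtain ⟨z, rfl⟩ := ZMod.intCast_surjective z
        refine ULift.down_injective ?_
        show elemHom ℓ M hM (m + m') (z : ZMod ℓ) = elemHom ℓ M hM m (z : ZMod ℓ) + elemHom ℓ M hM m' (z : ZMod ℓ)
        simp only [elemHom_intCast, smul_add]), Φ.map_add]
    exact CategoryTheory.Sheaf.H.map_add_apply _ _ _
  map_smul' r m := by
    show _ = CategoryTheory.Sheaf.H.map (Φ.map (smulEnd M r)) q _
    rw [← CategoryTheory.Sheaf.H.map_comp_apply, ← Φ.map_comp]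
    refine congrArg (fun t => CategoryTheory.Sheaf.H.map (Φ.map t) q e) (AddCommGrpCat.hom_ext
      (AddMonoidHom.ext fun z => ?_))
    obtain ⟨z⟩ := z
    obtain ⟨z, rfl⟩ := ZMod.intCast_surjective z
    refine ULift.down_injective ?_
    show elemHom ℓ M hM (r • m) (z : ZMod ℓ) = r • elemHom ℓ M hM m (z : ZMod ℓ)
    rw [elemHom_intCast, elemHom_intCast, smul_comm]

omit hM in
/-- a finitely generated group killed by `ℓ` is split by coordinates -/
theorem exists_coords {V : Type*} [AddCommGroup V] [AddGroup.FG V] (hV : ∀ v : V, ℓ • v = 0) :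
    ∃ (n : ℕ) (c : Fin n → (V →+ ZMod ℓ)) (b : Fin n → V), ∀ v, v = ∑ i, (c i v).val • b i := by
  suffices key : ∀ [Module (ZMod ℓ) V], ∃ (n : ℕ) (c : Fin n → (V →+ ZMod ℓ)) (b : Fin n → V),
      ∀ v, v = ∑ i, (c i v).val • b i from @key (AddCommGroup.zmodModule hV)
  intro _
  haveI : Module.Finite ℤ V := Module.Finite.iff_addGroup_fg.2 inferInstance
  haveI : Module.Finite (ZMod ℓ) V := Module.Finite.of_restrictScalars_finite ℤ (ZMod ℓ) V
  let b := Module.finBasis (ZMod ℓ) V
  refine ⟨_, fun i => (b.coord i).toAddMonoidHom, b, fun v => ?_⟩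
  refine (b.sum_repr v).symm.trans (Finset.sum_congr rfl fun i _ => ?_)
  show b.repr v i • b i = (b.repr v i).val • b i
  rw [← Nat.cast_smul_eq_nsmul (ZMod ℓ), ZMod.natCast_zmod_val]

/-- finite subgroups -/
abbrev fgSub (S : Finset (ULift.{u + 1} M)) : AddSubgroup (ULift.{u + 1} M) := AddSubgroup.closure (S : Set _)

/-- the system of finitely generated subgroups -/
def fgDiag : Finset (ULift.{u + 1} M) ⥤ AddCommGrpCat.{u + 1} where
  obj S := AddCommGrpCat.of (fgSub M S)
  map {S T} h := AddCommGrpCat.ofHom (AddSubgroup.inclusion (AddSubgroup.closure_mono (Finset.coe_subset.2 (leOfHom h))))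
  map_id _ := AddCommGrpCat.hom_ext (AddMonoidHom.ext fun _ => rfl)
  map_comp _ _ := AddCommGrpCat.hom_ext (AddMonoidHom.ext fun _ => rfl)

def fgCocone : Cocone (fgDiag.{u} M) where
  pt := up M
  ι := { app := fun S => AddCommGrpCat.ofHom (fgSub M S).subtype
         naturality := fun _ _ _ => AddCommGrpCat.hom_ext (AddMonoidHom.ext fun _ => rfl) }

theorem nonempty_isColimit_fgCocone : Nonempty (IsColimit (fgCocone.{u} M)) := by
  classical
  haveI : ReflectsColimit (fgDiag.{u} M) (forget AddCommGrpCat.{u + 1}) :=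
    reflectsColimit_of_reflectsIsomorphisms _ _
  refine ⟨isColimitOfReflects (forget AddCommGrpCat.{u + 1}) ?_⟩
  refine Types.FilteredColimit.isColimitOf _ _ (fun x => ?_) fun i j xi xj h => ?_
  · exact ⟨{x}, ⟨x, AddSubgroup.subset_closure (Finset.mem_coe.2 (Finset.mem_singleton_self x))⟩, rfl⟩
  · refine ⟨i ∪ j, homOfLE Finset.subset_union_left, homOfLE Finset.subset_union_right, ?_⟩
    exact Subtype.ext h

variable [PreservesColimitsOfSize.{u + 1, u + 1} Φ] [CompactSpace X] [QuasiSeparatedSpace X]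

include hM in
/-- every class comes from finitely many elements -/
theorem mem_span_range_elemLin [Finite (EtCoh.H X (Φ.obj (up (ZMod ℓ))) q)] (x : EtCoh.H X (coefL (Λ := Λ) Φ M).carrier q) :
    x ∈ ⨆ e, LinearMap.range (elemLin Φ q ℓ M hM e) := by
  classical
  haveI := EtColimH.preservesColimitsOfShape_HF X q (Finset (ULift.{u + 1} M))
  obtain ⟨hc⟩ := nonempty_isColimit_fgCocone.{u} M
  obtain ⟨S, y, rfl⟩ := Concrete.isColimit_exists_rep _
    (isColimitOfPreserves (EtCoh.HF X q) (isColimitOfPreserves Φ hc)) x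
  let V := fgSub M S
  have hV : ∀ v : V, ℓ • v = 0 := fun v => Subtype.ext (ULift.down_injective (hM v.1.down))
  haveI : AddGroup.FG V := (AddGroup.fg_iff_addSubgroup_fg V).2 ⟨S, rfl⟩
  obtain ⟨n, c, b, hb⟩ := exists_coords ℓ hV
  let coord : ∀ _ : Fin n, AddCommGrpCat.of V ⟶ up.{u} (ZMod ℓ) := fun i =>
    AddCommGrpCat.ofHom (AddEquiv.ulift.symm.toAddMonoidHom.comp (c i))
  have hid : (fgCocone.{u} M).ι.app S = ∑ i, coord i ≫ upMap (elemHom ℓ M hM ((b i).1.down)) := by
    refine AddCommGrpCat.hom_ext (AddMonoidHom.ext fun v => ULift.down_injective ?_)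
    let ev : (AddCommGrpCat.of V ⟶ up.{u} M) →+ M :=
      AddMonoidHom.mk' (fun g => (g.hom v).down) fun _ _ => rfl
    show (v : V).1.down = ev (∑ i, coord i ≫ upMap (elemHom ℓ M hM ((b i).1.down)))
    rw [map_sum]
    have h1 : ∀ i, ev (coord i ≫ upMap (elemHom ℓ M hM ((b i).1.down))) = (c i v).val • (b i).1.down := by
      intro i
      show elemHom ℓ M hM ((b i).1.down) (c i v) = _
      conv_lhs => rw [← ZMod.natCast_zmod_val (c i v), ← Int.cast_natCast]
      rw [elemHom_intCast, natCast_zsmul]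
    rw [Finset.sum_congr rfl fun i _ => h1 i]
    let dn : V →+ M := AddEquiv.ulift.toAddMonoidHom.comp V.subtype
    refine (congrArg dn (hb v)).trans ?_
    rw [map_sum]
    exact Finset.sum_congr rfl fun i _ => map_nsmul dn _ _
  show CategoryTheory.Sheaf.H.map (Φ.map ((fgCocone.{u} M).ι.app S)) q y ∈ _
  rw [hid, Φ.map_sum]
  let A : (Φ.obj (AddCommGrpCat.of V) ⟶ Φ.obj (up M)) →+ EtCoh.H X (coefL (Λ := Λ) Φ M).carrier q :=
    AddMonoidHom.mk' (fun g => CategoryTheory.Sheaf.H.map g q y) fun g g' =>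
      CategoryTheory.Sheaf.H.map_add_apply g g' y
  show A (∑ i, Φ.map (coord i ≫ upMap (elemHom ℓ M hM ((b i).1.down)))) ∈ _
  rw [map_sum]
  refine Submodule.sum_mem _ fun i _ => ?_
  refine Submodule.mem_iSup_of_mem (CategoryTheory.Sheaf.H.map (Φ.map (coord i)) q y) ⟨(b i).1.down, ?_⟩
  show _ = CategoryTheory.Sheaf.H.map (Φ.map (coord i ≫ upMap (elemHom ℓ M hM ((b i).1.down)))) q y
  rw [Φ.map_comp]
  exact (CategoryTheory.Sheaf.H.map_comp_apply _ _ _).symm

include hM in
theorem moduleFinite_coefL_prime [Module.Finite Λ M] [Finite (EtCoh.H X (Φ.obj (up (ZMod ℓ))) q)] :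
    Module.Finite Λ (EtCoh.H X (coefL (Λ := Λ) Φ M).carrier q) := by
  classical
  refine ⟨?_⟩
  rw [show (⊤ : Submodule Λ (EtCoh.H X (coefL (Λ := Λ) Φ M).carrier q)) = ⨆ e, LinearMap.range (elemLin Φ q ℓ M hM e)
    from (eq_top_iff.2 fun x _ => mem_span_range_elemLin Φ q ℓ M hM x).symm]
  exact Submodule.fg_iSup _ fun e => Module.Finite.iff_fg.1 inferInstance

end Prime

variable [PreservesColimitsOfSize.{u + 1, u + 1} Φ] [PreservesFiniteLimits Φ] [CompactSpace X] [QuasiSeparatedSpace X]

/-- **finitely generated coefficients give finitely generated cohomology** -/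
theorem moduleFinite_coefL [IsNoetherianRing Λ] (N : ℕ) (hN : 0 < N)
    (hfin : ∀ ℓ : ℕ, ℓ.Prime → ℓ ∣ N → Finite (EtCoh.H X (Φ.obj (up (ZMod ℓ))) q)) :
    ∀ (M : Type) [AddCommGroup M] [Module Λ M] [Module.Finite Λ M], (∀ m : M, N • m = 0) →
      Module.Finite Λ (EtCoh.H X (coefL (Λ := Λ) Φ M).carrier q) := by
  induction N using Nat.strong_induction_on with
  | _ N ih =>
    intro M _ _ _ hM
    rcases Nat.lt_or_ge N 2 with h1 | h2
    · obtain rfl : N = 1 := by omega
      haveI : Subsingleton (EtCoh.H X (coefL (Λ := Λ) Φ M).carrier q) := by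
        refine subsingleton_H_of_isZero (Functor.map_isZero Φ ?_) q
        exact @AddCommGrpCat.isZero_of_subsingleton (up M)
          ⟨fun a b => ULift.down_injective (by rw [← one_nsmul a.down, ← one_nsmul b.down, hM, hM])⟩
      infer_instance
    obtain ⟨c, hc⟩ := Nat.minFac_dvd N
    have hp : N.minFac.Prime := Nat.minFac_prime (by omega)
    haveI := Fact.mk hp
    have hc0 : 0 < c := Nat.pos_of_ne_zero (by rintro rfl; omega)
    have hlt : c < N := by rw [hc]; exact lt_mul_of_one_lt_left hc0 hp.one_lt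
    let P : Submodule Λ M := LinearMap.range (N.minFac • (LinearMap.id : M →ₗ[Λ] M))
    haveI : IsNoetherian Λ M := isNoetherian_of_isNoetherianRing_of_finite Λ M
    have hP : ∀ m : P, c • m = 0 := fun m => by
      obtain ⟨y, hy⟩ := m.2
      refine Subtype.ext ?_
      show c • (m : M) = 0
      rw [← hy, LinearMap.smul_apply, LinearMap.id_apply, ← mul_nsmul, ← hc]
      exact hM y
    have hQ : ∀ m : M ⧸ P, N.minFac • m = 0 := fun m => by
      obtain ⟨y, rfl⟩ := Submodule.mkQ_surjective P m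
      rw [← map_nsmul, ← LinearMap.mem_ker, Submodule.ker_mkQ]
      exact ⟨y, rfl⟩
    haveI : Module.Finite Λ (EtCoh.H X (coefL (Λ := Λ) Φ P).carrier q) :=
      ih c hlt hc0 (fun ℓ hl hd => hfin ℓ hl (hd.trans (hc ▸ dvd_mul_left c N.minFac))) P hP
    haveI := hfin _ hp (Nat.minFac_dvd N)
    haveI : Module.Finite Λ (EtCoh.H X (coefL (Λ := Λ) Φ (M ⧸ P)).carrier q) :=
      moduleFinite_coefL_prime Φ q N.minFac (M ⧸ P) hQ
    have hse : (ShortComplex.mk (upMap.{u} P.subtype.toAddMonoidHom) (upMap.{u} P.mkQ.toAddMonoidHom)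
        (AddCommGrpCat.hom_ext (AddMonoidHom.ext fun m => ULift.down_injective
          ((Submodule.Quotient.mk_eq_zero P).2 m.down.2)))).ShortExact :=
      { exact := (ShortComplex.ab_exact_iff _).2 fun x hx => by
          obtain ⟨x⟩ := x
          have hx' : (Submodule.Quotient.mk x : M ⧸ P) = 0 := congrArg ULift.down hx
          exact ⟨ULift.up ⟨x, (Submodule.Quotient.mk_eq_zero P).1 hx'⟩, rfl⟩
        mono_f := (AddCommGrpCat.mono_iff_injective _).2 fun a b h =>
          ULift.down_injective (Subtype.ext (congrArg ULift.down h))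
        epi_g := (AddCommGrpCat.epi_iff_surjective _).2 fun y => by
          obtain ⟨z, hz⟩ := Submodule.mkQ_surjective P y.down
          exact ⟨ULift.up z, ULift.down_injective hz⟩ }
    exact finite_X₂ (L₁ := coefL Φ P) (L₂ := coefL Φ M) (L₃ := coefL Φ (M ⧸ P)) (shortExact_map Φ hse)
      (isHom_upMap Φ P.subtype) (isHom_upMap Φ P.mkQ) q

end Groth.Agent.EtPBC.Lam
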