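import Groth.Agent.EtPBC.LamTriv
import Groth.Agent.EtPBC.CurveFinDev
import Groth.Agent.EtIntegralBC.Counit
import Groth.Agent.EtPushStalk.Unit
import Mathlib

/-!
# Tools for dévissage of sheaves of `Λ`-modules
-/

set_option autoImplicit false
set_option backward.isDefEq.respectTransparency false
set_option backward.isDefEq.respectTransparency.types false
set_option linter.auxLemma false
set_option linter.style.haveILetI false
set_option linter.unusedSectionVars false
set_option maxHeartbeats 1000000

universe u

open CategoryTheory CategoryTheory.Limits CategoryTheory.Abelian AlgebraicGeometry Opposite TopologicalSpace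

noncomputable section

namespace Groth.Agent.EtPBC.Lam

attribute [local instance 100000] EtCoh.H._proof_1 EtMV.hext
attribute [local instance 200000] EtMV.hextAb

variable {Λ : Type} [CommRing Λ] {X : Scheme.{u}}

instance additive_pull {T : Scheme.{u}} (f : T ⟶ X) : (EtCoh.pull f).Additive :=
  (EtCoh.pullPushAdj f).left_adjoint_additive

/-- a finite direct sum of sheaves of modules -/
def sumL {n : ℕ} (A : Fin n → EtLam.Sheaf Λ X) : EtLam.Sheaf Λ X where
  carrier := ⨁ fun i => (A i).carrier
  act :=
    { toFun := fun r => biproduct.map fun i => (A i).act r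
      map_one' := biproduct.hom_ext _ _ fun i => by simp [End.one_def]
      map_mul' := fun r s => biproduct.hom_ext _ _ fun i => by simp [End.mul_def]
      map_zero' := biproduct.hom_ext _ _ fun i => by simp
      map_add' := fun r s => biproduct.hom_ext _ _ fun i => by
        erw [Preadditive.add_comp, biproduct.map_π, biproduct.map_π, biproduct.map_π, map_add, Preadditive.comp_add] }

theorem isHom_π {n : ℕ} (A : Fin n → EtLam.Sheaf Λ X) (i : Fin n) :
    IsHom (L := sumL A) (L' := A i) (biproduct.π (fun i => (A i).carrier) i) := fun r =>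
  biproduct.map_π (fun i => (A i).act r) i

theorem isHom_lift {n : ℕ} {L : EtLam.Sheaf Λ X} (A : Fin n → EtLam.Sheaf Λ X)
    (f : ∀ i, L.carrier ⟶ (A i).carrier) (hf : ∀ i, IsHom (f i)) :
    IsHom (L' := sumL A) (biproduct.lift f) := fun r => biproduct.hom_ext _ _ fun i => by
  show (L.act r ≫ biproduct.lift f) ≫ biproduct.π _ i =
    (biproduct.lift f ≫ biproduct.map fun i => (A i).act r) ≫ biproduct.π _ i
  simp [hf i r]

theorem finite_sum [IsNoetherianRing Λ] {n : ℕ} (A : Fin n → EtLam.Sheaf Λ X) (q : ℕ)
    [∀ i, Module.Finite Λ (EtCoh.H X (A i).carrier q)] : Module.Finite Λ (EtCoh.H X (sumL A).carrier q) := by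
  haveI : IsNoetherian Λ (∀ i, EtCoh.H X (A i).carrier q) := isNoetherian_of_isNoetherianRing_of_finite Λ _
  refine Module.Finite.of_injective (LinearMap.pi fun i => hLin _ (isHom_π A i) q) fun x y h => ?_
  let φ : ∀ z : EtCoh.H X (sumL A).carrier q, ((sumL A).carrier ⟶ (sumL A).carrier) →+ EtCoh.H X (sumL A).carrier q :=
    fun z => AddMonoidHom.mk' (fun g => Ext.comp z (Ext.mk₀ g) (add_zero q)) fun g g' => by
      rw [Ext.mk₀_add, Ext.comp_add]
  let B : Fin n → EtCoh.Ab X := fun i => (A i).carrier
  have key : ∀ z : EtCoh.H X (sumL A).carrier q, z = ∑ i, φ z (biproduct.π B i ≫ biproduct.ι B i) := fun z =>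
    (Ext.comp_mk₀_id z).symm.trans
      ((congrArg (φ z) (biproduct.total (f := B)).symm).trans (map_sum (φ z) _ _))
  rw [key x, key y]
  refine Finset.sum_congr rfl fun i _ => ?_
  show Ext.comp x (Ext.mk₀ (biproduct.π B i ≫ biproduct.ι B i)) (add_zero q) =
    Ext.comp y (Ext.mk₀ (biproduct.π B i ≫ biproduct.ι B i)) (add_zero q)
  rw [← Ext.mk₀_comp_mk₀, ← Ext.comp_assoc_of_second_deg_zero, ← Ext.comp_assoc_of_second_deg_zero]
  exact congrArg (fun t : EtCoh.H X (A i).carrier q => Ext.comp t (Ext.mk₀ (biproduct.ι B i)) (add_zero q))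
    (congrFun h i)

/-- kernels -/
def kerL {L L' : EtLam.Sheaf Λ X} (f : L.carrier ⟶ L'.carrier) (hf : IsHom f) : EtLam.Sheaf Λ X where
  carrier := kernel f
  act :=
    { toFun := fun r => kernel.map f f (L.act r) (L'.act r) (hf r).symm
      map_one' := equalizer.hom_ext (by simp [End.one_def])
      map_mul' := fun r s => equalizer.hom_ext (by simp [End.mul_def])
      map_zero' := equalizer.hom_ext (by simp)
      map_add' := fun r s => equalizer.hom_ext (by
        erw [Preadditive.add_comp, kernel.lift_ι, kernel.lift_ι, kernel.lift_ι, map_add, Preadditive.comp_add]) }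

theorem isHom_kerι {L L' : EtLam.Sheaf Λ X} (f : L.carrier ⟶ L'.carrier) (hf : IsHom f) :
    IsHom (L := kerL f hf) (L' := L) (kernel.ι f) := fun r => kernel.lift_ι _ _ _

/-- cokernels -/
def cokerL {L L' : EtLam.Sheaf Λ X} (f : L.carrier ⟶ L'.carrier) (hf : IsHom f) : EtLam.Sheaf Λ X where
  carrier := cokernel f
  act :=
    { toFun := fun r => cokernel.map f f (L.act r) (L'.act r) (hf r).symm
      map_one' := coequalizer.hom_ext (by simp [End.one_def])
      map_mul' := fun r s => coequalizer.hom_ext (by simp [End.mul_def])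
      map_zero' := coequalizer.hom_ext (by simp)
      map_add' := fun r s => coequalizer.hom_ext (by
        erw [Preadditive.comp_add, cokernel.π_desc, cokernel.π_desc, cokernel.π_desc, map_add, Preadditive.add_comp]) }

theorem isHom_cokerπ {L L' : EtLam.Sheaf Λ X} (f : L.carrier ⟶ L'.carrier) (hf : IsHom f) :
    IsHom (L := L') (L' := cokerL f hf) (cokernel.π f) := fun r => (cokernel.π_desc _ _ _).symm

/-- units into a family of direct images are injective away from the zero stalks -/
theorem mono_unit_family {n : ℕ} {T : Fin n → Scheme.{u}} (π : ∀ i, T i ⟶ X) (F : EtCoh.Ab X)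
    (h : ∀ x : X, (∃ i, x ∈ Set.range (π i)) ∨ ZeroAt F x) :
    Mono (biproduct.lift (f := fun i => (EtCoh.push (π i)).obj ((EtCoh.pull (π i)).obj F))
      fun i => (EtCoh.pullPushAdj (π i)).unit.app F) := by
  refine ⟨fun {Z} a b hab => Sheaf.hom_ext (NatTrans.ext (funext fun V => AddCommGrpCat.ext fun s => ?_))⟩
  rw [← sub_eq_zero]
  let t : EtCoh.sect F V.unop := a.hom.app V s - b.hom.app V s
  have hu : ∀ i, ((EtCoh.pullPushAdj (π i)).unit.app F).hom.app (op V.unop) t = 0 := fun i => by
    have hi := congrArg (· ≫ biproduct.π (fun i => (EtCoh.push (π i)).obj ((EtCoh.pull (π i)).obj F)) i) hab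
    simp only [Category.assoc, biproduct.lift_π] at hi
    simp only [t]
    rw [map_sub, sub_eq_zero]
    exact ConcreteCategory.congr_hom (congrArg (fun k => k.hom.app V) hi) s
  have ht := (Groth.Agent.EtSect.map_eq_zero_iff F t (𝟙 _)).mpr (by
    rintro p - hp
    rcases h (V.unop.hom p) with ⟨i, y, hy⟩ | hz
    · obtain ⟨q, hq, -⟩ := Scheme.Pullback.exists_preimage_pullback (f := V.unop.hom) (g := π i) p y hy.symm
      exact (Groth.Agent.EtPushStalk.unit_eq_zero_iff (π i) F V.unop t).mp (hu i) ⟨q, hq⟩ hp
    · exact hz V.unop t p rfl hp)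
  simp only [op_id, CategoryTheory.Functor.map_id, ConcreteCategory.id_apply] at ht
  exact ht

/-- finite closed subsets of Jacobson spaces consist of closed points -/
theorem isClosed_singleton_of_mem {S : Type*} [TopologicalSpace S] [JacobsonSpace S] {A : Set S} (hA : IsClosed A)
    (hfin : A.Finite) {z : S} (hz : z ∈ A) : IsClosed ({z} : Set S) := by
  have hc : IsClosed (A ∩ closedPoints S) := by
    rw [← Set.biUnion_of_singleton (A ∩ closedPoints S)]
    exact (hfin.inter_of_left _).isClosed_biUnion fun w hw => mem_closedPoints_iff.1 hw.2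
  have h := JacobsonSpace.closure_inter_closedPoints hA
  rw [hc.closure_eq] at h
  rw [← h] at hz
  exact mem_closedPoints_iff.1 hz.2

/-- constant sheaves pull back naturally -/
def pullCstIso {W : Scheme.{u}} (g : W ⟶ X) : EtPBC.cstF X ⋙ EtCoh.pull g ≅ EtPBC.cstF W :=
  Adjunction.leftAdjointUniq
    ((constantSheafAdj _ _ (EtCohDesc.topTerminal X)).comp (EtCoh.pullPushAdj g))
    ((constantSheafAdj _ _ ((EtCohDesc.topTerminal X).isTerminalObj (EtCoh.bc g))).ofNatIsoRight
      (Iso.refl _))

theorem isHom_pullCst {W : Scheme.{u}} (g : W ⟶ X) (M : Type) [AddCommGroup M] [Module Λ M] :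
    IsHom (L := mapL (EtCoh.pull g) (constL X M)) (L' := constL (Λ := Λ) W M) ((pullCstIso g).hom.app (up M)) :=
  fun r => (pullCstIso g).hom.naturality (smulEnd M r)

end Groth.Agent.EtPBC.Lam
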