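import Groth.Agent.EtPBC.LamCoef
import Groth.Agent.EtCons.PullFLC
import Groth.Agent.EtPushStalk.OpenImm
import Groth.Agent.EtMV.Etale
import Mathlib

/-!
# Trivialisations of locally constant sheaves of `Λ`-modules
-/

set_option autoImplicit false
set_option backward.isDefEq.respectTransparency false
set_option backward.isDefEq.respectTransparency.types false
set_option linter.auxLemma false
set_option linter.style.haveILetI false
set_option linter.unusedSectionVars false
set_option maxHeartbeats 1000000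

universe u

open CategoryTheory CategoryTheory.Limits AlgebraicGeometry Opposite

noncomputable section

namespace Groth.Agent.EtPBC.Lam

local notation "rs" => Groth.Agent.EtFLC.res

variable {Λ : Type} [CommRing Λ] {X : Scheme.{u}}

/-- equivariant trivialising sections -/
theorem exists_equiv_triv (L : EtLam.Sheaf Λ X) (U : X.Etale) (M : Type) [AddCommGroup M] [Module Λ M]
    (e : EtCoh.restr L.carrier U ≅ EtPBC.constOver U M)
    (he : ∀ r : Λ, (X.smallEtaleTopology.overPullback AddCommGrpCat.{u + 1} U).map (L.act r) ≫ e.hom =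
      e.hom ≫ EtLam.constOverAct U M r) :
    ∃ σ : M →+ EtCoh.sect L.carrier U, EtFLC.IsTriv L.carrier U σ ∧
      ∀ (r : Λ) (m : M), (L.act r).hom.app (op U) (σ m) = σ (r • m) := by
  let J := X.smallEtaleTopology.over U
  let P : (Over U)ᵒᵖ ⥤ AddCommGrpCat.{u + 1} := (Functor.const _).obj (AddCommGrpCat.of (ULift.{u + 1} M))
  let α : P ⟶ (EtCoh.restr L.carrier U).obj :=
    toSheafify J P ≫ ((sheafToPresheaf J AddCommGrpCat.{u + 1}).mapIso e).inv
  let σ : M →+ EtCoh.sect L.carrier U :=
    ((α.app (op (Over.mk (𝟙 U)))).hom).comp AddEquiv.ulift.symm.toAddMonoidHom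
  have hα : ∀ {V : X.Etale} (g : V ⟶ U) (m : M), (α.app (op (Over.mk g))).hom ⟨m⟩ = rs L.carrier g (σ m) :=
    fun {V} g m =>
      ConcreteCategory.congr_hom (α.naturality (Over.homMk g : Over.mk g ⟶ Over.mk (𝟙 U)).op) ⟨m⟩
  have hw : J.W α := by
    refine (J.W).comp_mem _ _ (J.W_toSheafify _) ?_
    exact (J.W).of_isIso _
  have hb := (J.W_iff_isLocallyBijective α).1 hw
  haveI := hb.1
  haveI := hb.2
  refine ⟨σ, ⟨fun {V} g s v => ?_, fun {V} g m hm v => ?_⟩, fun r m => ?_⟩
  · obtain ⟨W, k, w, hw, m, hm⟩ := EtFLC.exists_of_mem_over U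
      (Presheaf.imageSieve_mem J α (U := op (Over.mk g)) s) v
    refine ⟨W, k, w, m.down, hw, ?_⟩
    rw [← hα]
    exact hm.symm
  · have h0 : (α.app (op (Over.mk g))).hom ⟨m⟩ = (α.app (op (Over.mk g))).hom 0 := by
      rw [hα, hm, map_zero]
    obtain ⟨W, k, w, -, hk⟩ := EtFLC.exists_of_mem_over U (Presheaf.equalizerSieve_mem J α _ 0 h0) v
    exact congrArg ULift.down hk
  · let c : (P ⟶ P) := (Functor.const _).map (AddCommGrpCat.ofHom (DistribSMul.toAddMonoidHom (ULift.{u + 1} M) r))
    have h1 : toSheafify J P ≫ (EtLam.constOverAct U M r).hom = c ≫ toSheafify J P :=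
      (toSheafify_naturality J c).symm
    have h2 : EtLam.constOverAct U M r ≫ e.inv =
        e.inv ≫ (X.smallEtaleTopology.overPullback AddCommGrpCat.{u + 1} U).map (L.act r) := by
      rw [Iso.eq_inv_comp, ← Category.assoc, Iso.comp_inv_eq]
      exact (he r).symm
    have h3 : α ≫ ((X.smallEtaleTopology.overPullback AddCommGrpCat.{u + 1} U).map (L.act r)).hom = c ≫ α := by
      show (toSheafify J P ≫ e.inv.hom) ≫ _ = c ≫ toSheafify J P ≫ e.inv.hom
      rw [← Category.assoc c, ← h1, Category.assoc, Category.assoc]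
      exact congrArg (toSheafify J P ≫ ·) (congrArg (fun t => t.hom) h2).symm
    exact ConcreteCategory.congr_hom (congr_app h3 (op (Over.mk (𝟙 U)))) ⟨m⟩

/-- equivariant trivialisations restrict -/
theorem equiv_triv_comap (L : EtLam.Sheaf Λ X) {U U' : X.Etale} (k : U' ⟶ U) {M : Type} [AddCommGroup M] [Module Λ M]
    (σ : M →+ EtCoh.sect L.carrier U) (heq : ∀ (r : Λ) (m : M), (L.act r).hom.app (op U) (σ m) = σ (r • m))
    (r : Λ) (m : M) : (L.act r).hom.app (op U') ((rs L.carrier k).comp σ m) = (rs L.carrier k).comp σ (r • m) := by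
  show _ = rs L.carrier k (σ (r • m))
  rw [← heq]
  exact EtFLC.app_res (L.act r) k _

/-- the constant sheaf with coefficients in a module -/
abbrev constL (W : Scheme.{u}) (M : Type) [AddCommGroup M] [Module Λ M] : EtLam.Sheaf Λ W :=
  coefL (EtPBC.cstF W) M

/-- an equivariant trivialisation gives an equivariant isomorphism -/
theorem exists_restr_iso (L : EtLam.Sheaf Λ X) (U : X.Etale) [Etale U.hom] [EtShriek.JCont U.hom] {M : Type}
    [AddCommGroup M] [Module Λ M] (σ : M →+ EtCoh.sect L.carrier U) (hσ : EtFLC.IsTriv L.carrier U σ)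
    (heq : ∀ (r : Λ) (m : M), (L.act r).hom.app (op U) (σ m) = σ (r • m)) :
    ∃ e : EtCoh.const U.left M ≅ (EtShriek.restrAlong U.hom).obj L.carrier,
      ∀ r : Λ, (constL U.left M).act r ≫ e.hom = e.hom ≫ (EtShriek.restrAlong U.hom).map (L.act r) := by
  let F := L.carrier
  let C := EtShriek.compEtale U.hom
  let g : ∀ T : U.left.Etale, C.obj T ⟶ U := fun T => MorphismProperty.Over.homMk T.hom rfl
  let R := (EtShriek.restrAlong U.hom).obj F
  let ψ : EtMV.cPre0 U.left M ⟶ R.obj :=
    { app := fun T => AddCommGrpCat.ofHom (((rs F (g T.unop)).comp σ).comp AddEquiv.ulift.toAddMonoidHom)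
      naturality := fun T T' k => by
        ext m
        show rs F (g T'.unop) (σ m.down) = rs F (C.map k.unop) (rs F (g T.unop) (σ m.down))
        rw [EtFLC.res_res]
        congr 2
        apply MorphismProperty.Over.Hom.ext
        exact (MorphismProperty.Over.w k.unop).symm }
  haveI : Presheaf.IsLocallyInjective U.left.smallEtaleTopology ψ := by
    refine ⟨fun {T} a b hab => (EtFLC.mem_iff _).2 fun v => ⟨T.unop, 𝟙 _, v, ?_, rfl⟩⟩
    have : a = b := ULift.ext _ _ (hσ.injective (g T.unop) v hab)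
    rw [this]
    show (EtMV.cPre0 U.left M).map _ b = (EtMV.cPre0 U.left M).map _ b
    rfl
  haveI : Presheaf.IsLocallySurjective U.left.smallEtaleTopology ψ := by
    refine ⟨fun {T} s => (EtFLC.mem_iff _).2 fun v => ?_⟩
    obtain ⟨W, h, w, m, hw, hm⟩ := hσ.surj (g T) s v
    let V' := (EtShriek.compEtaleLift U.hom h).1
    let i : C.obj V' ≅ W := (EtShriek.compEtaleLift U.hom h).2
    let a : V' ⟶ T := MorphismProperty.Over.homMk h.left rfl
    have ha : C.map a = i.hom ≫ h := by
      apply MorphismProperty.Over.Hom.ext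
      exact (Category.id_comp _).symm
    have hg : g V' = i.hom ≫ h ≫ g T := by
      apply MorphismProperty.Over.Hom.ext
      show h.left ≫ T.hom = 𝟙 _ ≫ h.left ≫ T.hom
      exact (Category.id_comp _).symm
    refine ⟨V', a, w, ⟨⟨m⟩, ?_⟩, hw⟩
    show rs F (g V') (σ m) = rs F (C.map a) s
    rw [hg, ha, ← EtFLC.res_res F i.hom, ← EtFLC.res_res F i.hom, hm]
  let J := U.left.smallEtaleTopology
  let P := presheafToSheaf J AddCommGrpCat.{u + 1}
  haveI : IsIso (P.map ψ) := by
    rw [← GrothendieckTopology.W_iff, GrothendieckTopology.W_iff_isLocallyBijective]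
    exact ⟨inferInstance, inferInstance⟩
  let ε := (sheafificationAdjunction J AddCommGrpCat.{u + 1}).counit
  refine ⟨asIso (P.map ψ) ≪≫ asIso (ε.app R), fun r => ?_⟩
  let c : EtMV.cPre0 U.left M ⟶ EtMV.cPre0 U.left M := (Functor.const _).map (smulEnd M r)
  let φ' := (EtShriek.restrAlong U.hom).map (L.act r)
  have hp : c ≫ ψ = ψ ≫ φ'.hom := by
    ext T m
    show rs F (g T.unop) (σ (r • m.down)) = (L.act r).hom.app (op (C.obj T.unop)) (rs F (g T.unop) (σ m.down))
    rw [← heq]
    exact (EtFLC.app_res (L.act r) (g T.unop) _).symm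
  show P.map c ≫ P.map ψ ≫ ε.app R = (P.map ψ ≫ ε.app R) ≫ φ'
  rw [← Category.assoc, ← P.map_comp, hp, P.map_comp, Category.assoc, Category.assoc]
  exact congrArg (P.map ψ ≫ ·) (ε.naturality φ')

/-- **a finite type locally constant sheaf becomes constant on the members of a covering** -/
theorem exists_pull_const {T : Scheme.{u}} (g : T ⟶ X) (L : EtLam.Sheaf Λ X) [(EtCoh.pull g).Additive]
    (U : T.Etale) {M : Type} [AddCommGroup M] [Module Λ M]
    (σ : M →+ EtCoh.sect (EtLam.pullback g L).carrier U) (hσ : EtFLC.IsTriv (EtLam.pullback g L).carrier U σ)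
    (heq : ∀ (r : Λ) (m : M), ((EtLam.pullback g L).act r).hom.app (op U) (σ m) = σ (r • m))
    [(EtCoh.pull (U.hom ≫ g)).Additive] :
    ∃ ε : EtCoh.const U.left M ≅ (EtCoh.pull (U.hom ≫ g)).obj L.carrier,
      IsHom (L := constL U.left M) (L' := mapL (EtCoh.pull (U.hom ≫ g)) L) ε.hom := by
  haveI : Etale U.hom := U.prop
  haveI := EtMV.jcont_etale U.hom
  obtain ⟨e1, he1⟩ := exists_restr_iso (EtLam.pullback g L) U σ hσ heq
  let e2 := EtPushStalk.restrPullIso U.hom
  let e3 := EtCore.pullComp U.hom g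
  refine ⟨e1 ≪≫ e2.app _ ≪≫ (e3.app L.carrier).symm, fun r => ?_⟩
  have h2 : (EtShriek.restrAlong U.hom).map ((EtCoh.pull g).map (L.act r)) ≫ e2.hom.app ((EtCoh.pull g).obj L.carrier) =
      e2.hom.app ((EtCoh.pull g).obj L.carrier) ≫ (EtCoh.pull U.hom).map ((EtCoh.pull g).map (L.act r)) :=
    e2.hom.naturality _
  have h3 : (EtCoh.pull U.hom).map ((EtCoh.pull g).map (L.act r)) ≫ e3.inv.app L.carrier =
      e3.inv.app L.carrier ≫ (EtCoh.pull (U.hom ≫ g)).map (L.act r) := e3.inv.naturality (L.act r)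
  show (constL U.left M).act r ≫ e1.hom ≫ e2.hom.app _ ≫ e3.inv.app L.carrier =
    (e1.hom ≫ e2.hom.app _ ≫ e3.inv.app L.carrier) ≫ (EtCoh.pull (U.hom ≫ g)).map (L.act r)
  rw [← Category.assoc, he1 r, Category.assoc, Category.assoc, Category.assoc, ← h3]
  refine congrArg (e1.hom ≫ ·) ?_
  rw [← Category.assoc, ← Category.assoc]
  exact congrArg (· ≫ e3.inv.app L.carrier) h2

end Groth.Agent.EtPBC.Lam
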