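import Groth.Agent.EtPBC.FieldDescent
import Groth.Agent.EtMV.Main

/-!
# Stalks of the free abelian sheaves `P Z`: free on the points of the fibre
-/

set_option autoImplicit false
set_option backward.isDefEq.respectTransparency false
set_option backward.isDefEq.respectTransparency.types false
set_option linter.auxLemma false
set_option linter.style.haveILetI false

universe u

open CategoryTheory CategoryTheory.Limits AlgebraicGeometry Opposite

noncomputable section

namespace Groth.Agent.EtPBC.PStalk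

attribute [local instance 100000] EtCoh.H._proof_1 EtMV.hext
attribute [local instance 200000] EtMV.hextAb

variable {X : Scheme.{u}} {Ω : Type u} [Field Ω] [IsSepClosed Ω] (ξ : Spec (CommRingCat.of Ω) ⟶ X)

/-- the points of the fibre -/
abbrev Fib (Z : X.Etale) : Type u := (Scheme.pointSmallEtale ξ).fiber.obj Z

/-- the class of a point of the fibre -/
def gen (Z : X.Etale) (v : Fib ξ Z) : (EtCoh.stalk ξ).obj ((EtMV.P X).obj Z) :=
  (Scheme.pointSmallEtale ξ).toPresheafFiber Z v ((EtMV.P X).obj Z).obj (EtMV.uel Z)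

theorem gen_map {Z Z' : X.Etale} (f : Z ⟶ Z') (v : Fib ξ Z) :
    (EtCoh.stalk ξ).map ((EtMV.P X).map f) (gen ξ Z v) =
      gen ξ Z' ((Scheme.pointSmallEtale ξ).fiber.map f v) := by
  refine (GrothendieckTopology.Point.toPresheafFiber_naturality_apply (Scheme.pointSmallEtale ξ)
    ((EtMV.P X).map f).hom Z v (EtMV.uel Z)).trans ?_
  have h : ((EtMV.P X).map f).hom.app (op Z) (EtMV.uel Z) =
      ((EtMV.P X).obj Z').obj.map f.op (EtMV.uel Z') := by
    rw [← EtMV.σ_eq, EtMV.uel, ← EtMV.σ_map, Category.comp_id]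
  rw [h]
  exact ConcreteCategory.congr_hom
    ((Scheme.pointSmallEtale ξ).toPresheafFiber_w f v ((EtMV.P X).obj Z').obj) (EtMV.uel Z')

/-- maps out of the stalk correspond to sections of a skyscraper -/
theorem homEquiv_apply (Z : X.Etale) (A : AddCommGrpCat.{u + 1})
    (f : (EtCoh.stalk ξ).obj ((EtMV.P X).obj Z) ⟶ A) (v : Fib ξ Z) :
    Pi.π (fun _ : Fib ξ Z => A) v
      (EtMV.σ ((Scheme.pointSmallEtale ξ).skyscraperSheafAdjunction.homEquiv _ A f)) = f (gen ξ Z v) := by
  rw [EtMV.σ_eq]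
  refine Eq.trans (congrArg (fun φ => Pi.π (fun _ : Fib ξ Z => A) v (φ.app (op Z) (EtMV.uel Z)))
    ((Scheme.pointSmallEtale ξ).skyscraperSheafAdjunction_homEquiv_apply_hom f)) ?_
  exact ConcreteCategory.congr_hom
    ((Scheme.pointSmallEtale ξ).skyscraperPresheafHomEquiv_app_π f Z v) (EtMV.uel Z)

theorem hom_ext {Z : X.Etale} {A : AddCommGrpCat.{u + 1}}
    (f g : (EtCoh.stalk ξ).obj ((EtMV.P X).obj Z) ⟶ A) (h : ∀ v, f (gen ξ Z v) = g (gen ξ Z v)) : f = g := by
  apply ((Scheme.pointSmallEtale ξ).skyscraperSheafAdjunction.homEquiv _ A).injective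
  apply EtMV.σ.injective
  refine Concrete.limit_ext _ _ _ fun ⟨v⟩ => ?_
  exact ((homEquiv_apply ξ Z A f v).trans (h v)).trans (homEquiv_apply ξ Z A g v).symm

theorem exists_hom {Z : X.Etale} (A : AddCommGrpCat.{u + 1}) (v₀ : Fib ξ Z) (a : A) :
    ∃ f : (EtCoh.stalk ξ).obj ((EtMV.P X).obj Z) ⟶ A,
      f (gen ξ Z v₀) = a ∧ ∀ v, v ≠ v₀ → f (gen ξ Z v) = 0 := by
  classical
  let j : A ⟶ ∏ᶜ fun _ : Fib ξ Z => A := Pi.lift fun v => if v = v₀ then 𝟙 A else 0
  let g : (EtMV.P X).obj Z ⟶ (Scheme.pointSmallEtale ξ).skyscraperSheaf A := EtMV.σ.symm (j a)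
  refine ⟨((Scheme.pointSmallEtale ξ).skyscraperSheafAdjunction.homEquiv _ A).symm g, ?_, fun v hv => ?_⟩
  · rw [← homEquiv_apply, Equiv.apply_symm_apply, Equiv.apply_symm_apply, ← ConcreteCategory.comp_apply,
      Pi.lift_π, if_pos rfl]
    rfl
  · rw [← homEquiv_apply, Equiv.apply_symm_apply, Equiv.apply_symm_apply, ← ConcreteCategory.comp_apply,
      Pi.lift_π, if_neg hv]
    rfl

/-- the map from the free group on the fibre -/
def lift (Z : X.Etale) : (Fib ξ Z →₀ ℤ) →+ (EtCoh.stalk ξ).obj ((EtMV.P X).obj Z) :=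
  Finsupp.liftAddHom fun v => zmultiplesHom _ (gen ξ Z v)

theorem lift_single (Z : X.Etale) (v : Fib ξ Z) (n : ℤ) :
    lift ξ Z (Finsupp.single v n) = n • gen ξ Z v := by
  simp [lift]

theorem lift_bijective (Z : X.Etale) : Function.Bijective (lift ξ Z) := by
  classical
  constructor
  · rw [injective_iff_map_eq_zero]
    intro a ha
    ext v₀
    obtain ⟨f, hf₀, hf⟩ := exists_hom ξ (Z := Z) (AddCommGrpCat.of (ULift.{u + 1} ℤ)) v₀ (ULift.up 1)
    have h : (f.hom.comp (lift ξ Z)) a =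
        ((AddEquiv.ulift.symm.toAddMonoidHom).comp (Finsupp.applyAddHom v₀)) a := by
      congr 1
      refine Finsupp.addHom_ext fun v n => ?_
      rw [AddMonoidHom.comp_apply, lift_single, map_zsmul, AddMonoidHom.comp_apply]
      by_cases hv : v = v₀
      · subst hv
        refine (congrArg (n • ·) hf₀).trans ?_
        apply ULift.ext
        show n • (1 : ℤ) = (Finsupp.single v n) v
        simp
      · refine (congrArg (n • ·) (hf v hv)).trans ?_
        apply ULift.ext
        simp [hv]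
    rw [AddMonoidHom.comp_apply, ha, map_zero] at h
    exact (congrArg ULift.down h).symm
  · rw [← AddMonoidHom.range_eq_top]
    let R := (lift ξ Z).range
    let q : (EtCoh.stalk ξ).obj ((EtMV.P X).obj Z) ⟶ AddCommGrpCat.of (_ ⧸ R) :=
      AddCommGrpCat.ofHom (QuotientAddGroup.mk' R)
    have hq : q = 0 := hom_ext ξ q 0 fun v =>
      (QuotientAddGroup.eq_zero_iff _).2 ⟨Finsupp.single v 1, by rw [lift_single, one_zsmul]⟩
    refine (AddSubgroup.eq_top_iff' _).2 fun x => (QuotientAddGroup.eq_zero_iff _).1 ?_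
    exact ConcreteCategory.congr_hom hq x

end Groth.Agent.EtPBC.PStalk
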