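import Groth.Agent.EtPBC.DiagGeom
import Groth.Agent.EtPBC.CdPush
import Groth.Agent.EtPBC.FieldExt
import Groth.Agent.EtPBC.Henselian
import Mathlib

/-!
# Any two points of a smooth proper curve differ by a divisible class
-/

set_option autoImplicit false
set_option backward.isDefEq.respectTransparency false
set_option backward.isDefEq.respectTransparency.types false
set_option linter.auxLemma false
set_option linter.style.haveILetI false
set_option linter.unusedSectionVars false
set_option maxHeartbeats 1000000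

universe u

open CategoryTheory CategoryTheory.Limits CategoryTheory.Abelian AlgebraicGeometry Opposite TensorProduct IsLocalRing TopologicalSpace

noncomputable section

namespace Groth.Agent.EtPBC

attribute [local instance 100000] EtCoh.H._proof_1 EtMV.hext
attribute [local instance 200000] EtMV.hextAb

theorem DivDat.cls_pull_congr {X Z : Scheme.{u}} {V U : X.Opens} (D : DivDat X V U) {f g : Z ⟶ X} (h : f = g) :
    (D.pull f).cls = (D.pull g).cls := by subst h; rfl

theorem DivDat.cls_pull_pull {X Y Z : Scheme.{u}} {V U : X.Opens} (D : DivDat X V U) (f : Y ⟶ X) (g : Z ⟶ Y) :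
    ((D.pull f).pull g).cls = (D.pull (g ≫ f)).cls := rfl

theorem DivDat.cls_pull_id {X : Scheme.{u}} {V U : X.Opens} (D : DivDat X V U) : (D.pull (𝟙 X)).cls = D.cls := rfl

theorem DivDat.GenAt.pull {X Z : Scheme.{u}} {V U : X.Opens} {D : DivDat X V U} (j : Z ⟶ X) [IsOpenImmersion j]
    {z : Z} (h : D.GenAt (j z)) : (D.pull j).GenAt z := by
  obtain ⟨hz, h⟩ := h
  refine ⟨hz, ?_⟩
  let e₁ := (asIso (j.stalkMap z)).commRingCatIsoToRingEquiv
  have h1 := IsLocalRing.eq_maximalIdeal
    (Ideal.map_isMaximal_of_equiv e₁ (p := maximalIdeal (X.presheaf.stalk (j z))))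
  rw [← h1, h, Ideal.map_span, Set.image_singleton]
  exact congrArg (fun s => Ideal.span {s}) (j.germ_stalkMap_apply U z hz D.a)

/-- a strictly henselian ring inside an algebraically closed field at a given point -/
theorem exists_strict_point_at {k : Type u} [Field k] [IsAlgClosed k] (A K₀ : Type u) [CommRing A] [Algebra k A]
    [Algebra.FiniteType k A] [IsDomain A] [Field K₀] [IsAlgClosed K₀] [Algebra A K₀] [Algebra.IsAlgebraic A K₀]
    (hA : Function.Injective (algebraMap A K₀)) (m : Ideal A) [m.IsMaximal] :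
    ∃ (V : Type u) (_ : CommRing V) (_ : HenselianLocalRing V) (τ : A →+* V) (j : V →+* K₀),
      IsSepClosed (ResidueField V) ∧ Function.Bijective ((residue V).comp (τ.comp (algebraMap k A))) ∧
      j.comp τ = algebraMap A K₀ ∧ (maximalIdeal V).comap τ = m := by
  let B := integralClosure A K₀
  haveI : IsFractionRing B K₀ := integralClosure.isFractionRing_of_algebraic
    (fun x hx => hA (hx.trans (map_zero _).symm))
  haveI : IsIntegrallyClosed B := (isIntegrallyClosed_iff_isIntegrallyClosedIn K₀).2 inferInstance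
  have hAB : Function.Injective (algebraMap A B) := fun x y h => hA (congrArg (algebraMap B K₀) h)
  obtain ⟨n, hn, hnm⟩ := Ideal.exists_ideal_over_prime_of_isIntegral_of_isDomain (S := B) m
    (by rw [(RingHom.injective_iff_ker_eq_bot _).1 hAB]; exact bot_le)
  let V := Localization.AtPrime n
  haveI : IsIntegrallyClosed V :=
    isIntegrallyClosed_of_isLocalization V n.primeCompl (Ideal.primeCompl_le_nonZeroDivisors n)
  let j : V →+* K₀ := IsLocalization.lift (M := n.primeCompl) (S := V) (g := algebraMap B K₀) fun s =>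
    isUnit_iff_ne_zero.2 ((map_ne_zero_iff _ (IsFractionRing.injective B K₀)).2
      (nonZeroDivisors.ne_zero (Ideal.primeCompl_le_nonZeroDivisors n s.2)))
  letI : Algebra V K₀ := j.toAlgebra
  haveI : IsScalarTower B V K₀ := IsScalarTower.of_algebraMap_eq fun b => (IsLocalization.lift_eq _ b).symm
  haveI : IsFractionRing V K₀ := IsFractionRing.isFractionRing_of_isDomain_of_isLocalization n.primeCompl V K₀
  haveI : IsSepClosed (FractionRing V) := isSepClosed_fractionRing V K₀
  haveI hens : HenselianLocalRing V := SepClosedNormal.henselianLocalRing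
  refine ⟨V, inferInstance, hens, (algebraMap B V).comp (algebraMap A B), j,
    SepClosedNormal.isSepClosed_residueField,
    ⟨((residue V).comp (((algebraMap B V).comp (algebraMap A B)).comp (algebraMap k A))).injective,
      surjective_residue_point n m hnm⟩,
    RingHom.ext fun a => IsLocalization.lift_eq _ _, ?_⟩
  rw [← Ideal.comap_comap]
  exact (congrArg (Ideal.comap (algebraMap A B)) (IsLocalization.AtPrime.comap_maximalIdeal V n)).trans hnm

variable {k : Type u} [Field k] [IsAlgClosed k] {X : Scheme.{u}} [IsIntegral X]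
  (c : X ⟶ Spec (CommRingCat.of k)) [IsProper c]

/-- the geometric generic point -/
abbrev genΩ : Type u := AlgebraicClosure X.functionField

/-- the structure of the geometric generic point -/
def genStr : k →+* genΩ (X := X) :=
  (algebraMap X.functionField _).comp (Spec.preimage (X.fromSpecStalk (genericPoint X) ≫ c)).hom

/-- the geometric generic point as a section of the base change -/
def genSec : Spec (CommRingCat.of (genΩ (X := X))) ⟶ pullback c (Spec.map (CommRingCat.ofHom (genStr c))) :=
  pullback.lift (Spec.map (CommRingCat.ofHom (algebraMap X.functionField (genΩ (X := X)))) ≫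
    X.fromSpecStalk (genericPoint X)) (𝟙 _) (by
      rw [Category.assoc, Category.id_comp, ← Spec.map_preimage (X.fromSpecStalk (genericPoint X) ≫ c), ← Spec.map_comp]
      rfl)

/-- the rational point `x` becomes the geometric generic point modulo divisible classes -/
theorem exists_generic_cls {n : ℕ} (r : KRoot (Spec (CommRingCat.of k)) n)
    (hreg : ∀ x : X, IsClosed ({x} : Set X) → ∃ t, maximalIdeal (X.presheaf.stalk x) = Ideal.span {t})
    {x : X} (hx : IsClosed ({x} : Set X)) {U : X.Opens} (Ex : DivDat X (compl₁ hx) U) (hE : Ex.GenAt x)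
    (π : pullback c (Spec.map (CommRingCat.ofHom (genStr c))) ⟶ X) (hπ : π = pullback.fst _ _)
    [PreservesFiniteLimits (EtCoh.pull π)] :
    ∃ (V' U' : (pullback c (Spec.map (CommRingCat.ofHom (genStr c)))).Opens) (G : DivDat _ V' U')
      (γ : H1g (pullback c (Spec.map (CommRingCat.ofHom (genStr c))))),
      G.GenAt (genSec c default) ∧ (V' : Set _) = {genSec c default}ᶜ ∧ G.cls - gmH π Ex.cls = n • γ := by
  obtain ⟨U₀, hU₀, hxU₀, -⟩ := exists_isAffineOpen_mem_and_subset (U := (⊤ : X.Opens)) (x := x) trivial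
  haveI : Nonempty U₀ := ⟨⟨x, hxU₀⟩⟩
  haveI : Nonempty (U₀ : Scheme.{u}) := ⟨⟨x, hxU₀⟩⟩
  let A := Γ(X, U₀)
  haveI : IsDomain A := inferInstance
  let σ₀ : CommRingCat.of k ⟶ Γ(X, U₀) := Spec.preimage (hU₀.fromSpec ≫ c)
  letI : Algebra k A := σ₀.hom.toAlgebra
  have he : hU₀.fromSpec ≫ c = Spec.map (CommRingCat.ofHom (algebraMap k A)) := (Spec.map_preimage _).symm
  haveI : Algebra.FiniteType k A := by
    have h : LocallyOfFiniteType (Spec.map σ₀) := by rw [Spec.map_preimage]; infer_instance
    rw [HasRingHomProperty.Spec_iff (P := @LocallyOfFiniteType)] at h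
    exact h
  let Ω := genΩ (X := X)
  letI : Algebra k Ω := (genStr c).toAlgebra
  have hgerm : Spec.map (X.germToFunctionField U₀) ≫ hU₀.fromSpec = X.fromSpecStalk (genericPoint X) := by
    rw [← hU₀.fromSpecStalk_eq_fromSpecStalk
      (((genericPoint_spec X).mem_open_set_iff U₀.isOpen).mpr (by simpa using ⟨x, hxU₀⟩))]
    rfl
  haveI : IsScalarTower k A Ω := by
    refine IsScalarTower.of_algebraMap_eq fun a => ?_
    have e : Spec.preimage (X.fromSpecStalk (genericPoint X) ≫ c) = σ₀ ≫ X.germToFunctionField U₀ := by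
      apply Spec.map_injective
      rw [Spec.map_preimage, Spec.map_comp, Spec.map_preimage, ← Category.assoc, hgerm]
    show algebraMap X.functionField Ω ((Spec.preimage (X.fromSpecStalk (genericPoint X) ≫ c)).hom a) = _
    rw [e]
    rfl
  haveI := functionField_isFractionRing_of_isAffineOpen X U₀ hU₀
  haveI : IsScalarTower A X.functionField Ω := inferInstance
  haveI : Algebra.IsAlgebraic A X.functionField := IsLocalization.isAlgebraic X.functionField (nonZeroDivisors A)
  haveI : Algebra.IsAlgebraic A Ω := Algebra.IsAlgebraic.trans A X.functionField Ω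
  let m := (hU₀.primeIdealOf ⟨x, hxU₀⟩).asIdeal
  have hxm : hU₀.fromSpec (hU₀.primeIdealOf ⟨x, hxU₀⟩) = x := hU₀.fromSpec_primeIdealOf ⟨x, hxU₀⟩
  haveI : m.IsMaximal := by
    refine (PrimeSpectrum.isClosed_singleton_iff_isMaximal _).1 ?_
    have := hx.preimage hU₀.fromSpec.continuous
    rwa [← hxm, ← Set.image_singleton, Set.preimage_image_eq _ hU₀.fromSpec.isOpenEmbedding.injective] at this
  obtain ⟨R, _, _, τ, jR, hsep, hres, hj, hτ⟩ := exists_strict_point_at (k := k) A Ω
    ((algebraMap X.functionField Ω).injective.comp (X.germToFunctionField_injective U₀)) m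
  letI : Algebra k R := (τ.comp (algebraMap k A)).toAlgebra
  let φ : A →ₐ[k] R := { τ with commutes' := fun _ => rfl }
  let ψ : R →ₐ[k] Ω := { jR with commutes' := fun a =>
    (RingHom.congr_fun hj (algebraMap k A a)).trans (IsScalarTower.algebraMap_apply k A Ω a).symm }
  have hk : Function.Bijective (algebraMap k (ResidueField R)) := hres
  have hm : ∀ a : A, residue R (φ a) = 0 ↔ a ∈ m := fun a => by
    rw [← hτ, residue_eq_zero_iff]; rfl
  -- a uniformiser
  letI : Algebra A (X.presheaf.stalk x) := TopCat.Presheaf.algebra_section_stalk X.presheaf ⟨x, hxU₀⟩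
  haveI : IsLocalization.AtPrime (X.presheaf.stalk x) m := hU₀.isLocalization_stalk ⟨x, hxU₀⟩
  obtain ⟨t, ht, hmax⟩ : ∃ t : A, residue R (φ t) = 0 ∧
      ∀ a : A, residue R (φ a) = 0 → ∃ u c' : A, residue R (φ u) ≠ 0 ∧ u * a = c' * t := by
    obtain ⟨t₀, ht₀⟩ := hreg x hx
    obtain ⟨⟨t, s⟩, rfl⟩ := IsLocalization.mk'_surjective m.primeCompl t₀
    have hmm := IsLocalization.AtPrime.to_map_mem_maximal_iff (X.presheaf.stalk x) m
    have htm : t ∈ m := by
      rw [← hmm, ht₀, ← IsLocalization.mk'_spec (X.presheaf.stalk x) t s]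
      exact Ideal.mul_mem_right _ _ (Ideal.mem_span_singleton_self _)
    refine ⟨t, (hm t).2 htm, fun a ha => ?_⟩
    have h1 := (hmm a).2 ((hm a).1 ha)
    rw [ht₀] at h1
    obtain ⟨q, hq⟩ := Ideal.mem_span_singleton'.1 h1
    obtain ⟨⟨c₀, s'⟩, rfl⟩ := IsLocalization.mk'_surjective m.primeCompl q
    rw [← IsLocalization.mk'_mul, eq_comm, IsLocalization.eq_mk'_iff_mul_eq, ← map_mul] at hq
    obtain ⟨⟨v, hv⟩, hve⟩ := (IsLocalization.eq_iff_exists m.primeCompl (X.presheaf.stalk x)).1 hq
    refine ⟨v * (s' * s : A), v * c₀, fun h0 => ?_, ?_⟩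
    · rcases Ideal.IsPrime.mem_or_mem inferInstance ((hm _).1 h0) with h | h
      · exact hv h
      · exact (s' * s : m.primeCompl).2 h
    · change v * (a * ((s' * s : m.primeCompl) : A)) = v * (c₀ * t) at hve
      rw [mul_assoc v c₀ t, ← hve, Submonoid.coe_mul]
      ring
  haveI : IsSeparated c := inferInstance
  obtain ⟨V, U', D, hD⟩ := exists_diag_dat c hU₀.fromSpec he φ hk t ht hmax
  let P := pullback c (Spec.map (CommRingCat.ofHom (algebraMap k R)))
  let p : P ⟶ X := pullback.fst _ _
  -- the geometric generic fibre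
  let iΩ : pullback c (Spec.map (CommRingCat.ofHom (genStr c))) ⟶ P :=
    pullback.lift (pullback.fst _ _) (pullback.snd _ _ ≫ Spec.map (CommRingCat.ofHom ψ.toRingHom)) (by
      rw [pullback.condition, Category.assoc, ← Spec.map_comp]
      exact congrArg (fun h => pullback.snd c (Spec.map (CommRingCat.ofHom (genStr c))) ≫ Spec.map h)
        (CommRingCat.hom_ext ψ.comp_algebraMap).symm)
  obtain ⟨hGΩ, hVΩ⟩ := hD ψ iΩ (pullback.lift_fst _ _ _) (pullback.lift_snd _ _ _)
  have hsecΩ : secT c hU₀.fromSpec he (ψ.comp φ) = genSec c := by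
    apply pullback.hom_ext
    · refine (pullback.lift_fst _ _ _).trans (Eq.trans ?_ (pullback.lift_fst _ _ _).symm)
      rw [← hgerm, ← Category.assoc, ← Spec.map_comp]
      exact congrArg (fun h => Spec.map h ≫ hU₀.fromSpec) (CommRingCat.hom_ext hj)
    · exact (pullback.lift_snd _ _ _).trans (pullback.lift_snd _ _ _).symm
  -- the closed fibre
  let χ : R →ₐ[k] k := (AlgEquiv.ofBijective (Algebra.ofId k (ResidueField R)) hk).symm.toAlgHom.comp
    (IsScalarTower.toAlgHom k R (ResidueField R))
  let a₀ := Spec.map (CommRingCat.ofHom (algebraMap k k))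
  have ha₀ : a₀ = 𝟙 _ := Spec.map_id _
  let w : X ⟶ pullback c a₀ := pullback.lift (𝟙 X) c (by rw [ha₀, Category.id_comp, Category.comp_id])
  haveI : IsIso w := ⟨pullback.fst _ _, pullback.lift_fst _ _ _, by
    apply pullback.hom_ext
    · rw [Category.assoc, pullback.lift_fst, Category.comp_id, Category.id_comp]
    · rw [Category.assoc, pullback.lift_snd, Category.id_comp, pullback.condition, ha₀, Category.comp_id]⟩
  let i₀' : pullback c a₀ ⟶ P := pullback.lift (pullback.fst _ _)
    (pullback.snd _ _ ≫ Spec.map (CommRingCat.ofHom χ.toRingHom)) (by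
      rw [pullback.condition, Category.assoc, ← Spec.map_comp]
      exact congrArg (fun h => pullback.snd c a₀ ≫ Spec.map h) (CommRingCat.hom_ext χ.comp_algebraMap).symm)
  obtain ⟨hG₀, hV₀⟩ := hD χ i₀' (pullback.lift_fst _ _ _) (pullback.lift_snd _ _ _)
  let i₀ : X ⟶ P := w ≫ i₀'
  have hi₀p : i₀ ≫ p = 𝟙 X := by
    rw [Category.assoc, pullback.lift_fst, pullback.lift_fst]
  have hwx : w x = secT c hU₀.fromSpec he (χ.comp φ) default := by
    have h1 : pullback.fst c a₀ (secT c hU₀.fromSpec he (χ.comp φ) default) = x := by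
      rw [← Scheme.Hom.comp_apply, secT, pullback.lift_fst, Scheme.Hom.comp_apply]
      refine (congrArg hU₀.fromSpec (PrimeSpectrum.ext ?_)).trans hxm
      ext a
      show χ (φ a) ∈ (default : ↥(Spec (CommRingCat.of k))).asIdeal ↔ a ∈ m
      rw [(Ideal.eq_bot_or_top (default : ↥(Spec (CommRingCat.of k))).asIdeal).resolve_right
        (default : ↥(Spec (CommRingCat.of k))).isPrime.ne_top, Ideal.mem_bot, ← hm a]
      exact EmbeddingLike.map_eq_zero_iff (f := (AlgEquiv.ofBijective (Algebra.ofId k (ResidueField R)) hk).symm)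
    apply (inv w).isOpenEmbedding.injective
    rw [← Scheme.Hom.comp_apply, IsIso.hom_inv_id]
    rw [show inv w = pullback.fst c a₀ from IsIso.inv_eq_of_hom_inv_id (pullback.lift_fst _ _ _)]
    exact h1.symm
  have hdiff : gmH i₀ (haveI := EtPullExact.pull_preservesFiniteLimits p; D.cls - gmH p Ex.cls) = 0 := by
    haveI := EtPullExact.pull_preservesFiniteLimits p
    haveI := EtPullExact.pull_preservesFiniteLimits i₀
    rw [map_sub, D.gmH_cls, Ex.gmH_cls, (Ex.pull p).gmH_cls, sub_eq_zero, DivDat.cls_pull_pull,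
      Ex.cls_pull_congr hi₀p, Ex.cls_pull_id]
    refine DivDat.cls_eq_of_genAt hx rfl ?_ Ex _ hE ?_
    · refine Opens.ext ?_
      show w ⁻¹' ((i₀' ⁻¹ᵁ V : _) : Set _) = ({x} : Set X)ᶜ
      rw [hV₀, Set.preimage_compl, ← hwx, ← Set.image_singleton, Set.preimage_image_eq _ w.isOpenEmbedding.injective]
    · exact (show ((D.pull i₀').pull w).GenAt x from DivDat.GenAt.pull w (hwx.symm ▸ hG₀))
  haveI := EtPullExact.pull_preservesFiniteLimits p
  haveI := EtPullExact.pull_preservesFiniteLimits i₀
  haveI := EtPullExact.pull_preservesFiniteLimits iΩ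
  let rP : KRoot P n := r.pull (pullback.snd c _ ≫ Spec.map (CommRingCat.ofHom (algebraMap k R)))
  have hbij : Function.Injective (EtCore.Hpull i₀ (EtCoh.const P (ZMod n)) 2) := by
    let χ' := Spec.map (CommRingCat.ofHom
      ((AlgEquiv.ofBijective (Algebra.ofId k (ResidueField R)) hk).symm : ResidueField R →+* k))
    haveI : IsIso χ' := by
      rw [show χ' = Spec.map (AlgEquiv.ofBijective (Algebra.ofId k (ResidueField R)) hk).symm.toRingEquiv.toCommRingCatIso.hom
        from rfl]
      infer_instance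
    have h1 : IsPullback i₀' (pullback.snd c a₀) (pullback.snd c (Spec.map (CommRingCat.ofHom (algebraMap k R))))
        (Spec.map (CommRingCat.ofHom χ.toRingHom)) := by
      refine IsPullback.of_right ?_ (pullback.lift_snd _ _ _)
        (IsPullback.of_hasPullback c (Spec.map (CommRingCat.ofHom (algebraMap k R))))
      rw [show i₀' ≫ pullback.fst _ _ = pullback.fst c a₀ from pullback.lift_fst _ _ _, ← Spec.map_comp,
        ← CommRingCat.ofHom_comp, show χ.toRingHom.comp (algebraMap k R) = algebraMap k k from χ.comp_algebraMap]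
      exact IsPullback.of_hasPullback c a₀
    have sq : IsPullback i₀ (c ≫ χ') (pullback.snd c (Spec.map (CommRingCat.ofHom (algebraMap k R))))
        (Spec.map (CommRingCat.ofHom (residue R))) := by
      refine h1.of_iso (asIso w).symm (Iso.refl _) (asIso χ') (Iso.refl _) ?_ ?_ (by simp) ?_
      · simp [i₀]
      · simp only [Iso.symm_hom, asIso_hom, asIso_inv]
        rw [IsIso.inv_eq_of_hom_inv_id (pullback.lift_fst _ _ _ : w ≫ pullback.fst c a₀ = 𝟙 X), pullback.condition_assoc,
          ha₀, Category.id_comp]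
      · simp only [asIso_hom, Iso.refl_hom, Category.comp_id, χ']
        rw [← Spec.map_comp]
        exact congrArg Spec.map (CommRingCat.hom_ext (RingHom.ext fun _ => rfl))
    exact (((compN_closedFibre_henselian (pullback.snd c _) i₀ (c ≫ χ') sq 2) _
      (isLTorsion_univ_of_killed r.one_le (killed_const _ n))).1 2 le_rfl).1
  obtain ⟨γ, hγ⟩ := rP.exists_nsmul_of_gmH i₀ hbij _ 0 (hdiff.trans (smul_zero n).symm)
  refine ⟨_, _, D.pull iΩ, gmH iΩ γ, hsecΩ ▸ hGΩ, hsecΩ ▸ hVΩ, ?_⟩
  rw [← map_nsmul, hγ, map_sub, D.gmH_cls, Ex.gmH_cls, Ex.gmH_cls, (Ex.pull p).gmH_cls, DivDat.cls_pull_pull,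
    Ex.cls_pull_congr (show iΩ ≫ p = π from (pullback.lift_fst _ _ _).trans hπ.symm)]

include c in
/-- **any two points have the same class modulo `n`** -/
theorem exists_nsmul_cls_sub {n : ℕ} (r : KRoot (Spec (CommRingCat.of k)) n)
    (hreg : ∀ x : X, IsClosed ({x} : Set X) → ∃ t, maximalIdeal (X.presheaf.stalk x) = Ideal.span {t})
    {x y : X} (hx : IsClosed ({x} : Set X)) (hy : IsClosed ({y} : Set X)) {U U' : X.Opens}
    (Ex : DivDat X (compl₁ hx) U) (hEx : Ex.GenAt x) (Ey : DivDat X (compl₁ hy) U') (hEy : Ey.GenAt y) :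
    ∃ γ : H1g X, n • γ = Ex.cls - Ey.cls := by
  let XΩ := pullback c (Spec.map (CommRingCat.ofHom (genStr c)))
  let π : XΩ ⟶ X := pullback.fst _ _
  haveI := EtPullExact.pull_preservesFiniteLimits π
  obtain ⟨V₁, U₁, G₁, γ₁, hg₁, hV₁, h₁⟩ := exists_generic_cls c r hreg hx Ex hEx π rfl
  obtain ⟨V₂, U₂, G₂, γ₂, hg₂, hV₂, h₂⟩ := exists_generic_cls c r hreg hy Ey hEy π rfl
  haveI : IsClosedImmersion (genSec c) := by
    haveI : IsClosedImmersion (genSec c ≫ pullback.snd c _) := by
      rw [show genSec c ≫ pullback.snd c _ = 𝟙 _ from pullback.lift_snd _ _ _]; infer_instance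
    exact IsClosedImmersion.of_comp (genSec c) (pullback.snd c _)
  have hw : IsClosed ({genSec c default} : Set XΩ) := by
    have h := (genSec c).isClosedEmbedding.isClosed_range
    rwa [Set.range_unique] at h
  have e : G₂.cls = G₁.cls := DivDat.cls_eq_of_genAt hw (Opens.ext hV₁) (Opens.ext hV₂) G₁ G₂ hg₁ hg₂
  refine (r.pull c).exists_nsmul_of_gmH π ?_ _ (γ₂ - γ₁) ?_
  · exact (bijective_Hpull_sepClosed (genStr c) c π (pullback.snd c _) (IsPullback.of_hasPullback c _) _
      (isLTorsion_univ_of_killed r.one_le (killed_const _ n)) 2).1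
  · rw [smul_sub, ← h₁, ← h₂, e, map_sub]
    abel

end Groth.Agent.EtPBC
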