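import Groth.Agent.EtPBC.ClosedFibre
import Groth.Agent.EtFinCrit.Acyclic
import Groth.Agent.EtAcycX.DescSurj
import Groth.Agent.EtAcycX.KilledColim
import Groth.Agent.EtAcycX.Comp
import Groth.Agent.EtBCQ.Crit
import Groth.Agent.PnSpec.Basic
import Groth.Agent.S3073
import Mathlib

/-!
# The proper base change property and its formal closure properties
-/

set_option autoImplicit false
set_option backward.isDefEq.respectTransparency false
set_option backward.isDefEq.respectTransparency.types false
set_option linter.auxLemma false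
set_option linter.style.haveILetI false
set_option linter.unusedSectionVars false
set_option maxHeartbeats 1000000

universe u

open CategoryTheory CategoryTheory.Limits CategoryTheory.Abelian AlgebraicGeometry Opposite IsLocalRing

noncomputable section

namespace Groth.Agent.EtPBC

attribute [local instance 100000] EtCoh.H._proof_1 EtMV.hext
attribute [local instance 200000] EtMV.hextAb

variable {X Y S : Scheme.{u}}

/-- over every strictly local base the cohomology of torsion sheaves agrees with that of the closed fibre -/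
def PB (f : X ⟶ S) : Prop :=
  ∀ (R : Type u) [CommRing R] [HenselianLocalRing R] [IsSepClosed (ResidueField R)]
    (t : Spec (CommRingCat.of R) ⟶ S) ⦃P : Scheme.{u}⦄ (a : P ⟶ X) (b : P ⟶ Spec (CommRingCat.of R)),
    IsPullback a b f t → ∀ ⦃Z : Scheme.{u}⦄ (i : Z ⟶ P) (c : Z ⟶ Spec (CommRingCat.of (ResidueField R))),
      IsPullback i c b (Spec.map (CommRingCat.ofHom (residue R))) → ∀ n : ℕ, EtAcyc.CompN i Set.univ n

theorem PB.of_isPullback {X' S' : Scheme.{u}} {f : X ⟶ S} (hf : PB f) {f' : X' ⟶ S'} {g' : X' ⟶ X} {g : S' ⟶ S}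
    (h : IsPullback g' f' f g) : PB f' :=
  fun R _ _ _ t _ a b hab _ i c hic n => hf R (t ≫ g) (a ≫ g') b (hab.paste_horiz h) i c hic n

/-- finite morphisms have the property -/
theorem pb_of_isFinite (f : X ⟶ S) [IsFinite f] : PB f := by
  intro R _ _ _ t P a b hab Z i c hic n
  haveI : IsFinite b := MorphismProperty.of_isPullback (P := @IsFinite) hab ‹_›
  refine EtFinCrit.compN_of_finite (Spec.map (CommRingCat.ofHom (residue R))) b i c hic (fun F _ _ => ?_)
  exact ⟨fun q _ => Groth.Agent.S3073.result R F q, (Groth.Agent.S3073.result R F (n + 1)).1⟩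

/-- the projective line has the property -/
theorem pb_line (S : Scheme.{u}) : PB (CohB1.ProjSpaceOver.toBase 1 S) := by
  intro R _ _ _ t P a b hab Z i c hic n
  haveI : IsProper b := MorphismProperty.of_isPullback (P := @IsProper) hab inferInstance
  haveI : IsProper c := MorphismProperty.of_isPullback (P := @IsProper) hic ‹_›
  haveI := EtCohDesc.pull_preservesFiniteLimits i
  haveI : CompactSpace P := QuasiCompact.compactSpace_of_compactSpace b
  haveI : QuasiSeparatedSpace P := quasiSeparatedSpace_of_quasiSeparated b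
  haveI : CompactSpace Z := QuasiCompact.compactSpace_of_compactSpace c
  haveI : QuasiSeparatedSpace Z := quasiSeparatedSpace_of_quasiSeparated c
  let κ := ResidueField R
  obtain ⟨e, he⟩ := PnSpec.exists_iso 1 κ
  have h1 : IsPullback (i ≫ a ≫ pullback.fst _ _) c (CohB1.ProjSpace.toSpec 1 (ULift.{u} ℤ))
      (specULiftZIsTerminal.from (Spec (CommRingCat.of κ))) := by
    have h0 := hic.paste_horiz (hab.paste_horiz (IsPullback.of_hasPullback
      (CohB1.ProjSpace.toSpec 1 (ULift.{u} ℤ)) (specULiftZIsTerminal.from S)))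
    rwa [show (Spec.map (CommRingCat.ofHom (residue R)) ≫ t ≫ specULiftZIsTerminal.from S) =
      specULiftZIsTerminal.from _ from specULiftZIsTerminal.hom_ext _ _] at h0
  let b₀ : Z ⟶ CohB1.ProjSpace 1 κ := h1.isoPullback.hom ≫ e.inv
  refine EtFinCrit.compN (EtFinCrit.hasGood i Set.univ n fun X' p _ _ ℓ hℓ _ ν => ?_)
  haveI := Fact.mk hℓ
  have sq' : IsPullback (pullback.fst p i) (pullback.snd p i ≫ c) (p ≫ b) (Spec.map (CommRingCat.ofHom (residue R))) :=
    (IsPullback.of_hasPullback p i).paste_vert hic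
  exact ⟨(good_const (p ≫ b) _ _ sq' (pullback.snd p i ≫ b₀) ℓ ν 0).1,
    fun q _ => (good_const (p ≫ b) _ _ sq' (pullback.snd p i ≫ b₀) ℓ ν q).2⟩

theorem bijective_HpullVia_iff {W V T : Scheme.{u}} (m : W ⟶ V) (a : V ⟶ T) (a' : W ⟶ T) (w : m ≫ a = a')
    [PreservesFiniteLimits (EtCoh.pull m)] (F : EtCoh.Ab T) (n : ℕ) :
    Function.Bijective (EtCore.HpullVia m a a' w F n) ↔
      Function.Bijective (EtCore.Hpull m ((EtCoh.pull a).obj F) n) := by
  haveI := EtAcycX.isIso_ψh m a a' w F
  exact Function.Bijective.of_comp_iff' (EtAcycX.bijective_comp_iso (EtLimit.ψh m a a' w F) n) _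

/-- restriction between two local pieces is bijective when it is on the closed fibres -/
theorem bijective_HpullVia_of_fibres {T PS PX Z Z' : Scheme.{u}} {n : ℕ} (m : PX ⟶ PS) (aS : PS ⟶ T) (aX : PX ⟶ T)
    (w : m ≫ aS = aX) [PreservesFiniteLimits (EtCoh.pull m)] (iS : Z ⟶ PS) (iX : Z' ⟶ PX) (e : Z' ⟶ Z)
    (we : e ≫ iS = iX ≫ m) (hS : EtAcyc.CompN iS Set.univ n) (hX : EtAcyc.CompN iX Set.univ n)
    [PreservesFiniteLimits (EtCoh.pull e)]
    (he : ∀ G : EtCoh.Ab Z, EtAcyc.IsLTorsion Set.univ G → Function.Bijective (EtCore.Hpull e G n))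
    (F : EtCoh.Ab T) (hF : EtAcyc.IsLTorsion Set.univ F) : Function.Bijective (EtCore.HpullVia m aS aX w F n) := by
  haveI := EtCohDesc.pull_preservesFiniteLimits iS
  haveI := EtCohDesc.pull_preservesFiniteLimits iX
  haveI := EtCohDesc.pull_preservesFiniteLimits (iX ≫ m)
  let G := (EtCoh.pull aS).obj F
  have hG : EtAcyc.IsLTorsion Set.univ G := EtAcycX.isLTorsion_pull aS hF
  have h1 : Function.Bijective (EtCore.Hpull (iX ≫ m) G n) := by
    rw [show ⇑(EtCore.Hpull (iX ≫ m) G n) = ⇑(EtCore.HpullVia e iS (iX ≫ m) we G n) ∘ ⇑(EtCore.Hpull iS G n) from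
      funext fun x => (EtAcycX.Hpull_HpullVia e iS (iX ≫ m) we G n x).symm]
    exact ((bijective_HpullVia_iff e iS (iX ≫ m) we G n).2 (he _ (EtAcycX.isLTorsion_pull iS hG))).comp
      ((hS G hG).1 n le_rfl)
  have h2 : Function.Bijective (EtCore.HpullVia iX m (iX ≫ m) rfl G n) :=
    (bijective_HpullVia_iff iX m (iX ≫ m) rfl G n).2 ((hX _ (EtAcycX.isLTorsion_pull m hG)).1 n le_rfl)
  rw [show ⇑(EtCore.Hpull (iX ≫ m) G n) = ⇑(EtCore.HpullVia iX m (iX ≫ m) rfl G n) ∘ ⇑(EtCore.Hpull m G n) from
    funext fun x => (EtAcycX.Hpull_HpullVia iX m (iX ≫ m) rfl G n x).symm] at h1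
  exact (bijective_HpullVia_iff m aS aX w F n).2 ((Function.Bijective.of_comp_iff' h2 _).1 h1)

/-- closed immersions do not change separable closures of residue fields -/
theorem bijective_residue_map {f : X ⟶ S} [IsClosedImmersion f] (x : X) (RS : Type u) [CommRing RS] [IsLocalRing RS]
    [Algebra (S.presheaf.stalk (f.base x)) RS] [IsLocalHom (algebraMap (S.presheaf.stalk (f.base x)) RS)]
    [hS : _root_.Hensel.IsStrictHenselization (S.presheaf.stalk (f.base x)) RS]
    (RX : Type u) [CommRing RX] [IsLocalRing RX] [Algebra (X.presheaf.stalk x) RX]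
    [IsLocalHom (algebraMap (X.presheaf.stalk x) RX)] [hX : _root_.Hensel.IsStrictHenselization (X.presheaf.stalk x) RX]
    (ψ : RS →+* RX) [IsLocalHom ψ]
    (hψ : ψ.comp (algebraMap (S.presheaf.stalk (f.base x)) RS) =
      (algebraMap (X.presheaf.stalk x) RX).comp (f.stalkMap x).hom) :
    Function.Bijective (ResidueField.map ψ) := by
  haveI : IsSepClosed (ResidueField RS) := hS.isSepClosure.1
  haveI := hX.isSepClosure.separable
  letI := (ResidueField.map ψ).toAlgebra
  let κ₀ := ResidueField (S.presheaf.stalk (f.base x))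
  let κ₁ := ResidueField (X.presheaf.stalk x)
  let φ : κ₀ →+* κ₁ := ResidueField.map (f.stalkMap x).hom
  have hφ : Function.Surjective φ := fun y => by
    obtain ⟨y, rfl⟩ := residue_surjective y
    obtain ⟨z, rfl⟩ := f.stalkMap_surjective x y
    exact ⟨residue _ z, ResidueField.map_residue _ _⟩
  have hcomp : ∀ z : κ₀, ResidueField.map ψ (algebraMap κ₀ (ResidueField RS) z) =
      algebraMap κ₁ (ResidueField RX) (φ z) := fun z => by
    obtain ⟨z, rfl⟩ := residue_surjective z
    exact congrArg (residue RX) (RingHom.congr_fun hψ z)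
  haveI : Algebra.IsSeparable (ResidueField RS) (ResidueField RX) := ⟨fun y => by
    have hy : IsSeparable κ₁ y := Algebra.IsSeparable.isSeparable κ₁ y
    obtain ⟨P, hP, hdeg, hmonic⟩ := Polynomial.lifts_and_degree_eq_and_monic
      (Polynomial.lifts_iff_coeff_lifts _ |>.2 fun k => hφ ((minpoly κ₁ y).coeff k))
      (minpoly.monic hy.isIntegral)
    have hroot : Polynomial.aeval y (P.map (algebraMap κ₀ (ResidueField RS))) = 0 := by
      rw [Polynomial.aeval_def, RingHom.algebraMap_toAlgebra, Polynomial.eval₂_map,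
        show (ResidueField.map ψ).comp (algebraMap κ₀ (ResidueField RS)) =
          (algebraMap κ₁ (ResidueField RX)).comp φ from RingHom.ext hcomp, ← Polynomial.eval₂_map, hP]
      exact minpoly.aeval κ₁ y
    have hsep : (P.map (algebraMap κ₀ (ResidueField RS))).Separable := by
      refine Polynomial.Separable.map ?_
      rw [← Polynomial.separable_map φ, hP]
      exact hy
    exact hsep.of_dvd (minpoly.dvd _ _ hroot)⟩
  exact IsSepClosed.algebraMap_bijective (ResidueField RS) (ResidueField RX)

/-- **base change along closed immersions** -/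
theorem PB.isIso_bcQ {f : X ⟶ S} [QuasiCompact f] [QuasiSeparated f] (hf : PB f) {Y' X' : Scheme.{u}}
    (i : Y' ⟶ S) [IsClosedImmersion i] (hb : X' ⟶ X) (pY : X' ⟶ Y') (sq : IsPullback hb pY f i)
    [PreservesFiniteLimits (EtCoh.pull hb)] (F : EtCoh.Ab X) (hF : EtAcyc.IsLTorsion Set.univ F) (q : ℕ) :
    IsIso (EtBC.bcQ f i pY hb sq.w q F) := by
  refine (EtBCQ.isIso_bcQ_iff_restr i f pY hb sq F q).1 ?_
  intro x RS _ _ _ _ hS RX _ _ _ _ hX ψ _ hψ PS PX aS bS HS aX bX HX m w wb _
  haveI := hS.henselian
  haveI := hX.henselian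
  haveI : IsSepClosed (ResidueField RS) := hS.isSepClosure.1
  haveI : IsSepClosed (ResidueField RX) := hX.isSepClosure.1
  let u : CommRingCat.of (ResidueField RS) ⟶ CommRingCat.of (ResidueField RX) := CommRingCat.ofHom (ResidueField.map ψ)
  haveI : IsIso u := (ConcreteCategory.isIso_iff_bijective u).2 (bijective_residue_map x RS RX ψ hψ)
  let iS := pullback.fst bS (Spec.map (CommRingCat.ofHom (residue RS)))
  let iX := pullback.fst bX (Spec.map (CommRingCat.ofHom (residue RX)))
  have hu : Spec.map (CommRingCat.ofHom (residue RX)) ≫ Spec.map (CommRingCat.ofHom ψ) =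
      Spec.map u ≫ Spec.map (CommRingCat.ofHom (residue RS)) := by
    rw [← Spec.map_comp, ← Spec.map_comp]
    rfl
  let e : pullback bX (Spec.map (CommRingCat.ofHom (residue RX))) ⟶ pullback bS (Spec.map (CommRingCat.ofHom (residue RS))) :=
    pullback.map _ _ _ _ m (Spec.map u) (Spec.map (CommRingCat.ofHom ψ)) wb.symm hu
  haveI : IsIso e := by
    have hm : IsPullback m bX bS (Spec.map (CommRingCat.ofHom ψ)) := by
      refine IsPullback.of_right ?_ wb HS
      rw [w, ← EtBCQ.specOf_comp i x RS RX ψ hψ]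
      exact HX
    have hbig := ((IsPullback.of_hasPullback bX (Spec.map (CommRingCat.ofHom (residue RX)))).paste_horiz hm)
    rw [hu] at hbig
    have he : IsPullback e (pullback.snd _ _) (pullback.snd bS _) (Spec.map u) := by
      refine IsPullback.of_right ?_ (pullback.lift_snd _ _ _) (IsPullback.of_hasPullback _ _)
      rw [pullback.lift_fst]
      exact hbig
    exact he.isIso_fst_of_isIso
  haveI := EtCohDesc.pull_preservesFiniteLimits e
  exact bijective_HpullVia_of_fibres m aS aX w iS iX e (pullback.lift_fst _ _ _)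
    (hf RS _ aS bS HS iS _ (IsPullback.of_hasPullback _ _) q)
    (hf RX _ aX bX HX iX _ (IsPullback.of_hasPullback _ _) q)
    (fun G _ => bijective_Hpull_of_isIso e G q) F hF

theorem PB.bcN {f : X ⟶ S} [QuasiCompact f] [QuasiSeparated f] (hf : PB f) {Y' X' : Scheme.{u}}
    (i : Y' ⟶ S) [IsClosedImmersion i] (hb : X' ⟶ X) (pY : X' ⟶ Y') (sq : IsPullback hb pY f i)
    [PreservesFiniteLimits (EtCoh.pull hb)] (F : EtCoh.Ab X) (hF : EtAcyc.IsLTorsion Set.univ F) (n : ℕ) :
    EtAcycX.BCN i f hb pY sq.w n F :=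
  haveI := hf.isIso_bcQ i hb pY sq F hF (n + 1)
  ⟨fun q _ => hf.isIso_bcQ i hb pY sq F hF q, inferInstance⟩

/-- **composition** -/
theorem PB.comp {f : X ⟶ Y} {g : Y ⟶ S} [QuasiCompact f] [QuasiSeparated f] [QuasiCompact g] [QuasiSeparated g]
    (hf : PB f) (hg : PB g) :
    PB (f ≫ g) := by
  intro R _ _ _ t P a b hab Z i c hic n
  let p : P ⟶ pullback g t := pullback.lift (a ≫ f) b (by rw [Category.assoc]; exact hab.w)
  have hp : IsPullback a p f (pullback.fst g t) :=
    IsPullback.of_bot (by rw [pullback.lift_snd]; exact hab) (pullback.lift_fst _ _ _).symm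
      (IsPullback.of_hasPullback g t)
  haveI : QuasiCompact p := MorphismProperty.of_isPullback (P := @QuasiCompact) hp ‹_›
  haveI : QuasiSeparated p := MorphismProperty.of_isPullback (P := @QuasiSeparated) hp ‹_›
  haveI : IsClosedImmersion (Spec.map (CommRingCat.ofHom (residue R))) :=
    IsClosedImmersion.spec_of_surjective _ residue_surjective
  let iY := pullback.fst (pullback.snd g t) (Spec.map (CommRingCat.ofHom (residue R)))
  let q : Z ⟶ pullback (pullback.snd g t) (Spec.map (CommRingCat.ofHom (residue R))) :=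
    pullback.lift (i ≫ p) c (by rw [Category.assoc, pullback.lift_snd]; exact hic.w)
  have hq : IsPullback i q p iY := IsPullback.of_bot (by rw [pullback.lift_snd, pullback.lift_snd]; exact hic)
    (pullback.lift_fst _ _ _).symm (IsPullback.of_hasPullback _ _)
  haveI := EtCohDesc.pull_preservesFiniteLimits i
  haveI := EtCohDesc.pull_preservesFiniteLimits iY
  haveI := EtCohDesc.pull_preservesFiniteLimits p
  haveI := EtCohDesc.pull_preservesFiniteLimits q
  haveI : CompactSpace ↥(pullback g t) := QuasiCompact.compactSpace_of_compactSpace (pullback.snd g t)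
  haveI : QuasiSeparatedSpace ↥(pullback g t) := quasiSeparatedSpace_of_quasiSeparated (pullback.snd g t)
  haveI : CompactSpace P := QuasiCompact.compactSpace_of_compactSpace p
  haveI : QuasiSeparatedSpace P := quasiSeparatedSpace_of_quasiSeparated p
  haveI : CompactSpace ↥(pullback (pullback.snd g t) (Spec.map (CommRingCat.ofHom (residue R)))) :=
    QuasiCompact.compactSpace_of_compactSpace iY
  haveI : QuasiSeparatedSpace ↥(pullback (pullback.snd g t) (Spec.map (CommRingCat.ofHom (residue R)))) :=
    quasiSeparatedSpace_of_quasiSeparated iY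
  exact EtAcycX.compN_bc (hg R t _ _ (IsPullback.of_hasPullback g t) iY _ (IsPullback.of_hasPullback _ _) n)
    fun F hF => (hf.of_isPullback hp).bcN iY i q hq F hF n

/-- **descent along surjections with the property** -/
theorem PB.of_surjective {f : X ⟶ S} {π : Y ⟶ X} [QuasiCompact f] [QuasiSeparated f] [QuasiCompact π]
    [QuasiSeparated π] [Surjective π] (hπ : PB π) (h : PB (π ≫ f)) : PB f := by
  intro R _ _ _ t P a b hab Z i c hic n
  let P' := pullback π a
  let p : P' ⟶ P := pullback.snd π a
  haveI : IsClosedImmersion i := MorphismProperty.of_isPullback (P := @IsClosedImmersion) hic.flip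
    (IsClosedImmersion.spec_of_surjective _ residue_surjective)
  haveI : QuasiCompact b := MorphismProperty.of_isPullback (P := @QuasiCompact) hab ‹_›
  haveI : QuasiSeparated b := MorphismProperty.of_isPullback (P := @QuasiSeparated) hab ‹_›
  haveI : CompactSpace P := QuasiCompact.compactSpace_of_compactSpace b
  haveI : QuasiSeparatedSpace P := quasiSeparatedSpace_of_quasiSeparated b
  haveI : CompactSpace Z := QuasiCompact.compactSpace_of_compactSpace i
  haveI : QuasiSeparatedSpace Z := quasiSeparatedSpace_of_quasiSeparated i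
  haveI := EtCohDesc.pull_preservesFiniteLimits i
  haveI := EtCohDesc.pull_preservesFiniteLimits p
  haveI := EtCohDesc.pull_preservesFiniteLimits (pullback.fst p i)
  haveI := EtCohDesc.pull_preservesFiniteLimits (pullback.snd p i)
  have hP' : IsPullback (pullback.fst π a) (p ≫ b) (π ≫ f) t := (IsPullback.of_hasPullback π a).paste_vert hab
  have hZ' : IsPullback (pullback.fst p i) (pullback.snd p i ≫ c) (p ≫ b) (Spec.map (CommRingCat.ofHom (residue R))) :=
    (IsPullback.of_hasPullback p i).paste_vert hic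
  have hpp : PB p := hπ.of_isPullback (IsPullback.of_hasPullback π a)
  refine EtAcycX.compN_of_killed i Set.univ n fun m hm F hF => ?_
  have key := EtAcycX.killed_bijective i p (pullback.fst p i) (pullback.snd p i) pullback.condition Set.univ n n
    (Nat.le_succ n) (h R t _ _ hP' _ _ hZ' n)
    (fun G hG q _ => hpp.isIso_bcQ i _ _ (IsPullback.of_hasPullback p i) G hG q) hm (inferInstance : Surjective p)
  exact ⟨fun q hq => (key q F hF).1 hq, (key (n + 1) F hF).2 le_rfl⟩

end Groth.Agent.EtPBC
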