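import Mathlib

/-!
# Maximal semireal algebraic extensions (real closures)

A semireal field has an algebraic semireal extension `R` such that every finite extension of `R(√-1)` is trivial.
-/

set_option autoImplicit false
set_option linter.style.haveILetI false
set_option linter.unusedSectionVars false

universe u

open Polynomial

noncomputable section

namespace Groth.Agent.EtPBC.RealClos

/-- ring homs preserve sums of squares -/
theorem isSumSq_map {A B : Type*} [CommSemiring A] [CommSemiring B] (f : A →+* B) {z : A} (h : IsSumSq z) :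
    IsSumSq (f z) := by
  induction h with
  | zero => rw [map_zero]; exact IsSumSq.zero
  | sq_add a _ ih => rw [map_add, map_mul]; exact IsSumSq.sq_add _ ih

variable {R : Type u} [Field R]

/-- a sum of squares of polynomials has even degree -/
theorem sumSq_natDegree (hR : ¬ IsSumSq (-1 : R)) {S : R[X]} (h : IsSumSq S) :
    S = 0 ∨ (Even S.natDegree ∧ IsSumSq S.leadingCoeff) := by
  induction h with
  | zero => exact Or.inl rfl
  | @sq_add a S _ ih =>
    by_cases ha : a = 0
    · subst ha; simpa using ih
    right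
    have hd : Even (a * a).natDegree := by rw [natDegree_mul ha ha]; exact ⟨_, rfl⟩
    have hl : IsSumSq (a * a).leadingCoeff := by
      rw [leadingCoeff_mul]; exact IsSumSq.mul_self _
    rcases ih with rfl | ⟨he, hs⟩
    · rw [add_zero]; exact ⟨hd, hl⟩
    rcases lt_trichotomy (a * a).degree S.degree with hlt | heq | hgt
    · rw [natDegree_add_eq_right_of_degree_lt hlt, leadingCoeff_add_of_degree_lt hlt]; exact ⟨he, hs⟩
    · have hne : (a * a).leadingCoeff + S.leadingCoeff ≠ 0 := by
        intro h0
        have hc : a.leadingCoeff ≠ 0 := leadingCoeff_ne_zero.2 ha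
        refine hR ?_
        have e : (-1 : R) = S.leadingCoeff * (a.leadingCoeff⁻¹ * a.leadingCoeff⁻¹) := by
          rw [leadingCoeff_mul] at h0
          rw [eq_neg_of_add_eq_zero_right h0]
          field_simp
        rw [e]
        exact hs.mul (IsSumSq.mul_self _)
      have hdeg : (a * a + S).natDegree = (a * a).natDegree := by
        apply natDegree_eq_of_degree_eq
        rw [degree_add_eq_of_leadingCoeff_add_ne_zero hne, heq, max_self]
      refine ⟨hdeg ▸ hd, ?_⟩
      rw [leadingCoeff_add_of_degree_eq heq hne]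
      exact hl.add hs
    · rw [natDegree_add_eq_left_of_degree_lt hgt, leadingCoeff_add_of_degree_lt' hgt]; exact ⟨hd, hl⟩

/-- **Springer**: odd degree extensions of semireal fields are semireal -/
theorem not_isSumSq_adjoinRoot (hR : ¬ IsSumSq (-1 : R)) : ∀ (n : ℕ) (f : R[X]) (_ : Fact (Irreducible f)),
    f.natDegree = n → Odd n → ¬ IsSumSq (-1 : AdjoinRoot f) := by
  intro n
  induction n using Nat.strong_induction_on with
  | _ n ih =>
    intro f hf hfn hn h
    have hf0 : f ≠ 0 := hf.out.ne_zero
    -- lift the identity with small degrees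
    obtain ⟨S, hS, hSd, hSf⟩ : ∃ S : R[X], IsSumSq S ∧ S.natDegree ≤ 2 * (n - 1) ∧ AdjoinRoot.mk f S = -1 := by
      generalize (-1 : AdjoinRoot f) = w at h
      induction h with
      | zero => exact ⟨0, IsSumSq.zero, by simp, map_zero _⟩
      | @sq_add a s _ ihs =>
        obtain ⟨S, hS, hSd, hSf⟩ := ihs
        obtain ⟨g, rfl⟩ := AdjoinRoot.mk_surjective a
        refine ⟨g % f * (g % f) + S, IsSumSq.sq_add _ hS, ?_, ?_⟩
        · refine natDegree_add_le_of_degree_le (natDegree_mul_le.trans ?_) hSd
          have := natDegree_mod_lt g (by rw [hfn]; rintro rfl; exact Nat.not_odd_zero hn : f.natDegree ≠ 0)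
          omega
        · have e : AdjoinRoot.mk f (g % f) = AdjoinRoot.mk f g := by
            rw [AdjoinRoot.mk_eq_mk]
            exact ⟨-(g / f), by linear_combination (EuclideanDomain.div_add_mod g f)⟩
          rw [map_add, map_mul, hSf, e]
    obtain ⟨h', hh⟩ : f ∣ S + 1 := by
      rw [← AdjoinRoot.mk_eq_zero, map_add, hSf, map_one, neg_add_cancel]
    have hT : IsSumSq (S + 1) := hS.add (by simpa using IsSumSq.mul_self (1 : R[X]))
    have hTd : (S + 1).natDegree ≤ 2 * (n - 1) := natDegree_add_le_of_degree_le hSd (by simp)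
    rcases sumSq_natDegree hR hT with h0 | ⟨he, -⟩
    · have hS1 : S = -1 := eq_neg_of_add_eq_zero_left h0
      refine hR ?_
      have := isSumSq_map (Polynomial.evalRingHom (0 : R)) (hS1 ▸ hS)
      simpa using this
    have hh0 : h' ≠ 0 := fun e => by
      rw [e, mul_zero] at hh
      rcases sumSq_natDegree hR hS with e' | ⟨-, hl⟩
      · rw [e', zero_add] at hh; exact one_ne_zero hh
      · rw [eq_neg_of_add_eq_zero_left hh] at hl
        exact hR (by simpa using hl)
    rw [hh, natDegree_mul hf0 hh0, hfn] at he hTd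
    have hodd : Odd h'.natDegree := by
      rcases Nat.even_or_odd h'.natDegree with e | e
      · exact absurd he (Nat.not_even_iff_odd.2 (hn.add_even e))
      · exact e
    -- an irreducible factor of odd degree
    obtain ⟨g, hg, hgd, hgo⟩ : ∃ g, Irreducible g ∧ g ∣ h' ∧ Odd g.natDegree := by
      clear hh hTd he
      induction h' using WfDvdMonoid.induction_on_irreducible with
      | zero => exact absurd rfl hh0
      | unit u hu => rw [natDegree_eq_zero_of_isUnit hu] at hodd; exact absurd hodd Nat.not_odd_zero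
      | mul a i ha hi iha =>
        rw [natDegree_mul hi.ne_zero ha] at hodd
        rcases Nat.even_or_odd i.natDegree with e | e
        · obtain ⟨g, h1, h2, h3⟩ := iha ha (by
            rcases Nat.even_or_odd a.natDegree with e' | e'
            · exact absurd (e.add e') (Nat.not_even_iff_odd.2 hodd)
            · exact e')
          exact ⟨g, h1, h2.mul_left i, h3⟩
        · exact ⟨i, hi, dvd_mul_right i a, e⟩
    have hlt : g.natDegree < n := lt_of_le_of_lt (natDegree_le_of_dvd hgd hh0) (by have := hn.pos; omega)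
    haveI := Fact.mk hg
    refine ih g.natDegree hlt g ⟨hg⟩ rfl hgo ?_
    have e : AdjoinRoot.mk g S = -1 := by
      rw [eq_neg_iff_add_eq_zero, ← map_one (AdjoinRoot.mk g), ← map_add, AdjoinRoot.mk_eq_zero, hh]
      exact hgd.mul_left f
    rw [← e]
    exact isSumSq_map _ hS

/-- the data of a maximal semireal field -/
structure IsMaxReal (R : Type u) [Field R] : Prop where
  semireal : ¬ IsSumSq (-1 : R)
  maximal : ∀ (K : Type u) [Field K] [Algebra R K] [FiniteDimensional R K], ¬ IsSumSq (-1 : K) →
    Module.finrank R K = 1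

/-- a maximal semireal algebraic extension exists -/
theorem exists_maxReal (L : Type u) [Field L] (hL : ¬ IsSumSq (-1 : L)) :
    ∃ (R : Type u) (_ : Field R) (_ : Algebra L R) (_ : Algebra.IsAlgebraic L R), IsMaxReal R := by
  let Ω := AlgebraicClosure L
  obtain ⟨m, -, hm⟩ := zorn_le_nonempty₀ {K : IntermediateField L Ω | ¬ IsSumSq (-1 : K)} (fun c hc hch y hy => by
    haveI : Nonempty c := ⟨⟨y, hy⟩⟩
    have hdir : Directed (· ≤ ·) (fun K : c => (K : IntermediateField L Ω)) := hch.directedOn.directed_val
    refine ⟨⨆ K : c, (K : IntermediateField L Ω), fun hsum => ?_, fun z hz => le_iSup (fun K : c => (K : IntermediateField L Ω)) ⟨z, hz⟩⟩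
    have key : ∀ w : (⨆ K : c, (K : IntermediateField L Ω) : IntermediateField L Ω), IsSumSq w →
        ∃ (K : c) (v : (K : IntermediateField L Ω)), IsSumSq v ∧ (v : Ω) = (w : Ω) := by
      intro w hw
      induction hw with
      | zero => exact ⟨⟨y, hy⟩, 0, IsSumSq.zero, rfl⟩
      | @sq_add a s _ ih =>
        obtain ⟨K, v, hv, hvs⟩ := ih
        have ha : (a : Ω) ∈ (↑(⨆ K : c, (K : IntermediateField L Ω)) : Set Ω) := a.2
        rw [IntermediateField.coe_iSup_of_directed hdir, Set.mem_iUnion] at ha
        obtain ⟨K', ha'⟩ := ha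
        obtain ⟨K'', h1, h2⟩ := hdir K K'
        refine ⟨K'', (⟨a, h2 ha'⟩ : (K'' : IntermediateField L Ω)) * ⟨a, h2 ha'⟩ + IntermediateField.inclusion h1 v,
          IsSumSq.sq_add _ (isSumSq_map (IntermediateField.inclusion h1).toRingHom hv), ?_⟩
        push_cast
        rw [← hvs]
        rfl
    obtain ⟨K, v, hv, hve⟩ := key _ hsum
    refine hc K.2 ?_
    rwa [show v = -1 from Subtype.ext hve] at hv) ⊥ (fun h => hL (by
      have h1 := isSumSq_map (IntermediateField.botEquiv L Ω).toAlgHom.toRingHom h
      simpa using h1))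
  refine ⟨m, inferInstance, inferInstance, inferInstance, hm.prop, fun K _ _ _ hK => ?_⟩
  haveI : Algebra.IsAlgebraic m K := Algebra.IsAlgebraic.of_finite m K
  let e : K →ₐ[m] Ω := IsAlgClosed.lift
  let K' : IntermediateField L Ω := e.fieldRange.restrictScalars L
  have h1 : m ≤ K' := fun z hz => ⟨algebraMap m K ⟨z, hz⟩, e.commutes ⟨z, hz⟩⟩
  have h2 : ¬ IsSumSq (-1 : K') := fun h => hK (by
    have key : ∀ w : K', IsSumSq w → ∃ v : K, IsSumSq v ∧ e v = (w : Ω) := by
      intro w hw
      induction hw with
      | zero => exact ⟨0, IsSumSq.zero, map_zero e⟩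
      | @sq_add a s _ ih =>
        obtain ⟨v, hv, hvs⟩ := ih
        obtain ⟨x, hx⟩ := a.2
        refine ⟨x * x + v, IsSumSq.sq_add x hv, ?_⟩
        rw [map_add, map_mul, hvs]
        push_cast
        rw [← hx]
        rfl
    obtain ⟨v, hv, hve⟩ := key _ h
    have hv1 : v = -1 := e.toRingHom.injective (hve.trans (by simp))
    rwa [hv1] at hv)
  have h3 : K' = m := le_antisymm (hm.2 h2 h1) h1
  have hsurj : Function.Surjective (algebraMap m K) := fun z => by
    have hz : e z ∈ K' := ⟨z, rfl⟩
    rw [h3] at hz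
    exact ⟨⟨e z, hz⟩, e.toRingHom.injective (e.commutes ⟨e z, hz⟩)⟩
  rw [← Module.finrank_self m]
  exact (LinearEquiv.ofBijective (Algebra.linearMap m K) ⟨(algebraMap m K).injective, hsurj⟩).finrank_eq.symm

namespace IsMaxReal

variable (hR : IsMaxReal R)
include hR

theorem finrank_of_odd (K : Type u) [Field K] [Algebra R K] [FiniteDimensional R K] [Algebra.IsSeparable R K]
    (hK : Odd (Module.finrank R K)) : Module.finrank R K = 1 := by
  obtain ⟨α, hα⟩ := Field.exists_primitive_element R K
  have hi : IsIntegral R α := Algebra.IsIntegral.isIntegral α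
  have H := minpoly.irreducible hi
  haveI := Fact.mk H
  have e : Module.finrank R K = (minpoly R α).natDegree := by
    rw [← IntermediateField.adjoin.finrank hi, hα, IntermediateField.finrank_top']
  refine hR.maximal K fun h => not_isSumSq_adjoinRoot hR.semireal _ (minpoly R α) ⟨H⟩ e.symm hK ?_
  let φ : K ≃ₐ[R] AdjoinRoot (minpoly R α) :=
    ((IntermediateField.topEquiv (F := R) (E := K)).symm.trans (IntermediateField.equivOfEq hα.symm)).trans
      (IntermediateField.adjoinRootEquivAdjoin R hi).symm
  simpa using isSumSq_map φ.toAlgHom.toRingHom h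

/-- every element or its negative is a square -/
theorem sq_or_neg_sq (a : R) : (∃ x, x * x = a) ∨ ∃ x, x * x = -a := by
  by_contra hne
  obtain ⟨h1, h2⟩ := not_or.1 hne
  have key : ∀ b : R, (¬ ∃ x, x * x = b) → ∃ s t : R, IsSumSq s ∧ IsSumSq t ∧ -1 = s + b * t := by
    intro b hb
    have H : Irreducible (X ^ 2 - C b) := X_pow_sub_C_irreducible_of_prime Nat.prime_two fun x hx => hb ⟨x, by
      rw [← sq]; exact hx⟩
    haveI := Fact.mk H
    have hmon := monic_X_pow_sub_C b two_ne_zero
    haveI : FiniteDimensional R (AdjoinRoot (X ^ 2 - C b)) := hmon.finite_adjoinRoot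
    have hdeg : Module.finrank R (AdjoinRoot (X ^ 2 - C b)) = 2 := by
      rw [(AdjoinRoot.powerBasis hmon.ne_zero).finrank, AdjoinRoot.powerBasis_dim, natDegree_X_pow_sub_C]
    have hs : IsSumSq (-1 : AdjoinRoot (X ^ 2 - C b)) := by
      by_contra h
      rw [hR.maximal _ h] at hdeg
      exact absurd hdeg (by norm_num)
    obtain ⟨s, t, u, hsS, htS, he⟩ : ∃ s t u : R, IsSumSq s ∧ IsSumSq t ∧
        (-1 : AdjoinRoot (X ^ 2 - C b)) = AdjoinRoot.mk _ (C (s + b * t) + C u * X) := by
      generalize (-1 : AdjoinRoot (X ^ 2 - C b)) = w at hs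
      induction hs with
      | zero => exact ⟨0, 0, 0, IsSumSq.zero, IsSumSq.zero, by simp⟩
      | @sq_add z w _ ih =>
        obtain ⟨s, t, u, hsS, htS, rfl⟩ := ih
        obtain ⟨g, rfl⟩ := AdjoinRoot.mk_surjective z
        obtain ⟨x, y, hxy⟩ : ∃ x y : R, g %ₘ (X ^ 2 - C b) = C x + C y * X := by
          refine ⟨(g %ₘ (X ^ 2 - C b)).coeff 0, (g %ₘ (X ^ 2 - C b)).coeff 1, ?_⟩
          have hlt := natDegree_modByMonic_lt g hmon (fun e => by
            have := congrArg natDegree e
            rw [natDegree_X_pow_sub_C, natDegree_one] at this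
            exact absurd this (by norm_num))
          rw [natDegree_X_pow_sub_C] at hlt
          conv_lhs => rw [eq_X_add_C_of_natDegree_le_one (Nat.le_of_lt_succ hlt)]
          ring
        refine ⟨x * x + s, y * y + t, 2 * x * y + u, IsSumSq.sq_add _ hsS, IsSumSq.sq_add _ htS, ?_⟩
        rw [← map_mul, ← map_add, AdjoinRoot.mk_eq_mk]
        have hg := modByMonic_add_div g (X ^ 2 - C b)
        rw [hxy] at hg
        refine ⟨(g /ₘ (X ^ 2 - C b)) * (g + (C x + C y * X)) + C y * C y, ?_⟩
        simp only [map_add, map_mul, map_ofNat]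
        linear_combination (-(g + (C x + C y * X))) * hg
    rw [← map_one (AdjoinRoot.mk (X ^ 2 - C b)), ← map_neg, AdjoinRoot.mk_eq_mk] at he
    refine ⟨s, t, hsS, htS, ?_⟩
    have h0 : (-1 : R[X]) - (C (s + b * t) + C u * X) = 0 := by
      refine eq_zero_of_dvd_of_natDegree_lt he ?_
      rw [natDegree_X_pow_sub_C]
      exact Nat.lt_succ_of_le (by compute_degree)
    have h0' := congrArg (fun q => coeff q 0) h0
    simp at h0'
    linear_combination h0'
  have hmem : ∀ b : R, (¬ ∃ x, x * x = b) → IsSumSq (-b) := fun b hb => by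
    obtain ⟨s, t, hs, ht, he⟩ := key b hb
    have ht0 : t ≠ 0 := fun e => hR.semireal (by rw [he, e, mul_zero, add_zero]; exact hs)
    have e : -b = (1 * 1 + s) * t * (t⁻¹ * t⁻¹) := by field_simp; linear_combination he
    rw [e]
    exact ((IsSumSq.sq_add 1 hs).mul ht).mul (IsSumSq.mul_self _)
  have ha0 : a ≠ 0 := fun e => h1 ⟨0, by rw [e, mul_zero]⟩
  refine hR.semireal ?_
  have e : (-1 : R) = -a * -(-a) * (a⁻¹ * a⁻¹) := by field_simp
  rw [e]
  exact ((hmem a h1).mul (hmem (-a) h2)).mul (IsSumSq.mul_self _)

/-- sums of squares are squares -/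
theorem sq_of_isSumSq {a : R} (ha : IsSumSq a) : ∃ x, x * x = a := by
  rcases hR.sq_or_neg_sq a with h | ⟨x, hx⟩
  · exact h
  by_cases hx0 : x = 0
  · exact ⟨0, by linear_combination -hx + (x) * hx0⟩
  refine absurd ?_ hR.semireal
  have e : (-1 : R) = a * (x⁻¹ * x⁻¹) := by field_simp; linear_combination -hx
  rw [e]
  exact ha.mul (IsSumSq.mul_self _)

/-- all elements of `R(√-1)` are squares -/
theorem sq_complex {M : Type u} [Field M] [Algebra R M] (i : M) (hi : i * i = -1) (a b : R) :
    ∃ z : M, z * z = algebraMap R M a + algebraMap R M b * i := by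
  let f := algebraMap R M
  by_cases hb : b = 0
  · subst hb
    rcases hR.sq_or_neg_sq a with ⟨x, hx⟩ | ⟨x, hx⟩
    · exact ⟨f x, by rw [← map_mul, hx, map_zero, zero_mul, add_zero]⟩
    · refine ⟨f x * i, ?_⟩
      have h' : f x * f x = -f a := by rw [← map_mul, hx, map_neg]
      rw [map_zero, zero_mul, add_zero]
      linear_combination (i * i) * h' - f a * hi
  obtain ⟨r, hr⟩ := hR.sq_of_isSumSq ((IsSumSq.mul_self a).add (IsSumSq.mul_self b))
  -- a nonnegative root
  obtain ⟨r, hr, ρ, hρ⟩ : ∃ r : R, r * r = a * a + b * b ∧ ∃ ρ, ρ * ρ = r := by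
    rcases hR.sq_or_neg_sq r with ⟨ρ, h⟩ | ⟨ρ, h⟩
    · exact ⟨r, hr, ρ, h⟩
    · exact ⟨-r, by linear_combination hr, ρ, h⟩
  have h2 : (2 : R) ≠ 0 := fun e => hR.semireal (by
    rw [show (-1 : R) = 1 * 1 by linear_combination -e]; exact IsSumSq.mul_self 1)
  have hhalf : ∀ c : R, (∃ q, q * q = (r + c) / 2) ∨ ∃ q, q * q = -((r + c) / 2) := fun c => hR.sq_or_neg_sq _
  have hpos : ∀ c : R, c * c = a * a → ∃ q, q * q = (r + c) / 2 := by
    intro c hc
    refine (hhalf c).resolve_right fun ⟨q, hq⟩ => ?_
    have hq' : 2 * (q * q) = -(r + c) := by rw [hq]; field_simp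
    -- `r - c = 2 r + 2 q²` is a sum of squares and `(r+c)(r-c) = b²`
    obtain ⟨w, hw⟩ := hR.sq_of_isSumSq ((((IsSumSq.mul_self ρ).add (IsSumSq.mul_self ρ)).add
      (IsSumSq.mul_self q)).add (IsSumSq.mul_self q))
    refine hR.semireal ?_
    have e : (-1 : R) = (b * b⁻¹) * (b * b⁻¹) * -1 := by field_simp
    have e2 : -(b * b) = (q * q + q * q) * (w * w) := by
      rw [hw]
      linear_combination hr - hc - (2 * (q * q) - (r + c) + 2 * r) * hq' - 4 * (q * q) * hρ
    rw [show (-1 : R) = (q * q + q * q) * (w * w) * (b⁻¹ * b⁻¹) by rw [← e2]; field_simp]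
    exact (((IsSumSq.mul_self q).add (IsSumSq.mul_self q)).mul (IsSumSq.mul_self w)).mul (IsSumSq.mul_self _)
  obtain ⟨p, hp⟩ := hpos a rfl
  obtain ⟨q, hq⟩ := hpos (-a) (by ring)
  have hpq : (2 * p * q) * (2 * p * q) = b * b := by
    have : (2 * p * q) * (2 * p * q) = 4 * (p * p) * (q * q) := by ring
    rw [this, hp, hq]
    field_simp
    linear_combination 4 * hr
  obtain ⟨q, hq, hpq⟩ : ∃ q, q * q = (r + -a) / 2 ∧ 2 * p * q = b := by
    rcases mul_self_eq_mul_self_iff.1 hpq with e | e
    · exact ⟨q, hq, e⟩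
    · exact ⟨-q, by linear_combination hq, by linear_combination -e⟩
  refine ⟨f p + f q * i, ?_⟩
  have ha : p * p - q * q = a := by rw [hp, hq]; field_simp; ring
  have e1 : f p * f p - f q * f q = f a := by rw [← map_mul, ← map_mul, ← map_sub, ha]
  have e2 : 2 * f p * f q = f b := by rw [← hpq]; simp [f, map_mul, map_ofNat]
  linear_combination (f q * f q) * hi + e1 + i * e2

/-- no finite separable extension beyond `R(√-1)` -/
theorem finrank_le_two (K : Type u) [Field K] [Algebra R K] [FiniteDimensional R K] [IsGalois R K] (i : K)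
    (hi : i * i = -1) : Module.finrank R K = 2 := by
  classical
  haveI : Fact (Nat.Prime 2) := ⟨Nat.prime_two⟩
  -- the degree is a power of two
  obtain ⟨S⟩ : Nonempty (Sylow 2 (K ≃ₐ[R] K)) := inferInstance
  let F := IntermediateField.fixedField (S : Subgroup (K ≃ₐ[R] K))
  have hF : Module.finrank R F = (S : Subgroup (K ≃ₐ[R] K)).index := by
    rw [IntermediateField.finrank_eq_fixingSubgroup_index (F := R) (E' := K) F,
      IntermediateField.fixingSubgroup_fixedField]
  have hodd : Odd (Module.finrank R F) := by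
    rw [Nat.odd_iff, hF]
    have := S.not_dvd_index
    omega
  haveI : Algebra.IsSeparable R F := Algebra.isSeparable_tower_bot_of_isSeparable R F K
  have hStop : (S : Subgroup (K ≃ₐ[R] K)) = ⊤ := Subgroup.index_eq_one.1 (hF ▸ hR.finrank_of_odd F hodd)
  let E := IntermediateField.adjoin R ({i} : Set K)
  have hii : IsIntegral R i := Algebra.IsIntegral.isIntegral i
  have hE2 : Module.finrank R E = 2 := by
    rw [IntermediateField.adjoin.finrank hii]
    have hd : minpoly R i ∣ X ^ 2 + C 1 := minpoly.dvd R i (by simp [sq, hi])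
    have hle : (minpoly R i).natDegree ≤ 2 := by
      exact (natDegree_le_of_dvd hd (Monic.ne_zero (monic_X_pow_add_C 1 two_ne_zero))).trans natDegree_X_pow_add_C.le
    have h1 : (minpoly R i).natDegree ≠ 1 := fun e => by
      obtain ⟨x, hx⟩ := minpoly.natDegree_eq_one_iff.1 e
      refine hR.semireal ?_
      have hx1 : x * x = -1 := (algebraMap R K).injective (by rw [map_mul, hx, hi, map_neg, map_one])
      exact hx1 ▸ IsSumSq.mul_self x
    have := minpoly.natDegree_pos hii
    omega
  haveI : IsGalois E K := IsGalois.tower_top_of_isGalois R E K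
  have hP : IsPGroup 2 (K ≃ₐ[E] K) := by
    have hPK : IsPGroup 2 (K ≃ₐ[R] K) := by
      have h0 : IsPGroup 2 (⊤ : Subgroup (K ≃ₐ[R] K)) := hStop ▸ S.isPGroup'
      exact h0.of_equiv Subgroup.topEquiv
    exact (hPK.to_subgroup E.fixingSubgroup).of_equiv (IntermediateField.fixingSubgroupEquiv E)
  have h1 : Module.finrank E K = 1 := by
    obtain ⟨n, hn⟩ := IsPGroup.iff_card.1 hP
    rw [IsGalois.card_aut_eq_finrank] at hn
    cases n with
    | zero => simpa using hn
    | succ n =>
      exfalso
      obtain ⟨H, hH⟩ := Sylow.exists_subgroup_card_pow_prime (G := K ≃ₐ[E] K) 2 (n := n) (by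
        rw [IsGalois.card_aut_eq_finrank, hn]; exact pow_dvd_pow 2 (Nat.le_succ n))
      let Q := IntermediateField.fixedField H
      have hQ2 : Module.finrank E Q = 2 := by
        have h1 : Module.finrank Q K = 2 ^ n := by rw [IntermediateField.finrank_fixedField_eq_card, hH]
        have h2 := Module.finrank_mul_finrank E Q K
        rw [h1, hn, pow_succ, mul_comm (2 ^ n) 2] at h2
        exact Nat.eq_of_mul_eq_mul_right (pow_pos two_pos n) h2
      haveI : FiniteDimensional E Q := inferInstance
      -- every element of a quadratic extension is a root of a quadratic polynomial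
      have hE : ∀ w : E, ∃ z : E, z * z = w := by
        intro w
        obtain ⟨g, hg⟩ : ∃ g : R[X], aeval i g = (w : K) := by
          have hw : (w : K) ∈ Algebra.adjoin R ({i} : Set K) := by
            rw [← IntermediateField.adjoin_simple_toSubalgebra_of_isAlgebraic hii.isAlgebraic]
            exact w.2
          rw [Algebra.adjoin_singleton_eq_range_aeval] at hw
          exact hw
        obtain ⟨x, y, hxy⟩ : ∃ x y : R, algebraMap R K x + algebraMap R K y * i = (w : K) := by
          refine ⟨(g %ₘ (X ^ 2 + C 1)).coeff 0, (g %ₘ (X ^ 2 + C 1)).coeff 1, ?_⟩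
          have hm := monic_X_pow_add_C (1 : R) two_ne_zero
          have hlt := natDegree_modByMonic_lt g hm (fun e => by
            have := congrArg natDegree e
            rw [natDegree_X_pow_add_C, natDegree_one] at this
            omega)
          rw [natDegree_X_pow_add_C] at hlt
          have e := congrArg (aeval i) (modByMonic_add_div g (X ^ 2 + C (1 : R)))
          have e0 : aeval i (X ^ 2 + C (1 : R)) = 0 := by simp [sq, hi]
          rw [map_add, map_mul, e0, zero_mul, add_zero, hg] at e
          rw [eq_X_add_C_of_natDegree_le_one (Nat.le_of_lt_succ hlt), map_add, map_mul, aeval_C, aeval_C, aeval_X] at e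
          linear_combination e
        let iE : E := ⟨i, IntermediateField.mem_adjoin_simple_self R i⟩
        obtain ⟨z, hz⟩ := hR.sq_complex iE (Subtype.ext hi) x y
        exact ⟨z, hz.trans (Subtype.ext hxy)⟩
      obtain ⟨θ, hθ⟩ : ∃ θ : Q, θ ∉ (⊥ : IntermediateField E Q) := by
        by_contra h
        push Not at h
        have : (⊥ : IntermediateField E Q) = ⊤ := eq_top_iff.2 fun z _ => h z
        have := congrArg (fun F : IntermediateField E Q => Module.finrank E F) this
        simp [hQ2] at this
      have hθi : IsIntegral E θ := Algebra.IsIntegral.isIntegral θ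
      have hd := minpoly.natDegree_le (A := E) θ
      rw [hQ2] at hd
      have hd2 : (minpoly E θ).natDegree = 2 := by
        have h1 : (minpoly E θ).natDegree ≠ 1 := fun e => hθ (by
          obtain ⟨x, hx⟩ := minpoly.natDegree_eq_one_iff.1 e
          exact IntermediateField.mem_bot.2 ⟨x, hx⟩)
        have := minpoly.natDegree_pos hθi
        omega
      -- complete the square
      have hmm := eq_X_add_C_of_natDegree_le_one (p := minpoly E θ - X ^ 2) (by
        refine natDegree_le_iff_coeff_eq_zero.2 fun N hN => ?_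
        rw [coeff_sub, coeff_X_pow]
        rcases eq_or_ne N 2 with rfl | hne
        · rw [if_pos rfl, ← hd2, coeff_natDegree, (minpoly.monic hθi).leadingCoeff, sub_self]
        · rw [if_neg hne, sub_zero]
          exact coeff_eq_zero_of_natDegree_lt (by omega))
      obtain ⟨c1, c0, hpoly⟩ : ∃ c1 c0 : E, minpoly E θ = X ^ 2 + C c1 * X + C c0 :=
        ⟨(minpoly E θ - X ^ 2).coeff 1, (minpoly E θ - X ^ 2).coeff 0, by linear_combination hmm⟩
      have hz0 := minpoly.aeval E θ
      rw [hpoly] at hz0
      simp at hz0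
      obtain ⟨z, hz⟩ := hE (c1 * c1 / 4 - c0)
      have h4 : (4 : Q) ≠ 0 := by
        haveI : CharZero R := by
          haveI := IsSemireal.of_not_isSumSq_neg_one hR.semireal
          infer_instance
        haveI : CharZero Q := charZero_of_injective_algebraMap ((algebraMap E Q).comp (algebraMap R E)).injective
        norm_num
      have hz' : (algebraMap E Q z) * (algebraMap E Q z) =
          algebraMap E Q c1 * algebraMap E Q c1 / 4 - algebraMap E Q c0 := by
        rw [← map_mul, hz, map_sub, map_div₀, map_mul, map_ofNat]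
      have hsq : (θ + algebraMap E Q c1 / 2 - algebraMap E Q z) * (θ + algebraMap E Q c1 / 2 + algebraMap E Q z) = 0 := by
        have h2 : (2 : Q) ≠ 0 := fun e => h4 (by linear_combination 2 * e)
        field_simp
        field_simp at hz'
        linear_combination 4 * hz0 - hz'
      rcases mul_eq_zero.1 hsq with e | e
      · refine hθ (IntermediateField.mem_bot.2 ⟨z - c1 / 2, ?_⟩)
        rw [map_sub, map_div₀, map_ofNat]
        linear_combination -e
      · refine hθ (IntermediateField.mem_bot.2 ⟨-z - c1 / 2, ?_⟩)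
        rw [map_sub, map_neg, map_div₀, map_ofNat]
        linear_combination -e
  rw [← Module.finrank_mul_finrank R E K, h1, hE2]

end IsMaxReal

end Groth.Agent.EtPBC.RealClos
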