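import Groth.Agent.EtPBC.CdLefLocal
import Mathlib

/-!
# Points of schemes over strict localisations of algebraic schemes
-/

set_option autoImplicit false
set_option backward.isDefEq.respectTransparency false
set_option backward.isDefEq.respectTransparency.types false
set_option linter.auxLemma false
set_option linter.style.haveILetI false
set_option linter.unusedSectionVars false
set_option maxHeartbeats 1000000

universe u

open CategoryTheory CategoryTheory.Limits AlgebraicGeometry TopologicalSpace IsLocalRing

noncomputable section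

namespace Groth.Agent.EtPBC

open Scheme.Pullback in
/-- residue fields of fibre products are algebraic over a factor when the other factor is algebraic -/
theorem isIntegral_residueFieldMap_fst {X Y S : Scheme.{u}} (f : X ⟶ S) (g : Y ⟶ S) (t : ↑(pullback f g))
    (hg : (g.residueFieldMap (pullback.snd f g t)).hom.IsIntegral) :
    ((pullback.fst f g).residueFieldMap t).hom.IsIntegral := by
  let P := pullback f g
  let p₁ := pullback.fst f g
  let p₂ := pullback.snd f g
  letI : Algebra (X.residueField (p₁ t)) (P.residueField t) := (p₁.residueFieldMap t).hom.toAlgebra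
  let L : IntermediateField (X.residueField (p₁ t)) (P.residueField t) :=
    algebraicClosure (X.residueField (p₁ t)) (P.residueField t)
  have hT := residueFieldCongr_inv_residueFieldMap_ofPoint (f := f) (g := g) t
  let φs : S.residueField (Triplet.ofPoint t).s →+* X.residueField (p₁ t) :=
    ((S.residueFieldCongr (Triplet.ofPoint t).hx).inv ≫ f.residueFieldMap (p₁ t)).hom
  let ψs : S.residueField (Triplet.ofPoint t).s →+* Y.residueField (p₂ t) :=
    ((S.residueFieldCongr (Triplet.ofPoint t).hy).inv ≫ g.residueFieldMap (p₂ t)).hom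
  have hψ : ψs.IsIntegral := RingHom.IsIntegral.trans _ _ (RingHom.isIntegral_of_surjective _
    (ConcreteCategory.bijective_of_isIso (S.residueFieldCongr (Triplet.ofPoint t).hy).inv).2) hg
  have hcomm : ∀ a, (p₁.residueFieldMap t).hom (φs a) = (p₂.residueFieldMap t).hom (ψs a) := fun a =>
    ConcreteCategory.congr_hom hT a
  have hmem : ∀ z, (p₂.residueFieldMap t).hom z ∈ L := fun z => by
    refine mem_algebraicClosure_iff.2 (IsIntegral.isAlgebraic ?_)
    obtain ⟨q, hq, hqz⟩ := hψ z
    refine ⟨q.map φs, hq.map _, ?_⟩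
    show Polynomial.eval₂ (p₁.residueFieldMap t).hom _ (q.map φs) = 0
    rw [Polynomial.eval₂_map, show ((p₁.residueFieldMap t).hom).comp φs = ((p₂.residueFieldMap t).hom).comp ψs from
      RingHom.ext hcomm, ← Polynomial.hom_eval₂, hqz, map_zero]
  let l₁ : X.residueField (p₁ t) ⟶ CommRingCat.of L := CommRingCat.ofHom (algebraMap (X.residueField (p₁ t)) L)
  let l₂ : Y.residueField (p₂ t) ⟶ CommRingCat.of L := CommRingCat.ofHom
    (RingHom.codRestrict (p₂.residueFieldMap t).hom L.toSubfield hmem)
  let ι : CommRingCat.of L ⟶ P.residueField t := CommRingCat.ofHom (algebraMap L (P.residueField t))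
  haveI : Mono ι := ConcreteCategory.mono_of_injective _ (algebraMap L (P.residueField t)).injective
  let d : (Triplet.ofPoint t).tensor ⟶ CommRingCat.of L := pushout.desc l₁ l₂ (by
    rw [← cancel_mono ι, Category.assoc, Category.assoc]
    exact hT)
  have hd : d ≫ ι = ofPointTensor t := by
    apply pushout.hom_ext
    · rw [pushout.inl_desc_assoc]; exact (pushout.inl_desc _ _ _).symm
    · rw [pushout.inr_desc_assoc]; exact (pushout.inr_desc _ _ _).symm
  let ψ : Spec (CommRingCat.of L) ⟶ P := Spec.map d ≫ (Triplet.ofPoint t).SpecTensorTo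
  have hι : Spec.map ι ≫ ψ = P.fromSpecResidueField t := by
    rw [← ofPointTensor_SpecTensorTo, ← hd, Spec.map_comp, Category.assoc]
  have hpt : ψ (closedPoint L) = t := by
    have h1 := congrArg (fun m => m (closedPoint (P.residueField t))) hι
    simp only [Scheme.Hom.comp_apply, Scheme.fromSpecResidueField_apply] at h1
    rwa [show (Spec.map ι) (closedPoint (P.residueField t)) = closedPoint L from Subsingleton.elim (α := ↥(Spec (CommRingCat.of L))) _ _] at h1
  let χ : P.residueField t ⟶ CommRingCat.of L :=
    (P.residueFieldCongr hpt).inv ≫ (Scheme.SpecToEquivOfField L P ψ).2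
  have hχ : Spec.map χ ≫ P.fromSpecResidueField t = ψ := by
    rw [Spec.map_comp, Category.assoc, Scheme.residueFieldCongr_inv, Scheme.residueFieldCongr_fromSpecResidueField]
    exact (Scheme.SpecToEquivOfField L P).left_inv ψ
  have hid : χ ≫ ι = 𝟙 _ := by
    apply Spec.map_injective
    rw [← cancel_mono (P.fromSpecResidueField t), Spec.map_comp, Category.assoc, hχ, hι, Spec.map_id, Category.id_comp]
  intro z
  have hz : IsIntegral (X.residueField (p₁ t)) (algebraMap L (P.residueField t) (χ z)) :=
    (mem_algebraicClosure_iff.1 (χ z).2).isIntegral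
  rw [show algebraMap L (P.residueField t) (χ z) = z from ConcreteCategory.congr_hom hid z] at hz
  exact hz

variable {k : Type u} [Field k]

/-- dimensions of closures of points -/
theorem dim_closure_eq {X : Scheme.{u}} (c : X ⟶ Spec (CommRingCat.of k)) [LocallyOfFiniteType c] (x : X) {d : ℕ}
    (hd : topologicalKrullDim ↥(closure ({x} : Set X)) = d) : trdg (kStr c x) = d := by
  obtain ⟨e, he, -⟩ := exists_trdg_eq c x
  let C : Closeds X := ⟨closure {x}, isClosed_closure⟩
  let ι := (Scheme.IdealSheafData.vanishingIdeal C).subschemeι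
  have hr : Set.range ι = closure {x} := by
    show Set.range (Scheme.IdealSheafData.vanishingIdeal C).subschemeι = _
    rw [Scheme.IdealSheafData.range_subschemeι, Scheme.IdealSheafData.coe_support_vanishingIdeal]
    rfl
  have hdim : topologicalKrullDim ↥(Scheme.IdealSheafData.vanishingIdeal C).subscheme = d := by
    rw [← hd]
    exact ((ι.isClosedEmbedding.isEmbedding.toHomeomorph).trans (Homeomorph.setCongr hr)).isHomeomorph.topologicalKrullDim_eq
  obtain ⟨z, hz⟩ : x ∈ Set.range ι := hr.symm ▸ subset_closure rfl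
  have h1 : d ≤ e := by
    have h := dim_le_of_resDim (ι ≫ c) (n := e) fun w => (resDim_closedImmersion c ι w e).2
      (ResDim.of_specializes c (specializes_iff_mem_closure.2 (hr.le ⟨w, rfl⟩)) he.le)
    rw [hdim] at h
    exact_mod_cast h
  have h2 : e ≤ d := by
    have h := (resDim_closedImmersion c ι z d).1 (resDim_of_dim_le (ι ≫ c) hdim.le z)
    rw [hz] at h
    unfold ResDim at h
    rw [he] at h
    exact_mod_cast h
  rw [he]
  exact_mod_cast le_antisymm h2 h1

variable {Y : Scheme.{u}} (c : Y ⟶ Spec (CommRingCat.of k))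

/-- the ground field in a local ring -/
def stalkStr (y : Y) : k →+* Y.presheaf.stalk y := (Spec.preimage (Y.fromSpecStalk y ≫ c)).hom

theorem stalkStr_spec (y : Y) : Spec.map (CommRingCat.ofHom (stalkStr c y)) = Y.fromSpecStalk y ≫ c :=
  Spec.map_preimage _

theorem kStr_eq_residue (y : Y) : kStr c y = (residue (Y.presheaf.stalk y)).comp (stalkStr c y) := by
  have hh : CommRingCat.ofHom (kStr c y) = CommRingCat.ofHom (stalkStr c y) ≫ Y.residue y := by
    apply Spec.map_injective
    rw [kStr_spec, Spec.map_comp, stalkStr_spec, ← Category.assoc]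
    rfl
  exact congrArg CommRingCat.Hom.hom hh

variable [LocallyOfFiniteType c]

/-- local rings of algebraic schemes are essentially of finite type -/
theorem essFiniteType_stalkStr (y : Y) : (stalkStr c y).EssFiniteType := by
  obtain ⟨U, hU, hyU, -⟩ := exists_isAffineOpen_mem_and_subset (x := y) (U := (⊤ : Y.Opens)) trivial
  let φ : k →+* Γ(Y, U) := (Spec.preimage (hU.fromSpec ≫ c)).hom
  have hφ : Spec.map (CommRingCat.ofHom φ) = hU.fromSpec ≫ c := Spec.map_preimage _
  have hft : φ.FiniteType := by
    haveI : LocallyOfFiniteType (Spec.map (CommRingCat.ofHom φ)) := by rw [hφ]; infer_instance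
    exact (HasRingHomProperty.Spec_iff (P := @LocallyOfFiniteType)).1 ‹_›
  have e : stalkStr c y = (Y.presheaf.germ U y hyU).hom.comp φ := by
    have hh : CommRingCat.ofHom (stalkStr c y) = CommRingCat.ofHom φ ≫ Y.presheaf.germ U y hyU := by
      apply Spec.map_injective
      rw [stalkStr_spec, Spec.map_comp, hφ, ← hU.fromSpecStalk_eq_fromSpecStalk hyU, IsAffineOpen.fromSpecStalk,
        Category.assoc]
    exact congrArg CommRingCat.Hom.hom hh
  rw [e]
  refine RingHom.EssFiniteType.comp hft.essFiniteType ?_
  letI := TopCat.Presheaf.algebra_section_stalk Y.presheaf ⟨y, hyU⟩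
  show (algebraMap Γ(Y, U) (Y.presheaf.stalk y)).EssFiniteType
  rw [RingHom.essFiniteType_algebraMap]
  haveI := hU.isLocalization_stalk ⟨y, hyU⟩
  exact .of_isLocalization _ (hU.primeIdealOf ⟨y, hyU⟩).asIdeal.primeCompl

include c in
/-- residue fields of strict localisations are algebraic over those of the scheme -/
theorem isIntegral_residueFieldMap_specOf (y : Y) (R : Type u) [CommRing R] [IsLocalRing R]
    [Algebra (Y.presheaf.stalk y) R] [IsLocalHom (algebraMap (Y.presheaf.stalk y) R)]
    [_root_.Hensel.IsStrictHenselization (Y.presheaf.stalk y) R] (P : Spec (CommRingCat.of R)) :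
    ((Hens2.specOf Y y R).residueFieldMap P).hom.IsIntegral := by
  haveI : IsLocallyNoetherian Y := LocallyOfFiniteType.isLocallyNoetherian c
  let A : Type u := Y.presheaf.stalk y
  letI : Algebra k A := (stalkStr c y).toAlgebra
  letI : Algebra k R := ((algebraMap A R).comp (algebraMap k A)).toAlgebra
  haveI : IsScalarTower k A R := IsScalarTower.of_algebraMap_eq fun _ => rfl
  let b : Spec (CommRingCat.of R) ⟶ Spec (CommRingCat.of A) := Spec.map (CommRingCat.ofHom (algebraMap A R))
  let j : Spec (CommRingCat.of A) ⟶ Y := Y.fromSpecStalk y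
  haveI : IsPreimmersion j := inferInstanceAs (IsPreimmersion (Y.fromSpecStalk y))
  have hj : j ≫ c = Spec.map (CommRingCat.ofHom (algebraMap k A)) := (stalkStr_spec c y).symm
  have hb : b ≫ j ≫ c = Spec.map (CommRingCat.ofHom (algebraMap k R)) := by
    rw [hj, ← Spec.map_comp]; rfl
  obtain ⟨n, hn, -⟩ := exists_trdg_eq c (j (b P))
  have h1 : trdg (kStr (j ≫ c) (b P)) = n := by
    rw [kStr_comp_eq, trdg_comp_integral_right _ _
      (RingHom.isIntegral_of_surjective _ (surjective_residueFieldMap j (b P))), hn]
  have h2 : trdg (kStr (b ≫ j ≫ c) P) = n := by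
    rw [hb, trdg_kStr_spec R P, ← h1, hj, trdg_kStr_spec A (b P)]
    haveI : P.asIdeal.IsPrime := P.isPrime
    haveI := isAlgebraic_sh_quotient (A := A) (R := R) P.asIdeal
    haveI : IsScalarTower k (A ⧸ P.asIdeal.under A) (R ⧸ P.asIdeal) := IsScalarTower.of_algebraMap_eq fun _ => rfl
    have h := trdeg_add_eq k (A ⧸ P.asIdeal.under A) (A := R ⧸ P.asIdeal)
    rw [trdeg_eq_zero (R := A ⧸ P.asIdeal.under A) (A := R ⧸ P.asIdeal), add_zero] at h
    exact h.symm
  have h0 : trdg (b.residueFieldMap P).hom = 0 := by
    have h := trdg_comp (kStr (j ≫ c) (b P)) (b.residueFieldMap P).hom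
    rw [← kStr_comp_eq (j ≫ c) b P, h1, h2] at h
    exact (Cardinal.add_right_inj_of_lt_aleph0 (γ := (n : Cardinal.{u})) Cardinal.natCast_lt_aleph0).1
      (by rw [add_comm, h, zero_add])
  have hbi : (b.residueFieldMap P).hom.IsIntegral := by
    letI := (b.residueFieldMap P).hom.toAlgebra
    haveI : Algebra.IsAlgebraic ((Spec (CommRingCat.of A)).residueField (b P))
        ((Spec (CommRingCat.of R)).residueField P) := trdeg_eq_zero_iff.1 h0
    exact algebraMap_isIntegral_iff.2 (Algebra.isAlgebraic_iff_isIntegral.1 ‹_›)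
  show ((b ≫ j).residueFieldMap P).hom.IsIntegral
  rw [Scheme.residueFieldMap_comp]
  exact RingHom.IsIntegral.trans _ _ (RingHom.isIntegral_of_surjective _ (surjective_residueFieldMap j (b P))) hbi

/-- **transcendence degrees of points of schemes over strict localisations** -/
theorem trdg_over_sh_scheme (y : Y) (R : Type u) [CommRing R] [IsLocalRing R]
    [Algebra (Y.presheaf.stalk y) R] [IsLocalHom (algebraMap (Y.presheaf.stalk y) R)]
    [_root_.Hensel.IsStrictHenselization (Y.presheaf.stalk y) R]
    {X : Scheme.{u}} (f : X ⟶ Spec (CommRingCat.of R)) (x : X) {r a b : ℕ} (hr : trdg (kStr c y) = r)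
    (ha : ringKrullDim (R ⧸ (f.base x).asIdeal) = a) (hb : trdg (f.residueFieldMap x).hom = b) :
    trdg (kStr (f ≫ Hens2.specOf Y y R ≫ c) x) = ((a + r + b : ℕ) : Cardinal.{u}) := by
  haveI : IsLocallyNoetherian Y := LocallyOfFiniteType.isLocallyNoetherian c
  let A : Type u := Y.presheaf.stalk y
  letI : Algebra k A := (stalkStr c y).toAlgebra
  haveI : Algebra.EssFiniteType k A := RingHom.essFiniteType_algebraMap.1 (essFiniteType_stalkStr c y)
  letI : Algebra k R := ((algebraMap A R).comp (algebraMap k A)).toAlgebra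
  haveI : IsScalarTower k A R := IsScalarTower.of_algebraMap_eq fun _ => rfl
  have hR : Hens2.specOf Y y R ≫ c = Spec.map (CommRingCat.ofHom (algebraMap k R)) := by
    show (Spec.map (CommRingCat.ofHom (algebraMap A R)) ≫ Y.fromSpecStalk y) ≫ c = _
    rw [Category.assoc, ← stalkStr_spec, ← Spec.map_comp]; rfl
  let P : Ideal R := (f.base x).asIdeal
  haveI : P.IsPrime := (f.base x).isPrime
  obtain ⟨d, t, s, hd, ht, hs, hsum⟩ := sh_dim_formula (A := A) (R := R) P (K := k)
  have hda : d = a := by exact_mod_cast hd.symm.trans ha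
  have htr : t = r := by
    have h1 : trdg (kStr c y) = Algebra.trdeg k (ResidueField A) := by
      rw [kStr_eq_residue]
      show @Algebra.trdeg k (ResidueField A) _ _ ((residue A).comp (algebraMap k A)).toAlgebra = _
      rw [show ((residue A).comp (algebraMap k A)).toAlgebra = (inferInstance : Algebra k (ResidueField A)) from
        Algebra.algebra_ext _ _ fun _ => rfl]
    rw [hr, ht] at h1
    exact_mod_cast h1.symm
  haveI := isAlgebraic_sh_quotient (A := A) (R := R) P
  haveI : IsScalarTower k (A ⧸ P.under A) (R ⧸ P) := IsScalarTower.of_algebraMap_eq fun _ => rfl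
  have h2 := trdeg_add_eq k (A ⧸ P.under A) (A := R ⧸ P)
  rw [trdeg_eq_zero (R := A ⧸ P.under A) (A := R ⧸ P), add_zero, hs] at h2
  rw [hR, kStr_comp_eq, ← trdg_comp, hb, trdg_kStr_spec R (f.base x)]
  show Algebra.trdeg k (R ⧸ P) + _ = _
  rw [← h2, ← Nat.cast_add, Nat.cast_inj]
  omega

end Groth.Agent.EtPBC
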