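import Groth.Agent.EtPBC.GmCurveVan
import Mathlib

/-!
# Coproducts of skyscrapers and sheaves vanishing at the maximal points
-/

set_option autoImplicit false
set_option backward.isDefEq.respectTransparency false
set_option backward.isDefEq.respectTransparency.types false
set_option linter.auxLemma false
set_option linter.style.haveILetI false
set_option linter.unusedSectionVars false

universe u

open CategoryTheory CategoryTheory.Limits CategoryTheory.Abelian AlgebraicGeometry Opposite TopologicalSpace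

noncomputable section

namespace Groth.Agent.EtPBC

attribute [local instance 100000] EtCoh.H._proof_1 EtMV.hext
attribute [local instance 200000] EtMV.hextAb

variable {X : Scheme.{u}}

/-- direct images from a closed point vanish away from the point -/
theorem zeroAt_skyPush {x : X} (hx : IsClosed ({x} : Set X)) (G : EtCoh.Ab (Spec (X.residueField x))) {y : X}
    (hy : y ≠ x) : ZeroAt ((EtCoh.push (X.fromSpecResidueField x)).obj G) y := by
  intro V s v hv
  let i := X.fromSpecResidueField x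
  refine (EtSect.mem_iff _ s v).2 ?_
  haveI : Etale V.hom := V.prop
  let W₀ : V.left.Opens := ⟨V.hom ⁻¹' {x}ᶜ, hx.isOpen_compl.preimage V.hom.continuous⟩
  let W : X.Etale := MorphismProperty.Over.mk ⊤ (W₀.ι ≫ V.hom) (inferInstance : Etale (W₀.ι ≫ V.hom))
  let g : W ⟶ V := MorphismProperty.Over.homMk W₀.ι rfl
  refine ⟨W, g, ⟨⟨v, fun h => hy (hv.symm.trans h)⟩, rfl⟩, ?_⟩
  refine EtFLC.sect_ext G (V := (EtCoh.bc i).obj W) fun z => ?_
  exfalso
  let w : W₀ := pullback.fst W.hom i z
  have hc := congrArg (fun m : pullback W.hom i ⟶ X => m z) (pullback.condition (f := W.hom) (g := i))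
  exact w.2 (hc.trans (Scheme.fromSpecResidueField_apply x _))

/-- a coproduct of skyscrapers at closed points is supported at the closed points -/
theorem suppClosed_coprod_skyPush {ι : Type u} (p : ι → X) (hp : ∀ i, IsClosed ({p i} : Set X))
    (G : ∀ i, EtCoh.Ab (Spec (X.residueField (p i))))
    (c : Cofan fun i => (EtCoh.push (X.fromSpecResidueField (p i))).obj (G i)) (hc : IsColimit c) :
    SuppClosed c.pt := by
  intro z hz
  obtain ⟨Ω, _, _, ξ, hξ⟩ := exists_geomPt z
  rw [← isZero_stalk_iff_zeroAt hξ]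
  have h := isColimitOfPreserves (EtCoh.stalk ξ) hc
  refine (IsZero.iff_id_eq_zero _).2 (h.hom_ext fun ⟨i⟩ => ?_)
  exact IsZero.eq_of_src ((isZero_stalk_iff_zeroAt hξ _).2
    (zeroAt_skyPush (hp i) (G i) fun (e : z = p i) => hz (e ▸ hp i))) _ _

/-- sheaves vanishing at the maximal points of a one-dimensional scheme are supported at closed points -/
theorem suppClosed_of_isZero_stalk (hdim : topologicalKrullDim X ≤ 1) (F : EtCoh.Ab X)
    (hgen : ∀ (Ω : Type u) [Field Ω] [IsSepClosed Ω] (ξ : Spec (CommRingCat.of Ω) ⟶ X),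
      (∀ x ∈ Set.range ξ.base, ∀ y : X, y ⤳ x → y = x) → IsZero ((EtCoh.stalk ξ).obj F)) : SuppClosed F := by
  intro z hz
  obtain ⟨Ω, _, _, ξ, hξ⟩ := exists_geomPt z
  rw [← isZero_stalk_iff_zeroAt hξ]
  refine hgen Ω ξ fun x hx => ?_
  obtain ⟨w, rfl⟩ := hx
  rw [show w = default from Subsingleton.elim _ _]
  intro y hy
  exact (isMaxPt_of_not_closed hdim hz y (hξ ▸ hy)).trans hξ.symm

end Groth.Agent.EtPBC

namespace Groth.Agent.EtPBC

attribute [local instance 100000] EtCoh.H._proof_1 EtMV.hext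
attribute [local instance 200000] EtMV.hextAb

variable {X : Scheme.{u}} [IsNoetherian X] (hsep : ∀ x : X, IsClosed ({x} : Set X) → IsSepClosed (X.residueField x))

include hsep in
theorem bijective_H_map_of_suppClosed {S : ShortComplex (EtCoh.Ab X)} (hS : S.ShortExact) (q : ℕ) (hq : 1 ≤ q)
    (h : SuppClosed S.X₁) : Function.Bijective fun c : EtCoh.H X S.X₂ q => Ext.comp c (Ext.mk₀ S.g) (add_zero q) := by
  let A : EtCoh.H X S.X₂ q →+ EtCoh.H X S.X₃ q := (Ext.mk₀ S.g).postcomp (EtCoh.const X ℤ) (add_zero q)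
  refine ⟨(injective_iff_map_eq_zero A).2 fun c hc => ?_, fun c => ?_⟩
  · obtain ⟨d, hd⟩ := Ext.covariant_sequence_exact₂ (EtCoh.const X ℤ) hS c hc
    haveI := subsingleton_H_of_suppClosed hsep S.X₁ h q (by omega)
    rw [← hd, show d = 0 from @Subsingleton.elim (EtCoh.H X S.X₁ q) _ d 0, Ext.zero_comp]
  · haveI := subsingleton_H_of_suppClosed hsep S.X₁ h (q + 1) (by omega)
    exact Ext.covariant_sequence_exact₃ (EtCoh.const X ℤ) hS c (rfl : q + 1 = q + 1)
      (@Subsingleton.elim (EtCoh.H X S.X₁ (q + 1)) _ _ _)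

include hsep in
theorem bijective_H_map_mono_of_suppClosed {S : ShortComplex (EtCoh.Ab X)} (hS : S.ShortExact) (q : ℕ) (hq : 1 ≤ q)
    (h : SuppClosed S.X₃) (h0 : q = 1 → IsZero S.X₃) :
    Function.Bijective fun c : EtCoh.H X S.X₁ q => Ext.comp c (Ext.mk₀ S.f) (add_zero q) := by
  obtain ⟨n, rfl⟩ : ∃ n, q = n + 1 := ⟨q - 1, by omega⟩
  have hv : ∀ m : ℕ, n ≤ m → Subsingleton (EtCoh.H X S.X₃ m) := fun m hm => by
    by_cases hm0 : m = 0
    · subst hm0
      refine subsingleton_of_forall_eq 0 fun x => ?_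
      rw [← Ext.comp_mk₀_id x, (h0 (by omega)).eq_of_src (𝟙 S.X₃) 0, Ext.mk₀_zero, Ext.comp_zero]
    · exact subsingleton_H_of_suppClosed hsep S.X₃ h m (by omega)
  let A : EtCoh.H X S.X₁ (n + 1) →+ EtCoh.H X S.X₂ (n + 1) :=
    (Ext.mk₀ S.f).postcomp (EtCoh.const X ℤ) (add_zero (n + 1))
  refine ⟨(injective_iff_map_eq_zero A).2 fun c hc => ?_, fun c => ?_⟩
  · obtain ⟨d, hd⟩ := Ext.covariant_sequence_exact₁ (EtCoh.const X ℤ) hS c hc (n₀ := n) rfl
    haveI := hv n le_rfl
    rw [← hd, show d = 0 from @Subsingleton.elim (EtCoh.H X S.X₃ n) _ d 0, Ext.zero_comp]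
  · haveI := hv (n + 1) (by omega)
    exact Ext.covariant_sequence_exact₂ (EtCoh.const X ℤ) hS c (@Subsingleton.elim (EtCoh.H X S.X₃ (n + 1)) _ _ _)

include hsep in
/-- maps which are isomorphisms away from the closed points -/
theorem isIso_H_map_of_suppClosed {F G : EtCoh.Ab X} (φ : F ⟶ G) (hK : SuppClosed (kernel φ))
    (hC : SuppClosed (cokernel φ)) (q : ℕ) (hq : 1 ≤ q) (h0 : q = 1 → Epi φ) :
    IsIso ((EtCoh.HF X q).map φ) := by
  let p : F ⟶ cokernel (kernel.ι φ) := cokernel.π (kernel.ι φ)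
  let v : cokernel (kernel.ι φ) ⟶ G := cokernel.desc _ φ (kernel.condition φ)
  have hpv : p ≫ v = φ := cokernel.π_desc _ _ _
  haveI : Mono v := (ShortComplex.exact_iff_mono_cokernel_desc
    (ShortComplex.mk (kernel.ι φ) φ (kernel.condition φ))).1
    (ShortComplex.exact_of_f_is_kernel _ (kernelIsKernel φ))
  have hA : (ShortComplex.mk (kernel.ι φ) p (cokernel.condition _)).ShortExact :=
    { exact := ShortComplex.exact_of_g_is_cokernel _ (cokernelIsCokernel _) }
  have hB : (ShortComplex.mk v (cokernel.π v) (cokernel.condition v)).ShortExact :=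
    { exact := ShortComplex.exact_of_g_is_cokernel _ (cokernelIsCokernel _) }
  have hw : φ ≫ cokernel.π v = 0 := (congrArg (· ≫ cokernel.π v) hpv.symm).trans
    ((Category.assoc _ _ _).trans ((congrArg (p ≫ ·) (cokernel.condition v)).trans comp_zero))
  haveI : Epi (cokernel.desc φ (cokernel.π v) hw) := epi_of_epi_fac (cokernel.π_desc φ (cokernel.π v) hw)
  have h1 := bijective_H_map_of_suppClosed hsep hA q hq hK
  have h2 := bijective_H_map_mono_of_suppClosed hsep hB q hq
    (fun x hx => zeroAt_of_epi (cokernel.desc φ (cokernel.π v) hw) (hC x hx)) fun e => by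
      haveI := h0 e
      exact IsZero.of_epi (cokernel.desc φ (cokernel.π v) hw) (isZero_cokernel_of_epi φ)
  rw [ConcreteCategory.isIso_iff_bijective]
  have he : ⇑((EtCoh.HF X q).map φ) = fun c : EtCoh.H X F q => Ext.comp c (Ext.mk₀ φ) (add_zero q) := rfl
  rw [he]
  have he2 : (fun c : EtCoh.H X F q => Ext.comp c (Ext.mk₀ φ) (add_zero q)) =
      (fun c : EtCoh.H X (cokernel (kernel.ι φ)) q => Ext.comp c (Ext.mk₀ v) (add_zero q)) ∘
        (fun c : EtCoh.H X F q => Ext.comp c (Ext.mk₀ p) (add_zero q)) := by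
    funext c
    show _ = Ext.comp (Ext.comp c (Ext.mk₀ p) (add_zero q)) (Ext.mk₀ v) (add_zero q)
    rw [Ext.comp_assoc_of_second_deg_zero, Ext.mk₀_comp_mk₀, hpv]
  exact he2 ▸ h2.comp h1

end Groth.Agent.EtPBC
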