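import Groth.Agent.EtPBC.TopShriek
import Groth.Agent.EtH0Pair.Proper
import Groth.Agent.EtIntegralDesc.Main
import Mathlib

/-!
# Direct images with proper support do not depend on the compactification
-/

set_option autoImplicit false
set_option backward.isDefEq.respectTransparency false
set_option backward.isDefEq.respectTransparency.types false
set_option linter.style.haveILetI false

universe u

open CategoryTheory CategoryTheory.Limits CategoryTheory.Abelian AlgebraicGeometry Opposite TopologicalSpace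
open Groth.Agent.EtPushStalk

noncomputable section

namespace Groth.Agent.EtPBC

attribute [local instance 100000] EtCoh.H._proof_1 EtMV.hext
attribute [local instance 200000] EtMV.hextAb

variable {X P₁ P₂ : Scheme.{u}} (j₁ : X ⟶ P₁) (j₂ : X ⟶ P₂) [IsOpenImmersion j₁] [IsOpenImmersion j₂]
  (p : P₂ ⟶ P₁) [IsProper p] (hsq : IsPullback (𝟙 X) j₂ j₁ p) (F : EtCoh.Ab X) (hF : EtCoh.IsTorsion F)

include hsq

theorem comp_eq : j₂ ≫ p = j₁ := (hsq.w.symm.trans (Category.id_comp _))

theorem mem_range_of_mem {z : P₂} (hz : p z ∈ Set.range j₁) : z ∈ Set.range j₂ := by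
  obtain ⟨x, hx⟩ := hz
  obtain ⟨w, -, hw⟩ := Scheme.Pullback.exists_preimage_pullback (f := j₁) (g := p) x z hx
  refine ⟨hsq.isoPullback.inv w, ?_⟩
  rw [← Scheme.Hom.comp_apply, hsq.isoPullback_inv_snd, hw]

include hF

theorem isZero_Rpush_twoCompact (q : ℕ) (hq : 0 < q) :
    IsZero ((EtCoh.Rpush p q).obj ((EtShriek.extZero j₂).obj F)) := by
  refine isZero_Rpush_extZero j₂ p 0 (fun s => ?_) F hF q (by omega)
  rw [comp_eq j₁ j₂ p hsq]
  haveI := Groth.Agent.FpqcDescent.locallyQuasiFinite_of_etale j₁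
  haveI : Subsingleton ↥(j₁.fiber s) := by
    refine ⟨fun a b => (j₁.fiberHomeo s).injective (Subtype.ext (j₁.isOpenEmbedding.injective ?_))⟩
    exact ((j₁.fiberHomeo s a).2).trans ((j₁.fiberHomeo s b).2).symm
  haveI : Subsingleton (IrreducibleCloseds ↥(j₁.fiber s)) := ⟨fun a b => IrreducibleCloseds.ext
    (Subsingleton.eq_univ_of_nonempty a.isIrreducible.nonempty |>.trans
      (Subsingleton.eq_univ_of_nonempty b.isIrreducible.nonempty).symm)⟩
  exact Order.krullDim_nonpos_of_subsingleton.trans (by simp)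

theorem nonempty_push_twoCompact :
    Nonempty ((EtCoh.push p).obj ((EtShriek.extZero j₂).obj F) ≅ (EtShriek.extZero j₁).obj F) := by
  let G₂ := (EtShriek.extZero j₂).obj F
  let G := (EtCoh.push p).obj G₂
  have hG₂ : EtCoh.IsTorsion G₂ := by
    obtain ⟨e⟩ := Groth.Agent.ShriekLQF.nonempty_extZero_iso_lowerShriek j₂
    haveI := Groth.Agent.FpqcDescent.locallyQuasiFinite_of_etale j₂
    exact isTorsion_of_epi (e.inv.app _) (isTorsion_lowerShriek j₂ _ hF)
  have hz : ∀ y, y ∉ Set.range j₁ → ZeroAt G y := fun y hy => by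
    obtain ⟨Ω, _, _, ξ, hξ⟩ := exists_geomPt y
    refine (isZero_stalk_iff_zeroAt hξ _).1 ?_
    haveI : PreservesFiniteLimits (EtCoh.push p) :=
      haveI : (EtCoh.push p).IsRightAdjoint := (EtCoh.pullPushAdj p).isRightAdjoint
      inferInstance
    refine IsZero.of_iso ?_ ((EtCoh.stalk ξ).mapIso ((EtCoh.push p).rightDerivedZeroIsoSelf.app G₂).symm)
    refine isZero_stalk_Rpush_of_zeroAt p G₂ (isLTorsion_univ_of_isTorsion hG₂) ξ (fun z hz => ?_) 0
    refine Lam.zeroAt_extZero j₂ _ fun h => hy ?_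
    obtain ⟨w, hw⟩ := hz
    rw [Subsingleton.elim (α := Spec (CommRingCat.of Ω)) w default, hξ] at hw
    obtain ⟨x, rfl⟩ := h
    exact ⟨x, by rw [hw, ← Scheme.Hom.comp_apply, comp_eq j₁ j₂ p hsq]⟩
  haveI := mono_counit j₁ G
  haveI : Epi ((EtShriek.extZeroAdj j₁).counit.app G) := Abelian.epi_of_cokernel_π_eq_zero _
    ((isZero_of_zeroAt _ fun y => by
      by_cases hy : y ∈ Set.range j₁
      · exact zeroAt_cokernel_counit j₁ G hy
      · exact zeroAt_of_epi (cokernel.π ((EtShriek.extZeroAdj j₁).counit.app G)) (hz y hy)).eq_of_tgt _ _)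
  haveI : IsIso ((EtShriek.extZeroAdj j₁).counit.app G) := isIso_of_mono_of_epi _
  haveI := EtH0Pair.isIso_baseChange0_proper p (𝟙 X) j₂ j₁ hsq.flip G₂
  haveI := isIso_unit_extZero j₂ F
  let e : (EtShriek.restrAlong j₁).obj G ≅ F :=
    (restrPullIso j₁).app G ≪≫ asIso (EtCoh.baseChange0 p j₁ (𝟙 X) j₂ hsq.flip.w G₂) ≪≫
      (EtIntegralDesc.pushId X).app _ ≪≫ ((restrPullIso j₂).app G₂).symm ≪≫
        (asIso ((EtShriek.extZeroAdj j₂).unit.app F)).symm
  exact ⟨(asIso ((EtShriek.extZeroAdj j₁).counit.app G)).symm ≪≫ (EtShriek.extZero j₁).mapIso e⟩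

end Groth.Agent.EtPBC
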