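import Groth.Agent.EtBCQ.PullSys
import Groth.Agent.EtAcycX.Descend
import Groth.Agent.EtLimit.Systems
import Groth.Agent.EtAcycX.Restrict
import Mathlib

/-!
# Restriction between objects over a scheme: functoriality and limits
-/

set_option autoImplicit false
set_option backward.isDefEq.respectTransparency false
set_option backward.isDefEq.respectTransparency.types false
set_option linter.auxLemma false
set_option linter.style.haveILetI false
set_option linter.unusedSectionVars false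
set_option maxHeartbeats 1000000

universe u

open CategoryTheory CategoryTheory.Limits CategoryTheory.Abelian AlgebraicGeometry Opposite

noncomputable section

namespace Groth.Agent.EtPBC

attribute [local instance 100000] EtCoh.H._proof_1 EtMV.hext
attribute [local instance 200000] EtMV.hextAb

variable {X : Scheme.{u}}

/-- restrictions compose -/
theorem HpullVia_HpullVia {W' W V : Scheme.{u}} (m' : W' ⟶ W) (m : W ⟶ V) (mm : W' ⟶ V) (hmm : m' ≫ m = mm)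
    (a : V ⟶ X) (a' : W ⟶ X) (a'' : W' ⟶ X) (w : m ≫ a = a') (w' : m' ≫ a' = a'') (w'' : mm ≫ a = a'')
    [PreservesFiniteLimits (EtCoh.pull m)] [PreservesFiniteLimits (EtCoh.pull m')]
    [PreservesFiniteLimits (EtCoh.pull mm)] (F : EtCoh.Ab X) (n : ℕ) (x : EtCoh.H V ((EtCoh.pull a).obj F) n) :
    EtCore.HpullVia m' a' a'' w' F n (EtCore.HpullVia m a a' w F n x) = EtCore.HpullVia mm a a'' w'' F n x := by
  rw [EtLimit.HpullVia_eq, EtLimit.HpullVia_eq, EtLimit.HpullVia_eq]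
  exact EtBCQ.HpullThen_trans m' m mm hmm _ (EtLimit.ψh m a a' w F) (EtLimit.ψh m' a' a'' w' F)
    (EtLimit.ψh mm a a'' w'' F) (EtLimit.ψh_assoc m' m a mm a' a'' hmm w w'' w' F) n x

/-- `HpullVia` differs from `Hpull` by an isomorphism -/
theorem HpullVia_eq_zero_iff {W V : Scheme.{u}} (m : W ⟶ V) (a : V ⟶ X) (a' : W ⟶ X) (w : m ≫ a = a')
    [PreservesFiniteLimits (EtCoh.pull m)] (F : EtCoh.Ab X) (n : ℕ) (x : EtCoh.H V ((EtCoh.pull a).obj F) n) :
    EtCore.HpullVia m a a' w F n x = 0 ↔ EtCore.Hpull m ((EtCoh.pull a).obj F) n x = 0 := by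
  haveI := EtAcycX.isIso_ψh m a a' w F
  exact map_eq_zero_iff ((EtCoh.HF W n).map (EtLimit.ψh m a a' w F)).hom
    (EtAcycX.bijective_comp_iso (EtLimit.ψh m a a' w F) n).1

variable {I : Type u} [SmallCategory I] [IsCofiltered I] {D : I ⥤ Scheme.{u}} {c : Cone D} (hc : IsLimit c)
  [∀ {i j : I} (f : i ⟶ j), IsAffineHom (D.map f)] [∀ i, CompactSpace (D.obj i)] [∀ i, QuasiSeparatedSpace (D.obj i)]
  (p : ∀ i, D.obj i ⟶ X) (hp : ∀ {i j : I} (f : i ⟶ j), D.map f ≫ p j = p i) (g : c.pt ⟶ X)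
  (hg : ∀ i, c.π.app i ≫ p i = g) [∀ i, PreservesFiniteLimits (EtCoh.pull (c.π.app i))]
  [∀ {i j : I} (f : i ⟶ j), PreservesFiniteLimits (EtCoh.pull (D.map f))] (F : EtCoh.Ab X) (n : ℕ)

include hc hp in
/-- classes on the limit come from a stage -/
theorem exists_stage_surj (ξ : EtCoh.H c.pt ((EtCoh.pull g).obj F) n) :
    ∃ (i : I) (x : EtCoh.H (D.obj i) ((EtCoh.pull (p i)).obj F) n),
      EtCore.HpullVia (c.π.app i) (p i) g (hg i) F n x = ξ := by
  obtain ⟨i₀⟩ : Nonempty I := IsCofiltered.nonempty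
  haveI := EtAcycX.isIso_ψh (c.π.app i₀) (p i₀) g (hg i₀) F
  let e := EtLimit.ψh (c.π.app i₀) (p i₀) g (hg i₀) F
  obtain ⟨ξ', rfl⟩ := (EtAcycX.bijective_comp_iso e n).2 ξ
  obtain ⟨o, x, hx⟩ := EtLimit.pull_surj D c hc i₀ ((EtCoh.pull (p i₀)).obj F) n ξ'
  refine ⟨o.left, Ext.comp x (Ext.mk₀ (EtLimit.ψh (D.map o.hom) (p i₀) (p o.left) (hp o.hom) F)) (add_zero n), ?_⟩
  rw [← hx]
  rw [EtAcycX.HpullVia_eq, EtAcycX.Hpull_comp_mk₀, EtAcycX.HpullVia_eq]
  simp only [Ext.comp_assoc_of_second_deg_zero, Ext.mk₀_comp_mk₀]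
  rw [EtLimit.ψh_assoc (c.π.app o.left) (D.map o.hom) (p i₀) (c.π.app i₀) (p o.left) g (c.w o.hom) (hp o.hom)
    (hg i₀) (hg o.left) F]
  rfl

include hc hp hg in
/-- classes dying on the limit die on a stage -/
theorem exists_stage_inj [∀ i, PreservesFiniteLimits (EtCoh.pull (p i))] [PreservesFiniteLimits (EtCoh.pull g)]
    (i : I) (z : EtCoh.H X F n) (hz : EtCore.Hpull g F n z = 0) : ∃ k : I, EtCore.Hpull (p k) F n z = 0 := by
  let y := EtCore.Hpull (p i) F n z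
  have hy : EtCore.Hpull (c.π.app i) ((EtCoh.pull (p i)).obj F) n y = 0 := by
    refine (HpullVia_eq_zero_iff (c.π.app i) (p i) g (hg i) F n y).1 ?_
    exact (EtAcycX.Hpull_HpullVia _ _ _ _ F n z).trans hz
  obtain ⟨k, a, ha⟩ := EtLimit.pull_inj D c hc i ((EtCoh.pull (p i)).obj F) n (Over.mk (𝟙 i))
    (EtCore.Hpull (D.map (𝟙 i)) ((EtCoh.pull (p i)).obj F) n y)
    (by
      refine (EtAcycX.Hpull_HpullVia (c.π.app i) (D.map (𝟙 i)) (c.π.app i) (c.w (𝟙 i)) _ n y).trans ?_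
      exact hy)
  refine ⟨k, ?_⟩
  have hy2 : EtCore.Hpull (D.map (a ≫ 𝟙 i)) ((EtCoh.pull (p i)).obj F) n y = 0 := by
    rw [← EtAcycX.Hpull_HpullVia (D.map a) (D.map (𝟙 i)) (D.map (a ≫ 𝟙 i)) (D.map_comp a (𝟙 i)).symm]
    exact (HpullVia_eq_zero_iff _ _ _ _ _ _ _).2 ha
  rw [← EtAcycX.Hpull_HpullVia (D.map (a ≫ 𝟙 i)) (p i) (p k) (hp (a ≫ 𝟙 i)) F n z]
  exact (HpullVia_eq_zero_iff _ _ _ _ _ _ _).2 hy2

end Groth.Agent.EtPBC
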